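import Mathlib

set_option autoImplicit false

/-!
Helper library (helper3): a group generated by two non-commuting involutions whose product
cubes to one is isomorphic to `Equiv.Perm (Fin 3)`.
-/

namespace Cfsg.Agent.Lib.Helper3

open Subgroup

section
variable {G : Type*} [Group G] {d e : G}

theorem braid_of_cube (hd : d * d = 1) (he : e * e = 1) (hc : (d * e) ^ 3 = 1) :
    e * d * e = d * e * d := by
  have h1 : d * e * (d * e) * (d * e) = 1 := by rw [← pow_two, ← pow_succ]; exact hc
  have hdi : d⁻¹ = d := inv_eq_of_mul_eq_one_left hd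
  have hei : e⁻¹ = e := inv_eq_of_mul_eq_one_left he
  symm
  calc d * e * d = (d * e * (d * e) * (d * e)) * (e⁻¹ * d⁻¹ * e⁻¹) := by group
    _ = e⁻¹ * d⁻¹ * e⁻¹ := by rw [h1, one_mul]
    _ = e * d * e := by rw [hdi, hei]

/-- every element of `closure {d, e}` is one of six words -/
theorem mem_six (hd : d * d = 1) (he : e * e = 1) (hc : (d * e) ^ 3 = 1) {x : G}
    (hx : x ∈ closure ({d, e} : Set G)) :
    x = 1 ∨ x = d ∨ x = e ∨ x = d * e ∨ x = e * d ∨ x = d * e * d := by
  have hb := braid_of_cube hd he hc
  have hdi : d⁻¹ = d := inv_eq_of_mul_eq_one_left hd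
  have hei : e⁻¹ = e := inv_eq_of_mul_eq_one_left he
  have key : ∀ g ∈ ({d, e} : Set G), ∀ y : G,
      (y = 1 ∨ y = d ∨ y = e ∨ y = d * e ∨ y = e * d ∨ y = d * e * d) →
      (g * y = 1 ∨ g * y = d ∨ g * y = e ∨ g * y = d * e ∨ g * y = e * d ∨ g * y = d * e * d) := by
    intro g hg y hy
    rcases hg with rfl | hg
    · rcases hy with rfl | rfl | rfl | rfl | rfl | rfl
      · right; left; rw [mul_one]
      · left; exact hd
      · right; right; right; left; rfl
      · right; right; left; rw [← mul_assoc, hd, one_mul]
      · right; right; right; right; right; rw [← mul_assoc]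
      · right; right; right; right; left
        rw [← mul_assoc, ← mul_assoc, hd, one_mul]
    · rw [Set.mem_singleton_iff] at hg
      subst hg
      rcases hy with rfl | rfl | rfl | rfl | rfl | rfl
      · right; right; left; rw [mul_one]
      · right; right; right; right; left; rfl
      · left; exact he
      · right; right; right; right; right; rw [← mul_assoc, hb]
      · right; left; rw [← mul_assoc, he, one_mul]
      · right; right; right; left
        rw [← mul_assoc, ← mul_assoc, hb, mul_assoc, mul_assoc, hd, mul_one]
  induction hx using closure_induction_left with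
  | one => left; rfl
  | mul_left g hg y _ ih => exact key g hg y ih
  | inv_mul_cancel g hg y _ ih =>
    have : g⁻¹ = g := by
      rcases hg with rfl | hg
      · exact hdi
      · rw [Set.mem_singleton_iff] at hg; subst hg; exact hei
    rw [this]
    exact key g hg y ih

end

/-- A group generated by two non-commuting involutions whose product cubes to one is
isomorphic to the symmetric group on three letters. -/
theorem nonempty_mulEquiv_perm_fin_three {G : Type*} [Group G] {d e : G}
    (hd : d * d = 1) (he : e * e = 1) (hc : (d * e) ^ 3 = 1) (hne : d * e ≠ e * d) :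
    Nonempty (closure ({d, e} : Set G) ≃* Equiv.Perm (Fin 3)) := by
  classical
  set H : Subgroup G := closure ({d, e} : Set G) with hH
  have hdH : d ∈ H := subset_closure (by simp)
  have heH : e ∈ H := subset_closure (by simp)
  have hd1 : d ≠ 1 := by
    rintro rfl
    apply hne; rw [one_mul, mul_one]
  have hde1 : d * e ≠ 1 := by
    intro h
    have : d = e⁻¹ := eq_inv_of_mul_eq_one_left h
    have hei : e⁻¹ = e := inv_eq_of_mul_eq_one_left he
    rw [hei] at this
    apply hne; rw [this]
  -- finiteness and the bound on the cardinality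
  let S : Finset G := {1, d, e, d * e, e * d, d * e * d}
  have hsub : (H : Set G) ⊆ (S : Set G) := by
    intro x hx
    have := mem_six hd he hc hx
    simp only [S, Finset.coe_insert, Finset.coe_singleton, Set.mem_insert_iff,
      Set.mem_singleton_iff]
    exact this
  have hfinS : (H : Set G).Finite := S.finite_toSet.subset hsub
  have : Finite H := hfinS.to_subtype
  have hle : Nat.card H ≤ 6 := by
    have h1 : Nat.card H = (H : Set G).ncard := rfl
    rw [h1]
    calc (H : Set G).ncard ≤ (S : Set G).ncard := Set.ncard_le_ncard hsub S.finite_toSet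
      _ = S.card := Set.ncard_coe_finset S
      _ ≤ 6 := Finset.card_le_six
  -- orders
  have hod : orderOf d = 2 := orderOf_eq_prime (by rw [pow_two]; exact hd) hd1
  have hoc : orderOf (d * e) = 3 := by
    haveI : Fact (Nat.Prime 3) := ⟨Nat.prime_three⟩
    exact orderOf_eq_prime hc hde1
  have h2 : 2 ∣ Nat.card H := by
    have := orderOf_dvd_natCard (⟨d, hdH⟩ : H)
    rwa [Subgroup.orderOf_mk d hdH, hod] at this
  have h3 : 3 ∣ Nat.card H := by
    have := orderOf_dvd_natCard (⟨d * e, mul_mem hdH heH⟩ : H)
    rwa [Subgroup.orderOf_mk (d * e) (mul_mem hdH heH), hoc] at this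
  have hcard : Nat.card H = 6 := by
    have hpos : 0 < Nat.card H := Nat.card_pos
    have h6 : 6 ∣ Nat.card H := by
      have : Nat.Coprime 2 3 := by norm_num
      exact this.mul_dvd_of_dvd_of_dvd h2 h3
    exact le_antisymm hle (Nat.le_of_dvd hpos h6)
  -- the subgroup of order two
  let d' : H := ⟨d, hdH⟩
  let e' : H := ⟨e, heH⟩
  let K : Subgroup H := zpowers d'
  have hod' : orderOf d' = 2 := by rw [Subgroup.orderOf_mk]; exact hod
  have hK : Nat.card K = 2 := by rw [Nat.card_zpowers, hod']
  have hidx : K.index = 3 := by
    have := K.card_mul_index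
    rw [hK, hcard] at this
    omega
  have hmemK : ∀ x : H, x ∈ K → x = 1 ∨ x = d' := by
    intro x hx
    rw [mem_zpowers_iff] at hx
    obtain ⟨k, rfl⟩ := hx
    have hd'2 : d' ^ (2 : ℤ) = 1 := by
      have := pow_orderOf_eq_one d'
      rw [hod'] at this
      exact_mod_cast this
    rcases Int.emod_two_eq_zero_or_one k with h | h
    · left
      have : k = 2 * (k / 2) := by omega
      rw [this, zpow_mul, hd'2, one_zpow]
    · right
      have : k = 2 * (k / 2) + 1 := by omega
      rw [this, zpow_add, zpow_mul, hd'2, one_zpow, one_mul, zpow_one]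
  have hcore : K.normalCore = ⊥ := by
    rw [eq_bot_iff]
    intro x hx
    rw [mem_bot]
    rcases hmemK x (K.normalCore_le hx) with h | h
    · exact h
    · exfalso
      subst h
      have hn : (e' * d' * e'⁻¹) ∈ K.normalCore :=
        (Subgroup.normalCore_normal K).conj_mem d' hx e'
      rcases hmemK _ (K.normalCore_le hn) with h | h
      · have h' := congrArg Subtype.val h
        simp only [d', e', Subgroup.coe_mul, Subgroup.coe_inv, Subgroup.coe_one] at h'
        apply hd1
        have : e * d * e⁻¹ = 1 := h'
        have h2 : d = e⁻¹ * (e * d * e⁻¹) * e := by group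
        rw [h2, this]; group
      · have h' := congrArg Subtype.val h
        simp only [d', e', Subgroup.coe_mul, Subgroup.coe_inv] at h'
        apply hne
        have : e * d * e⁻¹ = d := h'
        calc d * e = (e * d * e⁻¹) * e := by rw [this]
          _ = e * d := by group
  -- the coset action
  let φ : H →* Equiv.Perm (H ⧸ K) := MulAction.toPermHom H (H ⧸ K)
  have hker : φ.ker = ⊥ := by rw [← hcore]; exact (Subgroup.normalCore_eq_ker K).symm
  have hinj : Function.Injective φ := (MonoidHom.ker_eq_bot_iff φ).mp hker
  have hq : Nat.card (H ⧸ K) = 3 := by rw [← Subgroup.index_eq_card]; exact hidx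
  have hperm : Nat.card (Equiv.Perm (H ⧸ K)) = 6 := by
    rw [Nat.card_perm, hq]; rfl
  haveI : Finite (H ⧸ K) := Nat.finite_of_card_ne_zero (by rw [hq]; norm_num)
  have hbij : Function.Bijective φ := by
    rw [Nat.bijective_iff_injective_and_card]
    exact ⟨hinj, by rw [hcard, hperm]⟩
  have eq3 : (H ⧸ K) ≃ Fin 3 := Finite.equivFinOfCardEq hq
  exact ⟨(MulEquiv.ofBijective φ hbij).trans eq3.permCongrHom⟩

end Cfsg.Agent.Lib.Helper3
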