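import Mathlib
import Cfsg.Prelude.Def_Local
import Cfsg.Agent.Lib.Helper2.Cores

set_option autoImplicit false

/-!
Helper library (helper3): `Cfsg.IsPSolvable`.

* `IsPOrP'`                        : a number is a power of `p` or prime to `p`
* `isPSolvable_quotient`           : quotients of `p`-soluble groups are `p`-soluble
* `exists_normal_between`          : in a finite `p`-soluble group, between normal subgroups `Z < C`
                                     there is a normal `M`, `Z < M ≤ C`, with `|M : Z|` a `p`-power or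
                                     prime to `p`
* `centralizer_pCore_le`           : Hall–Higman Lemma 1.2.3: if `O_{p'}(G) = 1` then
                                     `C_G(O_p(G)) ≤ O_p(G)`
-/

namespace Cfsg.Agent.Lib.Helper3

open Cfsg Subgroup

/-- a power of `p` or prime to `p` -/
def IsPOrP' (p n : ℕ) : Prop := (∃ m : ℕ, n = p ^ m) ∨ n.Coprime p

theorem IsPOrP'.of_dvd {p a b : ℕ} (hp : p.Prime) (h : IsPOrP' p b) (hab : a ∣ b) : IsPOrP' p a := by
  rcases h with ⟨m, rfl⟩ | h
  · left
    obtain ⟨k, _, rfl⟩ := (Nat.dvd_prime_pow hp).mp hab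
    exact ⟨k, rfl⟩
  · right
    exact Nat.Coprime.coprime_dvd_left hab h

section
variable {G : Type*} [Group G]

theorem sup_relIndex_sup_dvd {A B Z : Subgroup G} (hA : A.Normal) (hZ : Z.Normal) (hAB : A ≤ B) :
    (A ⊔ Z).relIndex (B ⊔ Z) ∣ A.relIndex B := by
  have : (A ⊔ Z).Normal := Subgroup.sup_normal A Z
  have h1 : (A ⊔ Z).relIndex (B ⊔ (A ⊔ Z)) = (A ⊔ Z).relIndex B := relIndex_sup_right B (A ⊔ Z)
  have h2 : B ⊔ (A ⊔ Z) = B ⊔ Z := by
    rw [← sup_assoc, sup_eq_left.mpr hAB]
  rw [h2] at h1
  rw [h1]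
  exact relIndex_dvd_of_le_left B le_sup_left

theorem inf_relIndex_inf_dvd {A B C : Subgroup G} (hA : A.Normal) (hAB : A ≤ B) :
    (A ⊓ C).relIndex (B ⊓ C) ∣ A.relIndex B := by
  have h1 : A ⊓ C = A ⊓ (B ⊓ C) := by
    rw [← inf_assoc, inf_eq_left.mpr hAB]
  rw [h1, inf_relIndex_right]
  have := hA
  have e1 : A.relIndex (B ⊓ C) = Nat.card ((B ⊓ C).map (QuotientGroup.mk' A)) := by
    have := relIndex_ker (B ⊓ C) (QuotientGroup.mk' A)
    rwa [QuotientGroup.ker_mk'] at this
  have e2 : A.relIndex B = Nat.card (B.map (QuotientGroup.mk' A)) := by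
    have := relIndex_ker B (QuotientGroup.mk' A)
    rwa [QuotientGroup.ker_mk'] at this
  rw [e1, e2]
  exact Subgroup.card_dvd_of_le (Subgroup.map_mono inf_le_left)

theorem isPSolvable_quotient {p : ℕ} (hp : p.Prime) (hsol : IsPSolvable p G) (N : Subgroup G)
    [N.Normal] : IsPSolvable p (G ⧸ N) := by
  obtain ⟨n, H, h0, hlast, hmono, hnorm, hstep⟩ := hsol
  refine ⟨n, fun i => (H i).map (QuotientGroup.mk' N), ?_, ?_, ?_, ?_, ?_⟩
  · simp only [h0, Subgroup.map_bot]
  · simp only [hlast]
    rw [← MonoidHom.range_eq_map, MonoidHom.range_eq_top]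
    exact QuotientGroup.mk'_surjective N
  · intro i j hij
    exact Subgroup.map_mono (hmono hij)
  · intro i
    exact (hnorm i).map _ (QuotientGroup.mk'_surjective N)
  · intro i
    have hd : ((H i.castSucc).map (QuotientGroup.mk' N)).relIndex
        ((H i.succ).map (QuotientGroup.mk' N)) ∣ (H i.castSucc).relIndex (H i.succ) := by
      rw [relIndex_map_map, QuotientGroup.ker_mk']
      exact sup_relIndex_sup_dvd (hnorm _) inferInstance (hmono (Fin.castSucc_le_succ i))
    have : IsPOrP' p ((H i.castSucc).relIndex (H i.succ)) := by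
      rcases hstep i with ⟨m, hm⟩ | h
      · exact Or.inl ⟨m, hm⟩
      · exact Or.inr h
    rcases this.of_dvd hp hd with ⟨m, hm⟩ | h
    · exact Or.inl ⟨m, hm⟩
    · exact Or.inr h

theorem exists_normal_between {p : ℕ} (hp : p.Prime) (hsol : IsPSolvable p G)
    {Z C : Subgroup G} (hZ : Z.Normal) (hC : C.Normal) (hZC : Z < C) :
    ∃ M : Subgroup G, M.Normal ∧ Z < M ∧ M ≤ C ∧ IsPOrP' p (Z.relIndex M) := by
  obtain ⟨n, H, h0, hlast, hmono, hnorm, hstep⟩ := hsol
  have key : ∀ i : Fin (n + 1), Z ⊔ (H i ⊓ C) ≠ Z →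
      ∃ M : Subgroup G, M.Normal ∧ Z < M ∧ M ≤ C ∧ IsPOrP' p (Z.relIndex M) := by
    intro i
    induction i using Fin.induction with
    | zero =>
      intro h
      exfalso
      apply h
      rw [h0, bot_inf_eq, sup_bot_eq]
    | succ i ih =>
      intro h
      by_cases hprev : Z ⊔ (H i.castSucc ⊓ C) ≠ Z
      · exact ih hprev
      · push Not at hprev
        have := hnorm i.succ
        have := hnorm i.castSucc
        have := hZ
        have := hC
        refine ⟨Z ⊔ (H i.succ ⊓ C), ?_, ?_, ?_, ?_⟩
        · have : (H i.succ ⊓ C).Normal := Subgroup.normal_inf_normal _ _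
          exact Subgroup.sup_normal _ _
        · exact lt_of_le_of_ne le_sup_left (Ne.symm h)
        · exact sup_le hZC.le inf_le_right
        · have hstep' : IsPOrP' p ((H i.castSucc).relIndex (H i.succ)) := by
            rcases hstep i with ⟨m, hm⟩ | h
            · exact Or.inl ⟨m, hm⟩
            · exact Or.inr h
          apply hstep'.of_dvd hp
          have hle : H i.castSucc ≤ H i.succ := hmono (Fin.castSucc_le_succ i)
          have d1 : (H i.castSucc ⊓ C).relIndex (H i.succ ⊓ C) ∣
              (H i.castSucc).relIndex (H i.succ) := inf_relIndex_inf_dvd (hnorm _) hle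
          have : (H i.castSucc ⊓ C).Normal := Subgroup.normal_inf_normal _ _
          have d2 : ((H i.castSucc ⊓ C) ⊔ Z).relIndex ((H i.succ ⊓ C) ⊔ Z) ∣
              (H i.castSucc ⊓ C).relIndex (H i.succ ⊓ C) :=
            sup_relIndex_sup_dvd inferInstance hZ (inf_le_inf_right C hle)
          rw [sup_comm _ Z, sup_comm _ Z, hprev] at d2
          exact d2.trans d1
  apply key (Fin.last n)
  rw [hlast, top_inf_eq, sup_eq_right.mpr hZC.le]
  exact hZC.ne'

end

/-- order of the full preimage of a subgroup of a quotient -/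
theorem card_comap_mk'_eq {G : Type*} [Group G] (N : Subgroup G) [N.Normal]
    (L : Subgroup (G ⧸ N)) :
    Nat.card (L.comap (QuotientGroup.mk' N)) = Nat.card N * Nat.card L := by
  have hle : N ≤ L.comap (QuotientGroup.mk' N) := by
    intro x hx
    rw [Subgroup.mem_comap]
    have : (QuotientGroup.mk' N) x = 1 := (QuotientGroup.eq_one_iff x).mpr hx
    rw [this]; exact one_mem _
  have h1 := relIndex_mul_relIndex ⊥ N (L.comap (QuotientGroup.mk' N)) bot_le hle
  rw [relIndex_bot_left, relIndex_bot_left] at h1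
  have h2 := relIndex_ker (L.comap (QuotientGroup.mk' N)) (QuotientGroup.mk' N)
  rw [QuotientGroup.ker_mk', Subgroup.map_comap_eq_self_of_surjective
    (QuotientGroup.mk'_surjective N)] at h2
  rw [← h1, h2]

/-- `O_{p'}(G / O_{p'}(G)) = 1`. -/
theorem pPrimeCore_quotient_pPrimeCore {G : Type*} [Group G] [Finite G] (p : ℕ) :
    pPrimeCore p (G ⧸ pPrimeCore p G) = ⊥ := by
  set K := pPrimeCore p G with hK
  set L := pPrimeCore p (G ⧸ K) with hL
  have hLn : L.Normal := Cfsg.Agent.Lib.Helper2.pPrimeCore_normal p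
  have hLc : (Nat.card L).Coprime p := Cfsg.Agent.Lib.Helper2.pPrimeCore_coprime p
  have hKc : (Nat.card K).Coprime p := Cfsg.Agent.Lib.Helper2.pPrimeCore_coprime p
  have hn : (L.comap (QuotientGroup.mk' K)).Normal := hLn.comap _
  have hc : (Nat.card (L.comap (QuotientGroup.mk' K))).Coprime p := by
    rw [card_comap_mk'_eq]
    exact Nat.Coprime.mul_left hKc hLc
  have hle : L.comap (QuotientGroup.mk' K) ≤ K := Cfsg.Agent.Lib.Helper2.le_pPrimeCore hn hc
  rw [eq_bot_iff]
  intro x hx
  obtain ⟨g, rfl⟩ := QuotientGroup.mk'_surjective K x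
  have : g ∈ L.comap (QuotientGroup.mk' K) := hx
  rw [Subgroup.mem_bot]
  exact (QuotientGroup.eq_one_iff g).mpr (hle this)

/-- If `M ⊔ K = ⊤` with `K` normal then the index of `M` divides the order of `K`. -/
theorem index_dvd_card_of_sup_eq_top' {G : Type*} [Group G] [Finite G] (K M : Subgroup G)
    [K.Normal] (h : M ⊔ K = ⊤) : M.index ∣ Nat.card K := by
  have h1 : K.relIndex (M ⊔ K) = K.relIndex M := relIndex_sup_right M K
  rw [h, relIndex_top_right] at h1
  have h2 : (K ⊓ M).relIndex M = K.relIndex M := inf_relIndex_right K M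
  have h3 := relIndex_mul_relIndex ⊥ (K ⊓ M) M bot_le inf_le_right
  rw [relIndex_bot_left, relIndex_bot_left, h2, ← h1] at h3
  have h4 : Nat.card K * K.index = Nat.card G := K.card_mul_index
  have h5 : Nat.card M * M.index = Nat.card G := M.card_mul_index
  have hpos : 0 < K.index := Nat.pos_of_ne_zero (Subgroup.index_ne_zero_of_finite)
  have h6 : Nat.card K * K.index = (Nat.card (K ⊓ M : Subgroup G) * M.index) * K.index := by
    rw [h4, ← h5, ← h3]; ring
  have h7 : Nat.card K = Nat.card (K ⊓ M : Subgroup G) * M.index :=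
    Nat.eq_of_mul_eq_mul_right hpos h6
  exact ⟨_, by rw [h7, mul_comm]⟩

/-- multiplicity of `p` in a product with a factor prime to `p` -/
theorem factorization_of_mul_of_not_dvd {a b n p : ℕ} (h : a * b = n) (hn : n ≠ 0)
    (hb : ¬ p ∣ b) : n.factorization p = a.factorization p := by
  have ha : a ≠ 0 := by rintro rfl; simp at h; exact hn h.symm
  have hb0 : b ≠ 0 := by rintro rfl; simp at h; exact hn h.symm
  rw [← h, Nat.factorization_mul ha hb0, Finsupp.add_apply,
    Nat.factorization_eq_zero_of_not_dvd hb, add_zero]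

/-- If `V / W = O_{p'}(G / W)` then `O_{p'}(G / V) = 1`. -/
theorem pPrimeCore_quotient_eq_bot {G : Type*} [Group G] [Finite G] (p : ℕ) (W V : Subgroup G)
    [W.Normal] [V.Normal] (hV : V = (pPrimeCore p (G ⧸ W)).comap (QuotientGroup.mk' W)) :
    pPrimeCore p (G ⧸ V) = ⊥ := by
  set K1 := pPrimeCore p (G ⧸ W) with hK1
  have hK1c : (Nat.card K1).Coprime p := Cfsg.Agent.Lib.Helper2.pPrimeCore_coprime p
  have hWV : W ≤ V := by
    intro x hx
    rw [hV, Subgroup.mem_comap]
    have : (QuotientGroup.mk' W) x = 1 := (QuotientGroup.eq_one_iff x).mpr hx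
    rw [this]; exact one_mem _
  set L' := pPrimeCore p (G ⧸ V) with hL'
  have hL'n : L'.Normal := Cfsg.Agent.Lib.Helper2.pPrimeCore_normal p
  have hL'c : (Nat.card L').Coprime p := Cfsg.Agent.Lib.Helper2.pPrimeCore_coprime p
  set L := L'.comap (QuotientGroup.mk' V) with hL
  have hLn : L.Normal := hL'n.comap _
  have hVL : V ≤ L := by
    intro x hx
    rw [hL, Subgroup.mem_comap]
    have : (QuotientGroup.mk' V) x = 1 := (QuotientGroup.eq_one_iff x).mpr hx
    rw [this]; exact one_mem _
  have e1 : W.relIndex V = Nat.card K1 := by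
    have := relIndex_ker V (QuotientGroup.mk' W)
    rw [QuotientGroup.ker_mk'] at this
    rw [this, hV, Subgroup.map_comap_eq_self_of_surjective (QuotientGroup.mk'_surjective W)]
  have e2 : V.relIndex L = Nat.card L' := by
    have := relIndex_ker L (QuotientGroup.mk' V)
    rw [QuotientGroup.ker_mk'] at this
    rw [this, hL, Subgroup.map_comap_eq_self_of_surjective (QuotientGroup.mk'_surjective V)]
  have e3 : W.relIndex L = Nat.card K1 * Nat.card L' := by
    rw [← relIndex_mul_relIndex W V L hWV hVL, e1, e2]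
  have e4 : Nat.card (L.map (QuotientGroup.mk' W)) = Nat.card K1 * Nat.card L' := by
    have := relIndex_ker L (QuotientGroup.mk' W)
    rw [QuotientGroup.ker_mk'] at this
    rw [← this, e3]
  have hn : (L.map (QuotientGroup.mk' W)).Normal := hLn.map _ (QuotientGroup.mk'_surjective W)
  have hc : (Nat.card (L.map (QuotientGroup.mk' W))).Coprime p := by
    rw [e4]; exact Nat.Coprime.mul_left hK1c hL'c
  have hle : L.map (QuotientGroup.mk' W) ≤ K1 := Cfsg.Agent.Lib.Helper2.le_pPrimeCore hn hc
  have hLV : L ≤ V := by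
    intro x hx
    rw [hV, Subgroup.mem_comap]
    exact hle ⟨x, hx, rfl⟩
  rw [eq_bot_iff]
  intro y hy
  obtain ⟨g, rfl⟩ := QuotientGroup.mk'_surjective V y
  have : g ∈ L := hy
  rw [Subgroup.mem_bot]
  exact (QuotientGroup.eq_one_iff g).mpr (hLV this)

theorem upperPSeries_odd {G : Type*} [Group G] (p k : ℕ) :
    (upperPSeries p G (2 * k + 1)).1 =
      (pPrimeCore p (G ⧸ (upperPSeries p G (2 * k)).1)).comap (QuotientGroup.mk' _) := by
  rw [upperPSeries]
  simp only [even_two, Even.mul_right, if_true]

theorem upperPSeries_even {G : Type*} [Group G] (p k : ℕ) :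
    (upperPSeries p G (2 * k + 2)).1 =
      (pCore p (G ⧸ (upperPSeries p G (2 * k + 1)).1)).comap (QuotientGroup.mk' _) := by
  rw [upperPSeries]
  have : ¬ Even (2 * k + 1) := by simp
  simp only [this, if_false]

/-- Hall–Higman Lemma 1.2.3. -/
theorem centralizer_pCore_le {G : Type*} [Group G] [Finite G] {p : ℕ} [hp : Fact p.Prime]
    (hsol : IsPSolvable p G) (hOp' : pPrimeCore p G = ⊥) :
    centralizer (pCore p G : Set G) ≤ pCore p G := by
  set R := pCore p G with hR
  have hRn : R.Normal := Cfsg.Agent.Lib.Helper2.pCore_normal p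
  have hRp : IsPGroup p R := Cfsg.Agent.Lib.Helper2.pCore_isPGroup p
  set C := centralizer (R : Set G) with hC
  have hCn : C.Normal := Subgroup.normal_centralizer
  by_contra hCR
  set Z := C ⊓ R with hZ
  have hZn : Z.Normal := Subgroup.normal_inf_normal _ _
  have hZC : Z < C := by
    refine lt_of_le_of_ne inf_le_left ?_
    intro h
    apply hCR
    rw [← h]
    exact inf_le_right
  obtain ⟨M, hMn, hZM, hMC, hidx⟩ := exists_normal_between hp.out hsol hZn hCn hZC
  have hZp : IsPGroup p Z := hRp.to_le inf_le_right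
  obtain ⟨a, ha⟩ := IsPGroup.iff_card.mp hZp
  have hcardM : Nat.card Z * Z.relIndex M = Nat.card M := by
    have := relIndex_mul_relIndex ⊥ Z M bot_le hZM.le
    rwa [relIndex_bot_left, relIndex_bot_left] at this
  rcases hidx with ⟨m, hm⟩ | hcop
  · -- M is a p-group
    have hMp : IsPGroup p M := by
      apply IsPGroup.of_card (n := a + m)
      rw [← hcardM, ha, hm, pow_add]
    have hMR : M ≤ R := Cfsg.Agent.Lib.Helper2.le_pCore hMn hMp
    have : M ≤ Z := le_inf hMC hMR
    exact absurd (lt_of_lt_of_le hZM this) (lt_irrefl _)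
  · -- Schur–Zassenhaus
    set d := Z.relIndex M with hd
    have : (Z.subgroupOf M).Normal := inferInstance
    have hcardZ' : Nat.card (Z.subgroupOf M) = p ^ a := by
      rw [Nat.card_congr (Subgroup.subgroupOfEquivOfLe hZM.le).toEquiv, ha]
    have hcop' : Nat.Coprime (Nat.card (Z.subgroupOf M)) (Z.subgroupOf M).index := by
      rw [hcardZ']
      have : (Z.subgroupOf M).index = d := rfl
      rw [this]
      exact Nat.Coprime.pow_left a hcop.symm
    obtain ⟨D', hD'⟩ := Subgroup.exists_right_complement'_of_coprime hcop'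
    have hcardD' : Nat.card D' = d := by
      have h1 := hD'.card_mul_card
      have h2 : Nat.card (Z.subgroupOf M) * (Z.subgroupOf M).index = Nat.card M :=
        Subgroup.card_mul_index _
      have hpos : 0 < Nat.card (Z.subgroupOf M) := Nat.card_pos
      have : (Z.subgroupOf M).index = d := rfl
      rw [this] at h2
      exact Nat.eq_of_mul_eq_mul_left hpos (h1.trans h2.symm)
    -- M centralizes Z
    have hcomm : ∀ x ∈ M, ∀ z ∈ Z, z * x = x * z := by
      intro x hx z hz
      have hxC : x ∈ C := hMC hx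
      rw [hC, Subgroup.mem_centralizer_iff] at hxC
      exact hxC z hz.2
    -- description of D
    have hDset : ∀ x : G, x ∈ D'.map M.subtype ↔ x ∈ M ∧ x ^ d = 1 := by
      intro x
      constructor
      · rintro ⟨y, hy, rfl⟩
        refine ⟨y.2, ?_⟩
        have : (⟨y, hy⟩ : D') ^ d = 1 := by rw [← hcardD']; exact pow_card_eq_one'
        have := congrArg (fun t : D' => ((t : M) : G)) this
        simpa using this
      · rintro ⟨hxM, hxd⟩
        obtain ⟨⟨z, y⟩, hzy⟩ := hD'.2 (⟨x, hxM⟩ : M)
        have hzy' : (z : M) * (y : M) = ⟨x, hxM⟩ := hzy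
        have hzy'' : ((z : M) : G) * ((y : M) : G) = x := by
          have := congrArg (fun t : M => (t : G)) hzy'
          simpa using this
        have hzZ : ((z : M) : G) ∈ Z := Subgroup.mem_subgroupOf.mp z.2
        have hyd : ((y : M) : G) ^ d = 1 := by
          have : (y : D') ^ d = 1 := by rw [← hcardD']; exact pow_card_eq_one'
          have := congrArg (fun t : D' => ((t : M) : G)) this
          simpa using this
        have hc : Commute ((z : M) : G) ((y : M) : G) := hcomm _ (y : M).2 _ hzZ
        have hzd : ((z : M) : G) ^ d = 1 := by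
          have := hc.mul_pow d
          rw [hzy'', hxd, hyd, mul_one] at this
          exact this.symm
        have hz1 : ((z : M) : G) = 1 := by
          have h1 : orderOf ((z : M) : G) ∣ d := orderOf_dvd_of_pow_eq_one hzd
          obtain ⟨k, hk⟩ := (IsPGroup.iff_orderOf.mp hZp) ⟨_, hzZ⟩
          rw [Subgroup.orderOf_mk] at hk
          have h2 : orderOf ((z : M) : G) ∣ p ^ k := by rw [hk]
          have h3 : Nat.Coprime d (p ^ k) := Nat.Coprime.pow_right k hcop
          have := Nat.eq_one_of_dvd_coprimes h3 h1 h2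
          exact orderOf_eq_one_iff.mp this
        rw [hz1, one_mul] at hzy''
        refine ⟨(y : M), y.2, ?_⟩
        simpa using hzy''
    -- D is normal in G
    have hDn : (D'.map M.subtype).Normal := by
      constructor
      intro x hx g
      rw [hDset] at hx ⊢
      refine ⟨hMn.conj_mem x hx.1 g, ?_⟩
      rw [conj_pow, hx.2, mul_one, mul_inv_cancel]
    have hDc : (Nat.card (D'.map M.subtype)).Coprime p := by
      rw [Subgroup.card_map_of_injective M.subtype_injective, hcardD']
      exact hcop
    have hDbot := Cfsg.Agent.Lib.Helper2.le_pPrimeCore hDn hDc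
    rw [hOp', le_bot_iff] at hDbot
    have hD'bot : D' = ⊥ := (Subgroup.map_eq_bot_iff_of_injective _ M.subtype_injective).mp hDbot
    rw [hD'bot, isComplement'_bot_right] at hD'
    have : M ≤ Z := by
      intro x hx
      have : (⟨x, hx⟩ : M) ∈ Z.subgroupOf M := by rw [hD']; trivial
      rwa [Subgroup.mem_subgroupOf] at this
    exact absurd (lt_of_lt_of_le hZM this) (lt_irrefl _)

end Cfsg.Agent.Lib.Helper3
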