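import Mathlib

set_option autoImplicit false

namespace Cfsg.Agent.Lib.Helper3

variable {G : Type*} [Group G]

/-- Conjugation by `g` on the normal subgroup `H` preserves `N ∩ H` for `N` normal. -/
theorem map_conjNormal_subgroupOf (N H : Subgroup G) [hN : N.Normal] [hH : H.Normal] (g : G) :
    (N.subgroupOf H).map ((MulAut.conjNormal g : MulAut H) : H →* H) = N.subgroupOf H := by
  ext x
  simp only [Subgroup.mem_map, Subgroup.mem_subgroupOf]
  constructor
  · rintro ⟨y, hy, rfl⟩
    have : (((MulAut.conjNormal g : MulAut H) y : H) : G) = g * y * g⁻¹ := MulAut.conjNormal_apply g y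
    show (((MulAut.conjNormal g : MulAut H) y : H) : G) ∈ N
    rw [this]
    exact hN.conj_mem _ hy g
  · intro hx
    refine ⟨(MulAut.conjNormal g : MulAut H).symm x, ?_, ?_⟩
    · rw [MulAut.conjNormal_symm_apply]
      have := hN.conj_mem _ hx g⁻¹
      simpa using this
    · exact (MulAut.conjNormal g : MulAut H).apply_symm_apply x

/-- The conjugation action of `G` on the section `H / (N ∩ H)` for normal `N, H`. -/
noncomputable def quotAct (N H : Subgroup G) [hN : N.Normal] [hH : H.Normal] :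
    G →* MulAut (H ⧸ N.subgroupOf H) where
  toFun g := QuotientGroup.congr (N.subgroupOf H) (N.subgroupOf H) (MulAut.conjNormal g)
    (map_conjNormal_subgroupOf N H g)
  map_one' := by
    ext q
    induction q using QuotientGroup.induction_on with
    | H x =>
      simp only [QuotientGroup.congr_mk, map_one, MulAut.one_apply]
  map_mul' a b := by
    ext q
    induction q using QuotientGroup.induction_on with
    | H x =>
      simp only [QuotientGroup.congr_mk, map_mul, MulAut.mul_apply]

theorem quotAct_mk (N H : Subgroup G) [hN : N.Normal] [hH : H.Normal] (g : G) (x : H) :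
    quotAct N H g (QuotientGroup.mk x) =
      QuotientGroup.mk ((MulAut.conjNormal g : MulAut H) x) := rfl

theorem quotAct_mk' (N H : Subgroup G) [hN : N.Normal] [hH : H.Normal] (g : G) (x : G)
    (hx : x ∈ H) :
    quotAct N H g (QuotientGroup.mk ⟨x, hx⟩) =
      QuotientGroup.mk ⟨g * x * g⁻¹, hH.conj_mem x hx g⟩ := rfl

/-- `g` acts trivially on `H/(N∩H)` iff `[g, H] ≤ N`. -/
theorem quotAct_eq_one_iff (N H : Subgroup G) [hN : N.Normal] [hH : H.Normal] (g : G) :
    quotAct N H g = 1 ↔ ∀ x ∈ H, g * x * g⁻¹ * x⁻¹ ∈ N := by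
  constructor
  · intro h x hx
    have h1 := congrArg (fun α : MulAut (H ⧸ N.subgroupOf H) => α (QuotientGroup.mk ⟨x, hx⟩)) h
    simp only [quotAct_mk', MulAut.one_apply] at h1
    rw [QuotientGroup.eq] at h1
    rw [Subgroup.mem_subgroupOf] at h1
    have h2 : (g * x * g⁻¹)⁻¹ * x ∈ N := by simpa using h1
    have h3 := N.inv_mem h2
    have h4 := hN.conj_mem _ h3 x
    have : x * ((g * x * g⁻¹)⁻¹ * x)⁻¹ * x⁻¹ = g * x * g⁻¹ * x⁻¹ := by group
    rwa [this] at h4
  · intro h
    ext q
    induction q using QuotientGroup.induction_on with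
    | H x =>
      obtain ⟨x, hx⟩ := x
      rw [quotAct_mk', MulAut.one_apply, QuotientGroup.eq, Subgroup.mem_subgroupOf]
      have h2 := h x hx
      have h3 := N.inv_mem h2
      have h4 := hN.conj_mem _ h3 x⁻¹
      have : x⁻¹ * (g * x * g⁻¹ * x⁻¹)⁻¹ * x⁻¹⁻¹ = (g * x * g⁻¹)⁻¹ * x := by group
      rw [this] at h4
      simpa using h4

/-- Automorphisms of `Q` acting trivially on `Q / Φ(Q)` form a normal subgroup of `MulAut Q`. -/
def trivOnFrattiniQuot (Q : Type*) [Group Q] : Subgroup (MulAut Q) where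
  carrier := {α | ∀ x : Q, α x * x⁻¹ ∈ frattini Q}
  one_mem' := by
    intro x
    simp
  mul_mem' := by
    intro α β hα hβ x
    have h1 : α (β x * x⁻¹) ∈ frattini Q := by
      have hchar : (frattini Q).Characteristic := inferInstance
      have := (Subgroup.characteristic_iff_map_eq.mp hchar) α
      rw [← this]
      exact ⟨_, hβ x, rfl⟩
    have h2 := (frattini Q).mul_mem h1 (hα x)
    have : α (β x * x⁻¹) * (α x * x⁻¹) = (α * β) x * x⁻¹ := by
      simp [MulAut.mul_apply, mul_assoc]
    rwa [this] at h2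
  inv_mem' := by
    intro α hα x
    have hchar : (frattini Q).Characteristic := inferInstance
    have h0 := (Subgroup.characteristic_iff_map_eq.mp hchar) α⁻¹
    have h1 : α⁻¹ ((α x * x⁻¹)⁻¹) ∈ frattini Q := by
      rw [← h0]
      exact ⟨_, (frattini Q).inv_mem (hα x), rfl⟩
    have : α⁻¹ ((α x * x⁻¹)⁻¹) = α⁻¹ x * x⁻¹ := by
      simp [mul_inv_rev]
    rwa [this] at h1

theorem mem_trivOnFrattiniQuot {Q : Type*} [Group Q] (α : MulAut Q) :
    α ∈ trivOnFrattiniQuot Q ↔ ∀ x : Q, α x * x⁻¹ ∈ frattini Q := Iff.rfl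

instance trivOnFrattiniQuot_normal (Q : Type*) [Group Q] : (trivOnFrattiniQuot Q).Normal := by
  constructor
  intro α hα γ x
  have hchar : (frattini Q).Characteristic := inferInstance
  have h0 := (Subgroup.characteristic_iff_map_eq.mp hchar) γ
  have h1 : γ (α (γ⁻¹ x) * (γ⁻¹ x)⁻¹) ∈ frattini Q := by
    rw [← h0]
    exact ⟨_, hα (γ⁻¹ x), rfl⟩
  have : γ (α (γ⁻¹ x) * (γ⁻¹ x)⁻¹) = (γ * α * γ⁻¹) x * x⁻¹ := by
    simp [MulAut.mul_apply]
  rwa [this] at h1

end Cfsg.Agent.Lib.Helper3
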