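import Mathlib
import Cfsg.Agent.Lib.Helper3.QuotAct
import Cfsg.Agent.Lib.Helper14.FrattiniQuot

set_option autoImplicit false

namespace Cfsg.Agent.Lib.Helper3

/-- Burnside: an automorphism of a finite `p`-group acting trivially on the Frattini quotient
has `p`-power order. -/
theorem exists_pow_eq_one_of_trivOnFrattiniQuot {Q : Type*} [Group Q] [Finite Q] {p : ℕ}
    [hp : Fact p.Prime] (hQ : IsPGroup p Q) (α : MulAut Q) (hα : α ∈ trivOnFrattiniQuot Q) :
    ∃ a : ℕ, α ^ (p ^ a) = 1 := by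
  obtain ⟨r, hr⟩ : ∃ r, (frattini Q).index = p ^ r := hQ.index (frattini Q)
  have hA : ∀ β ∈ Subgroup.zpowers α, ∀ x : Q, β x * x⁻¹ ∈ frattini Q := by
    intro β hβ
    have : β ∈ trivOnFrattiniQuot Q := (Subgroup.zpowers_le.mpr hα) hβ
    exact this
  have hdvd := Cfsg.Agent.Lib.Helper14.card_dvd_of_trivial_on_frattini_quot hQ hr
    (Subgroup.zpowers α) hA
  obtain ⟨j, hj⟩ := IsPGroup.iff_card.mp (hQ.to_subgroup (frattini Q))
  rw [hj, ← pow_mul, Nat.card_zpowers] at hdvd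
  obtain ⟨a, -, ha⟩ := (Nat.dvd_prime_pow hp.out).mp hdvd
  exact ⟨a, by rw [← ha]; exact pow_orderOf_eq_one α⟩

end Cfsg.Agent.Lib.Helper3
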