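import Mathlib
import Cfsg.Agent.S0218
import Cfsg.Agent.Lib.Lead.UniqueOrderP
import Cfsg.Agent.Lib.Helper11.Burnside

set_option autoImplicit false

/-!
Helper library (helper3): groups whose Sylow 2-subgroups are generalized quaternion.

* `le_of_card_dvd_of_isCyclic`        : in a finite cyclic group, `|H₁| ∣ |H₂| → H₁ ≤ H₂`
* `le_of_card_dvd_of_le_isCyclic`     : same for subgroups of a cyclic subgroup
* `quatSign`                          : the hom `QuaternionGroup k →* ℤˣ` with kernel `{a i}`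
* `comm_of_mem_commutator_quaternion` : `[S,S]` is abelian when `S ≃* QuaternionGroup k`
* `unique_inv_sylow`                  : a Sylow 2-subgroup `≃* Q_{2^(n+2)}` has a unique involution
* `unique_inv_of_isPGroup`            : then so has every 2-subgroup
* `isCyclic_of_abelian_two_subgroup`  : and every abelian 2-subgroup is cyclic
* `quatSign_eq_one_of_commute_a_two`, `four_ne_zero_zmod`, `quatSign_ker_index`
* `card_mulAut_dvd_of_cyclic_two_group` : `|Aut Q| ∣ |Q|` for a cyclic 2-group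
* `exists_normal_two_complement_of_isCyclic` : cyclic Sylow 2-subgroup ⇒ normal 2-complement
* `mem_of_odd_orderOf_of_isComplement'` : which contains every element of odd order
* `conj_mem_centralizer` : `N(D)` normalizes `C(D)` (set versions)
-/

namespace Cfsg.Agent.Lib.Helper3

open scoped Pointwise

section Cyclic

theorem le_of_card_dvd_of_isCyclic {K : Type*} [Group K] [Finite K] [IsCyclic K]
    (H1 H2 : Subgroup K) (h : Nat.card H1 ∣ Nat.card H2) : H1 ≤ H2 := by
  classical
  have := Fintype.ofFinite K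
  intro x hx
  have hx0 : x ^ Nat.card H1 = 1 := by
    have h1 : (⟨x, hx⟩ : H1) ^ Nat.card H1 = 1 := pow_card_eq_one'
    have h2 := congrArg Subtype.val h1
    rwa [Subgroup.coe_pow, Subgroup.coe_one] at h2
  have hx1 : x ^ Nat.card H2 = 1 := by
    obtain ⟨k, hk⟩ := h
    rw [hk, pow_mul, hx0, one_pow]
  have hpos : 0 < Nat.card H2 := Nat.card_pos
  have hle := IsCyclic.card_pow_eq_one_le (α := K) hpos
  have hsub : (H2 : Set K).toFinset ⊆ Finset.univ.filter (fun a : K => a ^ Nat.card H2 = 1) := by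
    intro z hz
    simp only [Set.mem_toFinset, SetLike.mem_coe] at hz
    simp only [Finset.mem_filter, Finset.mem_univ, true_and]
    have h1 : (⟨z, hz⟩ : H2) ^ Nat.card H2 = 1 := pow_card_eq_one'
    have h2 := congrArg Subtype.val h1
    rwa [Subgroup.coe_pow, Subgroup.coe_one] at h2
  have hcard : (H2 : Set K).toFinset.card = Nat.card H2 := by
    rw [← Nat.card_eq_card_toFinset]; rfl
  have heq := Finset.eq_of_subset_of_card_le hsub (by rw [hcard]; exact hle)
  have : x ∈ (H2 : Set K).toFinset := by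
    rw [heq, Finset.mem_filter]; exact ⟨Finset.mem_univ _, hx1⟩
  rwa [Set.mem_toFinset] at this

theorem le_of_card_dvd_of_le_isCyclic {G : Type*} [Group G] (K H1 H2 : Subgroup G) [Finite K]
    (hK : IsCyclic K) (h1 : H1 ≤ K) (h2 : H2 ≤ K) (h : Nat.card H1 ∣ Nat.card H2) : H1 ≤ H2 := by
  have e1 : Nat.card (H1.subgroupOf K) = Nat.card H1 :=
    Nat.card_congr (Subgroup.subgroupOfEquivOfLe h1).toEquiv
  have e2 : Nat.card (H2.subgroupOf K) = Nat.card H2 :=
    Nat.card_congr (Subgroup.subgroupOfEquivOfLe h2).toEquiv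
  have := le_of_card_dvd_of_isCyclic (H1.subgroupOf K) (H2.subgroupOf K) (by rw [e1, e2]; exact h)
  intro x hx
  have hxK : x ∈ K := h1 hx
  have h3 : (⟨x, hxK⟩ : K) ∈ H2.subgroupOf K := this (by rw [Subgroup.mem_subgroupOf]; exact hx)
  rwa [Subgroup.mem_subgroupOf] at h3

end Cyclic

section Quat

/-- The sign homomorphism of the quaternion group: `a i ↦ 1`, `xa i ↦ -1`. -/
def quatSign (k : ℕ) : QuaternionGroup k →* ℤˣ :=
  MonoidHom.mk' (fun g => match g with | .a _ => 1 | .xa _ => -1) (by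
    rintro (i | i) (j | j) <;> rfl)

theorem quat_comm_of_sign (k : ℕ) (g h : QuaternionGroup k) (hg : quatSign k g = 1)
    (hh : quatSign k h = 1) : g * h = h * g := by
  rcases g with i | i
  · rcases h with j | j
    · simp [add_comm]
    · exfalso; revert hh; simp [quatSign]
  · exfalso; revert hg; simp [quatSign]

variable {G : Type*} [Group G]

theorem comm_of_mem_commutator_quaternion (S : Subgroup G) (k : ℕ) (e : S ≃* QuaternionGroup k) :
    ∀ x ∈ ⁅S, S⁆, ∀ y ∈ ⁅S, S⁆, x * y = y * x := by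
  have hker : commutator S ≤ ((quatSign k).comp e.toMonoidHom).ker :=
    Abelianization.commutator_subset_ker _
  have hcomm : ∀ u v : S, u ∈ ((quatSign k).comp e.toMonoidHom).ker →
      v ∈ ((quatSign k).comp e.toMonoidHom).ker → u * v = v * u := by
    intro u v hu hv
    apply e.injective
    rw [map_mul, map_mul]
    exact quat_comm_of_sign k _ _ hu hv
  intro x hx y hy
  rw [← Subgroup.map_subtype_commutator] at hx hy
  obtain ⟨u, hu, rfl⟩ := hx
  obtain ⟨v, hv, rfl⟩ := hy
  have := hcomm u v (hker hu) (hker hv)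
  simpa using congrArg Subtype.val this

theorem unique_inv_sylow (S : Sylow 2 G) (n : ℕ)
    (e : (S : Subgroup G) ≃* QuaternionGroup (2 ^ (n + 2)))
    (x y : G) (hx : x ∈ S) (hy : y ∈ S) (hox : orderOf x = 2) (hoy : orderOf y = 2) : x = y := by
  have h : Nat.card {x : QuaternionGroup (2 ^ (n + 2)) // orderOf x = 2} = 1 :=
    Cfsg.Agent.S0218.result (n + 1)
  have hsub : Subsingleton {x : QuaternionGroup (2 ^ (n + 2)) // orderOf x = 2} :=
    (Nat.card_eq_one_iff_unique.mp h).1
  have h1 : orderOf (e ⟨x, hx⟩) = 2 := by rw [e.orderOf_eq, Subgroup.orderOf_mk, hox]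
  have h2 : orderOf (e ⟨y, hy⟩) = 2 := by rw [e.orderOf_eq, Subgroup.orderOf_mk, hoy]
  have h3 := Subsingleton.elim
    (⟨_, h1⟩ : {x : QuaternionGroup (2 ^ (n + 2)) // orderOf x = 2}) ⟨_, h2⟩
  have h4 := e.injective (congrArg Subtype.val h3)
  exact congrArg Subtype.val h4

theorem unique_inv_of_isPGroup [Finite G] (S : Sylow 2 G)
    (hS : ∀ x y : G, x ∈ S → y ∈ S → orderOf x = 2 → orderOf y = 2 → x = y)
    (K : Subgroup G) (hK : IsPGroup 2 K) (x y : G) (hx : x ∈ K) (hy : y ∈ K)
    (hox : orderOf x = 2) (hoy : orderOf y = 2) : x = y := by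
  have : Fact (Nat.Prime 2) := ⟨Nat.prime_two⟩
  obtain ⟨P, hKP⟩ := hK.exists_le_sylow
  obtain ⟨g, hg⟩ := MulAction.exists_smul_eq G S P
  have hx' : x ∈ ((g • S : Sylow 2 G) : Subgroup G) := by rw [hg]; exact hKP hx
  have hy' : y ∈ ((g • S : Sylow 2 G) : Subgroup G) := by rw [hg]; exact hKP hy
  rw [Sylow.coe_subgroup_smul, Subgroup.mem_pointwise_smul_iff_inv_smul_mem] at hx' hy'
  have := hS _ _ hx' hy' (by rw [MulAut.smul_def, MulEquiv.orderOf_eq]; exact hox)
    (by rw [MulAut.smul_def, MulEquiv.orderOf_eq]; exact hoy)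
  exact smul_left_cancel _ this

theorem isCyclic_of_abelian_two_subgroup [Finite G]
    (hinv : ∀ (K : Subgroup G), IsPGroup 2 K → ∀ x y, x ∈ K → y ∈ K →
      orderOf x = 2 → orderOf y = 2 → x = y)
    (K : Subgroup G) (hK : IsPGroup 2 K) (hcomm : ∀ x ∈ K, ∀ y ∈ K, x * y = y * x) :
    IsCyclic K := by
  have : Fact (Nat.Prime 2) := ⟨Nat.prime_two⟩
  apply Cfsg.Agent.Lib.Lead.UniqueOrderP.abelian_cyclic hK
  · intro x y; ext; exact hcomm _ x.2 _ y.2
  · intro H1 H2 h1 h2
    obtain ⟨x, hx⟩ := exists_prime_orderOf_dvd_card' (G := H1) 2 (by rw [h1])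
    obtain ⟨y, hy⟩ := exists_prime_orderOf_dvd_card' (G := H2) 2 (by rw [h2])
    have hxy : (x : K) = (y : K) := by
      ext
      apply hinv K hK _ _ (x : K).2 (y : K).2
      · rw [Subgroup.orderOf_coe, Subgroup.orderOf_coe]; exact hx
      · rw [Subgroup.orderOf_coe, Subgroup.orderOf_coe]; exact hy
    have e1 : Subgroup.zpowers (x : K) = H1 := by
      apply Subgroup.eq_of_le_of_card_ge (Subgroup.zpowers_le.mpr x.2)
      rw [Nat.card_zpowers, Subgroup.orderOf_coe, hx, h1]
    have e2 : Subgroup.zpowers (y : K) = H2 := by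
      apply Subgroup.eq_of_le_of_card_ge (Subgroup.zpowers_le.mpr y.2)
      rw [Nat.card_zpowers, Subgroup.orderOf_coe, hy, h2]
    rw [← e1, ← e2, hxy]

theorem quatSign_eq_one_of_commute_a_two (k : ℕ) (h4 : (4 : ZMod (2 * k)) ≠ 0)
    (g : QuaternionGroup k)
    (hg : g * QuaternionGroup.a 2 = QuaternionGroup.a 2 * g) : quatSign k g = 1 := by
  rcases g with i | i
  · rfl
  · exfalso
    rw [QuaternionGroup.xa_mul_a, QuaternionGroup.a_mul_xa] at hg
    have := QuaternionGroup.xa.inj hg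
    apply h4
    linear_combination this

theorem four_ne_zero_zmod (n : ℕ) : (4 : ZMod (2 * 2 ^ (n + 2))) ≠ 0 := by
  intro h
  have h' : ((4 : ℕ) : ZMod (2 * 2 ^ (n + 2))) = 0 := by exact_mod_cast h
  rw [ZMod.natCast_eq_zero_iff] at h'
  have h1 := Nat.le_of_dvd (by norm_num) h'
  have h2 : 4 ≤ 2 ^ (n + 2) := by
    calc 4 = 1 * 4 := by norm_num
      _ ≤ 2 ^ n * 4 := Nat.mul_le_mul_right 4 Nat.one_le_two_pow
      _ = 2 ^ (n + 2) := by ring
  omega

theorem quatSign_ker_index (k : ℕ) : (quatSign k).ker.index = 2 := by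
  rw [Subgroup.index_ker]
  have : (quatSign k).range = ⊤ := by
    rw [eq_top_iff]; intro u _
    rcases Int.units_eq_one_or u with rfl | rfl
    · exact ⟨1, map_one _⟩
    · exact ⟨QuaternionGroup.xa 0, rfl⟩
  rw [this, Subgroup.card_top, Nat.card_eq_fintype_card, Fintype.card_units_int]

end Quat

section TwoComplement

theorem card_mulAut_dvd_of_cyclic_two_group {Q : Type*} [Group Q] [Finite Q] [IsCyclic Q]
    (hQ : IsPGroup 2 Q) : Nat.card (MulAut Q) ∣ Nat.card Q := by
  have : Fact (Nat.Prime 2) := ⟨Nat.prime_two⟩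
  obtain ⟨u, hu⟩ := IsPGroup.iff_card.mp hQ
  rw [IsCyclic.card_mulAut, hu]
  rcases Nat.eq_zero_or_pos u with rfl | hpos
  · simp
  · rw [Nat.totient_prime_pow Nat.prime_two hpos]
    simpa using pow_dvd_pow 2 (Nat.sub_le u 1)

theorem exists_normal_two_complement_of_isCyclic {H : Type*} [Group H] [Finite H] (Q : Sylow 2 H)
    (hQ : IsCyclic (Q : Subgroup H)) :
    ∃ K : Subgroup H, K.Normal ∧ Subgroup.IsComplement' K (Q : Subgroup H) ∧ ¬ 2 ∣ Nat.card K := by
  have : Fact (Nat.Prime 2) := ⟨Nat.prime_two⟩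
  have hcomm : IsMulCommutative (Q : Subgroup H) := inferInstance
  have h1 := Cfsg.Agent.Lib.Helper11.card_range_normalizerMonoidHom_dvd_index Q hcomm
  have h2 : Nat.card (Q : Subgroup H).normalizerMonoidHom.range ∣
      Nat.card (MulAut (Q : Subgroup H)) := Subgroup.card_subgroup_dvd_card _
  have h3 := card_mulAut_dvd_of_cyclic_two_group (Q := (Q : Subgroup H)) Q.isPGroup'
  obtain ⟨u, hu⟩ := IsPGroup.iff_card.mp Q.isPGroup'
  have hodd : ¬ 2 ∣ (Q : Subgroup H).index := Q.not_dvd_index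
  have hcop : Nat.Coprime (Nat.card (Q : Subgroup H)) (Q : Subgroup H).index := by
    rw [hu]
    exact Nat.Coprime.pow_left u ((Nat.Prime.coprime_iff_not_dvd Nat.prime_two).mpr hodd)
  have h4 : Nat.card (Q : Subgroup H).normalizerMonoidHom.range = 1 :=
    Nat.eq_one_of_dvd_coprimes hcop (h2.trans h3) h1
  have hle := Cfsg.Agent.Lib.Helper11.normalizer_le_centralizer_of_card_range_eq_one
    (Q : Subgroup H) h4
  exact ⟨(MonoidHom.transferSylow Q hle).ker, inferInstance,
    MonoidHom.ker_transferSylow_isComplement' Q hle,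
    MonoidHom.not_dvd_card_ker_transferSylow Q hle⟩

theorem mem_of_odd_orderOf_of_isComplement' {H : Type*} [Group H] [Finite H] (Q : Sylow 2 H)
    (K : Subgroup H) [K.Normal] (hc : Subgroup.IsComplement' K (Q : Subgroup H)) (x : H)
    (hx : Odd (orderOf x)) : x ∈ K := by
  have : Fact (Nat.Prime 2) := ⟨Nat.prime_two⟩
  obtain ⟨u, hu⟩ := IsPGroup.iff_card.mp Q.isPGroup'
  have h1 : orderOf (QuotientGroup.mk' K x) ∣ orderOf x := orderOf_map_dvd _ x
  have h2 : orderOf (QuotientGroup.mk' K x) ∣ Nat.card (H ⧸ K) := orderOf_dvd_natCard _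
  have h3 : Nat.card (H ⧸ K) = 2 ^ u := by
    rw [← Subgroup.index_eq_card, hc.symm.index_eq_card, hu]
  rw [h3] at h2
  have hcop : Nat.Coprime (orderOf x) (2 ^ u) :=
    Nat.Coprime.pow_right u (Nat.coprime_two_right.mpr hx)
  have h4 := Nat.eq_one_of_dvd_coprimes hcop h1 h2
  rw [orderOf_eq_one_iff] at h4
  exact (QuotientGroup.eq_one_iff x).mp h4

theorem conj_mem_centralizer {G : Type*} [Group G] (D : Set G) {g y : G}
    (hg : g ∈ Subgroup.normalizer D) (hy : y ∈ Subgroup.centralizer D) :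
    g * y * g⁻¹ ∈ Subgroup.centralizer D := by
  rw [Subgroup.mem_centralizer_iff]
  intro d hd
  have hg' : g⁻¹ * d * g ∈ D := (Subgroup.mem_set_normalizer_iff''.mp hg d).mp hd
  have := Subgroup.mem_centralizer_iff.mp hy _ hg'
  calc d * (g * y * g⁻¹) = g * ((g⁻¹ * d * g) * y) * g⁻¹ := by group
    _ = g * (y * (g⁻¹ * d * g)) * g⁻¹ := by rw [this]
    _ = g * y * g⁻¹ * d := by group

end TwoComplement

end Cfsg.Agent.Lib.Helper3
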