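import Mathlib
import Cfsg.Prelude.Def_LocalStructure
import Cfsg.Agent.Lib.Helper2.Cores
import Cfsg.Agent.S0075

set_option autoImplicit false

/-!
Helper library (helper3): `p`-closed / `p`-irreducible / `T`-minimal groups
(`Cfsg.IsPClosed`, `Cfsg.IsPIrreducible`, `Cfsg.IsMinimalOver`, `Cfsg.pResidual`).

* `mem_of_pow_mem_of_coprime'`      : `g ^ a ∈ N`, `g ^ b ∈ N`, `gcd a b = 1` ⇒ `g ∈ N`
* `res_le_of_sylow_sup_eq_top`     : `T ⊔ N = ⊤`, `N` normal ⇒ `O^p(H) ≤ N`
* `exists_normal_sylow_of_isPClosed`: a `p`-closed normal subgroup `N` has a Sylow `p`-subgroup `Q` which is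
                                     normal in `H` and contains every `p`-subgroup of `N`
* `le_pCore_of_le_isPClosed`       : a `p`-subgroup of a `p`-closed normal subgroup lies in `O_p(H)`
* `isPClosed_of_sylow_normal`      : a group with a normal Sylow `p`-subgroup is `p`-closed
* `not_isPClosed_normalClosure_sylow`: if `H` is not `p`-closed then neither is the normal closure of a Sylow
-/

namespace Cfsg.Agent.Lib.Helper3

open Cfsg Subgroup

theorem mem_of_pow_mem_of_coprime' {H : Type*} [Group H] (N : Subgroup H) (g : H) {a b : ℕ}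
    (ha : g ^ a ∈ N) (hb : g ^ b ∈ N) (hab : Nat.Coprime a b) : g ∈ N := by
  have hz : g ^ ((Nat.gcd a b : ℕ) : ℤ) ∈ N := by
    rw [Nat.gcd_eq_gcd_ab a b, zpow_add, zpow_mul, zpow_mul]
    apply mul_mem
    · apply Subgroup.zpow_mem; exact_mod_cast ha
    · apply Subgroup.zpow_mem; exact_mod_cast hb
  have : g ^ (Nat.gcd a b) ∈ N := by exact_mod_cast hz
  rwa [hab, pow_one] at this

section
variable {H : Type*} [Group H] [Finite H] {p : ℕ} [hp : Fact p.Prime]

theorem res_le_of_sylow_sup_eq_top (T : Sylow p H) {N : Subgroup H} (hN : N.Normal)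
    (hNT : (T : Subgroup H) ⊔ N = ⊤) : pResidual p H ≤ N := by
  have : N.Normal := hN
  have hidx : ∃ j : ℕ, N.index = p ^ j := by
    have h1 : N.relIndex ((T : Subgroup H) ⊔ N) = N.relIndex (T : Subgroup H) :=
      Subgroup.relIndex_sup_right _ _
    rw [hNT, Subgroup.relIndex_top_right] at h1
    have h2 : N.relIndex (T : Subgroup H) ∣ Nat.card (T : Subgroup H) := Subgroup.relIndex_dvd_card _ _
    obtain ⟨k, hk⟩ := IsPGroup.iff_card.mp T.2
    rw [hk, ← h1] at h2
    obtain ⟨j, _, hj⟩ := (Nat.dvd_prime_pow hp.out).mp h2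
    exact ⟨j, hj⟩
  obtain ⟨j, hj⟩ := hidx
  unfold Cfsg.pResidual
  rw [Subgroup.closure_le]
  intro g hg
  have hg' : Nat.Coprime (orderOf g) p := hg
  have h1 : g ^ N.index ∈ N := Subgroup.pow_index_mem N g
  have hcop : Nat.Coprime (orderOf g) (N.index) := by
    rw [hj]; exact Nat.Coprime.pow_right j hg'
  have h2 : g ^ (orderOf g) ∈ N := by rw [pow_orderOf_eq_one]; exact one_mem _
  exact mem_of_pow_mem_of_coprime' N g h2 h1 hcop

theorem exists_normal_sylow_of_isPClosed {N : Subgroup H} [hN : N.Normal]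
    (hcl : IsPClosed p ↥N) :
    ∃ Q : Subgroup H, Q.Normal ∧ IsPGroup p Q ∧ Q ≤ N ∧
      ∀ Y : Subgroup H, Y ≤ N → IsPGroup p Y → Y ≤ Q := by
  obtain P0 : Sylow p ↥N := default
  have hP0n : (P0 : Subgroup N).Normal := hcl P0
  have hchar : (P0 : Subgroup N).Characteristic := Sylow.characteristic_of_normal P0 hP0n
  have huniq := Sylow.unique_of_normal P0 hP0n
  refine ⟨(P0 : Subgroup N).map N.subtype, inferInstance, P0.2.map _, ?_, ?_⟩
  · rintro _ ⟨y, _, rfl⟩
    exact y.2
  · intro Y hYN hYp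
    have hYp' : IsPGroup p (Y.subgroupOf N) := hYp.comap_subtype
    obtain ⟨P1, hP1⟩ := hYp'.exists_le_sylow
    have : P1 = P0 := Subsingleton.elim _ _
    rw [this] at hP1
    intro y hy
    exact ⟨⟨y, hYN hy⟩, hP1 (Subgroup.mem_subgroupOf.mpr hy), rfl⟩

theorem le_pCore_of_le_isPClosed {N : Subgroup H} [hN : N.Normal] (hcl : IsPClosed p ↥N)
    {Y : Subgroup H} (hYN : Y ≤ N) (hYp : IsPGroup p Y) : Y ≤ pCore p H := by
  obtain ⟨Q, hQn, hQp, _, hQ⟩ := exists_normal_sylow_of_isPClosed hcl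
  exact (hQ Y hYN hYp).trans (Cfsg.Agent.Lib.Helper2.le_pCore hQn hQp)

theorem isPClosed_of_sylow_normal (T : Sylow p H) (hT : (T : Subgroup H).Normal) :
    IsPClosed p H := by
  intro P
  have := Sylow.unique_of_normal T hT
  rw [Subsingleton.elim P T]
  exact hT

theorem not_isPClosed_of_le {N : Subgroup H} [hN : N.Normal] (T : Sylow p H)
    (hTN : (T : Subgroup H) ≤ N) (hncl : ¬ IsPClosed p H) : ¬ IsPClosed p ↥N := by
  intro hcl
  apply hncl
  obtain ⟨Q, hQn, hQp, _, hQ⟩ := exists_normal_sylow_of_isPClosed hcl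
  have h1 : (T : Subgroup H) ≤ Q := hQ _ hTN T.2
  have h2 : Q = T := T.is_maximal' hQp h1
  exact isPClosed_of_sylow_normal T (h2 ▸ hQn)

end

end Cfsg.Agent.Lib.Helper3
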