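import Mathlib

set_option autoImplicit false

/-!
Helper library (helper3): commutators landing in a central subgroup are bimultiplicative.

* `commutator_mem_of_closure` : if `C ≤ Z(G)` and `⁅s,t⁆ ∈ C` for `s ∈ S`, `t ∈ T`, then
  `⁅x,y⁆ ∈ C` for `x ∈ closure S`, `y ∈ closure T`.
* `commutator_sup_le_of_central` : `⁅H₁ ⊔ H₂, H₁ ⊔ H₂⁆ ≤ C` for abelian `H₁`, `H₂` with `⁅H₁,H₂⁆ ≤ C ≤ Z(G)`.
-/

namespace Cfsg.Agent.Lib.Helper3

open scoped commutatorElement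

variable {G : Type*} [Group G]

theorem commutator_mul_right_of_central (C : Subgroup G) (hC : C ≤ Subgroup.center G) (x a b : G)
    (ha : ⁅x, a⁆ ∈ C) (hb : ⁅x, b⁆ ∈ C) : ⁅x, a * b⁆ ∈ C := by
  have hbz := Subgroup.mem_center_iff.mp (hC hb)
  have h : ⁅x, a * b⁆ = ⁅x, a⁆ * ⁅x, b⁆ := by
    have h1 : ⁅x, a * b⁆ = ⁅x, a⁆ * (a * ⁅x, b⁆ * a⁻¹) := by
      simp only [commutatorElement_def]; group
    rw [h1, hbz a]; group
  rw [h]; exact C.mul_mem ha hb

theorem commutator_inv_right_of_central (C : Subgroup G) (hC : C ≤ Subgroup.center G) (x a : G)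
    (ha : ⁅x, a⁆ ∈ C) : ⁅x, a⁻¹⁆ ∈ C := by
  have haz := Subgroup.mem_center_iff.mp (hC ha)
  have h : ⁅x, a⁻¹⁆ = (⁅x, a⁆)⁻¹ := by
    have h1 : ⁅x, a⁻¹⁆ = a⁻¹ * (⁅x, a⁆)⁻¹ * a := by
      simp only [commutatorElement_def]; group
    have h2 : a⁻¹ * (⁅x, a⁆)⁻¹ * a = (a⁻¹ * ⁅x, a⁆ * a)⁻¹ := by group
    have h3 : a⁻¹ * ⁅x, a⁆ * a = ⁅x, a⁆ := by rw [haz a⁻¹]; group
    rw [h1, h2, h3]
  rw [h]; exact C.inv_mem ha

theorem commutator_swap_mem (C : Subgroup G) (x y : G) (h : ⁅x, y⁆ ∈ C) : ⁅y, x⁆ ∈ C := by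
  have : ⁅y, x⁆ = (⁅x, y⁆)⁻¹ := by simp only [commutatorElement_def]; group
  rw [this]; exact C.inv_mem h

theorem commutator_mem_of_closure (C : Subgroup G) (hC : C ≤ Subgroup.center G) (S T : Set G)
    (h : ∀ s ∈ S, ∀ t ∈ T, ⁅s, t⁆ ∈ C) :
    ∀ x ∈ Subgroup.closure S, ∀ y ∈ Subgroup.closure T, ⁅x, y⁆ ∈ C := by
  have step1 : ∀ s ∈ S, ∀ y ∈ Subgroup.closure T, ⁅s, y⁆ ∈ C := by
    intro s hs y hy
    induction hy using Subgroup.closure_induction with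
    | mem t ht => exact h s hs t ht
    | one => simp
    | mul a b _ _ iha ihb => exact commutator_mul_right_of_central C hC s a b iha ihb
    | inv a _ iha => exact commutator_inv_right_of_central C hC s a iha
  intro x hx y hy
  apply commutator_swap_mem
  induction hx using Subgroup.closure_induction with
  | mem s hs => exact commutator_swap_mem C _ _ (step1 s hs y hy)
  | one => simp
  | mul a b _ _ iha ihb => exact commutator_mul_right_of_central C hC y a b iha ihb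
  | inv a _ iha => exact commutator_inv_right_of_central C hC y a iha

theorem commutator_sup_le_of_central (C H₁ H₂ : Subgroup G) (hC : C ≤ Subgroup.center G)
    (h1 : ∀ a ∈ H₁, ∀ b ∈ H₁, a * b = b * a) (h2 : ∀ a ∈ H₂, ∀ b ∈ H₂, a * b = b * a)
    (h12 : ∀ a ∈ H₁, ∀ b ∈ H₂, ⁅a, b⁆ ∈ C) : ⁅H₁ ⊔ H₂, H₁ ⊔ H₂⁆ ≤ C := by
  have hcl : H₁ ⊔ H₂ = Subgroup.closure ((H₁ : Set G) ∪ H₂) := by
    rw [Subgroup.closure_union, Subgroup.closure_eq, Subgroup.closure_eq]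
  rw [Subgroup.commutator_le, hcl]
  apply commutator_mem_of_closure C hC
  intro s hs t ht
  rcases hs with hs | hs
  · rcases ht with ht | ht
    · rw [commutatorElement_eq_one_iff_mul_comm.mpr (h1 s hs t ht)]; exact C.one_mem
    · exact h12 s hs t ht
  · rcases ht with ht | ht
    · exact commutator_swap_mem C _ _ (h12 t ht s hs)
    · rw [commutatorElement_eq_one_iff_mul_comm.mpr (h2 s hs t ht)]; exact C.one_mem

/-- If `C` normalizes `B` then every element of `B ⊔ C` is a product `b * c`. -/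
theorem mem_sup_of_normalizes (B C : Subgroup G)
    (h : ∀ c ∈ C, ∀ b ∈ B, c * b * c⁻¹ ∈ B) {x : G} (hx : x ∈ B ⊔ C) :
    ∃ b ∈ B, ∃ c ∈ C, b * c = x := by
  rw [Subgroup.sup_eq_closure] at hx
  induction hx using Subgroup.closure_induction with
  | mem x hx =>
    rcases hx with hx | hx
    · exact ⟨x, hx, 1, C.one_mem, by simp⟩
    · exact ⟨1, B.one_mem, x, hx, by simp⟩
  | one => exact ⟨1, B.one_mem, 1, C.one_mem, by simp⟩
  | mul x y _ _ ihx ihy =>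
    obtain ⟨b₁, hb₁, c₁, hc₁, rfl⟩ := ihx
    obtain ⟨b₂, hb₂, c₂, hc₂, rfl⟩ := ihy
    exact ⟨b₁ * (c₁ * b₂ * c₁⁻¹), B.mul_mem hb₁ (h c₁ hc₁ b₂ hb₂), c₁ * c₂, C.mul_mem hc₁ hc₂,
      by group⟩
  | inv x _ ihx =>
    obtain ⟨b, hb, c, hc, rfl⟩ := ihx
    exact ⟨c⁻¹ * b⁻¹ * c⁻¹⁻¹, h c⁻¹ (C.inv_mem hc) b⁻¹ (B.inv_mem hb), c⁻¹, C.inv_mem hc, by group⟩

/-- `y` normalizes `W` as soon as conjugation by `y` and by `y⁻¹` both map `W` into itself. -/
theorem mem_normalizer_of_conj_le (W : Subgroup G) (y : G)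
    (h1 : W ≤ W.comap (MulAut.conj y).toMonoidHom)
    (h2 : W ≤ W.comap (MulAut.conj y⁻¹).toMonoidHom) :
    y ∈ Subgroup.normalizer (W : Set G) := by
  rw [Subgroup.mem_normalizer_iff]
  intro x
  constructor
  · intro hx
    have := h1 hx
    simpa [Subgroup.mem_comap, MulAut.conj_apply] using this
  · intro hx
    have := h2 hx
    simpa [Subgroup.mem_comap, MulAut.conj_apply, mul_assoc] using this

end Cfsg.Agent.Lib.Helper3
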