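import Mathlib

set_option autoImplicit false

/-!
Helper library (helper3): an involutory automorphism `σ` of an "extraspecial-like" 2-group `P`
(centre `{1, z}`, commutators and squares in `{1, z}`), `σ z = z`, `σ ≠ 1`.

* `card_centralizer_mul_card_le` : `|C_P(U)| * |U| ≤ 2 * |P|` for every subgroup `U`.
* `closure_comm_eq_center` : `[P, σ] = Z(P₀)` where `P₀ = {q | σ q * q⁻¹ ∈ {1, z}}`.
-/

namespace Cfsg.Agent.Lib.Helper3

open scoped commutatorElement

section
variable {P : Type*} [Group P]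

theorem mem_center_map_subtype (K : Subgroup P) (x : P) :
    x ∈ (Subgroup.center ↥K).map K.subtype ↔ x ∈ K ∧ ∀ w ∈ K, w * x = x * w := by
  constructor
  · rintro ⟨y, hy, rfl⟩
    refine ⟨y.2, fun w hw => ?_⟩
    have := Subgroup.mem_center_iff.mp hy ⟨w, hw⟩
    exact congrArg Subtype.val this
  · rintro ⟨hx, h⟩
    refine ⟨⟨x, hx⟩, ?_, rfl⟩
    rw [SetLike.mem_coe, Subgroup.mem_center_iff]
    intro w
    exact Subtype.ext (h w.1 w.2)

theorem card_mul_relIndex_of_le [Finite P] {K L : Subgroup P} (h : K ≤ L) :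
    Nat.card K * K.relIndex L = Nat.card L := by
  have := Subgroup.relIndex_mul_relIndex (⊥ : Subgroup P) K L bot_le h
  rwa [Subgroup.relIndex_bot_left, Subgroup.relIndex_bot_left] at this

theorem mem_zpowers_iff_of_sq (z : P) (hz2 : z * z = 1) (c : P) :
    c ∈ Subgroup.zpowers z ↔ (c = 1 ∨ c = z) := by
  constructor
  · intro hc
    obtain ⟨k, rfl⟩ := Subgroup.mem_zpowers_iff.mp hc
    rcases Int.even_or_odd' k with ⟨m, rfl | rfl⟩
    · left; rw [zpow_mul, zpow_two, hz2, one_zpow]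
    · right; rw [zpow_add, zpow_mul, zpow_two, hz2, one_zpow, one_mul, zpow_one]
  · rintro (rfl | rfl)
    · exact Subgroup.one_mem _
    · exact Subgroup.mem_zpowers _

end

section core
variable {P : Type*} [Group P] [Finite P] (z : P)
  (hz2 : z * z = 1) (hzc : ∀ y : P, z * y = y * z)
  (hcomm : ∀ x y : P, ⁅x, y⁆ = 1 ∨ ⁅x, y⁆ = z)

include hz2 hzc hcomm

theorem esi_central (c : P) (hc : c = 1 ∨ c = z) (y : P) : c * y = y * c := by
  rcases hc with rfl | rfl
  · simp
  · exact hzc y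

theorem esi_comm_mul_left (a b x : P) : ⁅a * b, x⁆ = ⁅a, x⁆ * ⁅b, x⁆ := by
  rw [commutatorElement_mul_left_eq_conj_mul]
  have h1 := esi_central z hz2 hzc hcomm _ (hcomm b x) a
  have h2 := esi_central z hz2 hzc hcomm _ (hcomm b x) ⁅a, x⁆
  calc a * ⁅b, x⁆ * a⁻¹ * ⁅a, x⁆ = (⁅b, x⁆ * a) * a⁻¹ * ⁅a, x⁆ := by rw [h1]
    _ = ⁅b, x⁆ * ⁅a, x⁆ := by group
    _ = ⁅a, x⁆ * ⁅b, x⁆ := h2

theorem esi_comm_mul_right (x a b : P) : ⁅x, a * b⁆ = ⁅x, a⁆ * ⁅x, b⁆ := by
  rw [commutatorElement_mul_right_eq_mul_conj]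
  have h1 := esi_central z hz2 hzc hcomm _ (hcomm x b) a
  calc ⁅x, a⁆ * a * ⁅x, b⁆ * a⁻¹ = ⁅x, a⁆ * (a * ⁅x, b⁆) * a⁻¹ := by group
    _ = ⁅x, a⁆ * (⁅x, b⁆ * a) * a⁻¹ := by rw [h1]
    _ = ⁅x, a⁆ * ⁅x, b⁆ := by group

theorem esi_sq_one (c : P) (hc : c = 1 ∨ c = z) : c * c = 1 := by
  rcases hc with rfl | rfl
  · simp
  · exact hz2

/-- `y ↦ ⁅y, x⁆` as a homomorphism. -/
noncomputable def esiHom (x : P) : P →* P :=
  MonoidHom.mk' (fun y => ⁅y, x⁆) (fun a b => esi_comm_mul_left z hz2 hzc hcomm a b x)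

theorem esiHom_apply (x y : P) : esiHom z hz2 hzc hcomm x y = ⁅y, x⁆ := rfl

theorem esiHom_ker (x : P) :
    (esiHom z hz2 hzc hcomm x).ker = Subgroup.centralizer ({x} : Set P) := by
  ext y
  rw [MonoidHom.mem_ker, esiHom_apply, Subgroup.mem_centralizer_iff,
    commutatorElement_eq_one_iff_mul_comm]
  constructor
  · intro h w hw; rw [Set.mem_singleton_iff.mp hw]; exact h.symm
  · intro h; exact (h x rfl).symm

theorem esi_card_zpowers_le : Nat.card (Subgroup.zpowers z) ≤ 2 := by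
  rw [Nat.card_zpowers]
  exact Nat.le_of_dvd (by norm_num) (orderOf_dvd_of_pow_eq_one (by rw [pow_two]; exact hz2))

theorem esi_mem_zpowers (c : P) (hc : c = 1 ∨ c = z) : c ∈ Subgroup.zpowers z := by
  rcases hc with rfl | rfl
  · exact Subgroup.one_mem _
  · exact Subgroup.mem_zpowers _

theorem esi_card_le_two_mul (K : Subgroup P) (x : P) :
    Nat.card K ≤ 2 * Nat.card ↥(Subgroup.centralizer ({x} : Set P) ⊓ K) := by
  have h1 := card_mul_relIndex_of_le
    (inf_le_right : Subgroup.centralizer ({x} : Set P) ⊓ K ≤ K)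
  rw [Subgroup.inf_relIndex_right, ← esiHom_ker z hz2 hzc hcomm x, Subgroup.relIndex_ker] at h1
  have h2 : Nat.card ↥(K.map (esiHom z hz2 hzc hcomm x)) ≤ 2 := by
    have hle : K.map (esiHom z hz2 hzc hcomm x) ≤ Subgroup.zpowers z := by
      rintro _ ⟨y, -, rfl⟩
      rw [esiHom_apply]
      exact esi_mem_zpowers z hz2 hzc hcomm _ (hcomm y x)
    exact (Subgroup.card_le_of_le hle).trans (esi_card_zpowers_le z hz2 hzc hcomm)
  rw [esiHom_ker] at h1
  calc Nat.card K = Nat.card ↥(Subgroup.centralizer ({x} : Set P) ⊓ K) *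
        Nat.card ↥(K.map (esiHom z hz2 hzc hcomm x)) := h1.symm
    _ ≤ Nat.card ↥(Subgroup.centralizer ({x} : Set P) ⊓ K) * 2 := Nat.mul_le_mul_left _ h2
    _ = 2 * _ := mul_comm _ _

theorem card_centralizer_mul_card_le
    (hcen : ∀ x : P, (∀ y, x * y = y * x) → x = 1 ∨ x = z) (U : Subgroup P) :
    Nat.card ↥(Subgroup.centralizer (U : Set P)) * Nat.card U ≤ 2 * Nat.card P := by
  induction h : Nat.card P - Nat.card U using Nat.strong_induction_on generalizing U with
  | _ n ih =>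
    by_cases hU : U = ⊤
    · subst hU
      have hle : Subgroup.centralizer ((⊤ : Subgroup P) : Set P) ≤ Subgroup.zpowers z := by
        intro x hx
        apply esi_mem_zpowers z hz2 hzc hcomm
        apply hcen
        intro y
        exact (Subgroup.mem_centralizer_iff.mp hx y (Subgroup.mem_top y)).symm
      have h1 := (Subgroup.card_le_of_le hle).trans (esi_card_zpowers_le z hz2 hzc hcomm)
      rw [Subgroup.card_top]
      exact Nat.mul_le_mul_right _ h1
    · obtain ⟨x, hx⟩ : ∃ x, x ∉ U := by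
        by_contra hne; push_neg at hne
        exact hU (eq_top_iff.mpr fun y _ => hne y)
      have hlt : U < U ⊔ Subgroup.zpowers x := by
        apply lt_of_le_of_ne le_sup_left
        intro heq
        apply hx
        have : x ∈ U ⊔ Subgroup.zpowers x := Subgroup.mem_sup_right (Subgroup.mem_zpowers x)
        rwa [← heq] at this
      have hcardlt : Nat.card U < Nat.card ↥(U ⊔ Subgroup.zpowers x) := by
        by_contra hnot
        push_neg at hnot
        exact hlt.ne (Subgroup.eq_of_le_of_card_ge hlt.le hnot)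
      have hdvd : Nat.card U ∣ Nat.card ↥(U ⊔ Subgroup.zpowers x) :=
        Subgroup.card_dvd_of_le hlt.le
      have h2U : 2 * Nat.card U ≤ Nat.card ↥(U ⊔ Subgroup.zpowers x) := by
        obtain ⟨k, hk⟩ := hdvd
        have hUpos : 0 < Nat.card U := Nat.card_pos
        rw [hk] at hcardlt ⊢
        have : 2 ≤ k := by
          by_contra hk2
          push_neg at hk2
          interval_cases k <;> omega
        calc 2 * Nat.card U = Nat.card U * 2 := mul_comm _ _
          _ ≤ Nat.card U * k := Nat.mul_le_mul_left _ this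
      have hle_card : Nat.card ↥(U ⊔ Subgroup.zpowers x) ≤ Nat.card P := Subgroup.card_le_card_group _
      have ih' := ih (Nat.card P - Nat.card ↥(U ⊔ Subgroup.zpowers x)) (by omega)
        (U ⊔ Subgroup.zpowers x) rfl
      have hcle : Subgroup.centralizer ({x} : Set P) ⊓ Subgroup.centralizer (U : Set P) ≤
          Subgroup.centralizer ((U ⊔ Subgroup.zpowers x : Subgroup P) : Set P) := by
        intro c hc
        rw [← Subgroup.zpowers_le, Subgroup.le_centralizer_iff]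
        apply sup_le
        · exact Subgroup.le_centralizer_iff.mp (Subgroup.zpowers_le.mpr hc.2)
        · rw [Subgroup.zpowers_le, Subgroup.mem_centralizer_iff]
          intro w hw
          obtain ⟨k, rfl⟩ := Subgroup.mem_zpowers_iff.mp hw
          have hcx : x * c = c * x := Subgroup.mem_centralizer_iff.mp hc.1 x rfl
          exact ((show Commute c x from hcx.symm).zpow_left k).eq
      have h3 := esi_card_le_two_mul z hz2 hzc hcomm (Subgroup.centralizer (U : Set P)) x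
      have h4 := Subgroup.card_le_of_le hcle
      calc Nat.card ↥(Subgroup.centralizer (U : Set P)) * Nat.card U
          ≤ (2 * Nat.card ↥(Subgroup.centralizer ({x} : Set P) ⊓
              Subgroup.centralizer (U : Set P))) * Nat.card U := Nat.mul_le_mul_right _ h3
        _ = Nat.card ↥(Subgroup.centralizer ({x} : Set P) ⊓
              Subgroup.centralizer (U : Set P)) * (2 * Nat.card U) := by ring
        _ ≤ Nat.card ↥(Subgroup.centralizer ((U ⊔ Subgroup.zpowers x : Subgroup P) : Set P)) *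
              Nat.card ↥(U ⊔ Subgroup.zpowers x) := Nat.mul_le_mul h4 h2U
        _ ≤ 2 * Nat.card P := ih'

end core

section main
variable {P : Type*} [Group P] [Finite P] (z : P)
  (hz2 : z * z = 1) (hz1 : z ≠ 1) (hzc : ∀ y : P, z * y = y * z)
  (hcomm : ∀ x y : P, ⁅x, y⁆ = 1 ∨ ⁅x, y⁆ = z)
  (hsq : ∀ x : P, x * x = 1 ∨ x * x = z)
  (hcen : ∀ x : P, (∀ y, x * y = y * x) → x = 1 ∨ x = z)
  (σ : P →* P) (hσ2 : ∀ x, σ (σ x) = x) (hσz : σ z = z) (hσnc : ∃ q, σ q ≠ q)
  (P₀ : Subgroup P) (hP₀ : ∀ q, q ∈ P₀ ↔ (σ q * q⁻¹ = 1 ∨ σ q * q⁻¹ = z))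

include hz2 hz1 hzc hcomm hsq hcen hσ2 hσz hσnc hP₀

theorem closure_comm_eq_center :
    Subgroup.closure (Set.range fun q : P => σ q * q⁻¹) =
      (Subgroup.center ↥P₀).map P₀.subtype := by
  classical
  have hZinv : ∀ c : P, (c = 1 ∨ c = z) → (c⁻¹ = 1 ∨ c⁻¹ = z) := by
    intro c hc; rcases hc with rfl | rfl
    · left; simp
    · right; exact inv_eq_of_mul_eq_one_right hz2
  have hσZ : ∀ c : P, (c = 1 ∨ c = z) → σ c = c := by
    intro c hc; rcases hc with rfl | rfl
    · exact map_one σ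
    · exact hσz
  have hbl := esi_comm_mul_left z hz2 hzc hcomm
  have hbr := esi_comm_mul_right z hz2 hzc hcomm
  have hcent := esi_central z hz2 hzc hcomm
  have hfmul : ∀ a b : P, σ (a * b) * (a * b)⁻¹ =
      (σ a * a⁻¹) * (a * (σ b * b⁻¹) * a⁻¹) := by
    intro a b; rw [map_mul]; group
  have hσf : ∀ q : P, σ (σ q * q⁻¹) = (σ q * q⁻¹)⁻¹ := by
    intro q; rw [map_mul, hσ2, map_inv]; group
  have hfP₀ : ∀ q : P, σ q * q⁻¹ ∈ P₀ := by
    intro q
    rw [hP₀, hσf]
    have := hZinv _ (hsq (σ q * q⁻¹))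
    rwa [mul_inv_rev] at this
  have hcomm_inv_left : ∀ a x : P, ⁅a⁻¹, x⁆ = ⁅a, x⁆ := by
    intro a x
    have h1 : ⁅a * a⁻¹, x⁆ = ⁅a, x⁆ * ⁅a⁻¹, x⁆ := hbl a a⁻¹ x
    rw [mul_inv_cancel, commutatorElement_one_left] at h1
    have h2 := esi_sq_one z hz2 hzc hcomm _ (hcomm a x)
    exact mul_left_cancel (h1.symm.trans h2.symm)
  have hS6 : ∀ q x : P, x ∈ P₀ → ⁅σ q * q⁻¹, x⁆ = 1 := by
    intro q x hx
    have hζ := (hP₀ x).mp hx
    have hσx : σ x = (σ x * x⁻¹) * x := by group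
    have h1 : ⁅σ q, σ x⁆ = ⁅q, x⁆ := by
      rw [← map_commutatorElement]; exact hσZ _ (hcomm q x)
    have h2 : ⁅σ q, σ x⁆ = ⁅σ q, x⁆ := by
      have h0 : ⁅σ q, σ x * x⁻¹⁆ = 1 := by
        rw [commutatorElement_eq_one_iff_mul_comm]
        exact (hcent _ hζ (σ q)).symm
      calc ⁅σ q, σ x⁆ = ⁅σ q, (σ x * x⁻¹) * x⁆ := by rw [← hσx]
        _ = ⁅σ q, σ x * x⁻¹⁆ * ⁅σ q, x⁆ := hbr _ _ _
        _ = ⁅σ q, x⁆ := by rw [h0, one_mul]
    have h3 : ⁅σ q, x⁆ = ⁅q, x⁆ := h2.symm.trans h1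
    rw [hbl, hcomm_inv_left, h3]
    exact esi_sq_one z hz2 hzc hcomm _ (hcomm q x)
  set R := Subgroup.closure (Set.range fun q : P => σ q * q⁻¹) with hR
  have hRP₀ : R ≤ P₀ := (Subgroup.closure_le _).mpr (by rintro _ ⟨q, rfl⟩; exact hfP₀ q)
  have hRcen : R ≤ Subgroup.centralizer (P₀ : Set P) := by
    apply (Subgroup.closure_le _).mpr
    rintro _ ⟨q, rfl⟩
    rw [SetLike.mem_coe, Subgroup.mem_centralizer_iff]
    intro x hx
    exact (commutatorElement_eq_one_iff_mul_comm.mp (hS6 q x hx)).symm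
  have hRn : ∀ x r : P, r ∈ R → x * r * x⁻¹ ∈ R := by
    intro x r hr
    have hle : R ≤ R.comap (MulAut.conj x).toMonoidHom := by
      apply (Subgroup.closure_le _).mpr
      rintro _ ⟨q, rfl⟩
      rw [SetLike.mem_coe, Subgroup.mem_comap]
      show x * (σ q * q⁻¹) * x⁻¹ ∈ R
      have h1 := hfmul x q
      have h2 : x * (σ q * q⁻¹) * x⁻¹ = (σ x * x⁻¹)⁻¹ * (σ (x * q) * (x * q)⁻¹) := by
        rw [h1]; group
      rw [h2]
      exact R.mul_mem (R.inv_mem (Subgroup.subset_closure ⟨x, rfl⟩))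
        (Subgroup.subset_closure ⟨x * q, rfl⟩)
    exact hle hr
  have hzR : z ∈ R := by
    by_contra hzR
    have hRtriv : ∀ r ∈ R, r = 1 := by
      intro r hr
      have hrc : ∀ y, r * y = y * r := by
        intro y
        have h1 : ⁅r, y⁆ ∈ R := by
          have : ⁅r, y⁆ = r * (y * r⁻¹ * y⁻¹) := by rw [commutatorElement_def]; group
          rw [this]; exact R.mul_mem hr (hRn y r⁻¹ (R.inv_mem hr))
        rcases hcomm r y with h | h
        · exact commutatorElement_eq_one_iff_mul_comm.mp h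
        · rw [h] at h1; exact absurd h1 hzR
      rcases hcen r hrc with h | h
      · exact h
      · rw [h] at hr; exact absurd hr hzR
    obtain ⟨q, hq⟩ := hσnc
    apply hq
    have := hRtriv _ (Subgroup.subset_closure ⟨q, rfl⟩)
    exact mul_inv_eq_one.mp this
  have hZmem : ∀ c : P, c ∈ Subgroup.zpowers z ↔ (c = 1 ∨ c = z) := by
    intro c
    constructor
    · intro hc
      obtain ⟨k, rfl⟩ := Subgroup.mem_zpowers_iff.mp hc
      rcases Int.even_or_odd' k with ⟨m, rfl | rfl⟩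
      · left; rw [zpow_mul, zpow_two, hz2, one_zpow]
      · right; rw [zpow_add, zpow_mul, zpow_two, hz2, one_zpow, one_mul, zpow_one]
    · exact esi_mem_zpowers z hz2 hzc hcomm c
  haveI hZn : (Subgroup.zpowers z).Normal := by
    constructor
    intro n hn g
    have hn' := (hZmem n).mp hn
    have : g * n * g⁻¹ = n := by rw [← hcent n hn' g]; group
    rw [this]; exact hn
  have hcardZ : Nat.card (Subgroup.zpowers z) = 2 := by
    rw [Nat.card_zpowers]
    exact orderOf_eq_prime (by rw [pow_two]; exact hz2) hz1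
  let Ψ : P →* P ⧸ Subgroup.zpowers z := MonoidHom.mk'
    (fun q => (QuotientGroup.mk (σ q * q⁻¹) : P ⧸ Subgroup.zpowers z)) (by
    intro a b
    show (QuotientGroup.mk (σ (a * b) * (a * b)⁻¹) : P ⧸ Subgroup.zpowers z) =
      QuotientGroup.mk (σ a * a⁻¹) * QuotientGroup.mk (σ b * b⁻¹)
    rw [← QuotientGroup.mk_mul, QuotientGroup.eq, hZmem]
    have : (σ (a * b) * (a * b)⁻¹)⁻¹ * (σ a * a⁻¹ * (σ b * b⁻¹)) =
        ⁅a, (σ b * b⁻¹)⁻¹⁆ := by
      rw [hfmul, commutatorElement_def]; group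
    rw [this]; exact hcomm _ _)
  have hΨker : Ψ.ker = P₀ := by
    ext q
    rw [MonoidHom.mem_ker]
    show (QuotientGroup.mk (σ q * q⁻¹) : P ⧸ Subgroup.zpowers z) = 1 ↔ _
    rw [QuotientGroup.eq_one_iff, hZmem, hP₀]
  have hΨrange : Ψ.range ≤ R.map (QuotientGroup.mk' (Subgroup.zpowers z)) := by
    rintro _ ⟨q, rfl⟩
    exact ⟨σ q * q⁻¹, Subgroup.subset_closure ⟨q, rfl⟩, rfl⟩
  have hcard1 : Nat.card P = Nat.card P₀ * Nat.card Ψ.range := by
    rw [← hΨker, ← Subgroup.index_ker]; exact (Subgroup.card_mul_index _).symm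
  have hZR : Subgroup.zpowers z ≤ R := Subgroup.zpowers_le.mpr hzR
  have hcard2 : 2 * Nat.card ↥(R.map (QuotientGroup.mk' (Subgroup.zpowers z))) =
      Nat.card R := by
    rw [← Subgroup.relIndex_ker, QuotientGroup.ker_mk', ← hcardZ]
    exact card_mul_relIndex_of_le hZR
  have hA1 : 2 * Nat.card P ≤ Nat.card P₀ * Nat.card R := by
    rw [hcard1, ← hcard2]
    have := Subgroup.card_le_of_le hΨrange
    calc 2 * (Nat.card P₀ * Nat.card Ψ.range)
        = Nat.card P₀ * (2 * Nat.card Ψ.range) := by ring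
      _ ≤ Nat.card P₀ * (2 * Nat.card ↥(R.map (QuotientGroup.mk' (Subgroup.zpowers z)))) :=
          Nat.mul_le_mul_left _ (Nat.mul_le_mul_left _ this)
  have hA2 := card_centralizer_mul_card_le z hz2 hzc hcomm hcen P₀
  have hP₀pos : 0 < Nat.card P₀ := Nat.card_pos
  have hcle : Nat.card ↥(Subgroup.centralizer (P₀ : Set P)) ≤ Nat.card R := by
    have : Nat.card ↥(Subgroup.centralizer (P₀ : Set P)) * Nat.card P₀ ≤
        Nat.card R * Nat.card P₀ := by
      calc _ ≤ 2 * Nat.card P := hA2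
        _ ≤ Nat.card P₀ * Nat.card R := hA1
        _ = Nat.card R * Nat.card P₀ := mul_comm _ _
    exact Nat.le_of_mul_le_mul_right this hP₀pos
  have hReq : R = Subgroup.centralizer (P₀ : Set P) :=
    Subgroup.eq_of_le_of_card_ge hRcen hcle
  ext x
  rw [mem_center_map_subtype]
  constructor
  · intro hx
    exact ⟨hRP₀ hx, fun w hw => Subgroup.mem_centralizer_iff.mp (hRcen hx) w hw⟩
  · rintro ⟨hx, hxc⟩
    rw [hReq, Subgroup.mem_centralizer_iff]
    exact hxc

end main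

end Cfsg.Agent.Lib.Helper3
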