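import Mathlib
import Cfsg.Prelude.Def_Sporadic_a
import Cfsg.Agent.S0390

set_option autoImplicit false

/-!
Helper library (helper3): `leechLattice` has carrier `leechSet` (from helper8's S0390), and the
action of `M24` on supports of the code.
-/

namespace Cfsg.Agent.Lib.Helper3

open Cfsg
open scoped Pointwise

theorem mem_leechLattice_iff (x : GolayPt → ℤ) : x ∈ leechLattice ↔ x ∈ leechSet := by
  obtain ⟨L, hL⟩ := Cfsg.Agent.S0390.result
  have : leechLattice = L := by
    unfold leechLattice
    rw [← hL]
    exact AddSubgroup.closure_eq L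
  rw [this, ← hL]
  rfl

theorem M24_smul_mem {σ : Equiv.Perm GolayPt} (hσ : σ ∈ M24) {b : Finset GolayPt}
    (hb : b ∈ supports (golayCode : Set (GolayPt → ZMod 2))) :
    σ • b ∈ supports (golayCode : Set (GolayPt → ZMod 2)) := by
  have h : σ • supports (golayCode : Set (GolayPt → ZMod 2)) =
      supports (golayCode : Set (GolayPt → ZMod 2)) := hσ
  have := Set.smul_mem_smul_set (a := σ) hb
  rwa [h] at this

end Cfsg.Agent.Lib.Helper3
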