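import Mathlib
import Cfsg.Prelude.Def_Sporadic_a
import Cfsg.Agent.S0432
import Cfsg.Agent.Lib.Helper3.Leech
import Cfsg.Agent.Lib.Helper21.GolayTrans5
import Cfsg.Agent.Lib.Helper21.GolayMem

set_option autoImplicit false

/-!
Helper library (helper3): coordinate permutations from `M24` as elements of `Co0`, the lattice
vectors `8 e_j`, negation in `Co0`, and 2-transitivity of `M24` in a convenient form.
-/

namespace Cfsg.Agent.Lib.Helper3

open Cfsg

/-- The coordinate permutation `v ↦ v ∘ σ` of the Leech lattice, for `σ ∈ M24`. -/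
def permL (σ : Equiv.Perm GolayPt) (hσ : σ ∈ M24) : Equiv.Perm leechLattice where
  toFun v := ⟨fun i => v.1 (σ i), Cfsg.Agent.S0432.result σ hσ v.1 v.2⟩
  invFun v := ⟨fun i => v.1 (σ⁻¹ i), Cfsg.Agent.S0432.result σ⁻¹ (inv_mem hσ) v.1 v.2⟩
  left_inv v := by
    apply Subtype.ext; funext i; simp
  right_inv v := by
    apply Subtype.ext; funext i; simp

theorem permL_apply (σ : Equiv.Perm GolayPt) (hσ : σ ∈ M24) (v : leechLattice) (i : GolayPt) :
    (permL σ hσ v).1 i = v.1 (σ i) := rfl

theorem permL_mem (σ : Equiv.Perm GolayPt) (hσ : σ ∈ M24) : permL σ hσ ∈ Co0 := by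
  refine ⟨fun v w => ?_, fun v => ?_⟩
  · apply Subtype.ext; funext i; rfl
  · show sqNorm (fun i => v.1 (σ i)) = sqNorm v.1
    unfold sqNorm
    exact Equiv.sum_comp σ (fun i => v.1 i ^ 2)

theorem e8_mem (j : GolayPt) : (fun i : GolayPt => if i = j then (8 : ℤ) else 0) ∈ leechLattice := by
  rw [mem_leechLattice_iff]
  refine ⟨0, fun i => ?_, ?_, fun k => ?_⟩
  · dsimp only
    split_ifs
    · decide
    · decide
  · rw [Finset.sum_ite_eq' Finset.univ j (fun _ => (8 : ℤ))]
    simp only [Finset.mem_univ, if_true]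
    decide
  · by_cases hk : (0 : ℤ) ≡ k [ZMOD 4]
    · refine ⟨1, Cfsg.Agent.Lib.Helper21.one_mem_golay, ?_⟩
      ext i
      simp only [support₂, Finset.mem_filter, Finset.mem_univ, true_and, Pi.one_apply]
      constructor
      · intro _
        split_ifs
        · exact (show (8 : ℤ) ≡ 0 [ZMOD 4] by decide).trans hk
        · exact hk
      · intro _
        decide
    · refine ⟨0, golayCode.zero_mem, ?_⟩
      ext i
      simp only [support₂, Finset.mem_filter, Finset.mem_univ, true_and, Pi.zero_apply, ne_eq,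
        not_true_eq_false, false_iff]
      intro h
      apply hk
      split_ifs at h
      · exact (show (0 : ℤ) ≡ 8 [ZMOD 4] by decide).trans h
      · exact h

/-- The lattice vector `8 e_j`. -/
def e8 (j : GolayPt) : leechLattice := ⟨fun i => if i = j then (8 : ℤ) else 0, e8_mem j⟩

theorem e8_apply (j i : GolayPt) : (e8 j).1 i = if i = j then (8 : ℤ) else 0 := rfl

theorem permL_e8 (σ : Equiv.Perm GolayPt) (hσ : σ ∈ M24) (j : GolayPt) :
    permL σ hσ (e8 (σ j)) = e8 j := by
  apply Subtype.ext; funext i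
  show (e8 (σ j)).1 (σ i) = (e8 j).1 i
  rw [e8_apply, e8_apply]
  by_cases h : i = j
  · rw [if_pos h, if_pos (by rw [h])]
  · rw [if_neg h, if_neg (fun h' => h (σ.injective h'))]

theorem neg_mem_Co0 : Equiv.neg leechLattice ∈ Co0 := by
  refine ⟨fun v w => ?_, fun v => ?_⟩
  · simp only [Equiv.neg_apply]; abel
  · simp only [Equiv.neg_apply]
    unfold sqNorm
    apply Finset.sum_congr rfl
    intro i _
    simp

/-- The additive homomorphism underlying an element of `Co0`. -/
def co0Hom (g : Equiv.Perm leechLattice) (hg : g ∈ Co0) : leechLattice →+ leechLattice :=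
  AddMonoidHom.mk' g hg.1

theorem co0Hom_apply (g : Equiv.Perm leechLattice) (hg : g ∈ Co0) (v : leechLattice) :
    co0Hom g hg v = g v := rfl

/-- Coordinate evaluation on the lattice as an additive homomorphism. -/
def coordHom (i : GolayPt) : leechLattice →+ ℤ :=
  (Pi.evalAddMonoidHom (fun _ : GolayPt => ℤ) i).comp leechLattice.subtype

theorem coordHom_apply (i : GolayPt) (v : leechLattice) : coordHom i v = v.1 i := rfl

theorem eight_smul_eq_sum (v : leechLattice) :
    (8 : ℤ) • v = ∑ j, (v.1 j) • e8 j := by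
  apply Subtype.ext; funext i
  show coordHom i ((8 : ℤ) • v) = coordHom i (∑ j, (v.1 j) • e8 j)
  rw [map_zsmul, map_sum]
  simp only [map_zsmul, coordHom_apply, e8_apply, smul_eq_mul]
  rw [Finset.sum_eq_single i]
  · simp; ring
  · intro j _ hj
    rw [if_neg (Ne.symm hj)]; ring
  · intro h; exact absurd (Finset.mem_univ i) h

theorem M24_two_trans {i j i' j' : GolayPt} (h : j ≠ i) (h' : j' ≠ i') :
    ∃ σ ∈ M24, σ j = j' ∧ σ i = i' := by
  have H := Cfsg.Agent.Lib.Helper21.M24_pretransitive_of_le (n := 2) (by norm_num)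
  rw [MulAction.isMultiplyPretransitive_iff] at H
  let x : Fin 2 ↪ GolayPt := ⟨![j, i], by
    intro a b hab
    fin_cases a <;> fin_cases b <;> simp_all⟩
  let y : Fin 2 ↪ GolayPt := ⟨![j', i'], by
    intro a b hab
    fin_cases a <;> fin_cases b <;> simp_all⟩
  obtain ⟨g, hg⟩ := H x y
  refine ⟨g.1, g.2, ?_, ?_⟩
  · have := congrArg (fun e : Fin 2 ↪ GolayPt => e 0) hg
    exact this
  · have := congrArg (fun e : Fin 2 ↪ GolayPt => e 1) hg
    exact this

theorem M24_trans (j j' : GolayPt) : ∃ σ ∈ M24, σ j = j' := by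
  obtain ⟨g, hg⟩ := MulAction.exists_smul_eq M24 j j'
  exact ⟨g.1, g.2, hg⟩

end Cfsg.Agent.Lib.Helper3
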