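import Mathlib
import Cfsg.Prelude.Def_Sporadic_a

set_option autoImplicit false

/-!
Helper library (helper3): the binary code `golayCode` is self-orthogonal and doubly even.

Main results:
* `golay_dot_zero`   : `a ∈ golayCode → b ∈ golayCode → a ⬝ᵥ b = 0`
* `golay_inter_even` : the supports of two codewords meet in an even number of points
* `golay_card_dvd`   : `a ∈ golayCode → 4 ∣ (support₂ a).card`
* `supports_inter_even`, `supports_card_dvd` : the same for members of `supports golayCode`
* `supports_symmDiff` : `supports golayCode` is closed under symmetric difference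
-/

namespace Cfsg.Agent.Lib.Helper3

open Cfsg

set_option maxRecDepth 100000 in
theorem qr_dot_qr : ∀ s t : ZMod 23, ∑ i, qrWord s i * qrWord t i = 0 := by decide

set_option maxRecDepth 100000 in
theorem qr_dot_one : ∀ s : ZMod 23, ∑ i, qrWord s i * (1 : GolayPt → ZMod 2) i = 0 := by decide

set_option maxRecDepth 100000 in
theorem qr_card : ∀ s : ZMod 23, (support₂ (qrWord s)).card = 12 := by decide

set_option maxRecDepth 100000 in
theorem one_card : (support₂ (1 : GolayPt → ZMod 2)).card = 24 := by decide

set_option maxRecDepth 100000 in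
theorem one_dot_one : ∑ i, (1 : GolayPt → ZMod 2) i * (1 : GolayPt → ZMod 2) i = 0 := by decide

theorem gen_dot_gen {a b : GolayPt → ZMod 2} (ha : a ∈ Set.range qrWord ∪ {1})
    (hb : b ∈ Set.range qrWord ∪ {1}) : a ⬝ᵥ b = 0 := by
  unfold dotProduct
  rcases ha with ⟨s, rfl⟩ | ha
  · rcases hb with ⟨t, rfl⟩ | hb
    · exact qr_dot_qr s t
    · rw [Set.mem_singleton_iff] at hb; subst hb
      exact qr_dot_one s
  · rw [Set.mem_singleton_iff] at ha; subst ha
    rcases hb with ⟨t, rfl⟩ | hb
    · have := qr_dot_one t
      simp only [mul_comm] at this ⊢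
      exact this
    · rw [Set.mem_singleton_iff] at hb; subst hb
      exact one_dot_one

theorem golay_dot_zero {a b : GolayPt → ZMod 2} (ha : a ∈ golayCode) (hb : b ∈ golayCode) :
    a ⬝ᵥ b = 0 := by
  unfold golayCode at ha hb
  induction ha using Submodule.span_induction with
  | mem a ha =>
    induction hb using Submodule.span_induction with
    | mem b hb => exact gen_dot_gen ha hb
    | zero => exact dotProduct_zero a
    | add x y _ _ hx hy => rw [dotProduct_add, hx, hy, add_zero]
    | smul c x _ hx => rw [dotProduct_smul, hx, smul_zero]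
  | zero => exact zero_dotProduct b
  | add x y _ _ hx hy => rw [add_dotProduct, hx, hy, add_zero]
  | smul c x _ hx => rw [smul_dotProduct, hx, smul_zero]

theorem zmod2_eq_one_of_ne_zero {a : ZMod 2} (h : a ≠ 0) : a = 1 := by
  revert a; decide

theorem dot_eq_card_inter (a b : GolayPt → ZMod 2) :
    a ⬝ᵥ b = ((support₂ a ∩ support₂ b).card : ZMod 2) := by
  unfold dotProduct
  have : ∀ i, a i * b i = if i ∈ support₂ a ∩ support₂ b then 1 else 0 := by
    intro i
    simp only [support₂, Finset.mem_inter, Finset.mem_filter, Finset.mem_univ, true_and]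
    by_cases h1 : a i = 0
    · simp [h1]
    · by_cases h2 : b i = 0
      · simp [h2]
      · rw [zmod2_eq_one_of_ne_zero h1, zmod2_eq_one_of_ne_zero h2]
        simp
  simp_rw [this]
  rw [Finset.sum_boole]
  congr 2
  ext i
  simp

theorem golay_inter_even {a b : GolayPt → ZMod 2} (ha : a ∈ golayCode) (hb : b ∈ golayCode) :
    2 ∣ (support₂ a ∩ support₂ b).card := by
  have := golay_dot_zero ha hb
  rw [dot_eq_card_inter] at this
  exact (ZMod.natCast_eq_zero_iff _ 2).mp this

theorem support₂_add (a b : GolayPt → ZMod 2) :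
    support₂ (a + b) = (support₂ a \ support₂ b) ∪ (support₂ b \ support₂ a) := by
  ext i
  simp only [support₂, Finset.mem_union, Finset.mem_sdiff, Finset.mem_filter, Finset.mem_univ,
    true_and, Pi.add_apply, not_not]
  have h : ∀ x y : ZMod 2, x + y ≠ 0 ↔ (x ≠ 0 ∧ y = 0) ∨ (y ≠ 0 ∧ x = 0) := by decide
  exact h (a i) (b i)

theorem card_support₂_add (a b : GolayPt → ZMod 2) :
    (support₂ (a + b)).card + 2 * (support₂ a ∩ support₂ b).card =
      (support₂ a).card + (support₂ b).card := by
  rw [support₂_add, Finset.card_union_of_disjoint]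
  · have h1 := Finset.card_sdiff_add_card_inter (support₂ a) (support₂ b)
    have h2 := Finset.card_sdiff_add_card_inter (support₂ b) (support₂ a)
    rw [Finset.inter_comm (support₂ b)] at h2
    omega
  · rw [Finset.disjoint_left]
    intro i h1 h2
    rw [Finset.mem_sdiff] at h1 h2
    exact h1.2 h2.1

theorem golay_card_dvd {a : GolayPt → ZMod 2} (ha : a ∈ golayCode) : 4 ∣ (support₂ a).card := by
  have key : ∀ a (ha : a ∈ Submodule.span (ZMod 2) (Set.range qrWord ∪ {1})),
      4 ∣ (support₂ a).card := by
    intro a ha
    induction ha using Submodule.span_induction with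
    | mem a ha =>
      rcases ha with ⟨s, rfl⟩ | ha
      · rw [qr_card]; norm_num
      · rw [Set.mem_singleton_iff] at ha; subst ha
        rw [one_card]; norm_num
    | zero =>
      have : support₂ (0 : GolayPt → ZMod 2) = ∅ := by
        ext i; simp [support₂]
      rw [this]; simp
    | add x y hx hy ihx ihy =>
      have h1 := card_support₂_add x y
      have h2 : 2 ∣ (support₂ x ∩ support₂ y).card := golay_inter_even hx hy
      omega
    | smul c x hx ih =>
      have hc : c = 0 ∨ c = 1 := by revert c; decide
      rcases hc with rfl | rfl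
      · rw [zero_smul]
        have : support₂ (0 : GolayPt → ZMod 2) = ∅ := by
          ext i; simp [support₂]
        rw [this]; simp
      · rw [one_smul]; exact ih
  exact key a ha

theorem supports_inter_even {A B : Finset GolayPt}
    (hA : A ∈ supports (golayCode : Set (GolayPt → ZMod 2)))
    (hB : B ∈ supports (golayCode : Set (GolayPt → ZMod 2))) : 2 ∣ (A ∩ B).card := by
  obtain ⟨a, ha, rfl⟩ := hA
  obtain ⟨b, hb, rfl⟩ := hB
  exact golay_inter_even ha hb

theorem supports_card_dvd {A : Finset GolayPt}
    (hA : A ∈ supports (golayCode : Set (GolayPt → ZMod 2))) : 4 ∣ A.card := by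
  obtain ⟨a, ha, rfl⟩ := hA
  exact golay_card_dvd ha

theorem supports_symmDiff {A B : Finset GolayPt}
    (hA : A ∈ supports (golayCode : Set (GolayPt → ZMod 2)))
    (hB : B ∈ supports (golayCode : Set (GolayPt → ZMod 2))) :
    (A \ B) ∪ (B \ A) ∈ supports (golayCode : Set (GolayPt → ZMod 2)) := by
  obtain ⟨a, ha, rfl⟩ := hA
  obtain ⟨b, hb, rfl⟩ := hB
  exact ⟨a + b, Submodule.add_mem _ ha hb, support₂_add a b⟩

end Cfsg.Agent.Lib.Helper3
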