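import Mathlib
import Cfsg.Prelude.Def_Sporadic_a
import Cfsg.Agent.S0392
import Cfsg.Agent.Lib.Helper3.Leech
import Cfsg.Agent.Lib.Helper3.Golay
import Cfsg.Agent.Lib.Helper3.Co0Perm
import Cfsg.Agent.Lib.Helper21.GolayMem

set_option autoImplicit false

/-!
Helper library (helper3): sign changes on the supports of Golay codewords as elements of `Co0`.
-/

namespace Cfsg.Agent.Lib.Helper3

open Cfsg

theorem univ_mem_supports : (Finset.univ : Finset GolayPt) ∈ supports (golayCode : Set (GolayPt → ZMod 2)) := by
  refine ⟨1, Cfsg.Agent.Lib.Helper21.one_mem_golay, ?_⟩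
  ext i
  simp only [support₂, Finset.mem_filter, Finset.mem_univ, true_and, Pi.one_apply, iff_true]
  decide

theorem empty_mem_supports : (∅ : Finset GolayPt) ∈ supports (golayCode : Set (GolayPt → ZMod 2)) := by
  refine ⟨0, golayCode.zero_mem, ?_⟩
  ext i
  simp [support₂]

theorem compl_mem_supports {C : Finset GolayPt}
    (hC : C ∈ supports (golayCode : Set (GolayPt → ZMod 2))) :
    Cᶜ ∈ supports (golayCode : Set (GolayPt → ZMod 2)) := by
  have := supports_symmDiff univ_mem_supports hC
  convert this using 1
  ext i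
  simp

/-- The vector `2` on `C`, `0` elsewhere. -/
def twoC (C : Finset GolayPt) : GolayPt → ℤ := fun i => if i ∈ C then 2 else 0

theorem twoC_mem {C : Finset GolayPt} (hC : C ∈ supports (golayCode : Set (GolayPt → ZMod 2))) :
    twoC C ∈ leechLattice := by
  classical
  rw [mem_leechLattice_iff]
  refine ⟨0, fun i => ?_, ?_, fun k => ?_⟩
  · unfold twoC Int.ModEq; split_ifs <;> decide
  · have h1 : ∑ i, twoC C i = 2 * (C.card : ℤ) := by
      unfold twoC
      rw [Finset.sum_ite_mem, Finset.univ_inter, Finset.sum_const, nsmul_eq_mul]; ring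
    rw [h1]
    obtain ⟨t, ht⟩ := supports_card_dvd hC
    rw [ht]
    unfold Int.ModEq
    push_cast
    omega
  · obtain ⟨r, hr, hkr⟩ : ∃ r : ℤ, (r = 0 ∨ r = 1 ∨ r = 2 ∨ r = 3) ∧ k % 4 = r :=
      ⟨k % 4, by omega, rfl⟩
    rcases hr with rfl | rfl | rfl | rfl
    · convert compl_mem_supports hC using 1
      ext i
      simp only [Finset.mem_filter, Finset.mem_univ, true_and, Finset.mem_compl]
      unfold Int.ModEq twoC
      constructor
      · intro h hi; rw [if_pos hi] at h; omega
      · intro hi; rw [if_neg hi]; omega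
    · convert empty_mem_supports using 1
      ext i
      simp only [Finset.mem_filter, Finset.mem_univ, true_and, Finset.notMem_empty, iff_false]
      unfold Int.ModEq twoC
      intro h; split_ifs at h <;> omega
    · convert hC using 1
      ext i
      simp only [Finset.mem_filter, Finset.mem_univ, true_and]
      unfold Int.ModEq twoC
      constructor
      · intro h; by_contra hi; rw [if_neg hi] at h; omega
      · intro hi; rw [if_pos hi]; omega
    · convert empty_mem_supports using 1
      ext i
      simp only [Finset.mem_filter, Finset.mem_univ, true_and, Finset.notMem_empty, iff_false]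
      unfold Int.ModEq twoC
      intro h; split_ifs at h <;> omega

theorem dot_dvd {x y : GolayPt → ℤ} (hx : x ∈ leechLattice) (hy : y ∈ leechLattice) :
    (8 : ℤ) ∣ dotInt x y := by
  have h1 := Cfsg.Agent.S0392.result x hx
  have h2 := Cfsg.Agent.S0392.result y hy
  have h3 := Cfsg.Agent.S0392.result (x + y) (leechLattice.add_mem hx hy)
  have h4 : sqNorm (x + y) = sqNorm x + sqNorm y + 2 * dotInt x y := by
    unfold sqNorm dotInt
    rw [Finset.mul_sum, ← Finset.sum_add_distrib, ← Finset.sum_add_distrib]
    apply Finset.sum_congr rfl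
    intro i _
    simp only [Pi.add_apply]; ring
  rw [h4] at h3
  omega

theorem sum_on_dvd {x : GolayPt → ℤ} (hx : x ∈ leechLattice) {C : Finset GolayPt}
    (hC : C ∈ supports (golayCode : Set (GolayPt → ZMod 2))) : (4 : ℤ) ∣ ∑ i ∈ C, x i := by
  classical
  have h1 := dot_dvd hx (twoC_mem hC)
  have h2 : dotInt x (twoC C) = 2 * ∑ i ∈ C, x i := by
    unfold dotInt twoC
    rw [Finset.mul_sum]
    have : ∀ i, x i * (if i ∈ C then (2 : ℤ) else 0) = if i ∈ C then 2 * x i else 0 := by
      intro i; split_ifs <;> ring
    simp only [this]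
    rw [Finset.sum_ite_mem, Finset.univ_inter]
  rw [h2] at h1
  omega

/-- Sign change on `C`. -/
def sgnVec (C : Finset GolayPt) (x : GolayPt → ℤ) : GolayPt → ℤ :=
  fun i => if i ∈ C then -x i else x i

theorem sgnVec_sgnVec (C : Finset GolayPt) (x : GolayPt → ℤ) : sgnVec C (sgnVec C x) = x := by
  funext i
  unfold sgnVec
  split_ifs <;> simp

theorem sgnVec_add (C : Finset GolayPt) (x y : GolayPt → ℤ) :
    sgnVec C (x + y) = sgnVec C x + sgnVec C y := by
  funext i
  unfold sgnVec
  simp only [Pi.add_apply]
  split_ifs <;> ring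

theorem sqNorm_sgnVec (C : Finset GolayPt) (x : GolayPt → ℤ) : sqNorm (sgnVec C x) = sqNorm x := by
  unfold sqNorm sgnVec
  apply Finset.sum_congr rfl
  intro i _
  split_ifs <;> ring

theorem sgnVec_mem {C : Finset GolayPt} (hC : C ∈ supports (golayCode : Set (GolayPt → ZMod 2)))
    {x : GolayPt → ℤ} (hx : x ∈ leechLattice) : sgnVec C x ∈ leechLattice := by
  classical
  have hsum := sum_on_dvd hx hC
  rw [mem_leechLattice_iff] at hx ⊢
  obtain ⟨m, hm2, hms, hmk⟩ := hx
  refine ⟨m, fun i => ?_, ?_, fun k => ?_⟩
  · have := hm2 i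
    unfold Int.ModEq sgnVec at *
    split_ifs <;> omega
  · have h1 : ∑ i, sgnVec C x i = ∑ i, x i - 2 * ∑ i ∈ C, x i := by
      have : ∀ i, sgnVec C x i = x i - (if i ∈ C then 2 * x i else 0) := by
        intro i; unfold sgnVec; split_ifs <;> ring
      simp only [this]
      rw [Finset.sum_sub_distrib, Finset.sum_ite_mem, Finset.univ_inter, Finset.mul_sum]
    rw [h1]
    obtain ⟨t, ht⟩ := hsum
    rw [ht]
    unfold Int.ModEq at *
    omega
  · rcases Int.emod_two_eq_zero_or_one m with hm | hm
    · -- even
      convert hmk k using 1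
      apply Finset.filter_congr
      intro i _
      have := hm2 i
      unfold Int.ModEq sgnVec at *
      split_ifs <;> omega
    · -- odd
      rcases Int.emod_two_eq_zero_or_one k with hk | hk
      · convert empty_mem_supports using 1
        ext i
        simp only [Finset.mem_filter, Finset.mem_univ, true_and, Finset.notMem_empty, iff_false]
        have := hm2 i
        unfold Int.ModEq sgnVec at *
        split_ifs <;> omega
      · convert supports_symmDiff (hmk k) hC using 1
        ext i
        simp only [Finset.mem_filter, Finset.mem_univ, true_and, Finset.mem_union,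
          Finset.mem_sdiff]
        have := hm2 i
        unfold Int.ModEq sgnVec at *
        by_cases hi : i ∈ C
        · simp only [hi, if_true, not_true_eq_false, and_false, true_and, false_or]
          omega
        · simp only [hi, if_false, not_false_eq_true, and_true, false_and, or_false]

/-- The sign change on `C` as a permutation of the lattice. -/
def sgnL (C : Finset GolayPt) (hC : C ∈ supports (golayCode : Set (GolayPt → ZMod 2))) :
    Equiv.Perm leechLattice where
  toFun v := ⟨sgnVec C v.1, sgnVec_mem hC v.2⟩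
  invFun v := ⟨sgnVec C v.1, sgnVec_mem hC v.2⟩
  left_inv v := by apply Subtype.ext; exact sgnVec_sgnVec C v.1
  right_inv v := by apply Subtype.ext; exact sgnVec_sgnVec C v.1

theorem sgnL_apply (C : Finset GolayPt) (hC : C ∈ supports (golayCode : Set (GolayPt → ZMod 2)))
    (v : leechLattice) : (sgnL C hC v).1 = sgnVec C v.1 := rfl

theorem sgnL_mem (C : Finset GolayPt) (hC : C ∈ supports (golayCode : Set (GolayPt → ZMod 2))) :
    sgnL C hC ∈ Co0 := by
  refine ⟨fun v w => ?_, fun v => ?_⟩
  · apply Subtype.ext
    exact sgnVec_add C v.1 w.1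
  · exact sqNorm_sgnVec C v.1

/-- For `g ∈ Co0`, `8 (g v)_i = Σ_j v_j (g (8 e_j))_i`. -/
theorem eight_mul_coord (g : Equiv.Perm leechLattice) (hg : g ∈ Co0) (v : leechLattice) (i : GolayPt) :
    8 * (g v).1 i = ∑ j, v.1 j * (g (e8 j)).1 i := by
  have h1 : coordHom i (co0Hom g hg ((8 : ℤ) • v)) =
      coordHom i (co0Hom g hg (∑ j, (v.1 j) • e8 j)) := by
    rw [eight_smul_eq_sum v]
  rw [map_zsmul, map_zsmul, map_sum, map_sum] at h1
  simp only [map_zsmul, coordHom_apply, co0Hom_apply, smul_eq_mul] at h1
  exact h1

end Cfsg.Agent.Lib.Helper3
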