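import Mathlib
import Cfsg.Prelude.Def_Sporadic_a
import Cfsg.Agent.Lib.Helper3.Golay

set_option autoImplicit false

/-!
Helper library (helper3): the binary code `golayCode` has no word of weight 4, hence minimum
weight at least 8.

* `golay_card_ne_four`  : `a ∈ golayCode → (support₂ a).card ≠ 4`
* `golay_min_weight`    : `a ∈ golayCode → a ≠ 0 → 8 ≤ (support₂ a).card`
* `supports_min_weight` : `A ∈ supports golayCode → A.Nonempty → 8 ≤ A.card`
-/

namespace Cfsg.Agent.Lib.Helper3

open Cfsg

/-- the 24 points as a list -/
def golayPts : List GolayPt := none :: (List.finRange 23).map (fun i => some (i : ZMod 23))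

theorem golayPts_nodup : golayPts.Nodup := by decide

theorem mem_golayPts : ∀ p : GolayPt, p ∈ golayPts := by decide

set_option maxRecDepth 1000000 in
set_option maxHeartbeats 0 in
theorem four_subsets_check :
    ∀ l ∈ List.sublistsLen 4 golayPts, ∃ t : ZMod 23, (l.map (qrWord t)).sum ≠ 0 := by
  decide +kernel

theorem sum_support₂_eq_dot (a f : GolayPt → ZMod 2) :
    ∑ i ∈ support₂ a, f i = a ⬝ᵥ f := by
  unfold dotProduct support₂
  rw [Finset.sum_filter]
  apply Finset.sum_congr rfl
  intro i _
  by_cases h : a i = 0
  · simp [h]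
  · rw [zmod2_eq_one_of_ne_zero h]; simp

theorem golay_card_ne_four {a : GolayPt → ZMod 2} (ha : a ∈ golayCode) :
    (support₂ a).card ≠ 4 := by
  classical
  intro h4
  set s := support₂ a with hs
  set l := golayPts.filter (fun p => decide (p ∈ s)) with hl
  have hsub : l.Sublist golayPts := List.filter_sublist
  have hnd : l.Nodup := golayPts_nodup.filter _
  have hfin : l.toFinset = s := by
    ext p
    simp [hl, mem_golayPts]
  have hlen : l.length = 4 := by
    rw [← List.toFinset_card_of_nodup hnd, hfin, h4]
  have hmem : l ∈ List.sublistsLen 4 golayPts := List.mem_sublistsLen.mpr ⟨hsub, hlen⟩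
  obtain ⟨t, ht⟩ := four_subsets_check l hmem
  apply ht
  rw [← List.sum_toFinset _ hnd, hfin, hs, sum_support₂_eq_dot]
  apply golay_dot_zero ha
  exact Submodule.subset_span (Set.mem_union_left _ ⟨t, rfl⟩)

theorem golay_min_weight {a : GolayPt → ZMod 2} (ha : a ∈ golayCode) (h0 : a ≠ 0) :
    8 ≤ (support₂ a).card := by
  have h4 := golay_card_dvd ha
  have hne4 := golay_card_ne_four ha
  have hpos : (support₂ a).card ≠ 0 := by
    intro h
    apply h0
    rw [Finset.card_eq_zero] at h
    funext i
    by_contra hi
    have : i ∈ support₂ a := by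
      simp only [support₂, Finset.mem_filter, Finset.mem_univ, true_and]
      exact hi
    rw [h] at this
    exact absurd this (Finset.notMem_empty i)
  omega

theorem supports_min_weight {A : Finset GolayPt}
    (hA : A ∈ supports (golayCode : Set (GolayPt → ZMod 2))) (hne : A.Nonempty) : 8 ≤ A.card := by
  obtain ⟨a, ha, rfl⟩ := hA
  apply golay_min_weight ha
  rintro rfl
  obtain ⟨i, hi⟩ := hne
  simp [support₂] at hi

end Cfsg.Agent.Lib.Helper3
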