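import Mathlib
import Cfsg.Prelude.Def_Sporadic_a
import Cfsg.Agent.Lib.Helper3.Leech
import Cfsg.Agent.Lib.Helper3.Golay
import Cfsg.Agent.Lib.Helper3.GolayMin
import Cfsg.Agent.Lib.Helper3.Co0Sign

set_option autoImplicit false

/-!
Helper library (helper3): the minimal vectors (`sqNorm = 32`) of the Leech lattice are exactly
* `sv 4 s T` with `s.card = 2`, `T ⊆ s`  (shape `(±4, ±4, 0^22)`),
* `sv 2 s T` with `s` an octad, `T ⊆ s`, `T.card` even  (shape `(±2^8, 0^16)`),
* `ov C j` with `C` a codeword support  (shape `(∓3, ±1^23)`).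
-/

namespace Cfsg.Agent.Lib.Helper3

open Cfsg

/-- signed vector: `-c` on `T`, `c` on `s \ T`, `0` elsewhere. -/
def sv (c : ℤ) (s T : Finset GolayPt) : GolayPt → ℤ :=
  fun i => if i ∈ T then -c else if i ∈ s then c else 0

/-- odd vector: `1` on `C`, `-1` off `C`, except at `j` where it is `-3` (if `j ∈ C`) or `3`. -/
def ov (C : Finset GolayPt) (j : GolayPt) : GolayPt → ℤ :=
  fun i => if i = j then (if j ∈ C then -3 else 3) else if i ∈ C then 1 else -1

theorem sv_mem_s {c : ℤ} (hc : c ≠ 0) {s T : Finset GolayPt} (hT : T ⊆ s) (i : GolayPt) :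
    i ∈ s ↔ sv c s T i ≠ 0 := by
  unfold sv
  by_cases h1 : i ∈ T
  · simp [h1, hT h1, hc]
  · by_cases h2 : i ∈ s <;> simp [h1, h2, hc]

theorem sv_mem_T {c : ℤ} (hc : 0 < c) {s T : Finset GolayPt} (i : GolayPt) :
    i ∈ T ↔ sv c s T i < 0 := by
  unfold sv
  by_cases h1 : i ∈ T
  · simp [h1, hc]
  · by_cases h2 : i ∈ s
    · simp [h1, h2]; omega
    · simp [h1, h2]

theorem sv_inj {c : ℤ} (hc : 0 < c) {s T s' T' : Finset GolayPt} (hT : T ⊆ s) (hT' : T' ⊆ s')
    (h : sv c s T = sv c s' T') : s = s' ∧ T = T' := by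
  constructor
  · ext i
    rw [sv_mem_s hc.ne' hT, sv_mem_s hc.ne' hT', h]
  · ext i
    rw [sv_mem_T hc (s := s), sv_mem_T hc (s := s'), h]

theorem sum_sv (c : ℤ) {s T : Finset GolayPt} (hT : T ⊆ s) :
    ∑ i, sv c s T i = c * ((s.card : ℤ) - 2 * (T.card : ℤ)) := by
  have h : ∀ i, sv c s T i = (if i ∈ s then c else 0) - (if i ∈ T then 2 * c else 0) := by
    intro i
    unfold sv
    by_cases h1 : i ∈ T
    · simp [h1, hT h1]; ring
    · simp [h1]
  simp_rw [h]
  rw [Finset.sum_sub_distrib]
  simp only [Finset.sum_ite_mem, Finset.univ_inter, Finset.sum_const, nsmul_eq_mul]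
  ring

theorem sqNorm_sv (c : ℤ) {s T : Finset GolayPt} (hT : T ⊆ s) :
    sqNorm (sv c s T) = c ^ 2 * (s.card : ℤ) := by
  unfold sqNorm
  have h : ∀ i, sv c s T i ^ 2 = (if i ∈ s then c ^ 2 else 0) := by
    intro i
    unfold sv
    by_cases h1 : i ∈ T
    · simp [h1, hT h1]
    · by_cases h2 : i ∈ s <;> simp [h1, h2]
  simp_rw [h]
  simp only [Finset.sum_ite_mem, Finset.univ_inter, Finset.sum_const, nsmul_eq_mul]
  ring

theorem ov_mem_C (C : Finset GolayPt) (j i : GolayPt) :
    i ∈ C ↔ ov C j i % 4 = 1 := by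
  unfold ov
  by_cases h1 : i = j
  · subst h1
    by_cases h2 : i ∈ C <;> simp [h2]
  · by_cases h2 : i ∈ C <;> simp [h1, h2]

theorem ov_eq_j (C : Finset GolayPt) (j i : GolayPt) :
    i = j ↔ ov C j i ^ 2 = 9 := by
  unfold ov
  by_cases h1 : i = j
  · subst h1
    by_cases h2 : i ∈ C <;> simp [h2]
  · by_cases h2 : i ∈ C <;> simp [h1, h2]

theorem ov_inj {C C' : Finset GolayPt} {j j' : GolayPt} (h : ov C j = ov C' j') :
    C = C' ∧ j = j' := by
  constructor
  · ext i
    rw [ov_mem_C C j, ov_mem_C C' j', h]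
  · have := (ov_eq_j C j j).1 rfl
    rw [h] at this
    exact (ov_eq_j C' j' j).2 this

theorem ov_odd (C : Finset GolayPt) (j i : GolayPt) : ov C j i % 2 = 1 := by
  unfold ov
  by_cases h1 : i = j
  · subst h1
    by_cases h2 : i ∈ C <;> simp [h2]
  · by_cases h2 : i ∈ C <;> simp [h1, h2]

theorem sv_even (c : ℤ) (hc : c % 2 = 0) (s T : Finset GolayPt) (i : GolayPt) :
    sv c s T i % 2 = 0 := by
  unfold sv
  by_cases h1 : i ∈ T
  · simp [h1]; omega
  · by_cases h2 : i ∈ s <;> simp [h1, h2, hc]

theorem card_golayPt : Fintype.card GolayPt = 24 := by decide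

theorem sum_ov (C : Finset GolayPt) (j : GolayPt) :
    ∑ i, ov C j i = 2 * (C.card : ℤ) - 24 + (if j ∈ C then -4 else 4) := by
  have h : ∀ i, ov C j i = ((if i ∈ C then 2 else 0) - 1) +
      (if i = j then (if j ∈ C then -4 else 4) else 0) := by
    intro i
    unfold ov
    by_cases h1 : i = j
    · subst h1
      by_cases h2 : i ∈ C <;> simp [h2]
    · by_cases h2 : i ∈ C <;> simp [h1, h2]
  simp_rw [h]
  rw [Finset.sum_add_distrib, Finset.sum_sub_distrib]
  simp only [Finset.sum_ite_mem, Finset.univ_inter, Finset.sum_const, nsmul_eq_mul,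
    Finset.sum_ite_eq', Finset.mem_univ, if_true, Finset.card_univ, card_golayPt]
  push_cast
  ring

theorem sqNorm_ov (C : Finset GolayPt) (j : GolayPt) : sqNorm (ov C j) = 32 := by
  unfold sqNorm
  have h : ∀ i, ov C j i ^ 2 = 1 + (if i = j then 8 else 0) := by
    intro i
    unfold ov
    by_cases h1 : i = j
    · subst h1
      by_cases h2 : i ∈ C <;> simp [h2]
    · by_cases h2 : i ∈ C <;> simp [h1, h2]
  simp_rw [h]
  rw [Finset.sum_add_distrib]
  simp only [Finset.sum_const, nsmul_eq_mul, Finset.sum_ite_eq', Finset.mem_univ, if_true,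
    Finset.card_univ, card_golayPt]
  norm_num


/-! ### the three shapes lie in the lattice -/

theorem sv4_mem {s T : Finset GolayPt} (hs : s.card = 2) (hT : T ⊆ s) :
    sv 4 s T ∈ leechLattice := by
  rw [mem_leechLattice_iff]
  have h4 : ∀ i, sv 4 s T i % 4 = 0 := by
    intro i
    unfold sv
    by_cases h1 : i ∈ T
    · simp [h1]
    · by_cases h2 : i ∈ s <;> simp [h1, h2]
  refine ⟨0, fun i => ?_, ?_, fun k => ?_⟩
  · have := h4 i
    unfold Int.ModEq
    omega
  · rw [sum_sv 4 hT, hs]
    unfold Int.ModEq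
    push_cast
    omega
  · by_cases hk : k % 4 = 0
    · have : (Finset.univ.filter fun i => sv 4 s T i ≡ k [ZMOD 4]) = Finset.univ := by
        ext i
        simp only [Finset.mem_filter, Finset.mem_univ, true_and, iff_true]
        have := h4 i
        unfold Int.ModEq
        omega
      rw [this]
      exact univ_mem_supports
    · have : (Finset.univ.filter fun i => sv 4 s T i ≡ k [ZMOD 4]) = ∅ := by
        ext i
        simp only [Finset.mem_filter, Finset.mem_univ, true_and, Finset.notMem_empty, iff_false]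
        have := h4 i
        unfold Int.ModEq
        omega
      rw [this]
      exact empty_mem_supports

theorem sv2_mem {s T : Finset GolayPt} (hs : s ∈ octads) (hT : T ⊆ s) (hev : Even T.card) :
    sv 2 s T ∈ leechLattice := by
  rw [mem_leechLattice_iff]
  have hs8 : s.card = 8 := hs.2
  have hss : s ∈ supports (golayCode : Set (GolayPt → ZMod 2)) := hs.1
  have h4 : ∀ i, (i ∈ s → sv 2 s T i % 4 = 2) ∧ (i ∉ s → sv 2 s T i % 4 = 0) := by
    intro i
    unfold sv
    by_cases h1 : i ∈ T
    · simp [h1, hT h1]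
    · by_cases h2 : i ∈ s <;> simp [h1, h2]
  refine ⟨0, fun i => ?_, ?_, fun k => ?_⟩
  · have := h4 i
    unfold Int.ModEq
    by_cases h2 : i ∈ s
    · have := this.1 h2; omega
    · have := this.2 h2; omega
  · rw [sum_sv 2 hT, hs8]
    obtain ⟨r, hr⟩ := hev
    rw [hr]
    unfold Int.ModEq
    push_cast
    omega
  · by_cases hk : k % 4 = 2
    · have : (Finset.univ.filter fun i => sv 2 s T i ≡ k [ZMOD 4]) = s := by
        ext i
        simp only [Finset.mem_filter, Finset.mem_univ, true_and]
        have := h4 i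
        unfold Int.ModEq
        by_cases h2 : i ∈ s
        · have := this.1 h2; simp only [h2, iff_true]; omega
        · have := this.2 h2; simp only [h2, iff_false]; omega
      rw [this]
      exact hss
    · by_cases hk0 : k % 4 = 0
      · have : (Finset.univ.filter fun i => sv 2 s T i ≡ k [ZMOD 4]) = sᶜ := by
          ext i
          simp only [Finset.mem_filter, Finset.mem_univ, true_and, Finset.mem_compl]
          have := h4 i
          unfold Int.ModEq
          by_cases h2 : i ∈ s
          · have := this.1 h2; simp only [h2, not_true_eq_false, iff_false]; omega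
          · have := this.2 h2; simp only [h2, not_false_eq_true, iff_true]; omega
        rw [this]
        exact compl_mem_supports hss
      · have : (Finset.univ.filter fun i => sv 2 s T i ≡ k [ZMOD 4]) = ∅ := by
          ext i
          simp only [Finset.mem_filter, Finset.mem_univ, true_and, Finset.notMem_empty, iff_false]
          have := h4 i
          unfold Int.ModEq
          by_cases h2 : i ∈ s
          · have := this.1 h2; omega
          · have := this.2 h2; omega
        rw [this]
        exact empty_mem_supports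

theorem ov_mod4 (C : Finset GolayPt) (j i : GolayPt) :
    (i ∈ C → ov C j i % 4 = 1) ∧ (i ∉ C → ov C j i % 4 = 3) := by
  unfold ov
  by_cases h1 : i = j
  · subst h1
    by_cases h2 : i ∈ C <;> simp [h2]
  · by_cases h2 : i ∈ C <;> simp [h1, h2]

theorem ov_mem {C : Finset GolayPt} (hC : C ∈ supports (golayCode : Set (GolayPt → ZMod 2)))
    (j : GolayPt) : ov C j ∈ leechLattice := by
  rw [mem_leechLattice_iff]
  have h4 := ov_mod4 C j
  refine ⟨1, fun i => ?_, ?_, fun k => ?_⟩
  · have := ov_odd C j i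
    unfold Int.ModEq
    omega
  · rw [sum_ov]
    obtain ⟨r, hr⟩ := supports_card_dvd hC
    rw [hr]
    unfold Int.ModEq
    push_cast
    split_ifs <;> omega
  · by_cases hk : k % 4 = 1
    · have : (Finset.univ.filter fun i => ov C j i ≡ k [ZMOD 4]) = C := by
        ext i
        simp only [Finset.mem_filter, Finset.mem_univ, true_and]
        have := h4 i
        unfold Int.ModEq
        by_cases h2 : i ∈ C
        · have := this.1 h2; simp only [h2, iff_true]; omega
        · have := this.2 h2; simp only [h2, iff_false]; omega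
      rw [this]
      exact hC
    · by_cases hk0 : k % 4 = 3
      · have : (Finset.univ.filter fun i => ov C j i ≡ k [ZMOD 4]) = Cᶜ := by
          ext i
          simp only [Finset.mem_filter, Finset.mem_univ, true_and, Finset.mem_compl]
          have := h4 i
          unfold Int.ModEq
          by_cases h2 : i ∈ C
          · have := this.1 h2; simp only [h2, not_true_eq_false, iff_false]; omega
          · have := this.2 h2; simp only [h2, not_false_eq_true, iff_true]; omega
        rw [this]
        exact compl_mem_supports hC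
      · have : (Finset.univ.filter fun i => ov C j i ≡ k [ZMOD 4]) = ∅ := by
          ext i
          simp only [Finset.mem_filter, Finset.mem_univ, true_and, Finset.notMem_empty, iff_false]
          have := h4 i
          unfold Int.ModEq
          by_cases h2 : i ∈ C
          · have := this.1 h2; omega
          · have := this.2 h2; omega
        rw [this]
        exact empty_mem_supports


/-! ### classification of the minimal vectors -/

theorem all_zero_of_sum_nonpos {f : GolayPt → ℤ} (h0 : ∀ i, 0 ≤ f i) (hs : ∑ i, f i ≤ 0) :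
    ∀ i, f i = 0 := by
  have h := Finset.sum_nonneg (fun i _ => h0 i) (s := Finset.univ)
  have hz : ∑ i, f i = 0 := le_antisymm hs h
  intro i
  exact (Finset.sum_eq_zero_iff_of_nonneg (fun i _ => h0 i)).1 hz i (Finset.mem_univ i)

theorem sq_eq_cases {a c : ℤ} (h : a ^ 2 = c ^ 2) : a = c ∨ a = -c := by
  have : (a - c) * (a + c) = 0 := by ring_nf; linarith
  rcases mul_eq_zero.1 this with h | h
  · left; linarith
  · right; linarith

theorem classify_even0 {x : GolayPt → ℤ} (h4 : ∀ i, x i % 4 = 0) (hn : sqNorm x = 32) :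
    ∃ s T : Finset GolayPt, s.card = 2 ∧ T ⊆ s ∧ x = sv 4 s T := by
  classical
  obtain ⟨y, hy⟩ : ∃ y : GolayPt → ℤ, ∀ i, x i = 4 * y i :=
    ⟨fun i => x i / 4, fun i => by have := h4 i; show x i = 4 * (x i / 4); omega⟩
  have hsum : ∑ i, y i ^ 2 = 2 := by
    unfold sqNorm at hn
    have : ∑ i, x i ^ 2 = 16 * ∑ i, y i ^ 2 := by
      rw [Finset.mul_sum]
      apply Finset.sum_congr rfl
      intro i _
      rw [hy i]; ring
    rw [this] at hn
    omega
  have hle : ∀ i, y i ^ 2 ≤ 2 := by
    intro i
    rw [← hsum]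
    exact Finset.single_le_sum (f := fun i => y i ^ 2) (fun j _ => sq_nonneg (y j))
      (Finset.mem_univ i)
  have hy3 : ∀ i, y i = -1 ∨ y i = 0 ∨ y i = 1 := by
    intro i
    have := hle i
    have h1 : -1 ≤ y i := by
      by_contra hcon
      have : y i ≤ -2 := by omega
      nlinarith
    have h2 : y i ≤ 1 := by
      by_contra hcon
      have : 2 ≤ y i := by omega
      nlinarith
    omega
  refine ⟨Finset.univ.filter (fun i => y i ≠ 0), Finset.univ.filter (fun i => y i = -1),
    ?_, ?_, ?_⟩
  · have h1 : ∀ i, y i ^ 2 = if y i ≠ 0 then 1 else 0 := by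
      intro i
      rcases hy3 i with h | h | h <;> simp [h]
    simp_rw [h1] at hsum
    rw [Finset.sum_boole] at hsum
    exact_mod_cast hsum
  · intro i hi
    simp only [Finset.mem_filter, Finset.mem_univ, true_and] at hi ⊢
    rw [hi]; decide
  · funext i
    unfold sv
    simp only [Finset.mem_filter, Finset.mem_univ, true_and]
    rw [hy i]
    rcases hy3 i with h | h | h <;> simp [h]

theorem classify_even2 {x : GolayPt → ℤ} (h2 : ∀ i, x i % 2 = 0)
    (hsum : (∑ i, x i) % 8 = 0)
    {C : Finset GolayPt} (hCdef : ∀ i, i ∈ C ↔ x i % 4 = 2)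
    (hC : C ∈ supports (golayCode : Set (GolayPt → ZMod 2))) (hne : C.Nonempty)
    (hn : sqNorm x = 32) :
    ∃ s T : Finset GolayPt, s ∈ octads ∧ T ⊆ s ∧ Even T.card ∧ x = sv 2 s T := by
  classical
  have h8 := supports_min_weight hC hne
  have hf0 : ∀ i, 0 ≤ x i ^ 2 - (if i ∈ C then (4 : ℤ) else 0) := by
    intro i
    by_cases hi : i ∈ C
    · simp only [hi, if_true]
      have := (hCdef i).1 hi
      have : x i ≤ -2 ∨ 2 ≤ x i := by omega
      rcases this with h | h <;> nlinarith
    · simp only [hi, if_false]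
      have := sq_nonneg (x i); linarith
  have hfs : ∑ i, (x i ^ 2 - (if i ∈ C then (4 : ℤ) else 0)) = 32 - 4 * C.card := by
    rw [Finset.sum_sub_distrib]
    unfold sqNorm at hn
    rw [hn]
    simp only [Finset.sum_ite_mem, Finset.univ_inter, Finset.sum_const, nsmul_eq_mul]
    ring
  have hall := all_zero_of_sum_nonpos hf0 (by
    rw [hfs]; have : (8 : ℤ) ≤ C.card := by exact_mod_cast h8
    linarith)
  have hcard : C.card = 8 := by
    have : ∑ i, (x i ^ 2 - (if i ∈ C then (4 : ℤ) else 0)) = 0 :=
      Finset.sum_eq_zero (fun i _ => hall i)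
    rw [hfs] at this
    omega
  have hx : ∀ i, (i ∈ C → x i = 2 ∨ x i = -2) ∧ (i ∉ C → x i = 0) := by
    intro i
    have := hall i
    constructor
    · intro hi
      simp only [hi, if_true] at this
      have h4 : x i ^ 2 = 2 ^ 2 := by linarith
      exact sq_eq_cases h4
    · intro hi
      simp only [hi, if_false] at this
      have : x i ^ 2 = 0 := by linarith
      exact (pow_eq_zero_iff (two_ne_zero)).1 this
  have hTs : Finset.univ.filter (fun i => x i < 0) ⊆ C := by
    intro i hi
    simp only [Finset.mem_filter, Finset.mem_univ, true_and] at hi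
    by_contra hiC
    have := (hx i).2 hiC
    omega
  have hxeq : x = sv 2 C (Finset.univ.filter (fun i => x i < 0)) := by
    funext i
    unfold sv
    simp only [Finset.mem_filter, Finset.mem_univ, true_and]
    by_cases hi : i ∈ C
    · rcases (hx i).1 hi with h | h <;> simp [h, hi]
    · simp [(hx i).2 hi, hi]
  refine ⟨C, Finset.univ.filter (fun i => x i < 0), ⟨hC, hcard⟩, hTs, ?_, hxeq⟩
  have hs := sum_sv 2 hTs
  rw [← hxeq, hcard] at hs
  rw [hs] at hsum
  rw [Nat.even_iff]
  push_cast at hsum
  omega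

theorem classify_odd {x : GolayPt → ℤ} (h2 : ∀ i, x i % 2 = 1)
    {C : Finset GolayPt} (hCdef : ∀ i, i ∈ C ↔ x i % 4 = 1) (hn : sqNorm x = 32) :
    ∃ j, x = ov C j := by
  classical
  obtain ⟨D, hD⟩ : ∃ D : Finset GolayPt, ∀ i, i ∈ D ↔ x i ^ 2 ≠ 1 :=
    ⟨Finset.univ.filter (fun i => x i ^ 2 ≠ 1), fun i => by simp⟩
  have hf0 : ∀ i, 0 ≤ x i ^ 2 - 1 - (if i ∈ D then (8 : ℤ) else 0) := by
    intro i
    by_cases hi : i ∈ D
    · simp only [hi, if_true]
      have hne : x i ^ 2 ≠ 1 := (hD i).1 hi
      have h := h2 i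
      have : x i ≤ -3 ∨ 3 ≤ x i := by
        by_contra hcon
        push Not at hcon
        have : x i = 1 ∨ x i = -1 := by omega
        rcases this with h' | h' <;> simp [h'] at hne
      rcases this with h' | h' <;> nlinarith
    · simp only [hi, if_false]
      have : x i ^ 2 = 1 := by
        by_contra hne
        exact hi ((hD i).2 hne)
      linarith
  have hfs : ∑ i, (x i ^ 2 - 1 - (if i ∈ D then (8 : ℤ) else 0)) = (8 : ℤ) - 8 * (D.card : ℤ) := by
    rw [Finset.sum_sub_distrib, Finset.sum_sub_distrib]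
    unfold sqNorm at hn
    rw [hn]
    simp only [Finset.sum_ite_mem, Finset.univ_inter, Finset.sum_const, nsmul_eq_mul,
      Finset.card_univ, card_golayPt]
    push_cast; ring
  have hDne : D.Nonempty := by
    by_contra hemp
    rw [Finset.not_nonempty_iff_eq_empty] at hemp
    have h1 : ∀ i, x i ^ 2 = 1 := by
      intro i
      by_contra hne
      have : i ∈ D := (hD i).2 hne
      rw [hemp] at this
      simp at this
    unfold sqNorm at hn
    simp only [h1, Finset.sum_const, Finset.card_univ, card_golayPt] at hn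
    norm_num at hn
  have hD1 : 1 ≤ D.card := hDne.card_pos
  have hall := all_zero_of_sum_nonpos hf0 (by
    rw [hfs]; have : (1 : ℤ) ≤ D.card := by exact_mod_cast hD1
    linarith)
  have hcard : D.card = 1 := by
    have : ∑ i, (x i ^ 2 - 1 - (if i ∈ D then (8 : ℤ) else 0)) = 0 :=
      Finset.sum_eq_zero (fun i _ => hall i)
    rw [hfs] at this; omega
  obtain ⟨j, hj⟩ := Finset.card_eq_one.1 hcard
  refine ⟨j, ?_⟩
  funext i
  have hi := hall i
  unfold ov
  by_cases hij : i = j
  · subst hij
    have hiD : i ∈ D := by rw [hj]; simp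
    simp only [hiD, if_true] at hi
    have h9 : x i ^ 2 = 3 ^ 2 := by linarith
    have h3 := sq_eq_cases h9
    simp only [if_true]
    by_cases hiC : i ∈ C
    · have := (hCdef i).1 hiC
      simp only [hiC, if_true]
      omega
    · have h' : ¬ (x i % 4 = 1) := fun h => hiC ((hCdef i).2 h)
      simp only [hiC, if_false]
      omega
  · have hiD : i ∉ D := by rw [hj]; simpa using hij
    simp only [hiD, if_false] at hi
    have h1 : x i ^ 2 = 1 ^ 2 := by linarith
    have h3 := sq_eq_cases h1
    simp only [hij, if_false]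
    by_cases hiC : i ∈ C
    · have := (hCdef i).1 hiC
      simp only [hiC, if_true]; omega
    · have h' : ¬ (x i % 4 = 1) := fun h => hiC ((hCdef i).2 h)
      simp only [hiC, if_false]; omega

theorem minimal_classify {x : GolayPt → ℤ} (hx : x ∈ leechLattice) (hn : sqNorm x = 32) :
    (∃ s T : Finset GolayPt, s.card = 2 ∧ T ⊆ s ∧ x = sv 4 s T) ∨
    (∃ s T : Finset GolayPt, s ∈ octads ∧ T ⊆ s ∧ Even T.card ∧ x = sv 2 s T) ∨
    (∃ C j, C ∈ supports (golayCode : Set (GolayPt → ZMod 2)) ∧ x = ov C j) := by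
  rw [mem_leechLattice_iff] at hx
  obtain ⟨m, hpar, hsum, hk⟩ := hx
  rcases Int.emod_two_eq_zero_or_one m with hm | hm
  · have h2 : ∀ i, x i % 2 = 0 := fun i => by
      have := hpar i; unfold Int.ModEq at this; omega
    have hC := hk 2
    have hCdef : ∀ i, i ∈ (Finset.univ.filter fun i => x i ≡ 2 [ZMOD 4]) ↔ x i % 4 = 2 := by
      intro i
      rw [Finset.mem_filter]
      unfold Int.ModEq
      simp
    by_cases hne : (Finset.univ.filter fun i => x i ≡ 2 [ZMOD 4]).Nonempty
    · right; left
      refine classify_even2 h2 ?_ hCdef hC hne hn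
      unfold Int.ModEq at hsum; omega
    · left
      apply classify_even0 _ hn
      intro i
      have : ¬ (x i % 4 = 2) := fun h => hne ⟨i, (hCdef i).2 h⟩
      have := h2 i
      omega
  · right; right
    have h2 : ∀ i, x i % 2 = 1 := fun i => by
      have := hpar i; unfold Int.ModEq at this; omega
    have hC := hk 1
    obtain ⟨j, hj⟩ := classify_odd h2
      (C := Finset.univ.filter fun i => x i ≡ 1 [ZMOD 4]) (by
        intro i
        rw [Finset.mem_filter]
        unfold Int.ModEq
        simp) hn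
    exact ⟨_, j, hC, hj⟩

theorem leech_minimal_iff (x : GolayPt → ℤ) : (x ∈ leechLattice ∧ sqNorm x = 32) ↔
    ((∃ s T : Finset GolayPt, s.card = 2 ∧ T ⊆ s ∧ x = sv 4 s T) ∨
    (∃ s T : Finset GolayPt, s ∈ octads ∧ T ⊆ s ∧ Even T.card ∧ x = sv 2 s T) ∨
    (∃ C j, C ∈ supports (golayCode : Set (GolayPt → ZMod 2)) ∧ x = ov C j)) := by
  constructor
  · rintro ⟨h1, h2⟩
    exact minimal_classify h1 h2
  · rintro (⟨s, T, hs, hT, rfl⟩ | ⟨s, T, hs, hT, hev, rfl⟩ | ⟨C, j, hC, rfl⟩)
    · refine ⟨sv4_mem hs hT, ?_⟩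
      rw [sqNorm_sv 4 hT, hs]; norm_num
    · refine ⟨sv2_mem hs hT hev, ?_⟩
      rw [sqNorm_sv 2 hT, hs.2]; norm_num
    · exact ⟨ov_mem hC j, sqNorm_ov C j⟩

end Cfsg.Agent.Lib.Helper3
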