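import Mathlib
import Cfsg.Prelude.Def_Sporadic_a
import Cfsg.Agent.Lib.Helper3.LeechMin
import Cfsg.Agent.Lib.Helper21.GolayCount

set_option autoImplicit false

/-!
Helper library (helper3): general tools to describe Leech lattice vectors by shapes:
`even_mem_iff`, `odd_mem_iff`, `odd_sum_auto`, the odd vectors `oddv C a`, subset counts.
-/

namespace Cfsg.Agent.Lib.Helper3

open Cfsg

theorem parity_cases {x : GolayPt → ℤ} (hx : x ∈ leechLattice) :
    (∀ i, x i % 2 = 0) ∨ (∀ i, x i % 2 = 1) := by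
  rw [mem_leechLattice_iff] at hx
  obtain ⟨m, hpar, -, -⟩ := hx
  rcases Int.emod_two_eq_zero_or_one m with hm | hm
  · left; intro i; have := hpar i; unfold Int.ModEq at this; omega
  · right; intro i; have := hpar i; unfold Int.ModEq at this; omega

theorem filter_modEq_eq {x : GolayPt → ℤ} {C : Finset GolayPt} {r : ℤ} (k : ℤ) (hk : k % 4 = r)
    (hC : ∀ i, i ∈ C ↔ x i % 4 = r) :
    (Finset.univ.filter fun i => x i ≡ k [ZMOD 4]) = C := by
  ext i
  rw [Finset.mem_filter, hC]
  unfold Int.ModEq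
  simp [hk]

theorem even_mem_iff {x : GolayPt → ℤ} (h2 : ∀ i, x i % 2 = 0) {C : Finset GolayPt}
    (hC : ∀ i, i ∈ C ↔ x i % 4 = 2) :
    x ∈ leechLattice ↔
      C ∈ supports (golayCode : Set (GolayPt → ZMod 2)) ∧ (∑ i, x i) % 8 = 0 := by
  rw [mem_leechLattice_iff]
  constructor
  · rintro ⟨m, hpar, hsum, hk⟩
    have hm : m % 2 = 0 := by
      have h1 := hpar none
      have h3 := h2 none
      unfold Int.ModEq at h1
      omega
    refine ⟨?_, ?_⟩
    · have := hk 2
      rwa [filter_modEq_eq 2 (by norm_num) hC] at this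
    · unfold Int.ModEq at hsum; omega
  · rintro ⟨hCs, hsum⟩
    refine ⟨0, fun i => ?_, ?_, fun k => ?_⟩
    · have := h2 i; unfold Int.ModEq; omega
    · unfold Int.ModEq; omega
    · by_cases hk2 : k % 4 = 2
      · rw [filter_modEq_eq k hk2 hC]; exact hCs
      · by_cases hk0 : k % 4 = 0
        · rw [filter_modEq_eq (C := Cᶜ) k hk0 (fun i => by
            rw [Finset.mem_compl, hC]; have := h2 i; omega)]
          exact compl_mem_supports hCs
        · rw [filter_modEq_eq (C := ∅) k rfl (fun i => by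
            have := h2 i; simp only [Finset.notMem_empty, false_iff]; omega)]
          exact empty_mem_supports

theorem odd_mem_iff {x : GolayPt → ℤ} (h2 : ∀ i, x i % 2 = 1) {C : Finset GolayPt}
    (hC : ∀ i, i ∈ C ↔ x i % 4 = 1) :
    x ∈ leechLattice ↔
      C ∈ supports (golayCode : Set (GolayPt → ZMod 2)) ∧ (∑ i, x i) % 8 = 4 := by
  rw [mem_leechLattice_iff]
  constructor
  · rintro ⟨m, hpar, hsum, hk⟩
    have hm : m % 2 = 1 := by
      have h1 := hpar none
      have h3 := h2 none
      unfold Int.ModEq at h1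
      omega
    refine ⟨?_, ?_⟩
    · have := hk 1
      rwa [filter_modEq_eq 1 (by norm_num) hC] at this
    · unfold Int.ModEq at hsum; omega
  · rintro ⟨hCs, hsum⟩
    refine ⟨1, fun i => ?_, ?_, fun k => ?_⟩
    · have := h2 i; unfold Int.ModEq; omega
    · unfold Int.ModEq; omega
    · by_cases hk2 : k % 4 = 1
      · rw [filter_modEq_eq k hk2 hC]; exact hCs
      · by_cases hk0 : k % 4 = 3
        · rw [filter_modEq_eq (C := Cᶜ) k hk0 (fun i => by
            rw [Finset.mem_compl, hC]; have := h2 i; omega)]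
          exact compl_mem_supports hCs
        · rw [filter_modEq_eq (C := ∅) k rfl (fun i => by
            have := h2 i; simp only [Finset.notMem_empty, false_iff]; omega)]
          exact empty_mem_supports

/-- for an odd vector whose `1 mod 4` set has size divisible by 4 and whose norm is divisible
by 16, the sum condition holds automatically. -/
theorem odd_sum_auto {x : GolayPt → ℤ} (h2 : ∀ i, x i % 2 = 1) {C : Finset GolayPt}
    (hC : ∀ i, i ∈ C ↔ x i % 4 = 1) (h4 : 4 ∣ C.card) (h16 : sqNorm x % 16 = 0) :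
    (∑ i, x i) % 8 = 4 := by
  have hterm : ∀ i, ∃ t : ℤ, 2 * x i = x i ^ 2 + (if i ∈ C then 1 else -3) + 16 * t := by
    intro i
    by_cases hi : i ∈ C
    · have := (hC i).1 hi
      obtain ⟨y, hy⟩ : ∃ y, x i = 1 + 4 * y := ⟨x i / 4, by omega⟩
      refine ⟨-(y ^ 2), ?_⟩
      simp only [hi, if_true]; rw [hy]; ring
    · have : x i % 4 = 3 := by
        have := h2 i
        have : ¬ x i % 4 = 1 := fun h => hi ((hC i).2 h)
        omega
      obtain ⟨y, hy⟩ : ∃ y, x i = -1 + 4 * y := ⟨(x i + 1) / 4, by omega⟩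
      refine ⟨y - y ^ 2, ?_⟩
      simp only [hi, if_false]; rw [hy]; ring
  choose t ht using hterm
  have hcs : ∑ i, (if i ∈ C then (1 : ℤ) else -3) = (C.card : ℤ) - 3 * (24 - C.card) := by
    have h : ∀ i, (if i ∈ C then (1 : ℤ) else -3) = (if i ∈ C then 4 else 0) - 3 := by
      intro i; split_ifs <;> norm_num
    simp_rw [h]
    rw [Finset.sum_sub_distrib]
    simp only [Finset.sum_ite_mem, Finset.univ_inter, Finset.sum_const, nsmul_eq_mul,
      Finset.card_univ, card_golayPt]
    push_cast; ring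
  have hsum : 2 * ∑ i, x i = sqNorm x + ((C.card : ℤ) - 3 * (24 - C.card)) + 16 * ∑ i, t i := by
    rw [Finset.mul_sum, Finset.mul_sum, ← hcs]
    unfold sqNorm
    rw [← Finset.sum_add_distrib, ← Finset.sum_add_distrib]
    exact Finset.sum_congr rfl (fun i _ => ht i)
  obtain ⟨r, hr⟩ := h4
  rw [hr] at hsum
  push_cast at hsum
  omega

/-- The odd vector with absolute values `a` (odd) whose `1 mod 4` set is `C`. -/
def oddv (C : Finset GolayPt) (a : GolayPt → ℤ) : GolayPt → ℤ :=
  fun i => if (i ∈ C ↔ a i % 4 = 1) then a i else -a i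

theorem oddv_mod4 (C : Finset GolayPt) {a : GolayPt → ℤ} (ha : ∀ i, a i % 2 = 1) (i : GolayPt) :
    i ∈ C ↔ oddv C a i % 4 = 1 := by
  unfold oddv
  have := ha i
  by_cases h1 : i ∈ C <;> by_cases h2 : a i % 4 = 1 <;> simp [h1, h2] <;> omega

theorem oddv_odd (C : Finset GolayPt) {a : GolayPt → ℤ} (ha : ∀ i, a i % 2 = 1) (i : GolayPt) :
    oddv C a i % 2 = 1 := by
  unfold oddv
  have := ha i
  split_ifs <;> omega

theorem oddv_sq (C : Finset GolayPt) (a : GolayPt → ℤ) (i : GolayPt) :
    oddv C a i ^ 2 = a i ^ 2 := by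
  unfold oddv
  split_ifs <;> ring

theorem oddv_abs (C : Finset GolayPt) (a : GolayPt → ℤ) (i : GolayPt) :
    |oddv C a i| = |a i| := by
  unfold oddv
  split_ifs <;> simp

theorem sqNorm_oddv (C : Finset GolayPt) (a : GolayPt → ℤ) : sqNorm (oddv C a) = sqNorm a := by
  unfold sqNorm
  exact Finset.sum_congr rfl (fun i _ => oddv_sq C a i)

theorem oddv_mem {C : Finset GolayPt} (hC : C ∈ supports (golayCode : Set (GolayPt → ZMod 2)))
    {a : GolayPt → ℤ} (ha : ∀ i, a i % 2 = 1) (h16 : sqNorm a % 16 = 0) :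
    oddv C a ∈ leechLattice := by
  rw [odd_mem_iff (oddv_odd C ha) (oddv_mod4 C ha)]
  refine ⟨hC, odd_sum_auto (oddv_odd C ha) (oddv_mod4 C ha) (supports_card_dvd hC) ?_⟩
  rw [sqNorm_oddv]; exact h16

theorem oddv_inj {C C' : Finset GolayPt} {a a' : GolayPt → ℤ} (ha : ∀ i, a i % 2 = 1)
    (ha' : ∀ i, a' i % 2 = 1) (hp : ∀ i, 0 < a i) (hp' : ∀ i, 0 < a' i)
    (h : oddv C a = oddv C' a') : C = C' ∧ a = a' := by
  constructor
  · ext i
    rw [oddv_mod4 C ha, oddv_mod4 C' ha', h]
  · funext i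
    have h1 := oddv_abs C a i
    rw [h, oddv_abs C' a' i, abs_of_pos (hp i), abs_of_pos (hp' i)] at h1
    exact h1.symm

theorem eq_oddv_abs {x : GolayPt → ℤ} (h2 : ∀ i, x i % 2 = 1) {C : Finset GolayPt}
    (hC : ∀ i, i ∈ C ↔ x i % 4 = 1) : x = oddv C (fun i => |x i|) := by
  funext i
  unfold oddv
  dsimp only
  have h := h2 i
  rcases le_or_gt 0 (x i) with hpos | hneg
  · have habs : |x i| = x i := abs_of_nonneg hpos
    by_cases h1 : i ∈ C
    · have := (hC i).1 h1
      simp [h1, habs, this]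
    · have : ¬ x i % 4 = 1 := fun h => h1 ((hC i).2 h)
      simp [h1, habs, this]
  · have habs : |x i| = -x i := abs_of_neg hneg
    by_cases h1 : i ∈ C
    · have := (hC i).1 h1
      have h3 : ¬ (-x i) % 4 = 1 := by omega
      simp [h1, habs, h3]
    · have : ¬ x i % 4 = 1 := fun h => h1 ((hC i).2 h)
      have h3 : (-x i) % 4 = 1 := by omega
      simp [h1, habs, h3]

theorem supports_card_cases {C : Finset GolayPt}
    (hC : C ∈ supports (golayCode : Set (GolayPt → ZMod 2))) :
    C.card = 0 ∨ C.card = 8 ∨ C.card = 12 ∨ C.card = 16 ∨ C.card = 24 := by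
  obtain ⟨w, hw, rfl⟩ := hC
  rw [Cfsg.Agent.Lib.Helper21.card_support₂]
  exact Cfsg.Agent.Lib.Helper21.golay_weights w hw

theorem even_odd_subsets_card (s : Finset GolayPt) (hne : s.Nonempty) :
    (s.powerset.filter (fun T => Even T.card)).card = 2 ^ (s.card - 1) ∧
    (s.powerset.filter (fun T => Odd T.card)).card = 2 ^ (s.card - 1) := by
  classical
  have hne' : s ≠ ∅ := hne.ne_empty
  have h1 := Finset.sum_powerset_neg_one_pow_card (x := s)
  rw [if_neg hne'] at h1
  have h2 : ∑ T ∈ s.powerset, (-1 : ℤ) ^ T.card =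
      ((s.powerset.filter (fun T => Even T.card)).card : ℤ) -
        ((s.powerset.filter (fun T => ¬ Even T.card)).card : ℤ) := by
    rw [← Finset.sum_filter_add_sum_filter_not s.powerset (fun T => Even T.card)]
    have ha : ∑ T ∈ s.powerset.filter (fun T => Even T.card), (-1 : ℤ) ^ T.card =
        ((s.powerset.filter (fun T => Even T.card)).card : ℤ) := by
      rw [Finset.sum_congr rfl (g := fun _ => (1 : ℤ))]
      · simp
      · intro T hT
        exact Even.neg_one_pow (Finset.mem_filter.1 hT).2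
    have hb : ∑ T ∈ s.powerset.filter (fun T => ¬ Even T.card), (-1 : ℤ) ^ T.card =
        -((s.powerset.filter (fun T => ¬ Even T.card)).card : ℤ) := by
      rw [Finset.sum_congr rfl (g := fun _ => (-1 : ℤ))]
      · simp
      · intro T hT
        exact Odd.neg_one_pow (Nat.not_even_iff_odd.1 (Finset.mem_filter.1 hT).2)
    rw [ha, hb]; ring
  have h3 := Finset.card_filter_add_card_filter_not (s := s.powerset) (fun T => Even T.card)
  rw [Finset.card_powerset] at h3
  rw [h2] at h1
  have h5 : (s.powerset.filter (fun T => Odd T.card)) =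
      (s.powerset.filter (fun T => ¬ Even T.card)) := by
    apply Finset.filter_congr
    intro T _
    exact Nat.not_even_iff_odd.symm
  rw [h5]
  have hpos : 0 < s.card := hne.card_pos
  have h6 : 2 ^ s.card = 2 * 2 ^ (s.card - 1) := by
    rw [← pow_succ']
    congr 1
    omega
  rw [h6] at h3
  constructor <;> omega

theorem ncard_family {ι : Type*} (F : Finset ι) (f : ι → GolayPt → ℤ) (hinj : Set.InjOn f F) :
    {x | ∃ p ∈ F, x = f p}.ncard = F.card := by
  have : {x | ∃ p ∈ F, x = f p} = f '' (F : Set ι) := by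
    ext x
    constructor
    · rintro ⟨p, hp, rfl⟩
      exact ⟨p, hp, rfl⟩
    · rintro ⟨p, hp, rfl⟩
      exact ⟨p, hp, rfl⟩
  rw [this, Set.InjOn.ncard_image hinj, Set.ncard_coe_finset]

end Cfsg.Agent.Lib.Helper3
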