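import Mathlib
import Cfsg.Prelude.Def_Sporadic_a
import Cfsg.Agent.Lib.Helper3.LeechShapes

set_option autoImplicit false

/-!
Helper library (helper3): a generating set of the Leech lattice:
`d4 i p = 4e_i - 4e_p`, `s4 p q = 4e_p + 4e_q`, `twoC C` (`C` a codeword support), `ov ∅ p`.
`leech_le_of_gens` : an additive subgroup containing these contains the lattice.
-/

namespace Cfsg.Agent.Lib.Helper3

open Cfsg

/-- `4e_i - 4e_p` -/
def d4 (i p : GolayPt) : GolayPt → ℤ := fun k => (if k = i then 4 else 0) - (if k = p then 4 else 0)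

/-- `4e_p + 4e_q` -/
def s4 (p q : GolayPt) : GolayPt → ℤ := fun k => (if k = p then 4 else 0) + (if k = q then 4 else 0)

theorem four_mul_mem_of_gens (H : AddSubgroup (GolayPt → ℤ)) {p q : GolayPt} (hpq : q ≠ p)
    (hd : ∀ i, i ≠ p → d4 i p ∈ H) (hs : s4 p q ∈ H) (y : GolayPt → ℤ) (hy : (∑ i, y i) % 2 = 0) :
    (fun k => 4 * y k) ∈ H := by
  have hd' : ∀ i, d4 i p ∈ H := by
    intro i
    by_cases hi : i = p
    · have : d4 i p = 0 := by
        funext k; unfold d4; rw [hi]; simp
      rw [this]; exact H.zero_mem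
    · exact hd i hi
  have h8 : (fun k => if k = p then (8 : ℤ) else 0) ∈ H := by
    have := H.sub_mem hs (hd q hpq)
    convert this using 1
    funext k
    simp only [s4, d4, Pi.sub_apply]
    by_cases h1 : k = p
    · subst h1
      have : k ≠ q := fun h => hpq h.symm
      simp [this]
    · by_cases h2 : k = q
      · subst h2
        simp [hpq]
      · simp [h1, h2]
  obtain ⟨m, hm⟩ : ∃ m : ℤ, ∑ i, y i = 2 * m := ⟨(∑ i, y i) / 2, by omega⟩
  have hmem : (∑ i, y i • d4 i p) + m • (fun k => if k = p then (8 : ℤ) else 0) ∈ H :=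
    H.add_mem (H.sum_mem (fun i _ => H.zsmul_mem (hd' i) _)) (H.zsmul_mem h8 m)
  convert hmem using 1
  funext k
  simp only [Pi.add_apply, Finset.sum_apply, Pi.smul_apply, smul_eq_mul, d4]
  have h1 : ∑ i, y i * ((if k = i then 4 else 0) - (if k = p then 4 else 0)) =
      4 * y k - (if k = p then 4 else 0) * ∑ i, y i := by
    simp_rw [mul_sub]
    rw [Finset.sum_sub_distrib, ← Finset.sum_mul]
    simp only [mul_ite, mul_zero, Finset.sum_ite_eq, Finset.mem_univ, if_true]
    by_cases hk : k = p <;> simp [hk] <;> ring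
  rw [h1, hm]
  by_cases hk : k = p <;> simp [hk] <;> ring

/-- An additive subgroup containing the generators contains the Leech lattice. -/
theorem leech_le_of_gens (H : AddSubgroup (GolayPt → ℤ)) {p q : GolayPt} (hpq : q ≠ p)
    (hd : ∀ i, i ≠ p → d4 i p ∈ H) (hs : s4 p q ∈ H)
    (hC : ∀ C ∈ supports (golayCode : Set (GolayPt → ZMod 2)), twoC C ∈ H)
    (ho : ov ∅ p ∈ H) : leechLattice ≤ H := by
  classical
  -- even vectors
  have heven : ∀ x ∈ leechLattice, (∀ i, x i % 2 = 0) → x ∈ H := by
    intro x hx h2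
    obtain ⟨C, hCdef⟩ : ∃ C : Finset GolayPt, ∀ i, i ∈ C ↔ x i % 4 = 2 :=
      ⟨Finset.univ.filter (fun i => x i % 4 = 2), fun i => by simp⟩
    obtain ⟨hCs, hsum⟩ := (even_mem_iff h2 hCdef).1 hx
    have h4 : ∀ i, (x i - twoC C i) % 4 = 0 := by
      intro i
      unfold twoC
      by_cases hi : i ∈ C
      · have := (hCdef i).1 hi
        simp only [hi, if_true]; omega
      · have : ¬ x i % 4 = 2 := fun h => hi ((hCdef i).2 h)
        have := h2 i
        simp only [hi, if_false]; omega
    obtain ⟨y, hy⟩ : ∃ y : GolayPt → ℤ, ∀ i, x i - twoC C i = 4 * y i :=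
      ⟨fun i => (x i - twoC C i) / 4, fun i => by
        have := h4 i
        show x i - twoC C i = 4 * ((x i - twoC C i) / 4)
        omega⟩
    have hysum : (∑ i, y i) % 2 = 0 := by
      have h1 : ∑ i, (x i - twoC C i) = 4 * ∑ i, y i := by
        rw [Finset.mul_sum]
        exact Finset.sum_congr rfl (fun i _ => hy i)
      rw [Finset.sum_sub_distrib] at h1
      have h2 : ∑ i, twoC C i = 2 * (C.card : ℤ) := by
        unfold twoC
        simp only [Finset.sum_ite_mem, Finset.univ_inter, Finset.sum_const, nsmul_eq_mul]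
        ring
      rw [h2] at h1
      obtain ⟨r, hr⟩ := supports_card_dvd hCs
      rw [hr] at h1
      push_cast at h1
      omega
    have h4y := four_mul_mem_of_gens H hpq hd hs y hysum
    have : x = (fun k => 4 * y k) + twoC C := by
      funext k
      simp only [Pi.add_apply]
      have := hy k
      linarith
    rw [this]
    exact H.add_mem h4y (hC C hCs)
  intro x hx
  rcases parity_cases hx with h2 | h2
  · exact heven x hx h2
  · have hov : ov ∅ p ∈ leechLattice := ov_mem empty_mem_supports p
    have h1 : x - ov ∅ p ∈ leechLattice := leechLattice.sub_mem hx hov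
    have h3 : ∀ i, (x - ov ∅ p) i % 2 = 0 := by
      intro i
      have := h2 i
      have := ov_odd ∅ p i
      simp only [Pi.sub_apply]
      omega
    have := H.add_mem (heven _ h1 h3) ho
    simpa using this

end Cfsg.Agent.Lib.Helper3
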