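import Mathlib
import Cfsg.Prelude.Def_Sporadic_a
import Cfsg.Agent.Lib.Helper3.LeechGen
import Cfsg.Agent.Lib.Helper3.Co0Perm
import Cfsg.Agent.Lib.Helper21.GolaySextet

set_option autoImplicit false

/-!
Helper library (helper3): for every tetrad `T` (4 points), the extra automorphism
`ξ_T = ε_T ∘ η` of the Leech lattice (`η` = reflection `x ↦ x - (sum over the tetrad)/2` on each
tetrad of the sextet of `T`, `ε_T` = sign change on `T`).  `xiL T hT ∈ Co0`.
-/

namespace Cfsg.Agent.Lib.Helper3

open Cfsg Cfsg.Agent.Lib.Helper21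

/-- the tetrad of the sextet of `T` containing `j` -/
noncomputable def tet (T : Finset GolayPt) (hT : T.card = 4) (j : GolayPt) : Finset GolayPt :=
  Classical.choose (sextet_cover (sextetOf_mem hT) j)

section
variable (T : Finset GolayPt) (hT : T.card = 4)

theorem tet_mem (j : GolayPt) : tet T hT j ∈ sextetOf T :=
  (Classical.choose_spec (sextet_cover (sextetOf_mem hT) j)).1

theorem mem_tet (j : GolayPt) : j ∈ tet T hT j :=
  (Classical.choose_spec (sextet_cover (sextetOf_mem hT) j)).2

theorem tet_card (j : GolayPt) : (tet T hT j).card = 4 :=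
  tetrad_card (sextetOf_mem hT) (tet_mem T hT j)

theorem tet_eq_of_mem {t : Finset GolayPt} (ht : t ∈ sextetOf T) {j : GolayPt} (hj : j ∈ t) :
    tet T hT j = t := by
  by_contra hne
  have := sextet_disjoint (sextetOf_mem hT) (tet_mem T hT j) ht hne
  exact (Finset.disjoint_left.1 this (mem_tet T hT j)) hj

theorem tet_eq_T {j : GolayPt} (hj : j ∈ T) : tet T hT j = T :=
  tet_eq_of_mem T hT (self_mem_sextetOf T) hj

theorem tet_eq_of_mem_tet {j k : GolayPt} (hk : k ∈ tet T hT j) : tet T hT k = tet T hT j :=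
  tet_eq_of_mem T hT (tet_mem T hT j) hk

theorem mem_tet_symm {j k : GolayPt} (hk : k ∈ tet T hT j) : j ∈ tet T hT k := by
  rw [tet_eq_of_mem_tet T hT hk]; exact mem_tet T hT j

theorem mem_tet_comm (j k : GolayPt) : k ∈ tet T hT j ↔ j ∈ tet T hT k :=
  ⟨mem_tet_symm T hT, mem_tet_symm T hT⟩

theorem tet_mem_T_iff {j k : GolayPt} (hk : k ∈ tet T hT j) : k ∈ T ↔ j ∈ T := by
  constructor
  · intro h
    have h1 := tet_eq_of_mem_tet T hT hk
    rw [tet_eq_T T hT h] at h1
    rw [h1]; exact mem_tet T hT j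
  · intro h
    rw [tet_eq_T T hT h] at hk
    exact hk

theorem tet_union_octad {j k : GolayPt} (h : tet T hT j ≠ tet T hT k) :
    tet T hT j ∪ tet T hT k ∈ octads :=
  (sextetOf_mem hT).2.2 _ (tet_mem T hT j) _ (tet_mem T hT k) h

theorem tet_disjoint {j k : GolayPt} (h : tet T hT j ≠ tet T hT k) :
    Disjoint (tet T hT j) (tet T hT k) :=
  sextet_disjoint (sextetOf_mem hT) (tet_mem T hT j) (tet_mem T hT k) h

/-- double counting over tetrads -/
theorem sum_sum_tet (f : GolayPt → ℤ) : ∑ j, ∑ k ∈ tet T hT j, f k = 4 * ∑ k, f k := by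
  classical
  have h1 : ∀ j, ∑ k ∈ tet T hT j, f k = ∑ k, if k ∈ tet T hT j then f k else 0 := by
    intro j
    rw [Finset.sum_ite_mem, Finset.univ_inter]
  simp_rw [h1]
  rw [Finset.sum_comm]
  have h2 : ∀ k, (∑ j, if k ∈ tet T hT j then f k else 0) = 4 * f k := by
    intro k
    have : ∀ j, (if k ∈ tet T hT j then f k else 0) = if j ∈ tet T hT k then f k else 0 := by
      intro j
      simp only [mem_tet_comm T hT j k]
    simp_rw [this]
    rw [Finset.sum_ite_mem, Finset.univ_inter, Finset.sum_const, tet_card, nsmul_eq_mul]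
    norm_num
  simp_rw [h2]
  rw [Finset.mul_sum]

/-- the sign `-1` on `T`, `+1` elsewhere -/
def eps (T : Finset GolayPt) (j : GolayPt) : ℤ := if j ∈ T then -1 else 1

theorem eps_sq (j : GolayPt) : eps T j * eps T j = 1 := by
  unfold eps; split_ifs <;> norm_num

theorem eps_tet {j k : GolayPt} (hk : k ∈ tet T hT j) : eps T k = eps T j := by
  unfold eps
  have := tet_mem_T_iff T hT hk
  by_cases h : j ∈ T
  · simp [h, this.2 h]
  · have h' : k ∉ T := fun hh => h (this.1 hh)
    simp [h, h']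

/-- `2η` : `x ↦ 2x - (sum over the tetrad)` -/
noncomputable def etaF (x : GolayPt → ℤ) : GolayPt → ℤ :=
  fun j => 2 * x j - ∑ k ∈ tet T hT j, x k

/-- `2ξ_T` -/
noncomputable def xiF (x : GolayPt → ℤ) : GolayPt → ℤ :=
  fun j => eps T j * etaF T hT x j

theorem etaF_add (x y : GolayPt → ℤ) : etaF T hT (x + y) = etaF T hT x + etaF T hT y := by
  funext j
  simp only [etaF, Pi.add_apply, Finset.sum_add_distrib]
  ring

theorem xiF_add (x y : GolayPt → ℤ) : xiF T hT (x + y) = xiF T hT x + xiF T hT y := by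
  funext j
  simp only [xiF, etaF_add, Pi.add_apply]
  ring

theorem xiF_zero : xiF T hT 0 = 0 := by
  funext j
  simp [xiF, etaF]

theorem xiF_neg (x : GolayPt → ℤ) : xiF T hT (-x) = -xiF T hT x := by
  funext j
  simp only [xiF, etaF, Pi.neg_apply, Finset.sum_neg_distrib]
  ring

theorem sum_tet_etaF (x : GolayPt → ℤ) (j : GolayPt) :
    ∑ k ∈ tet T hT j, etaF T hT x k = -2 * ∑ k ∈ tet T hT j, x k := by
  have : ∀ k ∈ tet T hT j, etaF T hT x k = 2 * x k - ∑ l ∈ tet T hT j, x l := by
    intro k hk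
    unfold etaF
    rw [tet_eq_of_mem_tet T hT hk]
  rw [Finset.sum_congr rfl this, Finset.sum_sub_distrib, Finset.sum_const, tet_card,
    ← Finset.mul_sum]
  simp only [nsmul_eq_mul]
  push_cast
  ring

theorem etaF_etaF (x : GolayPt → ℤ) : etaF T hT (etaF T hT x) = fun j => 4 * x j := by
  funext j
  show 2 * etaF T hT x j - ∑ k ∈ tet T hT j, etaF T hT x k = 4 * x j
  rw [sum_tet_etaF]
  unfold etaF
  ring

theorem etaF_eps (x : GolayPt → ℤ) :
    etaF T hT (fun j => eps T j * x j) = fun j => eps T j * etaF T hT x j := by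
  funext j
  unfold etaF
  have : ∑ k ∈ tet T hT j, eps T k * x k = eps T j * ∑ k ∈ tet T hT j, x k := by
    rw [Finset.mul_sum]
    exact Finset.sum_congr rfl (fun k hk => by rw [eps_tet T hT hk])
  rw [this]
  ring

theorem xiF_xiF (x : GolayPt → ℤ) : xiF T hT (xiF T hT x) = fun j => 4 * x j := by
  funext j
  show eps T j * etaF T hT (fun j => eps T j * etaF T hT x j) j = 4 * x j
  rw [etaF_eps, etaF_etaF]
  have := eps_sq T j
  calc eps T j * (eps T j * (4 * x j)) = (eps T j * eps T j) * (4 * x j) := by ring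
    _ = 4 * x j := by rw [this]; ring

theorem sqNorm_etaF (x : GolayPt → ℤ) : sqNorm (etaF T hT x) = 4 * sqNorm x := by
  unfold sqNorm
  have h1 : ∀ j, etaF T hT x j ^ 2 = 4 * x j ^ 2 - 4 * (∑ k ∈ tet T hT j, x j * x k) +
      ∑ k ∈ tet T hT j, (∑ l ∈ tet T hT k, x l) * x k := by
    intro j
    unfold etaF
    have h2 : ∑ k ∈ tet T hT j, (∑ l ∈ tet T hT k, x l) * x k =
        (∑ l ∈ tet T hT j, x l) * ∑ k ∈ tet T hT j, x k := by
      rw [Finset.mul_sum]
      exact Finset.sum_congr rfl (fun k hk => by rw [tet_eq_of_mem_tet T hT hk])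
    rw [h2, ← Finset.mul_sum]
    ring
  simp_rw [h1]
  rw [Finset.sum_add_distrib, Finset.sum_sub_distrib, ← Finset.mul_sum, ← Finset.mul_sum,
    sum_sum_tet T hT (fun k => (∑ l ∈ tet T hT k, x l) * x k)]
  have h3 : ∑ j, ∑ k ∈ tet T hT j, x j * x k = ∑ k, (∑ l ∈ tet T hT k, x l) * x k := by
    apply Finset.sum_congr rfl
    intro j _
    rw [Finset.sum_mul, ← Finset.mul_sum, Finset.mul_sum]
    apply Finset.sum_congr rfl
    intro k _
    ring
  rw [h3]
  ring

theorem sqNorm_xiF (x : GolayPt → ℤ) : sqNorm (xiF T hT x) = 4 * sqNorm x := by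
  rw [← sqNorm_etaF T hT x]
  unfold sqNorm
  apply Finset.sum_congr rfl
  intro j _
  unfold xiF
  have := eps_sq T j
  calc (eps T j * etaF T hT x j) ^ 2 = (eps T j * eps T j) * etaF T hT x j ^ 2 := by ring
    _ = etaF T hT x j ^ 2 := by rw [this]; ring


/-! ### the generators are mapped into twice the lattice -/

/-- `v` is twice a lattice vector -/
def InTwoL (v : GolayPt → ℤ) : Prop := ∃ y ∈ leechLattice, v = y + y

theorem d4_eq_sv {i p : GolayPt} (hip : i ≠ p) : d4 i p = sv 4 {i, p} {p} := by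
  funext k
  unfold d4 sv
  by_cases h1 : k = p
  · subst h1
    have : k ≠ i := fun h => hip h.symm
    simp [this]
  · by_cases h2 : k = i
    · subst h2
      simp [hip]
    · simp [h1, h2]

theorem d4_mem {i p : GolayPt} (hip : i ≠ p) : d4 i p ∈ leechLattice := by
  rw [d4_eq_sv hip]
  exact sv4_mem (Finset.card_pair hip) (by simp)

theorem sum_tet_d4 (t : Finset GolayPt) (i p : GolayPt) :
    ∑ k ∈ t, d4 i p k = (if i ∈ t then 4 else 0) - (if p ∈ t then 4 else 0) := by
  unfold d4
  rw [Finset.sum_sub_distrib, Finset.sum_ite_eq', Finset.sum_ite_eq']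

theorem xiF_d4_in {i p : GolayPt} (hp : p ∈ T) (hi : i ∈ T) (hip : i ≠ p) :
    InTwoL (xiF T hT (d4 i p)) := by
  refine ⟨-d4 i p, leechLattice.neg_mem (d4_mem hip), ?_⟩
  funext j
  simp only [xiF, etaF, Pi.add_apply, Pi.neg_apply]
  rw [sum_tet_d4]
  have h1 : i ∈ tet T hT j ↔ j ∈ T := by
    rw [mem_tet_comm, tet_eq_T T hT hi]
  have h2 : p ∈ tet T hT j ↔ j ∈ T := by
    rw [mem_tet_comm, tet_eq_T T hT hp]
  unfold eps d4
  by_cases hj : j ∈ T
  · simp only [h1.2 hj, h2.2 hj, hj, if_true]
    ring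
  · have hji : j ≠ i := fun h => hj (h ▸ hi)
    have hjp : j ≠ p := fun h => hj (h ▸ hp)
    have h1' : i ∉ tet T hT j := fun h => hj (h1.1 h)
    have h2' : p ∉ tet T hT j := fun h => hj (h2.1 h)
    simp [hj, hji, hjp, h1', h2']

theorem xiF_d4_out {i p : GolayPt} (hp : p ∈ T) (hi : i ∉ T) :
    InTwoL (xiF T hT (d4 i p)) := by
  classical
  have hne : tet T hT i ≠ tet T hT p := by
    rw [tet_eq_T T hT hp]
    intro h
    exact hi (h ▸ mem_tet T hT i)
  have hO : tet T hT i ∪ T ∈ octads := by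
    have := tet_union_octad T hT hne
    rwa [tet_eq_T T hT hp] at this
  have hdis : Disjoint (tet T hT i) T := by
    have := tet_disjoint T hT hne
    rwa [tet_eq_T T hT hp] at this
  have hipne : i ≠ p := fun h => hi (h ▸ hp)
  have hW : ((tet T hT i ∪ T) \ {i, p}) ⊆ tet T hT i ∪ T := Finset.sdiff_subset
  have hWc : ((tet T hT i ∪ T) \ {i, p}).card = 6 := by
    rw [Finset.card_sdiff_of_subset, hO.2, Finset.card_pair hipne]
    intro k hk
    rcases Finset.mem_insert.1 hk with rfl | hk
    · exact Finset.mem_union_left _ (mem_tet T hT _)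
    · rw [Finset.mem_singleton.1 hk]; exact Finset.mem_union_right _ hp
  refine ⟨sv 2 (tet T hT i ∪ T) ((tet T hT i ∪ T) \ {i, p}),
    sv2_mem hO hW (by rw [hWc]; decide), ?_⟩
  funext j
  simp only [xiF, etaF, Pi.add_apply]
  rw [sum_tet_d4]
  have h1 : i ∈ tet T hT j ↔ j ∈ tet T hT i := mem_tet_comm T hT j i
  have h2 : p ∈ tet T hT j ↔ j ∈ T := by
    rw [mem_tet_comm, tet_eq_T T hT hp]
  unfold eps d4 sv
  simp only [Finset.mem_sdiff, Finset.mem_union, Finset.mem_insert, Finset.mem_singleton]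
  by_cases hjT : j ∈ T
  · have hji : j ≠ i := fun h => hi (h ▸ hjT)
    have hjti : j ∉ tet T hT i := fun h => (Finset.disjoint_left.1 hdis h) hjT
    have h1' : i ∉ tet T hT j := fun h => hjti (h1.1 h)
    by_cases hjp : j = p
    · subst hjp
      simp [hjT, hji, hjti, h1', h2.2 hjT]
    · simp [hjT, hji, hjp, hjti, h1', h2.2 hjT]
  · have hjp : j ≠ p := fun h => hjT (h ▸ hp)
    have h2' : p ∉ tet T hT j := fun h => hjT (h2.1 h)
    by_cases hjti : j ∈ tet T hT i
    · by_cases hji : j = i
      · subst hji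
        simp [hjT, hjp, h2', mem_tet T hT j]
      · simp [hjT, hjp, h2', hjti, h1.2 hjti, hji]
    · have h1' : i ∉ tet T hT j := fun h => hjti (h1.1 h)
      have hji : j ≠ i := fun h => hjti (h ▸ mem_tet T hT i)
      simp [hjT, hjp, h2', hjti, h1', hji]

theorem s4_eq_sv {p q : GolayPt} (hpq : p ≠ q) : s4 p q = sv 4 {p, q} ∅ := by
  funext k
  unfold s4 sv
  by_cases h1 : k = p
  · subst h1
    have : k ≠ q := hpq
    simp [this]
  · by_cases h2 : k = q
    · subst h2
      simp [hpq.symm]
    · simp [h1, h2]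

theorem xiF_s4 {p q : GolayPt} (hp : p ∈ T) (hq : q ∈ T) (hpq : q ≠ p) :
    InTwoL (xiF T hT (s4 p q)) := by
  classical
  have hc : (T \ {p, q}).card = 2 := by
    rw [Finset.card_sdiff_of_subset, hT, Finset.card_pair hpq.symm]
    intro k hk
    rcases Finset.mem_insert.1 hk with rfl | hk
    · exact hp
    · rw [Finset.mem_singleton.1 hk]; exact hq
  refine ⟨sv 4 (T \ {p, q}) ∅, sv4_mem hc (Finset.empty_subset _), ?_⟩
  funext j
  simp only [xiF, etaF, Pi.add_apply]
  have hsum : ∑ k ∈ tet T hT j, s4 p q k =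
      (if p ∈ tet T hT j then 4 else 0) + (if q ∈ tet T hT j then 4 else 0) := by
    unfold s4
    rw [Finset.sum_add_distrib, Finset.sum_ite_eq', Finset.sum_ite_eq']
  rw [hsum]
  have h1 : p ∈ tet T hT j ↔ j ∈ T := by
    rw [mem_tet_comm, tet_eq_T T hT hp]
  have h2 : q ∈ tet T hT j ↔ j ∈ T := by
    rw [mem_tet_comm, tet_eq_T T hT hq]
  unfold eps s4 sv
  simp only [Finset.mem_sdiff, Finset.mem_insert, Finset.mem_singleton, Finset.notMem_empty,
    if_false]
  by_cases hjT : j ∈ T
  · by_cases hjp : j = p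
    · subst hjp
      have : j ≠ q := hpq.symm
      simp [hjT, this, h2.2 hjT, mem_tet T hT j]
    · by_cases hjq : j = q
      · subst hjq
        simp [hjT, hjp, h1.2 hjT, mem_tet T hT j]
      · simp [hjT, hjp, hjq, h1.2 hjT, h2.2 hjT]
  · have hjp : j ≠ p := fun h => hjT (h ▸ hp)
    have hjq : j ≠ q := fun h => hjT (h ▸ hq)
    have h1' : p ∉ tet T hT j := fun h => hjT (h1.1 h)
    have h2' : q ∉ tet T hT j := fun h => hjT (h2.1 h)
    simp [hjT, hjp, hjq, h1', h2']

theorem xiF_ov {p : GolayPt} (hp : p ∈ T) : InTwoL (xiF T hT (ov ∅ p)) := by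
  classical
  refine ⟨-ov ∅ p, leechLattice.neg_mem (ov_mem empty_mem_supports p), ?_⟩
  funext j
  simp only [xiF, etaF, Pi.add_apply, Pi.neg_apply]
  have hov : ∀ k, ov ∅ p k = (if k = p then 4 else 0) - 1 := by
    intro k
    unfold ov
    by_cases h : k = p <;> simp [h]
  have hsum : ∑ k ∈ tet T hT j, ov ∅ p k = (if p ∈ tet T hT j then 4 else 0) - 4 := by
    simp_rw [hov]
    rw [Finset.sum_sub_distrib, Finset.sum_ite_eq', Finset.sum_const, tet_card]
    simp
  rw [hsum, hov]
  have h1 : p ∈ tet T hT j ↔ j ∈ T := by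
    rw [mem_tet_comm, tet_eq_T T hT hp]
  unfold eps
  by_cases hjT : j ∈ T
  · simp only [hjT, h1.2 hjT, if_true]
    ring
  · have hjp : j ≠ p := fun h => hjT (h ▸ hp)
    have h1' : p ∉ tet T hT j := fun h => hjT (h1.1 h)
    simp [hjT, hjp, h1']


/-! ### saturated sets (unions of tetrads) -/

/-- a union of tetrads of the sextet -/
def Sat (Z : Finset GolayPt) : Prop := ∀ j ∈ Z, tet T hT j ⊆ Z

theorem sat_sdiff {Z : Finset GolayPt} (hZ : Sat T hT Z) {j : GolayPt} (hj : j ∈ Z) :
    Sat T hT (Z \ tet T hT j) ∧ (Z \ tet T hT j).card + 4 = Z.card := by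
  constructor
  · intro k hk
    obtain ⟨hkZ, hkt⟩ := Finset.mem_sdiff.1 hk
    intro l hl
    rw [Finset.mem_sdiff]
    refine ⟨hZ k hkZ hl, fun hlt => hkt ?_⟩
    have h1 := tet_eq_of_mem_tet T hT hl
    have h2 := tet_eq_of_mem_tet T hT hlt
    have h3 : tet T hT k = tet T hT j := h1.symm.trans h2
    rw [← h3]
    exact mem_tet T hT k
  · rw [Finset.card_sdiff_of_subset (hZ j hj), tet_card]
    have : 4 ≤ Z.card := by
      rw [← tet_card T hT j]; exact Finset.card_le_card (hZ j hj)
    omega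

theorem sat_card_dvd : ∀ (n : ℕ) (Z : Finset GolayPt), Z.card = n → Sat T hT Z → 4 ∣ n := by
  intro n
  induction n using Nat.strong_induction_on with
  | _ n ih =>
    intro Z hn hZ
    by_cases hZe : Z = ∅
    · subst hZe; simp at hn; subst hn; simp
    · obtain ⟨j, hj⟩ := Finset.nonempty_iff_ne_empty.2 hZe
      obtain ⟨h1, h2⟩ := sat_sdiff T hT hZ hj
      have := ih ((Z \ tet T hT j).card) (by omega) _ rfl h1
      omega

theorem sat_mem_supports : ∀ (n : ℕ) (Z : Finset GolayPt), Z.card = n → Sat T hT Z → 8 ∣ n →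
    Z ∈ supports (golayCode : Set (GolayPt → ZMod 2)) := by
  intro n
  induction n using Nat.strong_induction_on with
  | _ n ih =>
    intro Z hn hZ h8
    by_cases hZe : Z = ∅
    · subst hZe; exact empty_mem_supports
    · obtain ⟨j, hj⟩ := Finset.nonempty_iff_ne_empty.2 hZe
      obtain ⟨h1, h2⟩ := sat_sdiff T hT hZ hj
      have hne1 : (Z \ tet T hT j).Nonempty := by
        rw [← Finset.card_pos]
        omega
      obtain ⟨k, hk⟩ := hne1
      obtain ⟨h3, h4⟩ := sat_sdiff T hT h1 hk
      have hIH := ih (((Z \ tet T hT j) \ tet T hT k).card) (by omega) _ rfl h3 (by omega)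
      have hkt : k ∉ tet T hT j := (Finset.mem_sdiff.1 hk).2
      have hne : tet T hT j ≠ tet T hT k := by
        intro h
        exact hkt (h ▸ mem_tet T hT k)
      have hO := tet_union_octad T hT hne
      have hdis : Disjoint ((Z \ tet T hT j) \ tet T hT k) (tet T hT j ∪ tet T hT k) := by
        rw [Finset.disjoint_left]
        intro l hl hl2
        obtain ⟨hl3, hl4⟩ := Finset.mem_sdiff.1 hl
        obtain ⟨_, hl6⟩ := Finset.mem_sdiff.1 hl3
        rcases Finset.mem_union.1 hl2 with h | h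
        · exact hl6 h
        · exact hl4 h
      have hZeq : Z = symmDiff ((Z \ tet T hT j) \ tet T hT k) (tet T hT j ∪ tet T hT k) := by
        rw [Disjoint.symmDiff_eq_sup hdis, Finset.sup_eq_union]
        ext l
        simp only [Finset.mem_union, Finset.mem_sdiff]
        constructor
        · intro hl
          by_cases h5 : l ∈ tet T hT j
          · exact Or.inr (Or.inl h5)
          · by_cases h6 : l ∈ tet T hT k
            · exact Or.inr (Or.inr h6)
            · exact Or.inl ⟨⟨hl, h5⟩, h6⟩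
        · rintro (⟨⟨hl, _⟩, _⟩ | h | h)
          · exact hl
          · exact hZ j hj h
          · exact hZ k (Finset.mem_sdiff.1 hk).1 h
      rw [hZeq]
      exact supports_symmDiff hIH hO.1

/-! ### the image of `twoC C` -/

/-- number of points of `C` in the tetrad of `j` -/
noncomputable def nn (C : Finset GolayPt) (j : GolayPt) : ℤ := ((tet T hT j ∩ C).card : ℤ)

theorem nn_tet (C : Finset GolayPt) {j k : GolayPt} (hk : k ∈ tet T hT j) :
    nn T hT C k = nn T hT C j := by
  unfold nn
  rw [tet_eq_of_mem_tet T hT hk]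

theorem nn_bounds (C : Finset GolayPt) (j : GolayPt) : 0 ≤ nn T hT C j ∧ nn T hT C j ≤ 4 := by
  unfold nn
  constructor
  · positivity
  · have := Finset.card_le_card (Finset.inter_subset_left : tet T hT j ∩ C ⊆ tet T hT j)
    rw [tet_card] at this
    exact_mod_cast this

theorem sum_tet_twoC (C : Finset GolayPt) (j : GolayPt) :
    ∑ k ∈ tet T hT j, twoC C k = 2 * nn T hT C j := by
  unfold twoC nn
  rw [Finset.sum_ite_mem, Finset.sum_const]
  simp only [nsmul_eq_mul]
  ring

theorem nn_parity {C : Finset GolayPt}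
    (hC : C ∈ supports (golayCode : Set (GolayPt → ZMod 2))) (j k : GolayPt) :
    nn T hT C j % 2 = nn T hT C k % 2 := by
  by_cases h : tet T hT j = tet T hT k
  · unfold nn; rw [h]
  · have hO := tet_union_octad T hT h
    have hdis := tet_disjoint T hT h
    have hev := supports_inter_even hO.1 hC
    have : ((tet T hT j ∪ tet T hT k) ∩ C).card = (tet T hT j ∩ C).card + (tet T hT k ∩ C).card := by
      rw [Finset.union_inter_distrib_right]
      apply Finset.card_union_of_disjoint
      rw [Finset.disjoint_left]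
      intro l h1 h2
      exact (Finset.disjoint_left.1 hdis (Finset.mem_inter.1 h1).1) (Finset.mem_inter.1 h2).1
    rw [this] at hev
    obtain ⟨r, hr⟩ := hev
    unfold nn
    omega

theorem sum_nn (C : Finset GolayPt) : ∑ j, nn T hT C j = 4 * (C.card : ℤ) := by
  have h1 : ∀ j, nn T hT C j = ∑ k ∈ tet T hT j, (if k ∈ C then (1 : ℤ) else 0) := by
    intro j
    unfold nn
    rw [Finset.sum_ite_mem, Finset.sum_const]
    simp
  simp_rw [h1]
  rw [sum_sum_tet]
  simp

theorem sum_xiF (x : GolayPt → ℤ) : ∑ j, xiF T hT x j = -2 * ∑ j, eps T j * x j := by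
  unfold xiF etaF
  have h1 : ∀ j, eps T j * (2 * x j - ∑ k ∈ tet T hT j, x k) =
      2 * (eps T j * x j) - ∑ k ∈ tet T hT j, eps T k * x k := by
    intro j
    have : ∑ k ∈ tet T hT j, eps T k * x k = eps T j * ∑ k ∈ tet T hT j, x k := by
      rw [Finset.mul_sum]
      exact Finset.sum_congr rfl (fun k hk => by rw [eps_tet T hT hk])
    rw [this]; ring
  simp_rw [h1]
  rw [Finset.sum_sub_distrib, ← Finset.mul_sum, sum_sum_tet T hT (fun k => eps T k * x k)]
  ring

/-- half of the image of `twoC C` -/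
noncomputable def yv (C : Finset GolayPt) : GolayPt → ℤ :=
  fun j => eps T j * ((if j ∈ C then 2 else 0) - nn T hT C j)

theorem xiF_twoC_eq (C : Finset GolayPt) : xiF T hT (twoC C) = yv T hT C + yv T hT C := by
  funext j
  simp only [xiF, etaF, yv, Pi.add_apply]
  rw [sum_tet_twoC]
  unfold twoC
  ring

theorem sum_yv (C : Finset GolayPt) {p : GolayPt} (hp : p ∈ T) :
    ∑ j, yv T hT C j = -2 * (C.card : ℤ) + 4 * nn T hT C p := by
  have h1 : ∑ j, xiF T hT (twoC C) j = 2 * ∑ j, yv T hT C j := by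
    rw [xiF_twoC_eq, Finset.mul_sum]
    apply Finset.sum_congr rfl
    intro j _
    simp only [Pi.add_apply]; ring
  rw [sum_xiF] at h1
  have h2 : ∑ j, eps T j * twoC C j = 2 * (C.card : ℤ) - 4 * nn T hT C p := by
    have h3 : ∀ j, eps T j * twoC C j = (if j ∈ C then 2 else 0) - (if j ∈ T ∩ C then 4 else 0) := by
      intro j
      unfold eps twoC
      simp only [Finset.mem_inter]
      by_cases h4 : j ∈ T <;> by_cases h5 : j ∈ C <;> simp [h4, h5]
    simp_rw [h3]
    rw [Finset.sum_sub_distrib]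
    simp only [Finset.sum_ite_mem, Finset.univ_inter, Finset.sum_const, nsmul_eq_mul]
    unfold nn
    rw [tet_eq_T T hT hp]
    ring
  rw [h2] at h1
  linarith

theorem yv_mem {C : Finset GolayPt} (hC : C ∈ supports (golayCode : Set (GolayPt → ZMod 2)))
    {p : GolayPt} (hp : p ∈ T) : yv T hT C ∈ leechLattice := by
  classical
  have hb := nn_bounds T hT C
  have hsumnn := sum_nn T hT C
  obtain ⟨r, hr⟩ := supports_card_dvd hC
  have hsy := sum_yv T hT C hp
  have hTsat : Sat T hT T := fun j hj => by rw [tet_eq_T T hT hj]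
  rcases Int.emod_two_eq_zero_or_one (nn T hT C p) with hpar | hpar
  · -- all `nn` even
    have hev : ∀ j, nn T hT C j % 2 = 0 := fun j => by rw [nn_parity T hT hC j p]; exact hpar
    obtain ⟨M, hM⟩ : ∃ M : Finset GolayPt, ∀ j, j ∈ M ↔ nn T hT C j = 4 :=
      ⟨Finset.univ.filter (fun j => nn T hT C j = 4), fun j => by simp⟩
    obtain ⟨Z, hZ⟩ : ∃ Z : Finset GolayPt, ∀ j, j ∈ Z ↔ nn T hT C j = 2 :=
      ⟨Finset.univ.filter (fun j => nn T hT C j = 2), fun j => by simp⟩
    have hMsat : Sat T hT M := fun j hj k hk => by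
      rw [hM, nn_tet T hT C hk]; exact (hM j).1 hj
    have hZsat : Sat T hT Z := fun j hj k hk => by
      rw [hZ, nn_tet T hT C hk]; exact (hZ j).1 hj
    have hM4 := sat_card_dvd T hT _ M rfl hMsat
    have hnn : ∀ j, nn T hT C j = (if j ∈ M then 4 else 0) + (if j ∈ Z then 2 else 0) := by
      intro j
      have h1 := hb j
      have h2 := hev j
      have h3 : nn T hT C j = 0 ∨ nn T hT C j = 2 ∨ nn T hT C j = 4 := by omega
      rcases h3 with h | h | h
      · have hm : j ∉ M := fun hh => by have := (hM j).1 hh; omega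
        have hz : j ∉ Z := fun hh => by have := (hZ j).1 hh; omega
        simp [hm, hz, h]
      · have hm : j ∉ M := fun hh => by have := (hM j).1 hh; omega
        have hz : j ∈ Z := (hZ j).2 h
        simp [hm, hz, h]
      · have hm : j ∈ M := (hM j).2 h
        have hz : j ∉ Z := fun hh => by have := (hZ j).1 hh; omega
        simp [hm, hz, h]
    have hZ8 : 8 ∣ Z.card := by
      have h1 : ∑ j, nn T hT C j = 4 * (M.card : ℤ) + 2 * (Z.card : ℤ) := by
        simp_rw [hnn]
        rw [Finset.sum_add_distrib]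
        simp only [Finset.sum_ite_mem, Finset.univ_inter, Finset.sum_const, nsmul_eq_mul]
        ring
      rw [hsumnn, hr] at h1
      obtain ⟨m, hm⟩ := hM4
      rw [hm] at h1
      push_cast at h1
      omega
    have hZs := sat_mem_supports T hT _ Z rfl hZsat hZ8
    have hC' := supports_symmDiff hC hZs
    have h2 : ∀ j, yv T hT C j % 2 = 0 := by
      intro j
      unfold yv eps
      have := hev j
      by_cases h4 : j ∈ T <;> by_cases h5 : j ∈ C <;> simp [h4, h5] <;> omega
    have hCdef : ∀ j, j ∈ symmDiff C Z ↔ yv T hT C j % 4 = 2 := by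
      intro j
      rw [Finset.mem_symmDiff, hZ]
      unfold yv eps
      have h1 := hb j
      have h2 := hev j
      have h3 : nn T hT C j = 0 ∨ nn T hT C j = 2 ∨ nn T hT C j = 4 := by omega
      by_cases h4 : j ∈ T <;> by_cases h5 : j ∈ C <;> rcases h3 with h | h | h <;>
        simp [h4, h5, h]
    rw [even_mem_iff h2 hCdef]
    refine ⟨hC', ?_⟩
    rw [hsy, hr]
    push_cast
    omega
  · -- all `nn` odd
    have hod : ∀ j, nn T hT C j % 2 = 1 := fun j => by rw [nn_parity T hT hC j p]; exact hpar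
    obtain ⟨Z3, hZ3⟩ : ∃ Z : Finset GolayPt, ∀ j, j ∈ Z ↔ nn T hT C j = 3 :=
      ⟨Finset.univ.filter (fun j => nn T hT C j = 3), fun j => by simp⟩
    obtain ⟨Z, hZ⟩ : ∃ Z : Finset GolayPt,
        ∀ j, j ∈ Z ↔ ((j ∈ T ∧ nn T hT C j = 1) ∨ (j ∉ T ∧ nn T hT C j = 3)) :=
      ⟨Finset.univ.filter (fun j => (j ∈ T ∧ nn T hT C j = 1) ∨ (j ∉ T ∧ nn T hT C j = 3)),
        fun j => by simp⟩
    have hZ3sat : Sat T hT Z3 := fun j hj k hk => by
      rw [hZ3, nn_tet T hT C hk]; exact (hZ3 j).1 hj
    have hZsat : Sat T hT Z := fun j hj k hk => by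
      rw [hZ, nn_tet T hT C hk, tet_mem_T_iff T hT hk]; exact (hZ j).1 hj
    have hnn : ∀ j, nn T hT C j = 1 + (if j ∈ Z3 then 2 else 0) := by
      intro j
      have h1 := hb j
      have h2 := hod j
      have h3 : nn T hT C j = 1 ∨ nn T hT C j = 3 := by omega
      rcases h3 with h | h
      · have hz : j ∉ Z3 := fun hh => by have := (hZ3 j).1 hh; omega
        simp [hz, h]
      · have hz : j ∈ Z3 := (hZ3 j).2 h
        simp [hz, h]
    have hZ3c : (Z3.card : ℤ) = 2 * (C.card : ℤ) - 12 := by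
      have h1 : ∑ j, nn T hT C j = 24 + 2 * (Z3.card : ℤ) := by
        simp_rw [hnn]
        rw [Finset.sum_add_distrib]
        simp only [Finset.sum_ite_mem, Finset.univ_inter, Finset.sum_const, nsmul_eq_mul,
          Finset.card_univ, card_golayPt]
        push_cast; ring
      rw [hsumnn] at h1
      linarith
    have hZ8 : 8 ∣ Z.card := by
      have h1 := hb p
      have h3 : nn T hT C p = 1 ∨ nn T hT C p = 3 := by omega
      have hnT : ∀ j ∈ T, nn T hT C j = nn T hT C p := fun j hj => by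
        apply nn_tet T hT C
        rw [tet_eq_T T hT hp]; exact hj
      rcases h3 with h | h
      · -- Z = Z3 ∪ T, disjoint
        have hdis : Disjoint Z3 T := by
          rw [Finset.disjoint_left]
          intro j hj hjT
          have := (hZ3 j).1 hj
          rw [hnT j hjT] at this
          omega
        have hZeq : Z = Z3 ∪ T := by
          ext j
          rw [hZ, Finset.mem_union, hZ3]
          constructor
          · rintro (⟨h4, _⟩ | ⟨_, h5⟩)
            · exact Or.inr h4
            · exact Or.inl h5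
          · rintro (h4 | h4)
            · by_cases h5 : j ∈ T
              · rw [hnT j h5] at h4; omega
              · exact Or.inr ⟨h5, h4⟩
            · exact Or.inl ⟨h4, by rw [hnT j h4]; exact h⟩
        rw [hZeq, Finset.card_union_of_disjoint hdis, hT]
        rw [hr] at hZ3c
        push_cast at hZ3c
        omega
      · -- Z = Z3 \ T, T ⊆ Z3
        have hsub : T ⊆ Z3 := fun j hj => (hZ3 j).2 (by rw [hnT j hj]; exact h)
        have hZeq : Z = Z3 \ T := by
          ext j
          rw [hZ, Finset.mem_sdiff, hZ3]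
          constructor
          · rintro (⟨h4, h5⟩ | ⟨h4, h5⟩)
            · rw [hnT j h4] at h5; omega
            · exact ⟨h5, h4⟩
          · rintro ⟨h4, h5⟩
            exact Or.inr ⟨h5, h4⟩
        rw [hZeq, Finset.card_sdiff_of_subset hsub, hT]
        have : 4 ≤ Z3.card := by rw [← hT]; exact Finset.card_le_card hsub
        rw [hr] at hZ3c
        push_cast at hZ3c
        omega
    have hZs := sat_mem_supports T hT _ Z rfl hZsat hZ8
    have hC' := supports_symmDiff hC hZs
    have h2 : ∀ j, yv T hT C j % 2 = 1 := by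
      intro j
      unfold yv eps
      have := hod j
      by_cases h4 : j ∈ T <;> by_cases h5 : j ∈ C <;> simp [h4, h5] <;> omega
    have hCdef : ∀ j, j ∈ symmDiff C Z ↔ yv T hT C j % 4 = 1 := by
      intro j
      rw [Finset.mem_symmDiff, hZ]
      unfold yv eps
      have h1 := hb j
      have h2 := hod j
      have h3 : nn T hT C j = 1 ∨ nn T hT C j = 3 := by omega
      by_cases h4 : j ∈ T <;> by_cases h5 : j ∈ C <;> rcases h3 with h | h <;>
        simp [h4, h5, h]
    rw [odd_mem_iff h2 hCdef]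
    refine ⟨hC', ?_⟩
    rw [hsy, hr]
    push_cast
    omega

theorem xiF_twoC {C : Finset GolayPt} (hC : C ∈ supports (golayCode : Set (GolayPt → ZMod 2)))
    {p : GolayPt} (hp : p ∈ T) : InTwoL (xiF T hT (twoC C)) :=
  ⟨yv T hT C, yv_mem T hT hC hp, xiF_twoC_eq T hT C⟩


/-! ### the automorphism -/

theorem inTwoL_add {v w : GolayPt → ℤ} (hv : InTwoL v) (hw : InTwoL w) : InTwoL (v + w) := by
  obtain ⟨y, hy, rfl⟩ := hv
  obtain ⟨z, hz, rfl⟩ := hw
  exact ⟨y + z, leechLattice.add_mem hy hz, by abel⟩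

theorem inTwoL_neg {v : GolayPt → ℤ} (hv : InTwoL v) : InTwoL (-v) := by
  obtain ⟨y, hy, rfl⟩ := hv
  exact ⟨-y, leechLattice.neg_mem hy, by abel⟩

theorem inTwoL_zero : InTwoL 0 := ⟨0, leechLattice.zero_mem, by simp⟩

theorem xiF_mem_twoL {x : GolayPt → ℤ} (hx : x ∈ leechLattice) : InTwoL (xiF T hT x) := by
  obtain ⟨p, hp, q, hq, hpq⟩ := Finset.one_lt_card.1 (by rw [hT]; norm_num : 1 < T.card)
  let H : AddSubgroup (GolayPt → ℤ) :=
    { carrier := {x | InTwoL (xiF T hT x)}
      zero_mem' := by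
        show InTwoL (xiF T hT 0)
        rw [xiF_zero]; exact inTwoL_zero
      add_mem' := by
        intro a b ha hb
        show InTwoL (xiF T hT (a + b))
        rw [xiF_add]; exact inTwoL_add ha hb
      neg_mem' := by
        intro a ha
        show InTwoL (xiF T hT (-a))
        rw [xiF_neg]; exact inTwoL_neg ha }
  have hle : leechLattice ≤ H := by
    apply leech_le_of_gens H (p := p) (q := q) hpq.symm
    · intro i hi
      by_cases hiT : i ∈ T
      · exact xiF_d4_in T hT hp hiT hi
      · exact xiF_d4_out T hT hp hiT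
    · exact xiF_s4 T hT hp hq hpq.symm
    · intro C hC
      exact xiF_twoC T hT hC hp
    · exact xiF_ov T hT hp
  exact hle hx

theorem half_unique {y z : GolayPt → ℤ} (h : y + y = z + z) : y = z := by
  funext j
  have := congrFun h j
  simp only [Pi.add_apply] at this
  omega

/-- the map `ξ_T` on the lattice -/
noncomputable def xiMap (v : leechLattice) : leechLattice :=
  ⟨Classical.choose (xiF_mem_twoL T hT v.2), (Classical.choose_spec (xiF_mem_twoL T hT v.2)).1⟩

theorem xiMap_spec (v : leechLattice) :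
    xiF T hT v.1 = (xiMap T hT v).1 + (xiMap T hT v).1 :=
  (Classical.choose_spec (xiF_mem_twoL T hT v.2)).2

theorem xiMap_add (v w : leechLattice) : xiMap T hT (v + w) = xiMap T hT v + xiMap T hT w := by
  apply Subtype.ext
  apply half_unique
  rw [← xiMap_spec]
  show xiF T hT (v.1 + w.1) = _
  rw [xiF_add, xiMap_spec T hT v, xiMap_spec T hT w]
  show _ = ((xiMap T hT v).1 + (xiMap T hT w).1) + ((xiMap T hT v).1 + (xiMap T hT w).1)
  abel

theorem xiMap_xiMap (v : leechLattice) : xiMap T hT (xiMap T hT v) = v := by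
  apply Subtype.ext
  have h1 := xiMap_spec T hT (xiMap T hT v)
  have h2 : xiF T hT (xiMap T hT v).1 + xiF T hT (xiMap T hT v).1 = fun j => 4 * v.1 j := by
    rw [← xiF_add, ← xiMap_spec, xiF_xiF]
  rw [h1] at h2
  funext j
  have := congrFun h2 j
  simp only [Pi.add_apply] at this
  omega

theorem sqNorm_double (y : GolayPt → ℤ) : sqNorm (y + y) = 4 * sqNorm y := by
  unfold sqNorm
  rw [Finset.mul_sum]
  apply Finset.sum_congr rfl
  intro j _
  simp only [Pi.add_apply]; ring

theorem sqNorm_xiMap (v : leechLattice) : sqNorm (xiMap T hT v).1 = sqNorm v.1 := by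
  have h1 := sqNorm_xiF T hT v.1
  rw [xiMap_spec, sqNorm_double] at h1
  linarith

/-- `ξ_T` as a permutation of the lattice -/
noncomputable def xiL : Equiv.Perm leechLattice where
  toFun := xiMap T hT
  invFun := xiMap T hT
  left_inv := xiMap_xiMap T hT
  right_inv := xiMap_xiMap T hT

theorem xiL_mem : xiL T hT ∈ Co0 :=
  ⟨fun v w => xiMap_add T hT v w, fun v => sqNorm_xiMap T hT v⟩

theorem xiL_apply (v : leechLattice) (j : GolayPt) :
    2 * (xiL T hT v).1 j = eps T j * (2 * v.1 j - ∑ k ∈ tet T hT j, v.1 k) := by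
  have := congrFun (xiMap_spec T hT v) j
  simp only [Pi.add_apply, xiF, etaF] at this
  show 2 * (xiMap T hT v).1 j = _
  linarith

end

end Cfsg.Agent.Lib.Helper3
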