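import Mathlib
import Cfsg.Prelude.Def_Sporadic_a
import Cfsg.Agent.Lib.Helper3.Co0Xi
import Cfsg.Agent.Lib.Helper3.LeechMin

set_option autoImplicit false

/-!
Helper library (helper3): `Co0` is transitive on the minimal vectors (`sqNorm = 32`) of the Leech
lattice.  `ConnF x y` says the lattice vector `x` is mapped to `y` by an element of `Co0`.
Every minimal vector is connected to `minB0 = (4, 4, 0, …)`.
-/

namespace Cfsg.Agent.Lib.Helper3

open Cfsg Cfsg.Agent.Lib.Helper21

/-- `y` is the image of the lattice vector `x` under an element of `Co0`. -/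
def ConnF (x y : GolayPt → ℤ) : Prop :=
  ∃ (hx : x ∈ leechLattice) (g : Equiv.Perm leechLattice), g ∈ Co0 ∧ (g ⟨x, hx⟩).1 = y

theorem connF_refl {x : GolayPt → ℤ} (hx : x ∈ leechLattice) : ConnF x x :=
  ⟨hx, 1, one_mem _, rfl⟩

theorem ConnF.mem_left {x y : GolayPt → ℤ} (h : ConnF x y) : x ∈ leechLattice := h.1

theorem ConnF.mem_right {x y : GolayPt → ℤ} (h : ConnF x y) : y ∈ leechLattice := by
  obtain ⟨hx, g, hg, rfl⟩ := h
  exact (g _).2

theorem ConnF.sqNorm_eq {x y : GolayPt → ℤ} (h : ConnF x y) : sqNorm y = sqNorm x := by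
  obtain ⟨hx, g, hg, rfl⟩ := h
  exact hg.2 _

theorem ConnF.symm {x y : GolayPt → ℤ} (h : ConnF x y) : ConnF y x := by
  obtain ⟨hx, g, hg, rfl⟩ := h
  refine ⟨(g _).2, g⁻¹, inv_mem hg, ?_⟩
  simp

theorem ConnF.trans {x y z : GolayPt → ℤ} (h1 : ConnF x y) (h2 : ConnF y z) : ConnF x z := by
  obtain ⟨hx, g, hg, rfl⟩ := h1
  obtain ⟨hy, h, hh, rfl⟩ := h2
  exact ⟨hx, h * g, mul_mem hh hg, by simp [Equiv.Perm.mul_apply]⟩

theorem connF_neg {x : GolayPt → ℤ} (hx : x ∈ leechLattice) : ConnF x (-x) :=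
  ⟨hx, Equiv.neg _, neg_mem_Co0, rfl⟩

theorem connF_sgn {x : GolayPt → ℤ} (hx : x ∈ leechLattice) {C : Finset GolayPt}
    (hC : C ∈ supports (golayCode : Set (GolayPt → ZMod 2))) : ConnF x (sgnVec C x) :=
  ⟨hx, sgnL C hC, sgnL_mem C hC, rfl⟩

theorem connF_perm {x : GolayPt → ℤ} (hx : x ∈ leechLattice) {σ : Equiv.Perm GolayPt}
    (hσ : σ ∈ M24) : ConnF x (fun i => x (σ i)) :=
  ⟨hx, permL σ hσ, permL_mem σ hσ, rfl⟩

theorem connF_xi {x : GolayPt → ℤ} (hx : x ∈ leechLattice) (T : Finset GolayPt)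
    (hT : T.card = 4) :
    ∃ y, ConnF x y ∧ ∀ j, 2 * y j = eps T j * (2 * x j - ∑ k ∈ tet T hT j, x k) :=
  ⟨_, ⟨hx, xiL T hT, xiL_mem T hT, rfl⟩, fun j => xiL_apply T hT ⟨x, hx⟩ j⟩

/-- two distinct points are separated by an octad -/
theorem exists_octad_sep {a b : GolayPt} (hab : a ≠ b) :
    ∃ C ∈ octads, a ∈ C ∧ b ∉ C := by
  classical
  have hcard : 3 ≤ ((Finset.univ : Finset GolayPt) \ {a, b}).card := by
    rw [Finset.card_sdiff_of_subset (Finset.subset_univ _), Finset.card_univ, card_golayPt,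
      Finset.card_pair hab]
    norm_num
  obtain ⟨t3, ht3, hc3⟩ := Finset.exists_subset_card_eq hcard
  have ha3 : a ∉ t3 := fun h => by have := ht3 h; simp at this
  have hb3 : b ∉ t3 := fun h => by have := ht3 h; simp at this
  obtain ⟨T, hTdef⟩ : ∃ T, T = insert a t3 := ⟨_, rfl⟩
  have hT : T.card = 4 := by rw [hTdef, Finset.card_insert_of_notMem ha3, hc3]
  have haT : a ∈ T := by rw [hTdef]; exact Finset.mem_insert_self _ _
  have hbT : b ∉ T := by
    rw [hTdef, Finset.mem_insert, not_or]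
    exact ⟨hab.symm, hb3⟩
  have hk : ∃ k, k ∉ T ∪ tet T hT b := by
    by_contra hcon
    push Not at hcon
    have h1 : (Finset.univ : Finset GolayPt) ⊆ T ∪ tet T hT b := fun k _ => hcon k
    have h2 := Finset.card_le_card h1
    rw [Finset.card_univ, card_golayPt] at h2
    have h3 := Finset.card_union_le T (tet T hT b)
    rw [hT, tet_card] at h3
    omega
  obtain ⟨k, hk⟩ := hk
  rw [Finset.mem_union, not_or] at hk
  have h1 : tet T hT a ≠ tet T hT k := by
    rw [tet_eq_T T hT haT]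
    intro h
    exact hk.1 (h ▸ mem_tet T hT k)
  refine ⟨_, tet_union_octad T hT h1, Finset.mem_union_left _ (mem_tet T hT a), ?_⟩
  rw [Finset.mem_union, not_or, tet_eq_T T hT haT]
  refine ⟨hbT, fun h => ?_⟩
  have h2 := tet_eq_of_mem_tet T hT h
  exact hk.2 (h2 ▸ mem_tet T hT k)

/-- every point lies in an octad -/
theorem exists_octad_mem (a : GolayPt) : ∃ C ∈ octads, a ∈ C := by
  have : ∃ b : GolayPt, a ≠ b := by
    by_cases h : a = none
    · exact ⟨some 0, by rw [h]; decide⟩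
    · exact ⟨none, h⟩
  obtain ⟨b, hab⟩ := this
  obtain ⟨C, hC, ha, -⟩ := exists_octad_sep hab
  exact ⟨C, hC, ha⟩

/-- the standard minimal vector `(4, 4, 0, …)` -/
def minB0 : GolayPt → ℤ := fun i => if i = none ∨ i = some 0 then 4 else 0

theorem connF_B_pp {x : GolayPt → ℤ} (hx : x ∈ leechLattice) {a b : GolayPt} (hab : a ≠ b)
    (ha : x a = 4) (hb : x b = 4) (h0 : ∀ i, i ≠ a → i ≠ b → x i = 0) : ConnF x minB0 := by
  obtain ⟨σ, hσ, h1, h2⟩ := M24_two_trans (i := some 0) (j := none) (i' := b) (j' := a)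
    (by decide) hab
  have : (fun i => x (σ i)) = minB0 := by
    funext i
    unfold minB0
    by_cases hi : i = none ∨ i = some 0
    · rw [if_pos hi]
      rcases hi with rfl | rfl
      · rw [h1, ha]
      · rw [h2, hb]
    · rw [if_neg hi]
      push Not at hi
      apply h0
      · intro h; apply hi.1; apply σ.injective; rw [h, h1]
      · intro h; apply hi.2; apply σ.injective; rw [h, h2]
  rw [← this]
  exact connF_perm hx hσ

theorem connF_B_p {x : GolayPt → ℤ} (hx : x ∈ leechLattice) {a b : GolayPt} (hab : a ≠ b)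
    (ha : x a = 4) (hb : x b = 4 ∨ x b = -4) (h0 : ∀ i, i ≠ a → i ≠ b → x i = 0) :
    ConnF x minB0 := by
  rcases hb with hb | hb
  · exact connF_B_pp hx hab ha hb h0
  · obtain ⟨C, hC, hbC, haC⟩ := exists_octad_sep hab.symm
    have h1 := connF_sgn hx hC.1
    refine h1.trans (connF_B_pp h1.mem_right hab ?_ ?_ ?_)
    · unfold sgnVec; rw [if_neg haC, ha]
    · unfold sgnVec; rw [if_pos hbC, hb]; norm_num
    · intro i hia hib
      unfold sgnVec
      rw [h0 i hia hib]; simp

theorem connF_B {x : GolayPt → ℤ} (hx : x ∈ leechLattice) {a b : GolayPt} (hab : a ≠ b)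
    (ha : x a = 4 ∨ x a = -4) (hb : x b = 4 ∨ x b = -4) (h0 : ∀ i, i ≠ a → i ≠ b → x i = 0) :
    ConnF x minB0 := by
  rcases ha with ha | ha
  · exact connF_B_p hx hab ha hb h0
  · obtain ⟨C, hC, haC, hbC⟩ := exists_octad_sep hab
    have h1 := connF_sgn hx hC.1
    refine h1.trans (connF_B_p h1.mem_right hab ?_ ?_ ?_)
    · unfold sgnVec; rw [if_pos haC, ha]; norm_num
    · unfold sgnVec; rw [if_neg hbC]; exact hb
    · intro i hia hib
      unfold sgnVec
      rw [h0 i hia hib]; simp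

/-- vectors `sv 4 s W` with `|s| = 2` are connected to `minB0` -/
theorem connF_sv4 {s W : Finset GolayPt} (hs : s.card = 2) (hW : W ⊆ s) : ConnF (sv 4 s W) minB0 := by
  classical
  obtain ⟨a, b, hab, rfl⟩ := Finset.card_eq_two.1 hs
  refine connF_B (sv4_mem hs hW) hab ?_ ?_ ?_
  · unfold sv
    by_cases h : a ∈ W
    · right; rw [if_pos h]
    · left; rw [if_neg h, if_pos (by simp)]
  · unfold sv
    by_cases h : b ∈ W
    · right; rw [if_pos h]
    · left; rw [if_neg h, if_pos (by simp)]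
  · intro i hia hib
    unfold sv
    have h1 : i ∉ ({a, b} : Finset GolayPt) := by simp [hia, hib]
    rw [if_neg (fun h => h1 (hW h)), if_neg h1]

/-- a minimal vector with a coordinate `±4` is connected to `minB0` -/
theorem connF_of_coord4 {x : GolayPt → ℤ} (hx : x ∈ leechLattice) (hn : sqNorm x = 32)
    {j : GolayPt} (hj : x j = 4 ∨ x j = -4) : ConnF x minB0 := by
  rcases (leech_minimal_iff x).1 ⟨hx, hn⟩ with ⟨s, W, hs, hW, rfl⟩ | ⟨s, W, hs, hW, hev, rfl⟩ |
    ⟨C, k, hC, rfl⟩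
  · exact connF_sv4 hs hW
  · exfalso
    unfold sv at hj
    split_ifs at hj <;> rcases hj with hj | hj <;> norm_num at hj
  · exfalso
    have := ov_odd C k j
    omega

/-- a minimal vector with a zero coordinate and mixed signs on an octad -/
theorem connF_sv2_mixed {O W : Finset GolayPt} (hO : O ∈ octads) (hW : W ⊆ O)
    (hev : Even W.card) (hne : W.Nonempty) (hne' : W ≠ O) : ConnF (sv 2 O W) minB0 := by
  classical
  have hx := sv2_mem hO hW hev
  have hn : sqNorm (sv 2 O W) = 32 := by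
    rw [sqNorm_sv 2 hW, hO.2]; norm_num
  have hcard : (O \ W).card + W.card = 8 := by
    rw [Finset.card_sdiff_add_card_eq_card hW, hO.2]
  by_cases hle : W.card ≤ 4
  · -- one minus sign and three plus signs
    obtain ⟨w, hw⟩ := hne
    obtain ⟨t3, ht3, hc3⟩ := Finset.exists_subset_card_eq (s := O \ W) (n := 3) (by omega)
    have hw3 : w ∉ t3 := fun h => (Finset.mem_sdiff.1 (ht3 h)).2 hw
    obtain ⟨T, hTdef⟩ : ∃ T, T = insert w t3 := ⟨_, rfl⟩
    have hT : T.card = 4 := by rw [hTdef, Finset.card_insert_of_notMem hw3, hc3]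
    have hwT : w ∈ T := by rw [hTdef]; exact Finset.mem_insert_self _ _
    obtain ⟨y, hy, hyj⟩ := connF_xi hx T hT
    have h1 := hyj w
    rw [tet_eq_T T hT hwT, hTdef, Finset.sum_insert hw3] at h1
    have h2 : ∑ k ∈ t3, sv 2 O W k = ∑ k ∈ t3, (2 : ℤ) := by
      apply Finset.sum_congr rfl
      intro k hk
      have := Finset.mem_sdiff.1 (ht3 hk)
      unfold sv
      rw [if_neg this.2, if_pos this.1]
    have h3 : sv 2 O W w = -2 := by unfold sv; rw [if_pos hw]
    have h4 : eps (insert w t3) w = -1 := by unfold eps; rw [if_pos (Finset.mem_insert_self _ _)]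
    rw [h2, h3, h4, Finset.sum_const, hc3] at h1
    have h5 : y w = 4 := by
      simp at h1; omega
    exact hy.trans (connF_of_coord4 hy.mem_right (by rw [hy.sqNorm_eq, hn]) (Or.inl h5))
  · -- one plus sign and three minus signs
    have hex : ∃ u, u ∈ O \ W := by
      by_contra hcon
      push Not at hcon
      apply hne'
      apply Finset.Subset.antisymm hW
      intro u hu
      by_contra huW
      exact hcon u (Finset.mem_sdiff.2 ⟨hu, huW⟩)
    obtain ⟨u, hu⟩ := hex
    obtain ⟨t3, ht3, hc3⟩ := Finset.exists_subset_card_eq (s := W) (n := 3) (by omega)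
    have hu' := Finset.mem_sdiff.1 hu
    have hu3 : u ∉ t3 := fun h => hu'.2 (ht3 h)
    obtain ⟨T, hTdef⟩ : ∃ T, T = insert u t3 := ⟨_, rfl⟩
    have hT : T.card = 4 := by rw [hTdef, Finset.card_insert_of_notMem hu3, hc3]
    have huT : u ∈ T := by rw [hTdef]; exact Finset.mem_insert_self _ _
    obtain ⟨y, hy, hyj⟩ := connF_xi hx T hT
    have h1 := hyj u
    rw [tet_eq_T T hT huT, hTdef, Finset.sum_insert hu3] at h1
    have h2 : ∑ k ∈ t3, sv 2 O W k = ∑ k ∈ t3, (-2 : ℤ) := by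
      apply Finset.sum_congr rfl
      intro k hk
      unfold sv
      rw [if_pos (ht3 hk)]
    have h3 : sv 2 O W u = 2 := by unfold sv; rw [if_neg hu'.2, if_pos hu'.1]
    have h4 : eps (insert u t3) u = -1 := by unfold eps; rw [if_pos (Finset.mem_insert_self _ _)]
    rw [h2, h3, h4, Finset.sum_const, hc3] at h1
    have h5 : y u = -4 := by
      simp at h1; omega
    exact hy.trans (connF_of_coord4 hy.mem_right (by rw [hy.sqNorm_eq, hn]) (Or.inr h5))

/-- `2` on an octad -/
theorem connF_sv2_empty {O : Finset GolayPt} (hO : O ∈ octads) : ConnF (sv 2 O ∅) minB0 := by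
  classical
  have hx := sv2_mem hO (Finset.empty_subset O) (by simp)
  have h2 : 1 < O.card := by rw [hO.2]; norm_num
  obtain ⟨a, ha, b, hb, hab⟩ := Finset.one_lt_card.1 h2
  obtain ⟨C, hC, haC, hbC⟩ := exists_octad_sep hab
  have h1 := connF_sgn hx hC.1
  have h3 : sgnVec C (sv 2 O ∅) = sv 2 O (O ∩ C) := by
    funext i
    unfold sgnVec sv
    by_cases hiO : i ∈ O <;> by_cases hiC : i ∈ C <;> simp [hiO, hiC]
  rw [h3] at h1
  refine h1.trans (connF_sv2_mixed hO Finset.inter_subset_left ?_ ⟨a, Finset.mem_inter.2 ⟨ha, haC⟩⟩ ?_)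
  · have := supports_inter_even hO.1 hC.1
    exact (even_iff_two_dvd).2 this
  · intro h
    have : b ∈ O ∩ C := by rw [h]; exact hb
    exact hbC (Finset.mem_inter.1 this).2

theorem neg_sv (c : ℤ) {s W : Finset GolayPt} (hW : W ⊆ s) : -(sv c s W) = sv c s (s \ W) := by
  classical
  funext i
  unfold sv
  by_cases hiW : i ∈ W
  · have := hW hiW
    simp [hiW, this]
  · by_cases his : i ∈ s <;> simp [hiW, his]

/-- all vectors of shape `(±2^8, 0^16)` -/
theorem connF_sv2 {O W : Finset GolayPt} (hO : O ∈ octads) (hW : W ⊆ O)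
    (hev : Even W.card) : ConnF (sv 2 O W) minB0 := by
  classical
  by_cases h1 : W = ∅
  · rw [h1]; exact connF_sv2_empty hO
  by_cases h2 : W = O
  · have hx := sv2_mem hO hW hev
    have h3 := connF_neg hx
    rw [neg_sv 2 hW, h2, Finset.sdiff_self] at h3
    rw [h2]
    exact h3.trans (connF_sv2_empty hO)
  · exact connF_sv2_mixed hO hW hev (Finset.nonempty_iff_ne_empty.2 h1) h2

/-- all vectors of shape `(∓3, ±1^23)` -/
theorem connF_ov {C : Finset GolayPt} (hC : C ∈ supports (golayCode : Set (GolayPt → ZMod 2)))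
    (j : GolayPt) : ConnF (ov C j) minB0 := by
  classical
  have hx := ov_mem hC j
  obtain ⟨O, hO, hjO⟩ := exists_octad_mem j
  -- change signs to reach `ov O j`
  have hC' := supports_symmDiff hC hO.1
  have h1 := connF_sgn hx hC'
  have h2 : sgnVec ((C \ O) ∪ (O \ C)) (ov C j) = ov O j := by
    funext i
    unfold sgnVec ov
    by_cases hij : i = j
    · subst hij
      by_cases hiC : i ∈ C <;> simp [hiC, hjO]
    · by_cases hiC : i ∈ C <;> by_cases hiO : i ∈ O <;> simp [hij, hiC, hiO]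
  rw [h2] at h1
  -- three points outside `O`
  have hcard : 3 ≤ ((Finset.univ : Finset GolayPt) \ O).card := by
    rw [Finset.card_sdiff_of_subset (Finset.subset_univ _), Finset.card_univ, card_golayPt, hO.2]
    norm_num
  obtain ⟨t3, ht3, hc3⟩ := Finset.exists_subset_card_eq hcard
  have hj3 : j ∉ t3 := fun h => (Finset.mem_sdiff.1 (ht3 h)).2 hjO
  obtain ⟨T, hTdef⟩ : ∃ T, T = insert j t3 := ⟨_, rfl⟩
  have hT : T.card = 4 := by rw [hTdef, Finset.card_insert_of_notMem hj3, hc3]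
  have hjT : j ∈ T := by rw [hTdef]; exact Finset.mem_insert_self _ _
  obtain ⟨y, hy, hyj⟩ := connF_xi h1.mem_right T hT
  have h3 := hyj j
  rw [tet_eq_T T hT hjT, hTdef, Finset.sum_insert hj3] at h3
  have h4 : ∑ k ∈ t3, ov O j k = ∑ k ∈ t3, (-1 : ℤ) := by
    apply Finset.sum_congr rfl
    intro k hk
    have hkO := (Finset.mem_sdiff.1 (ht3 hk)).2
    have hkj : k ≠ j := fun h => hj3 (h ▸ hk)
    unfold ov
    rw [if_neg hkj, if_neg hkO]
  have h5 : ov O j j = -3 := by unfold ov; rw [if_pos rfl, if_pos hjO]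
  have h6 : eps (insert j t3) j = -1 := by unfold eps; rw [if_pos (Finset.mem_insert_self _ _)]
  rw [h4, h5, h6, Finset.sum_const, hc3] at h3
  have h7 : y j = 0 := by
    simp at h3; omega
  have hyn : sqNorm y = 32 := by rw [hy.sqNorm_eq, sqNorm_ov]
  refine h1.trans (hy.trans ?_)
  rcases (leech_minimal_iff y).1 ⟨hy.mem_right, hyn⟩ with ⟨s, W, hs, hW, rfl⟩ |
    ⟨s, W, hs, hW, hev, rfl⟩ | ⟨C', k, hC', rfl⟩
  · exact connF_sv4 hs hW
  · exact connF_sv2 hs hW hev
  · exfalso
    have := ov_odd C' k j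
    omega

/-- every minimal vector is connected to `minB0` -/
theorem connF_minimal {x : GolayPt → ℤ} (hx : x ∈ leechLattice) (hn : sqNorm x = 32) :
    ConnF x minB0 := by
  rcases (leech_minimal_iff x).1 ⟨hx, hn⟩ with ⟨s, W, hs, hW, rfl⟩ | ⟨s, W, hs, hW, hev, rfl⟩ |
    ⟨C, k, hC, rfl⟩
  · exact connF_sv4 hs hW
  · exact connF_sv2 hs hW hev
  · exact connF_ov hC k

/-- `Co0` is transitive on minimal vectors -/
theorem co0_trans_minimal (v w : leechLattice) (hv : sqNorm v.1 = 32) (hw : sqNorm w.1 = 32) :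
    ∃ g ∈ Co0, g v = w := by
  have h1 := connF_minimal v.2 hv
  have h2 := connF_minimal w.2 hw
  obtain ⟨hx, g, hg, h3⟩ := h1.trans h2.symm
  exact ⟨g, hg, Subtype.ext h3⟩

end Cfsg.Agent.Lib.Helper3
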