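import Mathlib
import Cfsg.Prelude.Def_Sporadic_a
import Cfsg.Agent.Lib.Helper3.LeechShapes

set_option autoImplicit false

/-!
Helper library (helper3): classification of the Leech lattice vectors with `sqNorm = 48`:
* `sv 2 s T` with `s` a dodecad, `T ⊆ s`, `T.card` even,
* `ev s T j c` with `s` an octad, `T ⊆ s`, `T.card` odd, `j ∉ s`, `c = ±4`,
* `oddv C (p3 J)` with `J.card = 3`,
* `oddv C (p5 j)`.
-/

namespace Cfsg.Agent.Lib.Helper3

open Cfsg

/-- `c` at `j`, `sv 2 s T` elsewhere -/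
def ev (s T : Finset GolayPt) (j : GolayPt) (c : ℤ) : GolayPt → ℤ :=
  fun i => if i = j then c else sv 2 s T i

def p3 (J : Finset GolayPt) : GolayPt → ℤ := fun i => if i ∈ J then 3 else 1

def p5 (j : GolayPt) : GolayPt → ℤ := fun i => if i = j then 5 else 1

theorem sv2_vals (s T : Finset GolayPt) (i : GolayPt) :
    sv 2 s T i = 0 ∨ sv 2 s T i = 2 ∨ sv 2 s T i = -2 := by
  unfold sv
  split_ifs <;> simp

theorem sv_notMem {c : ℤ} {s T : Finset GolayPt} (hT : T ⊆ s) {j : GolayPt} (hj : j ∉ s) :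
    sv c s T j = 0 := by
  unfold sv
  have : j ∉ T := fun h => hj (hT h)
  simp [this, hj]

theorem ev_eq {s T : Finset GolayPt} (hT : T ⊆ s) {j : GolayPt} (hj : j ∉ s) (c : ℤ)
    (i : GolayPt) : ev s T j c i = sv 2 s T i + (if i = j then c else 0) := by
  unfold ev
  by_cases h : i = j
  · subst h
    simp [sv_notMem hT hj]
  · simp [h]

theorem sum_ev {s T : Finset GolayPt} (hT : T ⊆ s) {j : GolayPt} (hj : j ∉ s) (c : ℤ) :
    ∑ i, ev s T j c i = 2 * ((s.card : ℤ) - 2 * (T.card : ℤ)) + c := by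
  simp_rw [ev_eq hT hj]
  rw [Finset.sum_add_distrib, sum_sv 2 hT]
  simp

theorem sqNorm_ev {s T : Finset GolayPt} (hT : T ⊆ s) {j : GolayPt} (hj : j ∉ s) (c : ℤ) :
    sqNorm (ev s T j c) = 4 * (s.card : ℤ) + c ^ 2 := by
  have h : ∀ i, ev s T j c i ^ 2 = sv 2 s T i ^ 2 + (if i = j then c ^ 2 else 0) := by
    intro i
    unfold ev
    by_cases h : i = j
    · subst h
      simp [sv_notMem hT hj]
    · simp [h]
  unfold sqNorm
  simp_rw [h]
  rw [Finset.sum_add_distrib]
  have := sqNorm_sv 2 hT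
  unfold sqNorm at this
  rw [this]
  simp

theorem ev_mod4 {s T : Finset GolayPt} (hT : T ⊆ s) {j : GolayPt} (hj : j ∉ s) {c : ℤ}
    (hc : c % 4 = 0) (i : GolayPt) : i ∈ s ↔ ev s T j c i % 4 = 2 := by
  unfold ev
  by_cases h : i = j
  · subst h
    simp [hj, hc]
  · simp only [h, if_false]
    unfold sv
    by_cases h1 : i ∈ T
    · simp [h1, hT h1]
    · by_cases h2 : i ∈ s <;> simp [h1, h2]

theorem ev_even (s T : Finset GolayPt) (j : GolayPt) {c : ℤ} (hc : c % 2 = 0) (i : GolayPt) :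
    ev s T j c i % 2 = 0 := by
  unfold ev
  by_cases h : i = j
  · simp [h, hc]
  · simp only [h, if_false]
    exact sv_even 2 (by norm_num) s T i

theorem ev_mem {s T : Finset GolayPt} (hs : s ∈ octads) (hT : T ⊆ s) (hodd : Odd T.card)
    {j : GolayPt} (hj : j ∉ s) {c : ℤ} (hc : c = 4 ∨ c = -4) : ev s T j c ∈ leechLattice := by
  have hc2 : c % 2 = 0 := by rcases hc with h | h <;> rw [h] <;> norm_num
  have hc4 : c % 4 = 0 := by rcases hc with h | h <;> rw [h] <;> norm_num
  rw [even_mem_iff (ev_even s T j hc2) (ev_mod4 hT hj hc4)]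
  refine ⟨hs.1, ?_⟩
  rw [sum_ev hT hj, hs.2]
  obtain ⟨r, hr⟩ := hodd
  rw [hr]
  push_cast
  rcases hc with h | h <;> rw [h] <;> omega

theorem sv2_dod_mem {s T : Finset GolayPt} (hs : s ∈ dodecads) (hT : T ⊆ s) (hev : Even T.card) :
    sv 2 s T ∈ leechLattice := by
  have hmod : ∀ i, i ∈ s ↔ sv 2 s T i % 4 = 2 := by
    intro i
    unfold sv
    by_cases h1 : i ∈ T
    · simp [h1, hT h1]
    · by_cases h2 : i ∈ s <;> simp [h1, h2]
  rw [even_mem_iff (sv_even 2 (by norm_num) s T) hmod]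
  refine ⟨hs.1, ?_⟩
  rw [sum_sv 2 hT, hs.2]
  obtain ⟨r, hr⟩ := hev
  rw [hr]
  push_cast
  omega

theorem ev_inj {s T s' T' : Finset GolayPt} {j j' : GolayPt} {c c' : ℤ} (hT : T ⊆ s)
    (hT' : T' ⊆ s') (hj : j ∉ s) (hj' : j' ∉ s') (hc : c = 4 ∨ c = -4) (hc' : c' = 4 ∨ c' = -4)
    (h : ev s T j c = ev s' T' j' c') : s = s' ∧ T = T' ∧ j = j' ∧ c = c' := by
  have hjj : j = j' := by
    by_contra hne
    have h1 := congrFun h j
    unfold ev at h1
    simp only [if_true, hne, if_false] at h1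
    rcases sv2_vals s' T' j with h2 | h2 | h2 <;> rcases hc with h3 | h3 <;> omega
  subst hjj
  have hcc : c = c' := by
    have h1 := congrFun h j
    unfold ev at h1
    simpa using h1
  subst hcc
  have hsv : sv 2 s T = sv 2 s' T' := by
    funext i
    by_cases hi : i = j
    · subst hi
      rw [sv_notMem hT hj, sv_notMem hT' hj']
    · have h1 := congrFun h i
      unfold ev at h1
      simpa [hi] using h1
  obtain ⟨h1, h2⟩ := sv_inj (by norm_num : (0 : ℤ) < 2) hT hT' hsv
  exact ⟨h1, h2, rfl, rfl⟩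

theorem p3_odd (J : Finset GolayPt) (i : GolayPt) : p3 J i % 2 = 1 := by
  unfold p3; split_ifs <;> norm_num

theorem p5_odd (j i : GolayPt) : p5 j i % 2 = 1 := by
  unfold p5; split_ifs <;> norm_num

theorem p3_pos (J : Finset GolayPt) (i : GolayPt) : 0 < p3 J i := by
  unfold p3; split_ifs <;> norm_num

theorem p5_pos (j i : GolayPt) : 0 < p5 j i := by
  unfold p5; split_ifs <;> norm_num

theorem sqNorm_p3 (J : Finset GolayPt) : sqNorm (p3 J) = 24 + 8 * (J.card : ℤ) := by
  unfold sqNorm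
  have h : ∀ i, p3 J i ^ 2 = 1 + (if i ∈ J then 8 else 0) := by
    intro i; unfold p3; split_ifs <;> norm_num
  simp_rw [h]
  rw [Finset.sum_add_distrib]
  simp only [Finset.sum_const, nsmul_eq_mul, Finset.sum_ite_mem, Finset.univ_inter,
    Finset.card_univ, card_golayPt]
  push_cast; ring

theorem sqNorm_p5 (j : GolayPt) : sqNorm (p5 j) = 48 := by
  unfold sqNorm
  have h : ∀ i, p5 j i ^ 2 = 1 + (if i = j then 24 else 0) := by
    intro i; unfold p5; split_ifs <;> norm_num
  simp_rw [h]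
  rw [Finset.sum_add_distrib]
  simp only [Finset.sum_const, nsmul_eq_mul, Finset.sum_ite_eq', Finset.mem_univ, if_true,
    Finset.card_univ, card_golayPt]
  norm_num

theorem p3_inj {J J' : Finset GolayPt} (h : p3 J = p3 J') : J = J' := by
  ext i
  have := congrFun h i
  unfold p3 at this
  by_cases h1 : i ∈ J <;> by_cases h2 : i ∈ J' <;> simp [h1, h2] at this ⊢

theorem p5_inj {j j' : GolayPt} (h : p5 j = p5 j') : j = j' := by
  have := congrFun h j
  unfold p5 at this
  by_contra hne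
  simp [hne] at this


/-! ### forward classification -/

theorem even_g_nonneg {x : GolayPt → ℤ} {C : Finset GolayPt} (hC : ∀ i, i ∈ C ↔ x i % 4 = 2)
    (i : GolayPt) : 0 ≤ x i ^ 2 - (if i ∈ C then (4 : ℤ) else 0) := by
  by_cases hi : i ∈ C
  · simp only [hi, if_true]
    have := (hC i).1 hi
    have : x i ≤ -2 ∨ 2 ≤ x i := by omega
    rcases this with h | h <;> nlinarith
  · simp only [hi, if_false]
    have := sq_nonneg (x i); linarith

theorem even_g_sum (x : GolayPt → ℤ) (C : Finset GolayPt) :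
    ∑ i, (x i ^ 2 - (if i ∈ C then (4 : ℤ) else 0)) = sqNorm x - 4 * (C.card : ℤ) := by
  rw [Finset.sum_sub_distrib]
  unfold sqNorm
  simp only [Finset.sum_ite_mem, Finset.univ_inter, Finset.sum_const, nsmul_eq_mul]
  ring

theorem eq_sv2_at {x : GolayPt → ℤ} {C : Finset GolayPt} {i : GolayPt}
    (hg : x i ^ 2 - (if i ∈ C then (4 : ℤ) else 0) = 0) :
    x i = sv 2 C (C.filter (fun i => x i < 0)) i := by
  unfold sv
  simp only [Finset.mem_filter]
  by_cases hi : i ∈ C
  · simp only [hi, if_true, true_and] at hg ⊢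
    have : x i ^ 2 = 2 ^ 2 := by linarith
    rcases sq_eq_cases this with h | h <;> simp [h]
  · simp only [hi, if_false, false_and] at hg ⊢
    have : x i ^ 2 = 0 := by linarith
    simpa using this

/-- even, big terms: if `g i ≠ 0` then `16 ≤ g i`, and `32 ≤ g i` when `i ∈ C`. -/
theorem even_g_big {x : GolayPt → ℤ} (h2 : ∀ i, x i % 2 = 0) {C : Finset GolayPt}
    (hC : ∀ i, i ∈ C ↔ x i % 4 = 2) (i : GolayPt)
    (hne : x i ^ 2 - (if i ∈ C then (4 : ℤ) else 0) ≠ 0) :
    16 ≤ x i ^ 2 - (if i ∈ C then (4 : ℤ) else 0) ∧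
      (i ∈ C → 32 ≤ x i ^ 2 - (if i ∈ C then (4 : ℤ) else 0)) := by
  by_cases hi : i ∈ C
  · simp only [hi, if_true] at hne ⊢
    have := (hC i).1 hi
    have h4 : x i ≤ -6 ∨ x i = -2 ∨ x i = 2 ∨ 6 ≤ x i := by omega
    rcases h4 with h | h | h | h
    · refine ⟨by nlinarith, fun _ => by nlinarith⟩
    · rw [h] at hne; norm_num at hne
    · rw [h] at hne; norm_num at hne
    · refine ⟨by nlinarith, fun _ => by nlinarith⟩
  · simp only [hi, if_false] at hne ⊢
    have : ¬ x i % 4 = 2 := fun h => hi ((hC i).2 h)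
    have := h2 i
    have h4 : x i ≤ -4 ∨ x i = 0 ∨ 4 ≤ x i := by omega
    rcases h4 with h | h | h
    · refine ⟨by nlinarith, fun h' => absurd h' (by simp)⟩
    · rw [h] at hne; norm_num at hne
    · refine ⟨by nlinarith, fun h' => absurd h' (by simp)⟩

theorem classify48_even {x : GolayPt → ℤ} (hx : x ∈ leechLattice) (h2 : ∀ i, x i % 2 = 0)
    (hn : sqNorm x = 48) :
    (∃ s T : Finset GolayPt, s ∈ dodecads ∧ T ⊆ s ∧ Even T.card ∧ x = sv 2 s T) ∨
    (∃ (s T : Finset GolayPt) (j : GolayPt) (c : ℤ), s ∈ octads ∧ T ⊆ s ∧ Odd T.card ∧ j ∉ s ∧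
      (c = 4 ∨ c = -4) ∧ x = ev s T j c) := by
  classical
  obtain ⟨C, hC⟩ : ∃ C : Finset GolayPt, ∀ i, i ∈ C ↔ x i % 4 = 2 :=
    ⟨Finset.univ.filter (fun i => x i % 4 = 2), fun i => by simp⟩
  obtain ⟨hCs, hsum⟩ := (even_mem_iff h2 hC).1 hx
  obtain ⟨g, hg⟩ : ∃ g : GolayPt → ℤ, ∀ i, g i = x i ^ 2 - (if i ∈ C then (4 : ℤ) else 0) :=
    ⟨_, fun i => rfl⟩
  have hg0 : ∀ i, 0 ≤ g i := fun i => by rw [hg]; exact even_g_nonneg hC i
  have hgs : ∑ i, g i = 48 - 4 * (C.card : ℤ) := by
    simp_rw [hg]; rw [even_g_sum, hn]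
  have hgs0 : 0 ≤ ∑ i, g i := Finset.sum_nonneg (fun i _ => hg0 i)
  have hTs : C.filter (fun i => x i < 0) ⊆ C := Finset.filter_subset _ _
  rcases supports_card_cases hCs with h0 | h8 | h12 | h16 | h24
  · -- C = ∅ : impossible
    exfalso
    have hCe : C = ∅ := Finset.card_eq_zero.1 h0
    have h4 : ∀ i, x i % 4 = 0 := by
      intro i
      have : ¬ x i % 4 = 2 := fun h => by
        have := (hC i).2 h
        rw [hCe] at this
        simp at this
      have := h2 i
      omega
    obtain ⟨y, hy⟩ : ∃ y : GolayPt → ℤ, ∀ i, x i = 4 * y i :=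
      ⟨fun i => x i / 4, fun i => by have := h4 i; show x i = 4 * (x i / 4); omega⟩
    have hsq : ∑ i, y i ^ 2 = 3 := by
      unfold sqNorm at hn
      have : ∑ i, x i ^ 2 = 16 * ∑ i, y i ^ 2 := by
        rw [Finset.mul_sum]
        apply Finset.sum_congr rfl
        intro i _
        rw [hy i]; ring
      rw [this] at hn
      omega
    have hpar : ∀ i, ∃ t : ℤ, y i ^ 2 = y i + 2 * t := by
      intro i
      obtain ⟨t, ht⟩ := Int.even_mul_pred_self (y i)
      exact ⟨t, by rw [sq]; linarith⟩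
    choose t ht using hpar
    have h5 : ∑ i, y i ^ 2 = ∑ i, y i + 2 * ∑ i, t i := by
      rw [Finset.mul_sum, ← Finset.sum_add_distrib]
      exact Finset.sum_congr rfl (fun i _ => ht i)
    have h6 : ∑ i, x i = 4 * ∑ i, y i := by
      rw [Finset.mul_sum]
      exact Finset.sum_congr rfl (fun i _ => hy i)
    rw [h6] at hsum
    omega
  · -- octad case
    right
    rw [h8] at hgs
    obtain ⟨D, hD⟩ : ∃ D : Finset GolayPt, ∀ i, i ∈ D ↔ g i ≠ 0 :=
      ⟨Finset.univ.filter (fun i => g i ≠ 0), fun i => by simp⟩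
    have hbig : ∀ i, i ∈ D → 16 ≤ g i ∧ (i ∈ C → 32 ≤ g i) := by
      intro i hi
      have := even_g_big h2 hC i (by rw [← hg]; exact (hD i).1 hi)
      rwa [← hg] at this
    have hh0 : ∀ i, 0 ≤ g i - (if i ∈ D then (16 : ℤ) else 0) := by
      intro i
      by_cases hi : i ∈ D
      · simp only [hi, if_true]; have := (hbig i hi).1; linarith
      · simp only [hi, if_false]; have := hg0 i; linarith
    have hhs : ∑ i, (g i - (if i ∈ D then (16 : ℤ) else 0)) = 16 - 16 * (D.card : ℤ) := by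
      rw [Finset.sum_sub_distrib, hgs]
      simp only [Finset.sum_ite_mem, Finset.univ_inter, Finset.sum_const, nsmul_eq_mul]
      ring
    have hDne : D.Nonempty := by
      by_contra hemp
      rw [Finset.not_nonempty_iff_eq_empty] at hemp
      have : ∀ i, g i = 0 := by
        intro i
        by_contra hne
        have : i ∈ D := (hD i).2 hne
        rw [hemp] at this
        simp at this
      have : ∑ i, g i = 0 := Finset.sum_eq_zero (fun i _ => this i)
      rw [hgs] at this
      norm_num at this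
    have hD1 : 1 ≤ D.card := hDne.card_pos
    have hall := all_zero_of_sum_nonpos hh0 (by
      rw [hhs]; have : (1 : ℤ) ≤ D.card := by exact_mod_cast hD1
      linarith)
    have hcard : D.card = 1 := by
      have : ∑ i, (g i - (if i ∈ D then (16 : ℤ) else 0)) = 0 :=
        Finset.sum_eq_zero (fun i _ => hall i)
      rw [hhs] at this; omega
    obtain ⟨j, hj⟩ := Finset.card_eq_one.1 hcard
    have hjD : j ∈ D := by rw [hj]; simp
    have hgj : g j = 16 := by
      have := hall j
      simp only [hjD, if_true] at this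
      linarith
    have hjC : j ∉ C := by
      intro h
      have := (hbig j hjD).2 h
      omega
    have hxj : x j = 4 ∨ x j = -4 := by
      have := hg j
      simp only [hjC, if_false] at this
      have : x j ^ 2 = 4 ^ 2 := by rw [hgj] at this; linarith
      exact sq_eq_cases this
    have hxeq : x = ev C (C.filter (fun i => x i < 0)) j (x j) := by
      funext i
      unfold ev
      by_cases hi : i = j
      · subst hi; simp
      · simp only [hi, if_false]
        apply eq_sv2_at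
        have hiD : i ∉ D := by rw [hj]; simpa using hi
        have := hall i
        simp only [hiD, if_false] at this
        rw [← hg]; linarith
    refine ⟨C, C.filter (fun i => x i < 0), j, x j, ⟨hCs, h8⟩, hTs, ?_, hjC, hxj, hxeq⟩
    have hs := sum_ev hTs hjC (x j)
    rw [← hxeq, h8] at hs
    rw [hs] at hsum
    rw [Nat.odd_iff]
    push_cast at hsum
    rcases hxj with h | h <;> rw [h] at hsum <;> omega
  · -- dodecad case
    left
    rw [h12] at hgs
    have hall := all_zero_of_sum_nonpos hg0 (by rw [hgs]; norm_num)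
    have hxeq : x = sv 2 C (C.filter (fun i => x i < 0)) := by
      funext i
      apply eq_sv2_at
      rw [← hg]; exact hall i
    refine ⟨C, C.filter (fun i => x i < 0), ⟨hCs, h12⟩, hTs, ?_, hxeq⟩
    have hs := sum_sv 2 hTs
    rw [← hxeq, h12] at hs
    rw [hs] at hsum
    rw [Nat.even_iff]
    push_cast at hsum
    omega
  · exfalso
    rw [h16] at hgs
    rw [hgs] at hgs0
    norm_num at hgs0
  · exfalso
    rw [h24] at hgs
    rw [hgs] at hgs0
    norm_num at hgs0


theorem odd_g_nonneg {x : GolayPt → ℤ} (h2 : ∀ i, x i % 2 = 1) (i : GolayPt) :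
    0 ≤ x i ^ 2 - 1 := by
  have := h2 i
  have : x i ≤ -1 ∨ 1 ≤ x i := by omega
  rcases this with h | h <;> nlinarith

theorem odd_g_big {x : GolayPt → ℤ} (h2 : ∀ i, x i % 2 = 1) (i : GolayPt)
    (hne : x i ^ 2 - 1 ≠ 0) : 8 ≤ x i ^ 2 - 1 := by
  have := h2 i
  have h4 : x i ≤ -3 ∨ x i = -1 ∨ x i = 1 ∨ 3 ≤ x i := by omega
  rcases h4 with h | h | h | h
  · nlinarith
  · rw [h] at hne; norm_num at hne
  · rw [h] at hne; norm_num at hne
  · nlinarith

theorem abs_of_sq {a c : ℤ} (hc : 0 ≤ c) (h : a ^ 2 = c ^ 2) : |a| = c := by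
  rcases sq_eq_cases h with h | h
  · rw [h, abs_of_nonneg hc]
  · rw [h, abs_neg, abs_of_nonneg hc]

theorem classify48_odd {x : GolayPt → ℤ} (hx : x ∈ leechLattice) (h2 : ∀ i, x i % 2 = 1)
    (hn : sqNorm x = 48) :
    (∃ (C J : Finset GolayPt), C ∈ supports (golayCode : Set (GolayPt → ZMod 2)) ∧ J.card = 3 ∧
      x = oddv C (p3 J)) ∨
    (∃ (C : Finset GolayPt) (j : GolayPt), C ∈ supports (golayCode : Set (GolayPt → ZMod 2)) ∧
      x = oddv C (p5 j)) := by
  classical
  obtain ⟨C, hC⟩ : ∃ C : Finset GolayPt, ∀ i, i ∈ C ↔ x i % 4 = 1 :=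
    ⟨Finset.univ.filter (fun i => x i % 4 = 1), fun i => by simp⟩
  obtain ⟨hCs, -⟩ := (odd_mem_iff h2 hC).1 hx
  have hxo := eq_oddv_abs h2 hC
  obtain ⟨g, hg⟩ : ∃ g : GolayPt → ℤ, ∀ i, g i = x i ^ 2 - 1 := ⟨_, fun i => rfl⟩
  have hg0 : ∀ i, 0 ≤ g i := fun i => by rw [hg]; exact odd_g_nonneg h2 i
  have hgs : ∑ i, g i = 24 := by
    simp_rw [hg]
    rw [Finset.sum_sub_distrib]
    unfold sqNorm at hn
    rw [hn]
    simp [card_golayPt]
  obtain ⟨D, hD⟩ : ∃ D : Finset GolayPt, ∀ i, i ∈ D ↔ g i ≠ 0 :=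
    ⟨Finset.univ.filter (fun i => g i ≠ 0), fun i => by simp⟩
  have hbig : ∀ i, i ∈ D → 8 ≤ g i := by
    intro i hi
    rw [hg]
    exact odd_g_big h2 i (by rw [← hg]; exact (hD i).1 hi)
  have hoff : ∀ i, i ∉ D → g i = 0 := by
    intro i hi
    by_contra hne
    exact hi ((hD i).2 hne)
  have hh0 : ∀ i, 0 ≤ g i - (if i ∈ D then (8 : ℤ) else 0) := by
    intro i
    by_cases hi : i ∈ D
    · simp only [hi, if_true]; have := hbig i hi; linarith
    · simp only [hi, if_false]; have := hg0 i; linarith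
  have hhs : ∑ i, (g i - (if i ∈ D then (8 : ℤ) else 0)) = 24 - 8 * (D.card : ℤ) := by
    rw [Finset.sum_sub_distrib, hgs]
    simp only [Finset.sum_ite_mem, Finset.univ_inter, Finset.sum_const, nsmul_eq_mul]
    ring
  have hhs0 : 0 ≤ ∑ i, (g i - (if i ∈ D then (8 : ℤ) else 0)) :=
    Finset.sum_nonneg (fun i _ => hh0 i)
  have hcases : D.card = 0 ∨ D.card = 1 ∨ D.card = 2 ∨ D.card = 3 := by
    rw [hhs] at hhs0
    omega
  rcases hcases with h0 | h1 | h2' | h3
  · exfalso
    have hDe : D = ∅ := Finset.card_eq_zero.1 h0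
    have : ∑ i, g i = 0 := Finset.sum_eq_zero (fun i _ => hoff i (by rw [hDe]; simp))
    rw [hgs] at this
    norm_num at this
  · right
    obtain ⟨j, hj⟩ := Finset.card_eq_one.1 h1
    have hjD : j ∈ D := by rw [hj]; simp
    have hgj : g j = 24 := by
      have : ∑ i, g i = g j := by
        apply Finset.sum_eq_single j
        · intro i _ hi
          exact hoff i (by rw [hj]; simpa using hi)
        · intro h; exact absurd (Finset.mem_univ j) h
      rw [← this, hgs]
    refine ⟨C, j, hCs, ?_⟩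
    have : (fun i => |x i|) = p5 j := by
      funext i
      unfold p5
      by_cases hi : i = j
      · subst hi
        simp only [if_true]
        apply abs_of_sq (by norm_num)
        have := hg i
        rw [hgj] at this
        linarith
      · simp only [hi, if_false]
        apply abs_of_sq (by norm_num)
        have := hg i
        rw [hoff i (by rw [hj]; simpa using hi)] at this
        linarith
    rw [← this]
    exact hxo
  · exfalso
    rw [h2'] at hhs
    have hle : ∀ i, g i - (if i ∈ D then (8 : ℤ) else 0) ≤ 8 := by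
      intro i
      have := Finset.single_le_sum (f := fun i => g i - (if i ∈ D then (8 : ℤ) else 0))
        (fun j _ => hh0 j) (Finset.mem_univ i)
      rw [hhs] at this
      simpa using this
    have hz : ∀ i, g i - (if i ∈ D then (8 : ℤ) else 0) = 0 := by
      intro i
      by_cases hi : i ∈ D
      · have h8 := hbig i hi
        have hl := hle i
        simp only [hi, if_true] at hl ⊢
        rw [hg] at h8 hl ⊢
        have := h2 i
        have h4 : x i ≤ -5 ∨ x i = -3 ∨ x i = -1 ∨ x i = 1 ∨ x i = 3 ∨ 5 ≤ x i := by omega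
        rcases h4 with h | h | h | h | h | h
        · nlinarith
        · rw [h]; norm_num
        · rw [h] at h8; norm_num at h8
        · rw [h] at h8; norm_num at h8
        · rw [h]; norm_num
        · nlinarith
      · simp only [hi, if_false]
        linarith [hoff i hi]
    have : ∑ i, (g i - (if i ∈ D then (8 : ℤ) else 0)) = 0 :=
      Finset.sum_eq_zero (fun i _ => hz i)
    rw [hhs] at this
    norm_num at this
  · left
    rw [h3] at hhs
    have hall := all_zero_of_sum_nonpos hh0 (by rw [hhs]; norm_num)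
    refine ⟨C, D, hCs, h3, ?_⟩
    have : (fun i => |x i|) = p3 D := by
      funext i
      unfold p3
      have hi0 := hall i
      by_cases hi : i ∈ D
      · simp only [hi, if_true] at hi0 ⊢
        apply abs_of_sq (by norm_num)
        have := hg i
        linarith
      · simp only [hi, if_false] at hi0 ⊢
        apply abs_of_sq (by norm_num)
        have := hg i
        linarith
    rw [← this]
    exact hxo

theorem leech_norm48_iff (x : GolayPt → ℤ) : (x ∈ leechLattice ∧ sqNorm x = 48) ↔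
    ((∃ s T : Finset GolayPt, s ∈ dodecads ∧ T ⊆ s ∧ Even T.card ∧ x = sv 2 s T) ∨
    (∃ (s T : Finset GolayPt) (j : GolayPt) (c : ℤ), s ∈ octads ∧ T ⊆ s ∧ Odd T.card ∧ j ∉ s ∧
      (c = 4 ∨ c = -4) ∧ x = ev s T j c) ∨
    (∃ (C J : Finset GolayPt), C ∈ supports (golayCode : Set (GolayPt → ZMod 2)) ∧ J.card = 3 ∧
      x = oddv C (p3 J)) ∨
    (∃ (C : Finset GolayPt) (j : GolayPt), C ∈ supports (golayCode : Set (GolayPt → ZMod 2)) ∧
      x = oddv C (p5 j))) := by
  constructor
  · rintro ⟨h1, h2⟩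
    rcases parity_cases h1 with hp | hp
    · rcases classify48_even h1 hp h2 with h | h
      · left; exact h
      · right; left; exact h
    · rcases classify48_odd h1 hp h2 with h | h
      · right; right; left; exact h
      · right; right; right; exact h
  · rintro (⟨s, T, hs, hT, hev, rfl⟩ | ⟨s, T, j, c, hs, hT, hodd, hj, hc, rfl⟩ |
      ⟨C, J, hC, hJ, rfl⟩ | ⟨C, j, hC, rfl⟩)
    · refine ⟨sv2_dod_mem hs hT hev, ?_⟩
      rw [sqNorm_sv 2 hT, hs.2]; norm_num
    · refine ⟨ev_mem hs hT hodd hj hc, ?_⟩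
      rw [sqNorm_ev hT hj, hs.2]
      rcases hc with h | h <;> rw [h] <;> norm_num
    · have hn : sqNorm (p3 J) = 48 := by rw [sqNorm_p3, hJ]; norm_num
      refine ⟨oddv_mem hC (p3_odd J) (by rw [hn]; norm_num), ?_⟩
      rw [sqNorm_oddv, hn]
    · have hn : sqNorm (p5 j) = 48 := sqNorm_p5 j
      refine ⟨oddv_mem hC (p5_odd j) (by rw [hn]; norm_num), ?_⟩
      rw [sqNorm_oddv, hn]

end Cfsg.Agent.Lib.Helper3
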