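import Mathlib
import Cfsg.Prelude.Def_Sporadic_a
import Cfsg.Agent.Lib.Helper3.Co0Trans
import Cfsg.Agent.Lib.Helper3.LeechNorm48

set_option autoImplicit false

/-!
Helper library (helper3): `Co0` is transitive on the vectors of `sqNorm = 48` of the Leech lattice.
Every such vector is connected to `V0 = (-5, -1^23)`.
-/

namespace Cfsg.Agent.Lib.Helper3

open Cfsg Cfsg.Agent.Lib.Helper21

/-- the standard vector `(-5, -1^23)` -/
def V0 : GolayPt → ℤ := fun i => if i = none then -5 else -1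

theorem sgnVec_oddv_self (C : Finset GolayPt) (a : GolayPt → ℤ) :
    sgnVec C (oddv C a) = oddv ∅ a := by
  funext i
  unfold sgnVec oddv
  by_cases hiC : i ∈ C <;> by_cases hP : a i % 4 = 1 <;> simp [hiC, hP]

theorem sgnVec_oddv_symm (C O : Finset GolayPt) (a : GolayPt → ℤ) :
    sgnVec ((C \ O) ∪ (O \ C)) (oddv C a) = oddv O a := by
  funext i
  unfold sgnVec oddv
  by_cases hiC : i ∈ C <;> by_cases hiO : i ∈ O <;> by_cases hP : a i % 4 = 1 <;>
    simp [hiC, hiO, hP]

theorem exists_notMem_of_card_lt {s : Finset GolayPt} (h : s.card < 24) : ∃ k, k ∉ s := by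
  by_contra hcon
  push Not at hcon
  have h1 : (Finset.univ : Finset GolayPt) ⊆ s := fun k _ => hcon k
  have h2 := Finset.card_le_card h1
  rw [Finset.card_univ, card_golayPt] at h2
  omega

theorem exists_octad_superset {T : Finset GolayPt} (hT : T.card = 4) : ∃ O ∈ octads, T ⊆ O := by
  obtain ⟨m, hm⟩ := exists_notMem_of_card_lt (s := T) (by omega)
  have hne : T.Nonempty := by
    rw [← Finset.card_pos]; omega
  obtain ⟨k, hk⟩ := hne
  have h1 : tet T hT k ≠ tet T hT m := by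
    rw [tet_eq_T T hT hk]
    intro h
    exact hm (h ▸ mem_tet T hT m)
  have h2 := tet_union_octad T hT h1
  rw [tet_eq_T T hT hk] at h2
  exact ⟨_, h2, Finset.subset_union_left⟩

/-- shape `(∓5, ±1^23)` -/
theorem connF_p5 {C : Finset GolayPt} (hC : C ∈ supports (golayCode : Set (GolayPt → ZMod 2)))
    (j : GolayPt) : ConnF (oddv C (p5 j)) V0 := by
  have hn : sqNorm (p5 j) = 48 := sqNorm_p5 j
  have hx : oddv C (p5 j) ∈ leechLattice := oddv_mem hC (p5_odd j) (by rw [hn]; norm_num)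
  have h1 := connF_sgn hx hC
  rw [sgnVec_oddv_self] at h1
  obtain ⟨σ, hσ, hσj⟩ := M24_trans none j
  have h2 := connF_perm h1.mem_right hσ
  have h3 : (fun i => oddv ∅ (p5 j) (σ i)) = V0 := by
    funext i
    unfold oddv p5 V0
    by_cases hi : i = none
    · subst hi; simp [hσj]
    · have : σ i ≠ j := fun h => hi (σ.injective (h.trans hσj.symm))
      simp [hi, this]
  rw [h3] at h2
  exact h1.trans h2

/-- a vector of `sqNorm = 48` with a coordinate `±5` -/
theorem connF_of_coord5 {x : GolayPt → ℤ} (hx : x ∈ leechLattice) (hn : sqNorm x = 48)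
    {j : GolayPt} (hj : x j = 5 ∨ x j = -5) : ConnF x V0 := by
  rcases (leech_norm48_iff x).1 ⟨hx, hn⟩ with ⟨s, T, hs, hT, hev, rfl⟩ |
    ⟨s, T, k, c, hs, hT, hodd, hk, hc, rfl⟩ | ⟨C, J, hC, hJ, rfl⟩ | ⟨C, k, hC, rfl⟩
  · exfalso
    have := sv_even 2 (by norm_num) s T j
    omega
  · exfalso
    have := ev_even s T k (c := c) (by rcases hc with h | h <;> rw [h] <;> norm_num) j
    omega
  · exfalso
    have h1 := oddv_abs C (p3 J) j
    have h2 : |oddv C (p3 J) j| = 5 := by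
      rcases hj with h | h <;> rw [h] <;> norm_num
    rw [h2] at h1
    unfold p3 at h1
    split_ifs at h1 <;> norm_num at h1
  · exact connF_p5 hC k

/-- shape `(∓3^3, ±1^21)` -/
theorem connF_p3 {C J : Finset GolayPt} (hC : C ∈ supports (golayCode : Set (GolayPt → ZMod 2)))
    (hJ : J.card = 3) : ConnF (oddv C (p3 J)) V0 := by
  classical
  have hn : sqNorm (p3 J) = 48 := by rw [sqNorm_p3, hJ]; norm_num
  have hx : oddv C (p3 J) ∈ leechLattice := oddv_mem hC (p3_odd J) (by rw [hn]; norm_num)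
  obtain ⟨k0, hk0⟩ := exists_notMem_of_card_lt (s := J) (by omega)
  obtain ⟨T, hTdef⟩ : ∃ T, T = insert k0 J := ⟨_, rfl⟩
  have hT : T.card = 4 := by rw [hTdef, Finset.card_insert_of_notMem hk0, hJ]
  have hkT : k0 ∈ T := by rw [hTdef]; exact Finset.mem_insert_self _ _
  obtain ⟨O, hO, hTO⟩ := exists_octad_superset hT
  have h1 := connF_sgn hx (supports_symmDiff hC hO.1)
  rw [sgnVec_oddv_symm] at h1
  obtain ⟨y, hy, hyj⟩ := connF_xi h1.mem_right T hT
  have h3 := hyj k0
  rw [tet_eq_T T hT hkT, hTdef, Finset.sum_insert hk0] at h3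
  have h4 : ∑ k ∈ J, oddv O (p3 J) k = ∑ k ∈ J, (-3 : ℤ) := by
    apply Finset.sum_congr rfl
    intro k hk
    have hkO : k ∈ O := hTO (by rw [hTdef]; exact Finset.mem_insert_of_mem hk)
    unfold oddv p3
    simp [hk, hkO]
  have h5 : oddv O (p3 J) k0 = 1 := by
    have hkO : k0 ∈ O := hTO hkT
    unfold oddv p3
    simp [hk0, hkO]
  have h6 : eps (insert k0 J) k0 = -1 := by
    unfold eps; rw [if_pos (Finset.mem_insert_self _ _)]
  rw [h4, h5, h6, Finset.sum_const, hJ] at h3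
  have h7 : y k0 = -5 := by
    simp at h3; omega
  have hyn : sqNorm y = 48 := by rw [hy.sqNorm_eq, h1.sqNorm_eq, sqNorm_oddv, hn]
  exact h1.trans (hy.trans (connF_of_coord5 hy.mem_right hyn (Or.inr h7)))

/-- a vector of `sqNorm = 48` with an odd coordinate -/
theorem connF_odd48 {x : GolayPt → ℤ} (hx : x ∈ leechLattice) (hn : sqNorm x = 48)
    {j : GolayPt} (hj : x j % 2 = 1) : ConnF x V0 := by
  rcases (leech_norm48_iff x).1 ⟨hx, hn⟩ with ⟨s, T, hs, hT, hev, rfl⟩ |
    ⟨s, T, k, c, hs, hT, hodd, hk, hc, rfl⟩ | ⟨C, J, hC, hJ, rfl⟩ | ⟨C, k, hC, rfl⟩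
  · exfalso
    have := sv_even 2 (by norm_num) s T j
    omega
  · exfalso
    have := ev_even s T k (c := c) (by rcases hc with h | h <;> rw [h] <;> norm_num) j
    omega
  · exact connF_p3 hC hJ
  · exact connF_p5 hC k

/-- a tetrad test: if `2 x_j - Σ_T x ≡ 2 (mod 4)` for some `j ∈ T`, then `ξ_T x` is odd -/
theorem connF_48_of_tet {x : GolayPt → ℤ} (hx : x ∈ leechLattice) (hn : sqNorm x = 48)
    {T : Finset GolayPt} (hT : T.card = 4) {j : GolayPt} (hjT : j ∈ T)
    (h : (2 * x j - ∑ k ∈ T, x k) % 4 = 2) : ConnF x V0 := by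
  obtain ⟨y, hy, hyj⟩ := connF_xi hx T hT
  have h1 := hyj j
  rw [tet_eq_T T hT hjT] at h1
  have h2 : eps T j = -1 := by unfold eps; rw [if_pos hjT]
  rw [h2] at h1
  have h3 : y j % 2 = 1 := by omega
  exact hy.trans (connF_odd48 hy.mem_right (by rw [hy.sqNorm_eq, hn]) h3)

/-- shape `(±2^12, 0^12)` -/
theorem connF_dod {s W : Finset GolayPt} (hs : s ∈ dodecads) (hW : W ⊆ s) (hev : Even W.card) :
    ConnF (sv 2 s W) V0 := by
  classical
  have hx := sv2_dod_mem hs hW hev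
  have hn : sqNorm (sv 2 s W) = 48 := by rw [sqNorm_sv 2 hW, hs.2]; norm_num
  obtain ⟨j, hj⟩ := exists_notMem_of_card_lt (s := s) (by rw [hs.2]; norm_num)
  have hcard : (s \ W).card + W.card = 12 := by
    rw [Finset.card_sdiff_add_card_eq_card hW, hs.2]
  have hxj : sv 2 s W j = 0 := sv_notMem hW hj
  by_cases h3 : 3 ≤ W.card
  · obtain ⟨t3, ht3, hc3⟩ := Finset.exists_subset_card_eq h3
    have hj3 : j ∉ t3 := fun h => hj (hW (ht3 h))
    obtain ⟨T, hTdef⟩ : ∃ T, T = insert j t3 := ⟨_, rfl⟩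
    have hT : T.card = 4 := by rw [hTdef, Finset.card_insert_of_notMem hj3, hc3]
    have hjT : j ∈ T := by rw [hTdef]; exact Finset.mem_insert_self _ _
    apply connF_48_of_tet hx hn hT hjT
    rw [hTdef, Finset.sum_insert hj3, hxj]
    have h2 : ∑ k ∈ t3, sv 2 s W k = ∑ k ∈ t3, (-2 : ℤ) := by
      apply Finset.sum_congr rfl
      intro k hk
      unfold sv
      rw [if_pos (ht3 hk)]
    rw [h2, Finset.sum_const, hc3]
    norm_num
  · obtain ⟨t3, ht3, hc3⟩ := Finset.exists_subset_card_eq (s := s \ W) (n := 3) (by omega)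
    have hj3 : j ∉ t3 := fun h => hj (Finset.mem_sdiff.1 (ht3 h)).1
    obtain ⟨T, hTdef⟩ : ∃ T, T = insert j t3 := ⟨_, rfl⟩
    have hT : T.card = 4 := by rw [hTdef, Finset.card_insert_of_notMem hj3, hc3]
    have hjT : j ∈ T := by rw [hTdef]; exact Finset.mem_insert_self _ _
    apply connF_48_of_tet hx hn hT hjT
    rw [hTdef, Finset.sum_insert hj3, hxj]
    have h2 : ∑ k ∈ t3, sv 2 s W k = ∑ k ∈ t3, (2 : ℤ) := by
      apply Finset.sum_congr rfl
      intro k hk
      have := Finset.mem_sdiff.1 (ht3 hk)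
      unfold sv
      rw [if_neg this.2, if_pos this.1]
    rw [h2, Finset.sum_const, hc3]
    norm_num

/-- shape `(±4, ±2^8, 0^15)` -/
theorem connF_ev {s W : Finset GolayPt} {j : GolayPt} {c : ℤ} (hs : s ∈ octads) (hW : W ⊆ s)
    (hodd : Odd W.card) (hj : j ∉ s) (hc : c = 4 ∨ c = -4) : ConnF (ev s W j c) V0 := by
  classical
  have hx := ev_mem hs hW hodd hj hc
  have hn : sqNorm (ev s W j c) = 48 := by
    rw [sqNorm_ev hW hj, hs.2]
    rcases hc with h | h <;> rw [h] <;> norm_num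
  have hne : s.Nonempty := by rw [← Finset.card_pos, hs.2]; norm_num
  obtain ⟨a, ha⟩ := hne
  have hcard : 3 ≤ ((Finset.univ : Finset GolayPt) \ insert j s).card := by
    rw [Finset.card_sdiff_of_subset (Finset.subset_univ _), Finset.card_univ, card_golayPt,
      Finset.card_insert_of_notMem hj, hs.2]
    norm_num
  obtain ⟨t3, ht3, hc3⟩ := Finset.exists_subset_card_eq hcard
  have ht3' : ∀ k ∈ t3, k ≠ j ∧ k ∉ s := by
    intro k hk
    have := (Finset.mem_sdiff.1 (ht3 hk)).2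
    rw [Finset.mem_insert, not_or] at this
    exact this
  have ha3 : a ∉ t3 := fun h => (ht3' a h).2 ha
  obtain ⟨T, hTdef⟩ : ∃ T, T = insert a t3 := ⟨_, rfl⟩
  have hT : T.card = 4 := by rw [hTdef, Finset.card_insert_of_notMem ha3, hc3]
  have haT : a ∈ T := by rw [hTdef]; exact Finset.mem_insert_self _ _
  apply connF_48_of_tet hx hn hT haT
  rw [hTdef, Finset.sum_insert ha3]
  have h2 : ∑ k ∈ t3, ev s W j c k = ∑ k ∈ t3, (0 : ℤ) := by
    apply Finset.sum_congr rfl
    intro k hk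
    have := ht3' k hk
    unfold ev
    rw [if_neg this.1]
    exact sv_notMem hW this.2
  have haj : a ≠ j := fun h => hj (h ▸ ha)
  have h3 : ev s W j c a = sv 2 s W a := by unfold ev; rw [if_neg haj]
  rw [h2, h3, Finset.sum_const_zero]
  have h4 : sv 2 s W a = 2 ∨ sv 2 s W a = -2 := by
    unfold sv
    by_cases h : a ∈ W
    · right; rw [if_pos h]
    · left; rw [if_neg h, if_pos ha]
  rcases h4 with h | h <;> rw [h] <;> norm_num

/-- every vector of `sqNorm = 48` is connected to `V0` -/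
theorem connF_norm48 {x : GolayPt → ℤ} (hx : x ∈ leechLattice) (hn : sqNorm x = 48) :
    ConnF x V0 := by
  rcases (leech_norm48_iff x).1 ⟨hx, hn⟩ with ⟨s, T, hs, hT, hev, rfl⟩ |
    ⟨s, T, k, c, hs, hT, hodd, hk, hc, rfl⟩ | ⟨C, J, hC, hJ, rfl⟩ | ⟨C, k, hC, rfl⟩
  · exact connF_dod hs hT hev
  · exact connF_ev hs hT hodd hk hc
  · exact connF_p3 hC hJ
  · exact connF_p5 hC k

/-- `Co0` is transitive on vectors of `sqNorm = 48` -/
theorem co0_trans_norm48 (v w : leechLattice) (hv : sqNorm v.1 = 48) (hw : sqNorm w.1 = 48) :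
    ∃ g ∈ Co0, g v = w := by
  have h1 := connF_norm48 v.2 hv
  have h2 := connF_norm48 w.2 hw
  obtain ⟨hx, g, hg, h3⟩ := h1.trans h2.symm
  exact ⟨g, hg, Subtype.ext h3⟩

end Cfsg.Agent.Lib.Helper3
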