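import Mathlib
import Cfsg.Prelude.Def_Sporadic_a
import Cfsg.Agent.Lib.Helper3.LeechNorm48

set_option autoImplicit false

/-!
Helper library (helper3): the four families of `sqNorm = 48` Leech vectors and their sizes.
-/

namespace Cfsg.Agent.Lib.Helper3

open Cfsg Cfsg.Agent.Lib.Helper21

theorem exists_octF : ∃ F : Finset (Finset GolayPt), F.card = 759 ∧ ∀ s, s ∈ F ↔ s ∈ octads := by
  classical
  refine ⟨Finset.univ.filter (· ∈ octads), ?_, fun s => by simp⟩
  rw [← ncard_octads, ← Set.ncard_coe_finset]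
  congr 1
  ext s
  simp

theorem exists_dodF :
    ∃ F : Finset (Finset GolayPt), F.card = 2576 ∧ ∀ s, s ∈ F ↔ s ∈ dodecads := by
  classical
  refine ⟨Finset.univ.filter (· ∈ dodecads), ?_, fun s => by simp⟩
  rw [← ncard_dodecads, ← Set.ncard_coe_finset]
  congr 1
  ext s
  simp

theorem exists_codeF : ∃ F : Finset (Finset GolayPt), F.card = 4096 ∧
    ∀ s, s ∈ F ↔ s ∈ supports (golayCode : Set (GolayPt → ZMod 2)) := by
  classical
  refine ⟨Finset.univ.filter (· ∈ supports (golayCode : Set (GolayPt → ZMod 2))), ?_,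
    fun s => by simp⟩
  rw [← ncard_golayCode, ← Set.ncard_image_of_injective _ support₂_injective,
    ← Set.ncard_coe_finset]
  congr 1
  ext s
  simp only [Finset.mem_coe, Finset.mem_filter, Finset.mem_univ, true_and]
  rfl

theorem exists_Pk (k : ℕ) : ∃ F : Finset (Finset GolayPt), F.card = Nat.choose 24 k ∧
    ∀ s, s ∈ F ↔ s.card = k := by
  refine ⟨Finset.powersetCard k (Finset.univ : Finset GolayPt), ?_, fun s => ?_⟩
  · rw [Finset.card_powersetCard, Finset.card_univ, card_golayPt]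
  · rw [Finset.mem_powersetCard]
    simp

def famD : Set (GolayPt → ℤ) :=
  {x | ∃ s T : Finset GolayPt, s ∈ dodecads ∧ T ⊆ s ∧ Even T.card ∧ x = sv 2 s T}

def famE : Set (GolayPt → ℤ) :=
  {x | ∃ (s T : Finset GolayPt) (j : GolayPt) (c : ℤ), s ∈ octads ∧ T ⊆ s ∧ Odd T.card ∧ j ∉ s ∧
      (c = 4 ∨ c = -4) ∧ x = ev s T j c}

def famF : Set (GolayPt → ℤ) :=
  {x | ∃ (C J : Finset GolayPt), C ∈ supports (golayCode : Set (GolayPt → ZMod 2)) ∧
      J.card = 3 ∧ x = oddv C (p3 J)}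

def famG : Set (GolayPt → ℤ) :=
  {x | ∃ (C : Finset GolayPt) (j : GolayPt), C ∈ supports (golayCode : Set (GolayPt → ZMod 2)) ∧
      x = oddv C (p5 j)}

theorem norm48_eq_union :
    {x : GolayPt → ℤ | x ∈ leechLattice ∧ sqNorm x = 48} = famD ∪ famE ∪ famF ∪ famG := by
  ext x
  rw [Set.mem_ofPred_eq, leech_norm48_iff]
  simp only [Set.mem_union, famD, famE, famF, famG, Set.mem_ofPred_eq, or_assoc]

theorem ncard_famD : famD.ncard = 5275648 := by
  classical
  obtain ⟨dodF, hcard, hdod⟩ := exists_dodF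
  have hfam : famD = {x | ∃ p ∈ dodF.sigma (fun s => s.powerset.filter (fun T => Even T.card)),
      x = (fun p : (Σ _ : Finset GolayPt, Finset GolayPt) => sv 2 p.1 p.2) p} := by
    ext x
    constructor
    · rintro ⟨s, T, hs, hT, hev, rfl⟩
      exact ⟨⟨s, T⟩, Finset.mem_sigma.2 ⟨(hdod s).2 hs,
        Finset.mem_filter.2 ⟨Finset.mem_powerset.2 hT, hev⟩⟩, rfl⟩
    · rintro ⟨⟨s, T⟩, hp, rfl⟩
      obtain ⟨h1, h2⟩ := Finset.mem_sigma.1 hp
      obtain ⟨h3, h4⟩ := Finset.mem_filter.1 h2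
      exact ⟨s, T, (hdod s).1 h1, Finset.mem_powerset.1 h3, h4, rfl⟩
  rw [hfam, ncard_family]
  · rw [Finset.card_sigma, Finset.sum_congr rfl (g := fun _ => 2048)]
    · rw [Finset.sum_const, hcard]; rfl
    · intro s hs
      have h12 : s.card = 12 := ((hdod s).1 hs).2
      have hne : s.Nonempty := by rw [← Finset.card_pos, h12]; norm_num
      rw [(even_odd_subsets_card s hne).1, h12]
      norm_num
  · rintro ⟨s, T⟩ hp ⟨s', T'⟩ hp' h
    have hp1 : T ⊆ s :=
      Finset.mem_powerset.1 (Finset.mem_filter.1 (Finset.mem_sigma.1 hp).2).1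
    have hp2 : T' ⊆ s' :=
      Finset.mem_powerset.1 (Finset.mem_filter.1 (Finset.mem_sigma.1 hp').2).1
    obtain ⟨h1, h2⟩ := sv_inj (by norm_num : (0 : ℤ) < 2) hp1 hp2 h
    subst h1; subst h2; rfl

theorem ncard_famE : famE.ncard = 3108864 := by
  classical
  obtain ⟨octF, hcard, hoct⟩ := exists_octF
  have hfam : famE = {x | ∃ p ∈ octF.sigma (fun s => (s.powerset.filter (fun T => Odd T.card)) ×ˢ
        (sᶜ ×ˢ ({4, -4} : Finset ℤ))),
      x = (fun p : (Σ _ : Finset GolayPt, Finset GolayPt × (GolayPt × ℤ)) =>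
        ev p.1 p.2.1 p.2.2.1 p.2.2.2) p} := by
    ext x
    constructor
    · rintro ⟨s, T, j, c, hs, hT, hodd, hj, hc, rfl⟩
      refine ⟨⟨s, T, j, c⟩, Finset.mem_sigma.2 ⟨(hoct s).2 hs, ?_⟩, rfl⟩
      refine Finset.mem_product.2 ⟨Finset.mem_filter.2 ⟨Finset.mem_powerset.2 hT, hodd⟩,
        Finset.mem_product.2 ⟨Finset.mem_compl.2 hj, ?_⟩⟩
      simpa using hc
    · rintro ⟨⟨s, T, j, c⟩, hp, rfl⟩
      obtain ⟨h1, h2⟩ := Finset.mem_sigma.1 hp
      obtain ⟨h3, h4⟩ := Finset.mem_product.1 h2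
      obtain ⟨h5, h6⟩ := Finset.mem_product.1 h4
      obtain ⟨h7, h8⟩ := Finset.mem_filter.1 h3
      exact ⟨s, T, j, c, (hoct s).1 h1, Finset.mem_powerset.1 h7, h8, Finset.mem_compl.1 h5,
        by simpa using h6, rfl⟩
  rw [hfam, ncard_family]
  · rw [Finset.card_sigma, Finset.sum_congr rfl (g := fun _ => 4096)]
    · rw [Finset.sum_const, hcard]; rfl
    · intro s hs
      have h8 : s.card = 8 := ((hoct s).1 hs).2
      have hne : s.Nonempty := by rw [← Finset.card_pos, h8]; norm_num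
      rw [Finset.card_product, Finset.card_product, (even_odd_subsets_card s hne).2, h8,
        Finset.card_compl, h8, card_golayPt, Finset.card_pair (by norm_num)]
      norm_num
  · rintro ⟨s, T, j, c⟩ hp ⟨s', T', j', c'⟩ hp' h
    obtain ⟨h1, h2⟩ := Finset.mem_sigma.1 hp
    obtain ⟨h3, h4⟩ := Finset.mem_product.1 h2
    obtain ⟨h5, h6⟩ := Finset.mem_product.1 h4
    obtain ⟨h7, h8⟩ := Finset.mem_filter.1 h3
    obtain ⟨h1', h2'⟩ := Finset.mem_sigma.1 hp'
    obtain ⟨h3', h4'⟩ := Finset.mem_product.1 h2'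
    obtain ⟨h5', h6'⟩ := Finset.mem_product.1 h4'
    obtain ⟨h7', h8'⟩ := Finset.mem_filter.1 h3'
    obtain ⟨e1, e2, e3, e4⟩ := ev_inj (Finset.mem_powerset.1 h7) (Finset.mem_powerset.1 h7')
      (Finset.mem_compl.1 h5) (Finset.mem_compl.1 h5') (by simpa using h6) (by simpa using h6') h
    subst e1; subst e2; subst e3; subst e4; rfl

theorem ncard_famF : famF.ncard = 8290304 := by
  classical
  obtain ⟨codeF, hcard, hcode⟩ := exists_codeF
  obtain ⟨P3, hcard3, hP3⟩ := exists_Pk 3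
  have hfam : famF = {x | ∃ p ∈ codeF ×ˢ P3,
      x = (fun p : Finset GolayPt × Finset GolayPt => oddv p.1 (p3 p.2)) p} := by
    ext x
    constructor
    · rintro ⟨C, J, hC, hJ, rfl⟩
      exact ⟨⟨C, J⟩, Finset.mem_product.2 ⟨(hcode C).2 hC, (hP3 J).2 hJ⟩, rfl⟩
    · rintro ⟨⟨C, J⟩, hp, rfl⟩
      obtain ⟨h1, h2⟩ := Finset.mem_product.1 hp
      exact ⟨C, J, (hcode C).1 h1, (hP3 J).1 h2, rfl⟩
  rw [hfam, ncard_family]
  · rw [Finset.card_product, hcard, hcard3]
    norm_num [Nat.choose]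
  · rintro ⟨C, J⟩ _ ⟨C', J'⟩ _ h
    obtain ⟨h1, h2⟩ := oddv_inj (p3_odd J) (p3_odd J') (p3_pos J) (p3_pos J') h
    have h3 := p3_inj h2
    subst h1; subst h3; rfl

theorem ncard_famG : famG.ncard = 98304 := by
  classical
  obtain ⟨codeF, hcard, hcode⟩ := exists_codeF
  have hfam : famG = {x | ∃ p ∈ codeF ×ˢ (Finset.univ : Finset GolayPt),
      x = (fun p : Finset GolayPt × GolayPt => oddv p.1 (p5 p.2)) p} := by
    ext x
    constructor
    · rintro ⟨C, j, hC, rfl⟩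
      exact ⟨⟨C, j⟩, Finset.mem_product.2 ⟨(hcode C).2 hC, Finset.mem_univ _⟩, rfl⟩
    · rintro ⟨⟨C, j⟩, hp, rfl⟩
      obtain ⟨h1, -⟩ := Finset.mem_product.1 hp
      exact ⟨C, j, (hcode C).1 h1, rfl⟩
  rw [hfam, ncard_family]
  · rw [Finset.card_product, hcard, Finset.card_univ, card_golayPt]
  · rintro ⟨C, j⟩ _ ⟨C', j'⟩ _ h
    obtain ⟨h1, h2⟩ := oddv_inj (p5_odd j) (p5_odd j') (p5_pos j) (p5_pos j') h
    have h3 := p5_inj h2
    subst h1; subst h3; rfl


/-! ### coordinate values of the four families -/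

theorem famD_vals {x : GolayPt → ℤ} (hx : x ∈ famD) (i : GolayPt) :
    x i = 0 ∨ x i = 2 ∨ x i = -2 := by
  obtain ⟨s, T, -, -, -, rfl⟩ := hx
  exact sv2_vals s T i

theorem famD_abs {x : GolayPt → ℤ} (hx : x ∈ famD) (i : GolayPt) : |x i| = 0 ∨ |x i| = 2 := by
  rcases famD_vals hx i with h | h | h <;> rw [h] <;> norm_num

theorem famE_abs {x : GolayPt → ℤ} (hx : x ∈ famE) :
    (∀ i, |x i| = 0 ∨ |x i| = 2 ∨ |x i| = 4) ∧ ∃ j, |x j| = 4 := by
  obtain ⟨s, T, j, c, -, -, -, -, hc, rfl⟩ := hx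
  constructor
  · intro i
    unfold ev
    by_cases hi : i = j
    · simp only [hi, if_true]
      rcases hc with h | h <;> rw [h] <;> norm_num
    · simp only [hi, if_false]
      rcases sv2_vals s T i with h | h | h <;> rw [h] <;> norm_num
  · refine ⟨j, ?_⟩
    unfold ev
    simp only [if_true]
    rcases hc with h | h <;> rw [h] <;> norm_num

theorem famF_abs {x : GolayPt → ℤ} (hx : x ∈ famF) :
    (∀ i, |x i| = 1 ∨ |x i| = 3) ∧
      ∃ i j k, i ≠ j ∧ j ≠ k ∧ i ≠ k ∧ |x i| = 3 ∧ |x j| = 3 ∧ |x k| = 3 := by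
  obtain ⟨C, J, -, hJ, rfl⟩ := hx
  have habs : ∀ i, |oddv C (p3 J) i| = p3 J i := fun i => by
    rw [oddv_abs, abs_of_pos (p3_pos J i)]
  constructor
  · intro i
    rw [habs]
    unfold p3
    split_ifs <;> simp
  · obtain ⟨i, j, k, hij, hik, hjk, rfl⟩ := Finset.card_eq_three.1 hJ
    refine ⟨i, j, k, hij, hjk, hik, ?_, ?_, ?_⟩ <;> rw [habs] <;> unfold p3 <;> simp

theorem famG_abs {x : GolayPt → ℤ} (hx : x ∈ famG) :
    (∀ i, |x i| = 1 ∨ |x i| = 5) ∧ ∃ j, |x j| = 5 := by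
  obtain ⟨C, j, -, rfl⟩ := hx
  have habs : ∀ i, |oddv C (p5 j) i| = p5 j i := fun i => by
    rw [oddv_abs, abs_of_pos (p5_pos j i)]
  constructor
  · intro i
    rw [habs]
    unfold p5
    split_ifs <;> simp
  · refine ⟨j, ?_⟩
    rw [habs]
    unfold p5
    simp

theorem disj_DE : Disjoint famD famE := by
  rw [Set.disjoint_left]
  intro x h1 h2
  obtain ⟨j, hj⟩ := (famE_abs h2).2
  rcases famD_abs h1 j with h | h <;> omega

theorem disj_DE_F : Disjoint (famD ∪ famE) famF := by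
  rw [Set.disjoint_left]
  intro x h1 h2
  have h3 := (famF_abs h2).1 none
  rcases h1 with h1 | h1
  · rcases famD_abs h1 none with h | h <;> omega
  · rcases (famE_abs h1).1 none with h | h | h <;> omega

theorem disj_DEF_G : Disjoint (famD ∪ famE ∪ famF) famG := by
  rw [Set.disjoint_left]
  intro x h1 h2
  have h3 := (famG_abs h2).1 none
  obtain ⟨j, hj⟩ := (famG_abs h2).2
  rcases h1 with (h1 | h1) | h1
  · rcases famD_abs h1 none with h | h <;> omega
  · rcases (famE_abs h1).1 none with h | h | h <;> omega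
  · rcases (famF_abs h1).1 j with h | h <;> omega

theorem fin_famD : famD.Finite := Set.finite_of_ncard_ne_zero (by rw [ncard_famD]; norm_num)
theorem fin_famE : famE.Finite := Set.finite_of_ncard_ne_zero (by rw [ncard_famE]; norm_num)
theorem fin_famF : famF.Finite := Set.finite_of_ncard_ne_zero (by rw [ncard_famF]; norm_num)
theorem fin_famG : famG.Finite := Set.finite_of_ncard_ne_zero (by rw [ncard_famG]; norm_num)

theorem ncard_norm48 :
    {x : GolayPt → ℤ | x ∈ leechLattice ∧ sqNorm x = 48}.ncard = 16773120 := by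
  rw [norm48_eq_union, Set.ncard_union_eq disj_DEF_G ((fin_famD.union fin_famE).union fin_famF)
    fin_famG, Set.ncard_union_eq disj_DE_F (fin_famD.union fin_famE) fin_famF,
    Set.ncard_union_eq disj_DE fin_famD fin_famE, ncard_famD, ncard_famE, ncard_famF, ncard_famG]

end Cfsg.Agent.Lib.Helper3
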