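import Mathlib
import Cfsg.Prelude.Def_Sporadic_a
import Cfsg.Agent.Lib.Helper3.LeechNorm48Count

set_option autoImplicit false

/-!
Helper library (helper3): general even vectors `ev2 s T U W = sv 2 s T + sv 4 U W` and
general odd vectors `oddv C (p35 J K)` of the Leech lattice; structure theorems for lattice
vectors with small coordinates.
-/

namespace Cfsg.Agent.Lib.Helper3

open Cfsg Cfsg.Agent.Lib.Helper21

def ev2 (s T U W : Finset GolayPt) : GolayPt → ℤ := fun i => sv 2 s T i + sv 4 U W i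

/-- the signs of the `±4` part agree with the signs of the `±2` part on `U ∩ s`. -/
def Agree (s T U W : Finset GolayPt) : Prop := ∀ i, i ∈ U → i ∈ s → (i ∈ W ↔ i ∈ T)

theorem agree_of_disjoint {s T U W : Finset GolayPt} (h : U ⊆ sᶜ) : Agree s T U W := by
  intro i hU hs
  exact absurd hs (Finset.mem_compl.1 (h hU))

theorem sv4_mod4 (U W : Finset GolayPt) (i : GolayPt) : sv 4 U W i % 4 = 0 := by
  unfold sv
  split_ifs <;> norm_num

theorem sv2_mod4 {s T : Finset GolayPt} (hT : T ⊆ s) (i : GolayPt) :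
    i ∈ s ↔ sv 2 s T i % 4 = 2 := by
  unfold sv
  by_cases h1 : i ∈ T
  · simp [h1, hT h1]
  · by_cases h2 : i ∈ s <;> simp [h1, h2]

theorem ev2_mod4 {s T : Finset GolayPt} (hT : T ⊆ s) (U W : Finset GolayPt) (i : GolayPt) :
    i ∈ s ↔ ev2 s T U W i % 4 = 2 := by
  rw [sv2_mod4 hT i]
  unfold ev2
  have := sv4_mod4 U W i
  omega

theorem ev2_even (s T U W : Finset GolayPt) (i : GolayPt) : ev2 s T U W i % 2 = 0 := by
  unfold ev2
  have h1 := sv_even 2 (by norm_num) s T i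
  have h2 := sv_even 4 (by norm_num) U W i
  omega

theorem sum_ev2 {s T U W : Finset GolayPt} (hT : T ⊆ s) (hW : W ⊆ U) :
    ∑ i, ev2 s T U W i =
      2 * ((s.card : ℤ) - 2 * (T.card : ℤ)) + 4 * ((U.card : ℤ) - 2 * (W.card : ℤ)) := by
  unfold ev2
  rw [Finset.sum_add_distrib, sum_sv 2 hT, sum_sv 4 hW]

theorem ev2_mem {s T U W : Finset GolayPt}
    (hs : s ∈ supports (golayCode : Set (GolayPt → ZMod 2))) (hT : T ⊆ s) (hW : W ⊆ U)
    (hsum : (2 * ((s.card : ℤ) - 2 * (T.card : ℤ)) + 4 * ((U.card : ℤ) - 2 * (W.card : ℤ))) % 8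
      = 0) : ev2 s T U W ∈ leechLattice := by
  rw [even_mem_iff (ev2_even s T U W) (ev2_mod4 hT U W)]
  exact ⟨hs, by rw [sum_ev2 hT hW]; exact hsum⟩

theorem ev2_vals {s T U W : Finset GolayPt} (hT : T ⊆ s) (hW : W ⊆ U) (hag : Agree s T U W)
    (i : GolayPt) :
    (i ∈ s → i ∈ U → (i ∈ T → ev2 s T U W i = -6) ∧ (i ∉ T → ev2 s T U W i = 6)) ∧
    (i ∈ s → i ∉ U → (i ∈ T → ev2 s T U W i = -2) ∧ (i ∉ T → ev2 s T U W i = 2)) ∧
    (i ∉ s → i ∈ U → (i ∈ W → ev2 s T U W i = -4) ∧ (i ∉ W → ev2 s T U W i = 4)) ∧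
    (i ∉ s → i ∉ U → ev2 s T U W i = 0) := by
  unfold ev2 sv
  refine ⟨fun hs hU => ⟨fun hTi => ?_, fun hTi => ?_⟩, fun hs hU => ⟨fun hTi => ?_, fun hTi => ?_⟩,
    fun hs hU => ⟨fun hWi => ?_, fun hWi => ?_⟩, fun hs hU => ?_⟩
  · have : i ∈ W := (hag i hU hs).2 hTi
    simp [hTi, this]
  · have : i ∉ W := fun h => hTi ((hag i hU hs).1 h)
    simp [hTi, this, hs, hU]
  · have : i ∉ W := fun h => hU (hW h)
    simp [hTi, this, hU]
  · have : i ∉ W := fun h => hU (hW h)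
    simp [hTi, this, hU, hs]
  · have : i ∉ T := fun h => hs (hT h)
    simp [hWi, this, hs]
  · have : i ∉ T := fun h => hs (hT h)
    simp [hWi, this, hs, hU]
  · have h1 : i ∉ T := fun h => hs (hT h)
    have h2 : i ∉ W := fun h => hU (hW h)
    simp [h1, h2, hs, hU]

theorem ev2_neg_iff {s T U W : Finset GolayPt} (hT : T ⊆ s) (hW : W ⊆ U) (hag : Agree s T U W)
    (i : GolayPt) : i ∈ T ↔ i ∈ s ∧ ev2 s T U W i < 0 := by
  obtain ⟨h1, h2, h3, h4⟩ := ev2_vals hT hW hag i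
  constructor
  · intro hTi
    refine ⟨hT hTi, ?_⟩
    by_cases hU : i ∈ U
    · rw [(h1 (hT hTi) hU).1 hTi]; norm_num
    · rw [(h2 (hT hTi) hU).1 hTi]; norm_num
  · rintro ⟨hs, hneg⟩
    by_contra hTi
    by_cases hU : i ∈ U
    · rw [(h1 hs hU).2 hTi] at hneg; norm_num at hneg
    · rw [(h2 hs hU).2 hTi] at hneg; norm_num at hneg

theorem ev2_inj {s T U W s' T' U' W' : Finset GolayPt} (hT : T ⊆ s) (hW : W ⊆ U)
    (hag : Agree s T U W) (hT' : T' ⊆ s') (hW' : W' ⊆ U') (hag' : Agree s' T' U' W')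
    (h : ev2 s T U W = ev2 s' T' U' W') : s = s' ∧ T = T' ∧ U = U' ∧ W = W' := by
  have hs : s = s' := by
    ext i
    rw [ev2_mod4 hT U W i, ev2_mod4 hT' U' W' i, h]
  subst hs
  have hTT : T = T' := by
    ext i
    rw [ev2_neg_iff hT hW hag i, ev2_neg_iff hT' hW' hag' i, h]
  subst hTT
  have h4 : sv 4 U W = sv 4 U' W' := by
    funext i
    have := congrFun h i
    unfold ev2 at this
    linarith
  obtain ⟨h5, h6⟩ := sv_inj (by norm_num : (0 : ℤ) < 4) hW hW' h4
  exact ⟨rfl, rfl, h5, h6⟩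

theorem ev2_sq {s T U W : Finset GolayPt} (hT : T ⊆ s) (hW : W ⊆ U) (hag : Agree s T U W)
    (i : GolayPt) : ev2 s T U W i ^ 2 = (if i ∈ s then 4 else 0) +
      ((if i ∈ U \ s then 16 else 0) + (if i ∈ U ∩ s then 32 else 0)) := by
  obtain ⟨h1, h2, h3, h4⟩ := ev2_vals hT hW hag i
  by_cases hs : i ∈ s <;> by_cases hU : i ∈ U
  · by_cases hTi : i ∈ T
    · rw [(h1 hs hU).1 hTi]; simp [hs, hU]
    · rw [(h1 hs hU).2 hTi]; simp [hs, hU]
  · by_cases hTi : i ∈ T
    · rw [(h2 hs hU).1 hTi]; simp [hs, hU]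
    · rw [(h2 hs hU).2 hTi]; simp [hs, hU]
  · by_cases hWi : i ∈ W
    · rw [(h3 hs hU).1 hWi]; simp [hs, hU]
    · rw [(h3 hs hU).2 hWi]; simp [hs, hU]
  · rw [h4 hs hU]; simp [hs, hU]

theorem sqNorm_ev2 {s T U W : Finset GolayPt} (hT : T ⊆ s) (hW : W ⊆ U) (hag : Agree s T U W) :
    sqNorm (ev2 s T U W) =
      4 * (s.card : ℤ) + 16 * ((U \ s).card : ℤ) + 32 * ((U ∩ s).card : ℤ) := by
  unfold sqNorm
  simp_rw [ev2_sq hT hW hag]
  rw [Finset.sum_add_distrib, Finset.sum_add_distrib]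
  simp only [Finset.sum_ite_mem, Finset.univ_inter, Finset.sum_const, nsmul_eq_mul]
  ring

theorem ev2_abs_le {s T U W : Finset GolayPt} (hT : T ⊆ s) (hW : W ⊆ U) (hag : Agree s T U W)
    (i : GolayPt) : |ev2 s T U W i| ≤ 6 := by
  obtain ⟨h1, h2, h3, h4⟩ := ev2_vals hT hW hag i
  by_cases hs : i ∈ s <;> by_cases hU : i ∈ U
  · by_cases hTi : i ∈ T
    · rw [(h1 hs hU).1 hTi]; norm_num
    · rw [(h1 hs hU).2 hTi]; norm_num
  · by_cases hTi : i ∈ T
    · rw [(h2 hs hU).1 hTi]; norm_num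
    · rw [(h2 hs hU).2 hTi]; norm_num
  · by_cases hWi : i ∈ W
    · rw [(h3 hs hU).1 hWi]; norm_num
    · rw [(h3 hs hU).2 hWi]; norm_num
  · rw [h4 hs hU]; norm_num

/-- structure of even lattice vectors with all coordinates of absolute value at most 6 -/
theorem even_structure {x : GolayPt → ℤ} (hx : x ∈ leechLattice) (h2 : ∀ i, x i % 2 = 0)
    (hle : ∀ i, |x i| ≤ 6) :
    ∃ s T U W : Finset GolayPt, s ∈ supports (golayCode : Set (GolayPt → ZMod 2)) ∧ T ⊆ s ∧
      W ⊆ U ∧ Agree s T U W ∧ x = ev2 s T U W := by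
  classical
  obtain ⟨C, hC⟩ : ∃ C : Finset GolayPt, ∀ i, i ∈ C ↔ x i % 4 = 2 :=
    ⟨Finset.univ.filter (fun i => x i % 4 = 2), fun i => by simp⟩
  obtain ⟨hCs, -⟩ := (even_mem_iff h2 hC).1 hx
  obtain ⟨U, hU⟩ : ∃ U : Finset GolayPt, ∀ i, i ∈ U ↔ 4 ≤ |x i| :=
    ⟨Finset.univ.filter (fun i => 4 ≤ |x i|), fun i => by simp⟩
  have hTs : C.filter (fun i => x i < 0) ⊆ C := Finset.filter_subset _ _
  have hWs : U.filter (fun i => x i < 0) ⊆ U := Finset.filter_subset _ _
  have hag : Agree C (C.filter (fun i => x i < 0)) U (U.filter (fun i => x i < 0)) := by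
    intro i hiU hiC
    simp only [Finset.mem_filter, hiU, hiC, true_and]
  refine ⟨C, C.filter (fun i => x i < 0), U, U.filter (fun i => x i < 0), hCs, hTs, hWs, hag, ?_⟩
  funext i
  obtain ⟨h1, h2', h3, h4⟩ := ev2_vals hTs hWs hag i
  have hl := abs_le.1 (hle i)
  have hp := h2 i
  by_cases hs : i ∈ C
  · have hm := (hC i).1 hs
    have hc : x i = -6 ∨ x i = -2 ∨ x i = 2 ∨ x i = 6 := by omega
    rcases hc with h | h | h | h
    · have hiU : i ∈ U := (hU i).2 (by rw [h]; norm_num)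
      have hiT : i ∈ C.filter (fun i => x i < 0) := Finset.mem_filter.2 ⟨hs, by rw [h]; norm_num⟩
      rw [(h1 hs hiU).1 hiT, h]
    · have hiU : i ∉ U := fun hh => by have := (hU i).1 hh; rw [h] at this; norm_num at this
      have hiT : i ∈ C.filter (fun i => x i < 0) := Finset.mem_filter.2 ⟨hs, by rw [h]; norm_num⟩
      rw [(h2' hs hiU).1 hiT, h]
    · have hiU : i ∉ U := fun hh => by have := (hU i).1 hh; rw [h] at this; norm_num at this
      have hiT : i ∉ C.filter (fun i => x i < 0) := fun hh => by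
        have := (Finset.mem_filter.1 hh).2; rw [h] at this; norm_num at this
      rw [(h2' hs hiU).2 hiT, h]
    · have hiU : i ∈ U := (hU i).2 (by rw [h]; norm_num)
      have hiT : i ∉ C.filter (fun i => x i < 0) := fun hh => by
        have := (Finset.mem_filter.1 hh).2; rw [h] at this; norm_num at this
      rw [(h1 hs hiU).2 hiT, h]
  · have hm : ¬ x i % 4 = 2 := fun h => hs ((hC i).2 h)
    have hc : x i = -4 ∨ x i = 0 ∨ x i = 4 := by omega
    rcases hc with h | h | h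
    · have hiU : i ∈ U := (hU i).2 (by rw [h]; norm_num)
      have hiW : i ∈ U.filter (fun i => x i < 0) := Finset.mem_filter.2 ⟨hiU, by rw [h]; norm_num⟩
      rw [(h3 hs hiU).1 hiW, h]
    · have hiU : i ∉ U := fun hh => by have := (hU i).1 hh; rw [h] at this; norm_num at this
      rw [h4 hs hiU, h]
    · have hiU : i ∈ U := (hU i).2 (by rw [h]; norm_num)
      have hiW : i ∉ U.filter (fun i => x i < 0) := fun hh => by
        have := (Finset.mem_filter.1 hh).2; rw [h] at this; norm_num at this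
      rw [(h3 hs hiU).2 hiW, h]


/-! ### odd vectors with coordinates of absolute value at most 5 -/

def p35 (J K : Finset GolayPt) : GolayPt → ℤ :=
  fun i => if i ∈ K then 5 else if i ∈ J then 3 else 1

theorem p35_odd (J K : Finset GolayPt) (i : GolayPt) : p35 J K i % 2 = 1 := by
  unfold p35; split_ifs <;> norm_num

theorem p35_pos (J K : Finset GolayPt) (i : GolayPt) : 0 < p35 J K i := by
  unfold p35; split_ifs <;> norm_num

theorem sqNorm_p35 {J K : Finset GolayPt} (hd : Disjoint J K) :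
    sqNorm (p35 J K) = 24 + 8 * (J.card : ℤ) + 24 * (K.card : ℤ) := by
  unfold sqNorm
  have h : ∀ i, p35 J K i ^ 2 = 1 + ((if i ∈ J then 8 else 0) + (if i ∈ K then 24 else 0)) := by
    intro i
    unfold p35
    by_cases hK : i ∈ K
    · have : i ∉ J := fun hJ => (Finset.disjoint_left.1 hd hJ) hK
      simp [hK, this]
    · by_cases hJ : i ∈ J <;> simp [hK, hJ]
  simp_rw [h]
  rw [Finset.sum_add_distrib, Finset.sum_add_distrib]
  simp only [Finset.sum_const, nsmul_eq_mul, Finset.sum_ite_mem, Finset.univ_inter,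
    Finset.card_univ, card_golayPt]
  push_cast; ring

theorem p35_inj {J K J' K' : Finset GolayPt} (hd : Disjoint J K) (hd' : Disjoint J' K')
    (h : p35 J K = p35 J' K') : J = J' ∧ K = K' := by
  have hK : ∀ (J K : Finset GolayPt) (i : GolayPt), i ∈ K ↔ p35 J K i = 5 := by
    intro J K i
    unfold p35
    by_cases h1 : i ∈ K
    · simp [h1]
    · by_cases h2 : i ∈ J <;> simp [h1, h2]
  have hJ : ∀ (J K : Finset GolayPt), Disjoint J K → ∀ i : GolayPt, i ∈ J ↔ p35 J K i = 3 := by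
    intro J K hd i
    unfold p35
    by_cases h1 : i ∈ K
    · have : i ∉ J := fun hJ => (Finset.disjoint_left.1 hd hJ) h1
      simp [h1, this]
    · by_cases h2 : i ∈ J <;> simp [h1, h2]
  constructor
  · ext i
    rw [hJ J K hd i, hJ J' K' hd' i, h]
  · ext i
    rw [hK J K i, hK J' K' i, h]

theorem odd_structure {x : GolayPt → ℤ} (hx : x ∈ leechLattice) (h2 : ∀ i, x i % 2 = 1)
    (hle : ∀ i, |x i| ≤ 5) :
    ∃ C J K : Finset GolayPt, C ∈ supports (golayCode : Set (GolayPt → ZMod 2)) ∧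
      Disjoint J K ∧ x = oddv C (p35 J K) := by
  classical
  obtain ⟨C, hC⟩ : ∃ C : Finset GolayPt, ∀ i, i ∈ C ↔ x i % 4 = 1 :=
    ⟨Finset.univ.filter (fun i => x i % 4 = 1), fun i => by simp⟩
  obtain ⟨hCs, -⟩ := (odd_mem_iff h2 hC).1 hx
  have hxo := eq_oddv_abs h2 hC
  refine ⟨C, Finset.univ.filter (fun i => |x i| = 3), Finset.univ.filter (fun i => |x i| = 5),
    hCs, ?_, ?_⟩
  · rw [Finset.disjoint_left]
    intro i h3 h5
    simp only [Finset.mem_filter, Finset.mem_univ, true_and] at h3 h5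
    omega
  · have : (fun i => |x i|) = p35 (Finset.univ.filter (fun i => |x i| = 3))
        (Finset.univ.filter (fun i => |x i| = 5)) := by
      funext i
      unfold p35
      simp only [Finset.mem_filter, Finset.mem_univ, true_and]
      have hl := hle i
      have hp := h2 i
      have h0 : 0 ≤ |x i| := abs_nonneg _
      have hpar : |x i| % 2 = 1 := by
        rcases abs_choice (x i) with h | h <;> rw [h] <;> omega
      have hc : |x i| = 1 ∨ |x i| = 3 ∨ |x i| = 5 := by omega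
      rcases hc with h | h | h <;> simp [h]
    rw [← this]
    exact hxo

/-! ### a generic family of even vectors and its size -/

def famU (F : Finset (Finset GolayPt)) (P : ℕ → Prop) (k : ℕ) : Set (GolayPt → ℤ) :=
  {x | ∃ s T U W : Finset GolayPt, s ∈ F ∧ T ⊆ s ∧ P T.card ∧ U ⊆ sᶜ ∧ U.card = k ∧ W ⊆ U ∧
    x = ev2 s T U W}

theorem ncard_famU (F : Finset (Finset GolayPt)) (P : ℕ → Prop) [DecidablePred P] (k m e : ℕ)
    (hm : ∀ s ∈ F, s.card = m)
    (he : ∀ s ∈ F, (s.powerset.filter (fun T => P T.card)).card = e) :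
    (famU F P k).ncard = F.card * (e * (Nat.choose (24 - m) k * 2 ^ k)) := by
  classical
  have hfam : famU F P k = {x | ∃ p ∈ F.sigma (fun s => (s.powerset.filter (fun T => P T.card)) ×ˢ
        ((Finset.powersetCard k sᶜ).sigma (fun U => U.powerset))),
      x = (fun p : (Σ _ : Finset GolayPt, Finset GolayPt × (Σ _ : Finset GolayPt, Finset GolayPt)) =>
        ev2 p.1 p.2.1 p.2.2.1 p.2.2.2) p} := by
    ext x
    constructor
    · rintro ⟨s, T, U, W, hs, hT, hP, hU, hUk, hW, rfl⟩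
      refine ⟨⟨s, T, U, W⟩, Finset.mem_sigma.2 ⟨hs, ?_⟩, rfl⟩
      refine Finset.mem_product.2 ⟨Finset.mem_filter.2 ⟨Finset.mem_powerset.2 hT, hP⟩,
        Finset.mem_sigma.2 ⟨Finset.mem_powersetCard.2 ⟨hU, hUk⟩, Finset.mem_powerset.2 hW⟩⟩
    · rintro ⟨⟨s, T, U, W⟩, hp, rfl⟩
      obtain ⟨h1, h2⟩ := Finset.mem_sigma.1 hp
      obtain ⟨h3, h4⟩ := Finset.mem_product.1 h2
      obtain ⟨h5, h6⟩ := Finset.mem_sigma.1 h4
      obtain ⟨h7, h8⟩ := Finset.mem_filter.1 h3
      obtain ⟨h9, h10⟩ := Finset.mem_powersetCard.1 h5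
      exact ⟨s, T, U, W, h1, Finset.mem_powerset.1 h7, h8, h9, h10, Finset.mem_powerset.1 h6, rfl⟩
  rw [hfam, ncard_family]
  · rw [Finset.card_sigma, Finset.sum_congr rfl (g := fun _ => e * (Nat.choose (24 - m) k * 2 ^ k))]
    · rw [Finset.sum_const, smul_eq_mul]
    · intro s hs
      rw [Finset.card_product, he s hs, Finset.card_sigma,
        Finset.sum_congr rfl (g := fun _ => 2 ^ k)]
      · rw [Finset.sum_const, smul_eq_mul, Finset.card_powersetCard, Finset.card_compl, hm s hs,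
          card_golayPt]
      · intro U hU
        rw [Finset.card_powerset, (Finset.mem_powersetCard.1 hU).2]
  · rintro ⟨s, T, U, W⟩ hp ⟨s', T', U', W'⟩ hp' h
    obtain ⟨h1, h2⟩ := Finset.mem_sigma.1 hp
    obtain ⟨h3, h4⟩ := Finset.mem_product.1 h2
    obtain ⟨h5, h6⟩ := Finset.mem_sigma.1 h4
    obtain ⟨h7, h8⟩ := Finset.mem_filter.1 h3
    obtain ⟨h9, h10⟩ := Finset.mem_powersetCard.1 h5
    obtain ⟨h1', h2'⟩ := Finset.mem_sigma.1 hp'
    obtain ⟨h3', h4'⟩ := Finset.mem_product.1 h2'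
    obtain ⟨h5', h6'⟩ := Finset.mem_sigma.1 h4'
    obtain ⟨h7', h8'⟩ := Finset.mem_filter.1 h3'
    obtain ⟨h9', h10'⟩ := Finset.mem_powersetCard.1 h5'
    obtain ⟨e1, e2, e3, e4⟩ := ev2_inj (Finset.mem_powerset.1 h7) (Finset.mem_powerset.1 h6)
      (agree_of_disjoint h9) (Finset.mem_powerset.1 h7') (Finset.mem_powerset.1 h6')
      (agree_of_disjoint h9') h
    subst e1; subst e2; subst e3; subst e4; rfl

end Cfsg.Agent.Lib.Helper3
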