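import Mathlib
import Cfsg.Prelude.Def_Sporadic_a
import Cfsg.Agent.Lib.Helper3.LeechEv2

set_option autoImplicit false

/-!
Helper library (helper3): families of Leech lattice vectors with their sizes:
`famS B P k` (even, `±4` part off the `±2` part), `famI` (even, a `±6`), `famO a b` (odd),
`famV c k` (`sv c s T` with `s.card = k`), and disjointness tools.
-/

namespace Cfsg.Agent.Lib.Helper3

open Cfsg Cfsg.Agent.Lib.Helper21

def famS (B : Set (Finset GolayPt)) (P : ℕ → Prop) (k : ℕ) : Set (GolayPt → ℤ) :=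
  {x | ∃ s T U W : Finset GolayPt, s ∈ B ∧ T ⊆ s ∧ P T.card ∧ U ⊆ sᶜ ∧ U.card = k ∧ W ⊆ U ∧
    x = ev2 s T U W}

theorem ncard_famS {B : Set (Finset GolayPt)} {F : Finset (Finset GolayPt)}
    (hF : ∀ s, s ∈ F ↔ s ∈ B) (P : ℕ → Prop) (k m e : ℕ)
    (hm : ∀ s ∈ F, s.card = m)
    (he : ∀ s ∈ F, ∀ [DecidablePred P], (s.powerset.filter (fun T => P T.card)).card = e) :
    (famS B P k).ncard = F.card * (e * (Nat.choose (24 - m) k * 2 ^ k)) := by
  classical
  have : famS B P k = famU F P k := by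
    ext x
    constructor
    · rintro ⟨s, T, U, W, hs, h⟩
      exact ⟨s, T, U, W, (hF s).2 hs, h⟩
    · rintro ⟨s, T, U, W, hs, h⟩
      exact ⟨s, T, U, W, (hF s).1 hs, h⟩
  rw [this]
  exact ncard_famU F P k m e hm (fun s hs => he s hs)

/-- signature sets for disjointness -/
def EvSig (m k : ℕ) : Set (GolayPt → ℤ) :=
  {x | ∃ s T U W : Finset GolayPt, T ⊆ s ∧ W ⊆ U ∧ Agree s T U W ∧ s.card = m ∧ U.card = k ∧
    x = ev2 s T U W}

theorem evSig_disjoint {m k m' k' : ℕ} (h : m ≠ m' ∨ k ≠ k') :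
    Disjoint (EvSig m k) (EvSig m' k') := by
  rw [Set.disjoint_left]
  rintro x ⟨s, T, U, W, hT, hW, hag, hm, hk, rfl⟩ ⟨s', T', U', W', hT', hW', hag', hm', hk', h'⟩
  obtain ⟨e1, -, e3, -⟩ := ev2_inj hT hW hag hT' hW' hag' h'
  subst e1; subst e3
  rcases h with h | h
  · exact h (hm.symm.trans hm')
  · exact h (hk.symm.trans hk')

theorem famS_subset_evSig {B : Set (Finset GolayPt)} (P : ℕ → Prop) (k m : ℕ)
    (hm : ∀ s ∈ B, s.card = m) : famS B P k ⊆ EvSig m k := by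
  rintro x ⟨s, T, U, W, hs, hT, -, hU, hk, hW, rfl⟩
  exact ⟨s, T, U, W, hT, hW, agree_of_disjoint hU, hm s hs, hk, rfl⟩

theorem evSig_abs_le {m k : ℕ} {x : GolayPt → ℤ} (hx : x ∈ EvSig m k) (i : GolayPt) :
    |x i| ≤ 6 := by
  obtain ⟨s, T, U, W, hT, hW, hag, -, -, rfl⟩ := hx
  exact ev2_abs_le hT hW hag i

theorem evSig_even {m k : ℕ} {x : GolayPt → ℤ} (hx : x ∈ EvSig m k) (i : GolayPt) :
    x i % 2 = 0 := by
  obtain ⟨s, T, U, W, -, -, -, -, -, rfl⟩ := hx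
  exact ev2_even s T U W i

/-- even vectors with a `±6`: `s` an octad-like set from `B`, `j ∈ s`. -/
def famI (B : Set (Finset GolayPt)) (P : ℕ → Prop) : Set (GolayPt → ℤ) :=
  {x | ∃ (s T : Finset GolayPt) (j : GolayPt), s ∈ B ∧ T ⊆ s ∧ P T.card ∧ j ∈ s ∧
    x = ev2 s T {j} ({j} ∩ T)}

theorem agree_single (s T : Finset GolayPt) (j : GolayPt) : Agree s T {j} ({j} ∩ T) := by
  intro i hi _
  simp only [Finset.mem_inter, hi, true_and]

theorem famI_subset_evSig {B : Set (Finset GolayPt)} (P : ℕ → Prop) (m : ℕ)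
    (hm : ∀ s ∈ B, s.card = m) : famI B P ⊆ EvSig m 1 := by
  rintro x ⟨s, T, j, hs, hT, -, hj, rfl⟩
  exact ⟨s, T, {j}, {j} ∩ T, hT, Finset.inter_subset_left, agree_single s T j, hm s hs,
    Finset.card_singleton j, rfl⟩

theorem ncard_famI {B : Set (Finset GolayPt)} {F : Finset (Finset GolayPt)}
    (hF : ∀ s, s ∈ F ↔ s ∈ B) (P : ℕ → Prop) (m e : ℕ)
    (hm : ∀ s ∈ F, s.card = m)
    (he : ∀ s ∈ F, ∀ [DecidablePred P], (s.powerset.filter (fun T => P T.card)).card = e) :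
    (famI B P).ncard = F.card * (e * m) := by
  classical
  have hfam : famI B P = {x | ∃ p ∈ F.sigma (fun s => (s.powerset.filter (fun T => P T.card)) ×ˢ s),
      x = (fun p : (Σ _ : Finset GolayPt, Finset GolayPt × GolayPt) =>
        ev2 p.1 p.2.1 {p.2.2} ({p.2.2} ∩ p.2.1)) p} := by
    ext x
    constructor
    · rintro ⟨s, T, j, hs, hT, hP, hj, rfl⟩
      exact ⟨⟨s, T, j⟩, Finset.mem_sigma.2 ⟨(hF s).2 hs, Finset.mem_product.2
        ⟨Finset.mem_filter.2 ⟨Finset.mem_powerset.2 hT, hP⟩, hj⟩⟩, rfl⟩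
    · rintro ⟨⟨s, T, j⟩, hp, rfl⟩
      obtain ⟨h1, h2⟩ := Finset.mem_sigma.1 hp
      obtain ⟨h3, h4⟩ := Finset.mem_product.1 h2
      obtain ⟨h5, h6⟩ := Finset.mem_filter.1 h3
      exact ⟨s, T, j, (hF s).1 h1, Finset.mem_powerset.1 h5, h6, h4, rfl⟩
  rw [hfam, ncard_family]
  · rw [Finset.card_sigma, Finset.sum_congr rfl (g := fun _ => e * m)]
    · rw [Finset.sum_const, smul_eq_mul]
    · intro s hs
      rw [Finset.card_product, he s hs, hm s hs]
  · rintro ⟨s, T, j⟩ hp ⟨s', T', j'⟩ hp' h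
    obtain ⟨h1, h2⟩ := Finset.mem_sigma.1 hp
    obtain ⟨h3, h4⟩ := Finset.mem_product.1 h2
    obtain ⟨h5, h6⟩ := Finset.mem_filter.1 h3
    obtain ⟨h1', h2'⟩ := Finset.mem_sigma.1 hp'
    obtain ⟨h3', h4'⟩ := Finset.mem_product.1 h2'
    obtain ⟨h5', h6'⟩ := Finset.mem_filter.1 h3'
    obtain ⟨e1, e2, e3, -⟩ := ev2_inj (Finset.mem_powerset.1 h5) Finset.inter_subset_left
      (agree_single s T j) (Finset.mem_powerset.1 h5') Finset.inter_subset_left
      (agree_single s' T' j') h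
    have e4 : j = j' := Finset.singleton_injective e3
    subst e1; subst e2; subst e4; rfl

/-- odd vectors with `a` coordinates `±3` and `b` coordinates `±5` -/
def famO (a b : ℕ) : Set (GolayPt → ℤ) :=
  {x | ∃ C J K : Finset GolayPt, C ∈ supports (golayCode : Set (GolayPt → ZMod 2)) ∧
    Disjoint J K ∧ J.card = a ∧ K.card = b ∧ x = oddv C (p35 J K)}

theorem famO_disjoint {a b a' b' : ℕ} (h : a ≠ a' ∨ b ≠ b') :
    Disjoint (famO a b) (famO a' b') := by
  rw [Set.disjoint_left]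
  rintro x ⟨C, J, K, -, hd, ha, hb, rfl⟩ ⟨C', J', K', -, hd', ha', hb', h'⟩
  obtain ⟨-, e2⟩ := oddv_inj (p35_odd J K) (p35_odd J' K') (p35_pos J K) (p35_pos J' K') h'
  obtain ⟨e3, e4⟩ := p35_inj hd hd' e2
  subst e3; subst e4
  rcases h with h | h
  · exact h (ha.symm.trans ha')
  · exact h (hb.symm.trans hb')

theorem famO_odd {a b : ℕ} {x : GolayPt → ℤ} (hx : x ∈ famO a b) (i : GolayPt) :
    x i % 2 = 1 := by
  obtain ⟨C, J, K, -, -, -, -, rfl⟩ := hx
  exact oddv_odd C (p35_odd J K) i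

theorem ncard_famO (a b : ℕ) :
    (famO a b).ncard = 4096 * (Nat.choose 24 b * Nat.choose (24 - b) a) := by
  classical
  obtain ⟨codeF, hcard, hcode⟩ := exists_codeF
  have hfam : famO a b = {x | ∃ p ∈ codeF ×ˢ ((Finset.powersetCard b
        (Finset.univ : Finset GolayPt)).sigma (fun K => Finset.powersetCard a Kᶜ)),
      x = (fun p : Finset GolayPt × (Σ _ : Finset GolayPt, Finset GolayPt) =>
        oddv p.1 (p35 p.2.2 p.2.1)) p} := by
    ext x
    constructor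
    · rintro ⟨C, J, K, hC, hd, ha, hb, rfl⟩
      refine ⟨⟨C, K, J⟩, Finset.mem_product.2 ⟨(hcode C).2 hC, Finset.mem_sigma.2
        ⟨Finset.mem_powersetCard.2 ⟨Finset.subset_univ _, hb⟩,
          Finset.mem_powersetCard.2 ⟨?_, ha⟩⟩⟩, rfl⟩
      intro i hi
      exact Finset.mem_compl.2 (fun hK => (Finset.disjoint_left.1 hd hi) hK)
    · rintro ⟨⟨C, K, J⟩, hp, rfl⟩
      obtain ⟨h1, h2⟩ := Finset.mem_product.1 hp
      obtain ⟨h3, h4⟩ := Finset.mem_sigma.1 h2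
      obtain ⟨-, h5⟩ := Finset.mem_powersetCard.1 h3
      obtain ⟨h6, h7⟩ := Finset.mem_powersetCard.1 h4
      refine ⟨C, J, K, (hcode C).1 h1, ?_, h7, h5, rfl⟩
      rw [Finset.disjoint_left]
      intro i hi hK
      exact (Finset.mem_compl.1 (h6 hi)) hK
  rw [hfam, ncard_family]
  · rw [Finset.card_product, hcard, Finset.card_sigma,
      Finset.sum_congr rfl (g := fun _ => Nat.choose (24 - b) a)]
    · rw [Finset.sum_const, smul_eq_mul, Finset.card_powersetCard, Finset.card_univ,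
        card_golayPt]
    · intro K hK
      rw [Finset.card_powersetCard, Finset.card_compl, (Finset.mem_powersetCard.1 hK).2,
        card_golayPt]
  · rintro ⟨C, K, J⟩ hp ⟨C', K', J'⟩ hp' h
    obtain ⟨h1, h2⟩ := Finset.mem_product.1 hp
    obtain ⟨h3, h4⟩ := Finset.mem_sigma.1 h2
    obtain ⟨h6, h7⟩ := Finset.mem_powersetCard.1 h4
    obtain ⟨h1', h2'⟩ := Finset.mem_product.1 hp'
    obtain ⟨h3', h4'⟩ := Finset.mem_sigma.1 h2'
    obtain ⟨h6', h7'⟩ := Finset.mem_powersetCard.1 h4'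
    have hd : Disjoint J K := by
      rw [Finset.disjoint_left]
      intro i hi hK
      exact (Finset.mem_compl.1 (h6 hi)) hK
    have hd' : Disjoint J' K' := by
      rw [Finset.disjoint_left]
      intro i hi hK
      exact (Finset.mem_compl.1 (h6' hi)) hK
    obtain ⟨e1, e2⟩ := oddv_inj (p35_odd J K) (p35_odd J' K') (p35_pos J K) (p35_pos J' K') h
    obtain ⟨e3, e4⟩ := p35_inj hd hd' e2
    subst e1; subst e3; subst e4; rfl

/-- vectors `sv c s T` with `s.card = k` -/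
def famV (c : ℤ) (k : ℕ) : Set (GolayPt → ℤ) :=
  {x | ∃ s T : Finset GolayPt, s.card = k ∧ T ⊆ s ∧ x = sv c s T}

theorem ncard_famV {c : ℤ} (hc : 0 < c) (k : ℕ) :
    (famV c k).ncard = Nat.choose 24 k * 2 ^ k := by
  classical
  obtain ⟨Pk, hcard, hPk⟩ := exists_Pk k
  have hfam : famV c k = {x | ∃ p ∈ Pk.sigma (fun s => s.powerset),
      x = (fun p : (Σ _ : Finset GolayPt, Finset GolayPt) => sv c p.1 p.2) p} := by
    ext x
    constructor
    · rintro ⟨s, T, hs, hT, rfl⟩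
      exact ⟨⟨s, T⟩, Finset.mem_sigma.2 ⟨(hPk s).2 hs, Finset.mem_powerset.2 hT⟩, rfl⟩
    · rintro ⟨⟨s, T⟩, hp, rfl⟩
      obtain ⟨h1, h2⟩ := Finset.mem_sigma.1 hp
      exact ⟨s, T, (hPk s).1 h1, Finset.mem_powerset.1 h2, rfl⟩
  rw [hfam, ncard_family]
  · rw [Finset.card_sigma, Finset.sum_congr rfl (g := fun _ => 2 ^ k)]
    · rw [Finset.sum_const, smul_eq_mul, hcard]
    · intro s hs
      rw [Finset.card_powerset, (hPk s).1 hs]
  · rintro ⟨s, T⟩ hp ⟨s', T'⟩ hp' h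
    obtain ⟨h1, h2⟩ := Finset.mem_sigma.1 hp
    obtain ⟨h1', h2'⟩ := Finset.mem_sigma.1 hp'
    obtain ⟨e1, e2⟩ := sv_inj hc (Finset.mem_powerset.1 h2) (Finset.mem_powerset.1 h2') h
    subst e1; subst e2; rfl

/-- the supports of weight 16 -/
def sixteens : Set (Finset GolayPt) :=
  {s | s ∈ supports (golayCode : Set (GolayPt → ZMod 2)) ∧ s.card = 16}

theorem exists_sixtF :
    ∃ F : Finset (Finset GolayPt), F.card = 759 ∧ ∀ s, s ∈ F ↔ s ∈ sixteens := by
  classical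
  obtain ⟨octF, hcard, hoct⟩ := exists_octF
  refine ⟨octF.image (fun s => sᶜ), ?_, fun s => ?_⟩
  · rw [Finset.card_image_of_injective _ compl_injective, hcard]
  · rw [Finset.mem_image]
    constructor
    · rintro ⟨o, ho, rfl⟩
      have := (hoct o).1 ho
      refine ⟨compl_mem_supports this.1, ?_⟩
      rw [Finset.card_compl, this.2, card_golayPt]
    · rintro ⟨h1, h2⟩
      refine ⟨sᶜ, (hoct _).2 ⟨compl_mem_supports h1, ?_⟩, compl_compl s⟩
      rw [Finset.card_compl, h2, card_golayPt]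

end Cfsg.Agent.Lib.Helper3
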