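import Mathlib
import Cfsg.Prelude.Def_Sporadic_a
import Cfsg.Agent.Lib.Helper3.LeechFam

set_option autoImplicit false

/-!
Helper library (helper3): classification and count of the Leech lattice vectors with
`sqNorm = 64`.
-/

namespace Cfsg.Agent.Lib.Helper3

open Cfsg Cfsg.Agent.Lib.Helper21

def B0 : Set (Finset GolayPt) := {∅}

/-! ### the families lie in the lattice -/

theorem famS_mem {B : Set (Finset GolayPt)} {P : ℕ → Prop} {k m : ℕ} (n : ℤ)
    (hB : ∀ s ∈ B, s ∈ supports (golayCode : Set (GolayPt → ZMod 2)) ∧ s.card = m)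
    (hpar : ∀ t w : ℕ, P t → (2 * ((m : ℤ) - 2 * (t : ℤ)) + 4 * ((k : ℤ) - 2 * (w : ℤ))) % 8 = 0)
    (hn : 4 * (m : ℤ) + 16 * (k : ℤ) = n) {x : GolayPt → ℤ} (hx : x ∈ famS B P k) :
    x ∈ leechLattice ∧ sqNorm x = n := by
  obtain ⟨s, T, U, W, hs, hT, hP, hU, hk, hW, rfl⟩ := hx
  obtain ⟨hs1, hs2⟩ := hB s hs
  refine ⟨ev2_mem hs1 hT hW (by rw [hs2, hk]; exact hpar _ _ hP), ?_⟩
  rw [sqNorm_ev2 hT hW (agree_of_disjoint hU)]
  have hd : Disjoint U s := by
    rw [Finset.disjoint_left]
    intro i hi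
    exact Finset.mem_compl.1 (hU hi)
  rw [Finset.sdiff_eq_self_of_disjoint hd, Finset.disjoint_iff_inter_eq_empty.1 hd, hs2, hk,
    Finset.card_empty]
  rw [← hn]; push_cast; ring

theorem famI_mem {B : Set (Finset GolayPt)} {P : ℕ → Prop} {m : ℕ} (n : ℤ)
    (hB : ∀ s ∈ B, s ∈ supports (golayCode : Set (GolayPt → ZMod 2)) ∧ s.card = m)
    (hpar : ∀ t w : ℕ, P t → (2 * ((m : ℤ) - 2 * (t : ℤ)) + 4 * ((1 : ℤ) - 2 * (w : ℤ))) % 8 = 0)
    (hn : 4 * (m : ℤ) + 32 = n) {x : GolayPt → ℤ} (hx : x ∈ famI B P) :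
    x ∈ leechLattice ∧ sqNorm x = n := by
  obtain ⟨s, T, j, hs, hT, hP, hj, rfl⟩ := hx
  obtain ⟨hs1, hs2⟩ := hB s hs
  have hW : ({j} ∩ T : Finset GolayPt) ⊆ {j} := Finset.inter_subset_left
  refine ⟨ev2_mem hs1 hT hW (by
    rw [hs2, Finset.card_singleton]; push_cast; exact hpar _ _ hP), ?_⟩
  rw [sqNorm_ev2 hT hW (agree_single s T j)]
  have h1 : ({j} : Finset GolayPt) \ s = ∅ := by
    rw [Finset.sdiff_eq_empty_iff_subset]
    exact Finset.singleton_subset_iff.2 hj
  have h2 : ({j} : Finset GolayPt) ∩ s = {j} :=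
    Finset.inter_eq_left.2 (Finset.singleton_subset_iff.2 hj)
  rw [h1, h2, hs2, Finset.card_empty, Finset.card_singleton]
  rw [← hn]; push_cast; ring

theorem famO_mem {a b : ℕ} (n : ℤ) (hn : 24 + 8 * (a : ℤ) + 24 * (b : ℤ) = n)
    (h16 : n % 16 = 0) {x : GolayPt → ℤ} (hx : x ∈ famO a b) :
    x ∈ leechLattice ∧ sqNorm x = n := by
  obtain ⟨C, J, K, hC, hd, ha, hb, rfl⟩ := hx
  have hnorm : sqNorm (p35 J K) = n := by rw [sqNorm_p35 hd, ha, hb, hn]
  refine ⟨oddv_mem hC (p35_odd J K) (by rw [hnorm]; exact h16), ?_⟩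
  rw [sqNorm_oddv, hnorm]

theorem famV8_mem {x : GolayPt → ℤ} (hx : x ∈ famV 8 1) :
    x ∈ leechLattice ∧ sqNorm x = 64 := by
  obtain ⟨s, T, hs, hT, rfl⟩ := hx
  have h4 : ∀ i, sv 8 s T i % 4 = 0 := by
    intro i; unfold sv; split_ifs <;> norm_num
  constructor
  · rw [even_mem_iff (C := ∅) (fun i => by have := h4 i; omega)
      (fun i => by have := h4 i; simp only [Finset.notMem_empty, false_iff]; omega)]
    refine ⟨empty_mem_supports, ?_⟩
    rw [sum_sv 8 hT, hs]
    push_cast
    omega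
  · rw [sqNorm_sv 8 hT, hs]; norm_num

/-! ### forward classification -/

theorem sub_compl_of_inter_card_zero {U s : Finset GolayPt} (h : (U ∩ s).card = 0) : U ⊆ sᶜ := by
  intro i hi
  rw [Finset.mem_compl]
  intro his
  have : i ∈ U ∩ s := Finset.mem_inter.2 ⟨hi, his⟩
  rw [Finset.card_eq_zero.1 h] at this
  simp at this

theorem abs_even {a : ℤ} (h : a % 2 = 0) : |a| % 2 = 0 := by
  rcases abs_choice a with h' | h' <;> rw [h'] <;> omega

theorem abs_odd {a : ℤ} (h : a % 2 = 1) : |a| % 2 = 1 := by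
  rcases abs_choice a with h' | h' <;> rw [h'] <;> omega

theorem classify64_even {x : GolayPt → ℤ} (hx : x ∈ leechLattice) (h2 : ∀ i, x i % 2 = 0)
    (hn : sqNorm x = 64) :
    x ∈ famV 8 1 ∨ x ∈ famS B0 (fun t => t = 0) 4 ∨ x ∈ famS octads Even 2 ∨
      x ∈ famI octads Odd ∨ x ∈ famS dodecads Odd 1 ∨ x ∈ famS sixteens Even 0 := by
  classical
  by_cases h8 : ∃ j, 8 ≤ |x j|
  · left
    obtain ⟨j, hj⟩ := h8
    have hj64 : 64 ≤ x j ^ 2 := by
      have := sq_abs (x j)
      have h0 := abs_nonneg (x j)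
      nlinarith
    have hf0 : ∀ i, 0 ≤ x i ^ 2 - (if i = j then (64 : ℤ) else 0) := by
      intro i
      by_cases hi : i = j
      · subst hi; simp only [if_true]; linarith
      · simp only [hi, if_false]; have := sq_nonneg (x i); linarith
    have hfs : ∑ i, (x i ^ 2 - (if i = j then (64 : ℤ) else 0)) = 0 := by
      rw [Finset.sum_sub_distrib]
      unfold sqNorm at hn
      rw [hn]
      simp
    have hall := all_zero_of_sum_nonpos hf0 (le_of_eq hfs)
    have hxj : x j = 8 ∨ x j = -8 := by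
      have := hall j
      simp only [if_true] at this
      have : x j ^ 2 = 8 ^ 2 := by linarith
      exact sq_eq_cases this
    have hxi : ∀ i, i ≠ j → x i = 0 := by
      intro i hi
      have := hall i
      simp only [hi, if_false] at this
      have : x i ^ 2 = 0 := by linarith
      simpa using this
    refine ⟨{j}, ({j} : Finset GolayPt).filter (fun i => x i < 0), Finset.card_singleton j,
      Finset.filter_subset _ _, ?_⟩
    funext i
    unfold sv
    simp only [Finset.mem_filter, Finset.mem_singleton]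
    by_cases hi : i = j
    · subst hi
      rcases hxj with h | h <;> simp [h]
    · simp [hi, hxi i hi]
  · right
    push Not at h8
    have hle : ∀ i, |x i| ≤ 6 := by
      intro i
      have := h8 i
      have := abs_even (h2 i)
      omega
    obtain ⟨s, T, U, W, hs, hT, hW, hag, rfl⟩ := even_structure hx h2 hle
    have hnorm := sqNorm_ev2 hT hW hag
    rw [hn] at hnorm
    obtain ⟨-, hsum⟩ := (even_mem_iff (ev2_even s T U W) (ev2_mod4 hT U W)).1 hx
    rw [sum_ev2 hT hW] at hsum
    have hUc := Finset.card_sdiff_add_card_inter U s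
    have hble : (U ∩ s).card ≤ s.card := Finset.card_le_card Finset.inter_subset_right
    rcases supports_card_cases hs with h0 | h8' | h12 | h16 | h24
    · left
      have hse : s = ∅ := Finset.card_eq_zero.1 h0
      have hb : (U ∩ s).card = 0 := by omega
      have ha : (U \ s).card = 4 := by
        rw [h0, hb] at hnorm; push_cast at hnorm; omega
      have hT0 : T.card = 0 := by
        have := Finset.card_le_card hT
        omega
      exact ⟨s, T, U, W, hse, hT, hT0, sub_compl_of_inter_card_zero hb, by omega, hW, rfl⟩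
    · right
      rw [h8'] at hnorm hsum
      have hab : ((U \ s).card = 2 ∧ (U ∩ s).card = 0) ∨ ((U \ s).card = 0 ∧ (U ∩ s).card = 1) := by
        push_cast at hnorm; omega
      rcases hab with ⟨ha, hb⟩ | ⟨ha, hb⟩
      · left
        have hU2 : U.card = 2 := by omega
        refine ⟨s, T, U, W, ⟨hs, h8'⟩, hT, ?_, sub_compl_of_inter_card_zero hb, hU2, hW, rfl⟩
        rw [hU2] at hsum
        rw [Nat.even_iff]
        push_cast at hsum
        omega
      · right; left
        have hU1 : U.card = 1 := by omega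
        obtain ⟨j, hj⟩ := Finset.card_eq_one.1 hU1
        have hUs : U ⊆ s := by
          rw [← Finset.sdiff_eq_empty_iff_subset]
          exact Finset.card_eq_zero.1 ha
        have hjs : j ∈ s := hUs (by rw [hj]; simp)
        have hWeq : W = {j} ∩ T := by
          ext i
          rw [Finset.mem_inter]
          constructor
          · intro hi
            have hiU : i ∈ U := hW hi
            refine ⟨by rw [← hj]; exact hiU, (hag i hiU (hUs hiU)).1 hi⟩
          · rintro ⟨hi1, hi2⟩
            have hiU : i ∈ U := by rw [hj]; exact hi1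
            exact (hag i hiU (hT hi2)).2 hi2
        refine ⟨s, T, j, ⟨hs, h8'⟩, hT, ?_, hjs, by rw [hWeq, hj]⟩
        rw [hU1] at hsum
        rw [Nat.odd_iff]
        push_cast at hsum
        omega
    · right; right; right; left
      rw [h12] at hnorm hsum
      have hab : (U \ s).card = 1 ∧ (U ∩ s).card = 0 := by
        push_cast at hnorm; omega
      have hU1 : U.card = 1 := by omega
      refine ⟨s, T, U, W, ⟨hs, h12⟩, hT, ?_, sub_compl_of_inter_card_zero hab.2, hU1, hW, rfl⟩
      rw [hU1] at hsum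
      rw [Nat.odd_iff]
      push_cast at hsum
      omega
    · right; right; right; right
      rw [h16] at hnorm hsum
      have hab : (U \ s).card = 0 ∧ (U ∩ s).card = 0 := by
        push_cast at hnorm; omega
      have hU0 : U.card = 0 := by omega
      refine ⟨s, T, U, W, ⟨hs, h16⟩, hT, ?_, sub_compl_of_inter_card_zero hab.2, hU0, hW, rfl⟩
      rw [hU0] at hsum
      rw [Nat.even_iff]
      push_cast at hsum
      omega
    · exfalso
      rw [h24] at hnorm
      push_cast at hnorm
      omega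

theorem classify64_odd {x : GolayPt → ℤ} (hx : x ∈ leechLattice) (h2 : ∀ i, x i % 2 = 1)
    (hn : sqNorm x = 64) : x ∈ famO 5 0 ∨ x ∈ famO 2 1 := by
  have hfs : ∑ i, (x i ^ 2 - 1) = 40 := by
    rw [Finset.sum_sub_distrib]
    unfold sqNorm at hn
    rw [hn]
    simp [card_golayPt]
  have hle : ∀ i, |x i| ≤ 5 := by
    intro i
    have h1 := Finset.single_le_sum (f := fun i => x i ^ 2 - 1)
      (fun j _ => odd_g_nonneg h2 j) (Finset.mem_univ i)
    rw [hfs] at h1
    have h3 : |x i| ≤ 6 := by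
      by_contra hcon
      push Not at hcon
      have := sq_abs (x i)
      have h0 := abs_nonneg (x i)
      have h7 : 7 ≤ |x i| := by omega
      nlinarith
    have := abs_odd (h2 i)
    omega
  obtain ⟨C, J, K, hC, hd, rfl⟩ := odd_structure hx h2 hle
  rw [sqNorm_oddv, sqNorm_p35 hd] at hn
  have hab : (J.card = 5 ∧ K.card = 0) ∨ (J.card = 2 ∧ K.card = 1) := by omega
  rcases hab with ⟨ha, hb⟩ | ⟨ha, hb⟩
  · left; exact ⟨C, J, K, hC, hd, ha, hb, rfl⟩
  · right; exact ⟨C, J, K, hC, hd, ha, hb, rfl⟩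


/-! ### the count -/

theorem B0_spec : ∀ s ∈ B0, s ∈ supports (golayCode : Set (GolayPt → ZMod 2)) ∧ s.card = 0 := by
  intro s hs
  have : s = ∅ := hs
  subst this
  exact ⟨empty_mem_supports, Finset.card_empty⟩

theorem norm64_eq_union :
    {x : GolayPt → ℤ | x ∈ leechLattice ∧ sqNorm x = 64} =
      famV 8 1 ∪ famS B0 (fun t => t = 0) 4 ∪ famS octads Even 2 ∪ famI octads Odd ∪
        famS dodecads Odd 1 ∪ famS sixteens Even 0 ∪ famO 5 0 ∪ famO 2 1 := by
  ext x
  constructor
  · rintro ⟨h1, h2⟩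
    simp only [Set.mem_union]
    rcases parity_cases h1 with hp | hp
    · rcases classify64_even h1 hp h2 with h | h | h | h | h | h <;> tauto
    · rcases classify64_odd h1 hp h2 with h | h <;> tauto
  · simp only [Set.mem_union]
    rintro (((((((h | h) | h) | h) | h) | h) | h) | h)
    · exact famV8_mem h
    · refine famS_mem 64 B0_spec (fun t w ht => ?_) (by norm_num) h
      rw [ht]; push_cast; omega
    · refine famS_mem 64 (fun s hs => ⟨hs.1, hs.2⟩) (fun t w ht => ?_) (by norm_num) h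
      obtain ⟨r, hr⟩ := ht
      rw [hr]; push_cast; omega
    · refine famI_mem 64 (fun s hs => ⟨hs.1, hs.2⟩) (fun t w ht => ?_) (by norm_num) h
      obtain ⟨r, hr⟩ := ht
      rw [hr]; push_cast; omega
    · refine famS_mem 64 (fun s hs => ⟨hs.1, hs.2⟩) (fun t w ht => ?_) (by norm_num) h
      obtain ⟨r, hr⟩ := ht
      rw [hr]; push_cast; omega
    · refine famS_mem 64 (fun s hs => ⟨hs.1, hs.2⟩) (fun t w ht => ?_) (by norm_num) h
      obtain ⟨r, hr⟩ := ht
      rw [hr]; push_cast; omega
    · exact famO_mem 64 (by norm_num) (by norm_num) h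
    · exact famO_mem 64 (by norm_num) (by norm_num) h

theorem ncard_H1 : (famV 8 1).ncard = 48 := by
  rw [ncard_famV (by norm_num)]; norm_num

theorem ncard_H2 : (famS B0 (fun t => t = 0) 4).ncard = 170016 := by
  rw [ncard_famS (F := {∅}) (fun s => by simp [B0]) (fun t => t = 0) 4 0 1]
  · norm_num [Nat.choose]
  · intro s hs
    rw [Finset.mem_singleton.1 hs]; rfl
  · intro s hs inst
    rw [Finset.mem_singleton.1 hs, Finset.powerset_empty, Finset.filter_true_of_mem]
    · simp
    · intro x hx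
      rw [Finset.mem_singleton.1 hx]
      rfl

theorem evens_card {s : Finset GolayPt} {m : ℕ} (hm : s.card = m) (hpos : 0 < m)
    [DecidablePred (Even : ℕ → Prop)] :
    (s.powerset.filter (fun T => Even T.card)).card = 2 ^ (m - 1) := by
  have hne : s.Nonempty := by rw [← Finset.card_pos, hm]; exact hpos
  rw [← hm]
  convert (even_odd_subsets_card s hne).1

theorem odds_card {s : Finset GolayPt} {m : ℕ} (hm : s.card = m) (hpos : 0 < m)
    [DecidablePred (Odd : ℕ → Prop)] :
    (s.powerset.filter (fun T => Odd T.card)).card = 2 ^ (m - 1) := by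
  have hne : s.Nonempty := by rw [← Finset.card_pos, hm]; exact hpos
  rw [← hm]
  convert (even_odd_subsets_card s hne).2

theorem ncard_H3 : (famS octads Even 2).ncard = 46632960 := by
  obtain ⟨F, hcard, hF⟩ := exists_octF
  rw [ncard_famS hF Even 2 8 128 (fun s hs => ((hF s).1 hs).2)
    (fun s hs inst => by rw [evens_card ((hF s).1 hs).2 (by norm_num)]; norm_num), hcard]
  norm_num [Nat.choose]

theorem ncard_H4 : (famI octads Odd).ncard = 777216 := by
  obtain ⟨F, hcard, hF⟩ := exists_octF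
  rw [ncard_famI hF Odd 8 128 (fun s hs => ((hF s).1 hs).2)
    (fun s hs inst => by rw [odds_card ((hF s).1 hs).2 (by norm_num)]; norm_num), hcard]

theorem ncard_H5 : (famS dodecads Odd 1).ncard = 126615552 := by
  obtain ⟨F, hcard, hF⟩ := exists_dodF
  rw [ncard_famS hF Odd 1 12 2048 (fun s hs => ((hF s).1 hs).2)
    (fun s hs inst => by rw [odds_card ((hF s).1 hs).2 (by norm_num)]; norm_num), hcard]
  norm_num [Nat.choose]

theorem ncard_H6 : (famS sixteens Even 0).ncard = 24870912 := by
  obtain ⟨F, hcard, hF⟩ := exists_sixtF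
  rw [ncard_famS hF Even 0 16 32768 (fun s hs => ((hF s).1 hs).2)
    (fun s hs inst => by rw [evens_card ((hF s).1 hs).2 (by norm_num)]; norm_num), hcard]
  norm_num [Nat.choose]

theorem choose_24_5 : Nat.choose 24 5 = 42504 := by
  rw [Nat.choose_eq_factorial_div_factorial (by norm_num)]
  norm_num [Nat.factorial]

theorem ncard_H7 : (famO 5 0).ncard = 174096384 := by
  rw [ncard_famO]
  have : Nat.choose (24 - 0) 5 = 42504 := choose_24_5
  rw [this]
  norm_num

theorem ncard_H8 : (famO 2 1).ncard = 24870912 := by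
  rw [ncard_famO]
  norm_num [Nat.choose]

theorem sub_sig_H2 : famS B0 (fun t => t = 0) 4 ⊆ EvSig 0 4 :=
  famS_subset_evSig _ 4 0 (fun s hs => (B0_spec s hs).2)
theorem sub_sig_H3 : famS octads Even 2 ⊆ EvSig 8 2 :=
  famS_subset_evSig _ 2 8 (fun s hs => hs.2)
theorem sub_sig_H4 : famI octads Odd ⊆ EvSig 8 1 :=
  famI_subset_evSig _ 8 (fun s hs => hs.2)
theorem sub_sig_H5 : famS dodecads Odd 1 ⊆ EvSig 12 1 :=
  famS_subset_evSig _ 1 12 (fun s hs => hs.2)
theorem sub_sig_H6 : famS sixteens Even 0 ⊆ EvSig 16 0 :=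
  famS_subset_evSig _ 0 16 (fun s hs => hs.2)

theorem famV8_big {x : GolayPt → ℤ} (hx : x ∈ famV 8 1) : ∃ j, |x j| = 8 := by
  obtain ⟨s, T, hs, hT, rfl⟩ := hx
  obtain ⟨j, hj⟩ := Finset.card_eq_one.1 hs
  refine ⟨j, ?_⟩
  unfold sv
  have : j ∈ s := by rw [hj]; simp
  by_cases h : j ∈ T <;> simp [h, this]

theorem famV8_even {x : GolayPt → ℤ} (hx : x ∈ famV 8 1) (i : GolayPt) : x i % 2 = 0 := by
  obtain ⟨s, T, hs, hT, rfl⟩ := hx
  exact sv_even 8 (by norm_num) s T i

theorem disj_V_sig {m k : ℕ} : Disjoint (famV 8 1) (EvSig m k) := by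
  rw [Set.disjoint_left]
  intro x h1 h2
  obtain ⟨j, hj⟩ := famV8_big h1
  have := evSig_abs_le h2 j
  omega

theorem ncard_norm64 :
    {x : GolayPt → ℤ | x ∈ leechLattice ∧ sqNorm x = 64}.ncard = 398034000 := by
  rw [norm64_eq_union]
  have f1 : (famV 8 1).Finite := Set.finite_of_ncard_ne_zero (by rw [ncard_H1]; norm_num)
  have f2 : (famS B0 (fun t => t = 0) 4).Finite :=
    Set.finite_of_ncard_ne_zero (by rw [ncard_H2]; norm_num)
  have f3 : (famS octads Even 2).Finite :=
    Set.finite_of_ncard_ne_zero (by rw [ncard_H3]; norm_num)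
  have f4 : (famI octads Odd).Finite := Set.finite_of_ncard_ne_zero (by rw [ncard_H4]; norm_num)
  have f5 : (famS dodecads Odd 1).Finite :=
    Set.finite_of_ncard_ne_zero (by rw [ncard_H5]; norm_num)
  have f6 : (famS sixteens Even 0).Finite :=
    Set.finite_of_ncard_ne_zero (by rw [ncard_H6]; norm_num)
  have f7 : (famO 5 0).Finite := Set.finite_of_ncard_ne_zero (by rw [ncard_H7]; norm_num)
  have f8 : (famO 2 1).Finite := Set.finite_of_ncard_ne_zero (by rw [ncard_H8]; norm_num)
  have d12 : Disjoint (famV 8 1) (famS B0 (fun t => t = 0) 4) :=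
    Set.disjoint_of_subset_right sub_sig_H2 disj_V_sig
  have d3 : Disjoint (famV 8 1 ∪ famS B0 (fun t => t = 0) 4) (famS octads Even 2) := by
    rw [Set.disjoint_union_left]
    exact ⟨Set.disjoint_of_subset_right sub_sig_H3 disj_V_sig,
      Set.disjoint_of_subset sub_sig_H2 sub_sig_H3 (evSig_disjoint (Or.inl (by norm_num)))⟩
  have d4 : Disjoint (famV 8 1 ∪ famS B0 (fun t => t = 0) 4 ∪ famS octads Even 2)
      (famI octads Odd) := by
    rw [Set.disjoint_union_left, Set.disjoint_union_left]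
    exact ⟨⟨Set.disjoint_of_subset_right sub_sig_H4 disj_V_sig,
      Set.disjoint_of_subset sub_sig_H2 sub_sig_H4 (evSig_disjoint (Or.inl (by norm_num)))⟩,
      Set.disjoint_of_subset sub_sig_H3 sub_sig_H4 (evSig_disjoint (Or.inr (by norm_num)))⟩
  have d5 : Disjoint (famV 8 1 ∪ famS B0 (fun t => t = 0) 4 ∪ famS octads Even 2 ∪
      famI octads Odd) (famS dodecads Odd 1) := by
    rw [Set.disjoint_union_left, Set.disjoint_union_left, Set.disjoint_union_left]
    exact ⟨⟨⟨Set.disjoint_of_subset_right sub_sig_H5 disj_V_sig,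
      Set.disjoint_of_subset sub_sig_H2 sub_sig_H5 (evSig_disjoint (Or.inl (by norm_num)))⟩,
      Set.disjoint_of_subset sub_sig_H3 sub_sig_H5 (evSig_disjoint (Or.inl (by norm_num)))⟩,
      Set.disjoint_of_subset sub_sig_H4 sub_sig_H5 (evSig_disjoint (Or.inl (by norm_num)))⟩
  have d6 : Disjoint (famV 8 1 ∪ famS B0 (fun t => t = 0) 4 ∪ famS octads Even 2 ∪
      famI octads Odd ∪ famS dodecads Odd 1) (famS sixteens Even 0) := by
    rw [Set.disjoint_union_left, Set.disjoint_union_left, Set.disjoint_union_left,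
      Set.disjoint_union_left]
    exact ⟨⟨⟨⟨Set.disjoint_of_subset_right sub_sig_H6 disj_V_sig,
      Set.disjoint_of_subset sub_sig_H2 sub_sig_H6 (evSig_disjoint (Or.inl (by norm_num)))⟩,
      Set.disjoint_of_subset sub_sig_H3 sub_sig_H6 (evSig_disjoint (Or.inl (by norm_num)))⟩,
      Set.disjoint_of_subset sub_sig_H4 sub_sig_H6 (evSig_disjoint (Or.inl (by norm_num)))⟩,
      Set.disjoint_of_subset sub_sig_H5 sub_sig_H6 (evSig_disjoint (Or.inl (by norm_num)))⟩
  have heven : ∀ x ∈ famV 8 1 ∪ famS B0 (fun t => t = 0) 4 ∪ famS octads Even 2 ∪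
      famI octads Odd ∪ famS dodecads Odd 1 ∪ famS sixteens Even 0, x none % 2 = 0 := by
    rintro x (((((h | h) | h) | h) | h) | h)
    · exact famV8_even h none
    · exact evSig_even (sub_sig_H2 h) none
    · exact evSig_even (sub_sig_H3 h) none
    · exact evSig_even (sub_sig_H4 h) none
    · exact evSig_even (sub_sig_H5 h) none
    · exact evSig_even (sub_sig_H6 h) none
  have d7 : Disjoint (famV 8 1 ∪ famS B0 (fun t => t = 0) 4 ∪ famS octads Even 2 ∪
      famI octads Odd ∪ famS dodecads Odd 1 ∪ famS sixteens Even 0) (famO 5 0) := by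
    rw [Set.disjoint_left]
    intro x h1 h2
    have := heven x h1
    have := famO_odd h2 none
    omega
  have d8 : Disjoint (famV 8 1 ∪ famS B0 (fun t => t = 0) 4 ∪ famS octads Even 2 ∪
      famI octads Odd ∪ famS dodecads Odd 1 ∪ famS sixteens Even 0 ∪ famO 5 0) (famO 2 1) := by
    rw [Set.disjoint_union_left]
    refine ⟨?_, famO_disjoint (Or.inl (by norm_num))⟩
    rw [Set.disjoint_left]
    intro x h1 h2
    have := heven x h1
    have := famO_odd h2 none
    omega
  rw [Set.ncard_union_eq d8 ((((((f1.union f2).union f3).union f4).union f5).union f6).union f7) f8,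
    Set.ncard_union_eq d7 (((((f1.union f2).union f3).union f4).union f5).union f6) f7,
    Set.ncard_union_eq d6 ((((f1.union f2).union f3).union f4).union f5) f6,
    Set.ncard_union_eq d5 (((f1.union f2).union f3).union f4) f5,
    Set.ncard_union_eq d4 ((f1.union f2).union f3) f4,
    Set.ncard_union_eq d3 (f1.union f2) f3,
    Set.ncard_union_eq d12 f1 f2,
    ncard_H1, ncard_H2, ncard_H3, ncard_H4, ncard_H5, ncard_H6, ncard_H7, ncard_H8]

end Cfsg.Agent.Lib.Helper3
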