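import Mathlib
import Cfsg.Prelude.Def_Sporadic_a
import Cfsg.Agent.S0391
import Cfsg.Agent.S0392
import Cfsg.Agent.S1567
import Cfsg.Agent.Lib.Helper3.Co0Trans64

set_option autoImplicit false

/-!
Helper library (helper3): quadratic forms modulo 2 on the Leech lattice.
-/

namespace Cfsg.Agent.Lib.Helper3

open Cfsg Cfsg.Agent.Lib.Helper21

theorem sqNorm_add (x y : GolayPt → ℤ) : sqNorm (x + y) = sqNorm x + sqNorm y + 2 * dotInt x y := by
  unfold sqNorm dotInt
  rw [Finset.mul_sum, ← Finset.sum_add_distrib, ← Finset.sum_add_distrib]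
  apply Finset.sum_congr rfl
  intro i _
  simp only [Pi.add_apply]; ring

theorem sqNorm_sub (x y : GolayPt → ℤ) : sqNorm (x - y) = sqNorm x + sqNorm y - 2 * dotInt x y := by
  unfold sqNorm dotInt
  rw [Finset.mul_sum, ← Finset.sum_add_distrib, ← Finset.sum_sub_distrib]
  apply Finset.sum_congr rfl
  intro i _
  simp only [Pi.sub_apply]; ring

theorem sqNorm_nonneg (x : GolayPt → ℤ) : 0 ≤ sqNorm x := by
  unfold sqNorm
  exact Finset.sum_nonneg (fun i _ => sq_nonneg _)

theorem sqNorm_zero : sqNorm (0 : GolayPt → ℤ) = 0 := by
  unfold sqNorm; simp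

/-- induction over the lattice, generated by its minimal vectors -/
theorem leech_induction (P : ↥leechLattice → Prop)
    (hmin : ∀ m : ↥leechLattice, sqNorm m.1 = 32 → P m) (h0 : P 0)
    (hadd : ∀ a b, P a → P b → P (a + b)) (hneg : ∀ a, P a → P (-a)) : ∀ v, P v := by
  intro v
  obtain ⟨x, hx⟩ := v
  have hx' : x ∈ AddSubgroup.closure
      {x : GolayPt → ℤ | x ∈ leechLattice ∧ sqNorm x = 32} := by
    rw [Cfsg.Agent.S1567.result]; exact hx
  have key : ∀ (y : GolayPt → ℤ) (_ : y ∈ AddSubgroup.closure
      {x : GolayPt → ℤ | x ∈ leechLattice ∧ sqNorm x = 32}),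
      ∀ hy : y ∈ leechLattice, P ⟨y, hy⟩ := by
    intro y hy
    induction hy using AddSubgroup.closure_induction with
    | mem z hz => intro hy; exact hmin ⟨z, hy⟩ hz.2
    | zero => intro hy; exact h0
    | add a b ha hb iha ihb =>
      intro hy
      have ha' : a ∈ leechLattice := by rw [← Cfsg.Agent.S1567.result]; exact ha
      have hb' : b ∈ leechLattice := by rw [← Cfsg.Agent.S1567.result]; exact hb
      exact hadd ⟨a, ha'⟩ ⟨b, hb'⟩ (iha ha') (ihb hb')
    | neg a ha iha =>
      intro hy
      have ha' : a ∈ leechLattice := by rw [← Cfsg.Agent.S1567.result]; exact ha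
      exact hneg ⟨a, ha'⟩ (iha ha')
  exact key x hx' hx

/-- a quadratic form modulo 2 on the lattice vanishing on minimal vectors and on sums of two
minimal vectors is zero -/
theorem quad_zero (D : ↥leechLattice → ZMod 2)
    (hcoset : ∀ v w : ↥leechLattice, D (v + (w + w)) = D v)
    (hquad : ∀ u v w : ↥leechLattice,
      D (u + v + w) + D u + D v + D w = D (u + v) + D (u + w) + D (v + w))
    (h2 : ∀ m : ↥leechLattice, sqNorm m.1 = 32 → D m = 0)
    (h22 : ∀ m m' : ↥leechLattice, sqNorm m.1 = 32 → sqNorm m'.1 = 32 → D (m + m') = 0) :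
    ∀ v, D v = 0 := by
  have hD0 : D 0 = 0 := by
    have h := hquad 0 0 0
    simp only [add_zero] at h
    revert h
    generalize D 0 = a
    revert a
    decide
  have hDneg : ∀ v, D (-v) = D v := by
    intro v
    have h := hcoset v (-v)
    have h1 : v + (-v + -v) = -v := by abel
    rw [h1] at h
    exact h
  -- the polar form
  have hadd : ∀ u v w, D (u + (v + w)) + D u + D (v + w) =
      (D (u + v) + D u + D v) + (D (u + w) + D u + D w) := by
    intro u v w
    have h := hquad u v w
    have h1 : u + v + w = u + (v + w) := add_assoc u v w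
    rw [h1] at h
    revert h
    generalize D (u + (v + w)) = a
    generalize D (u + v) = b
    generalize D (u + w) = c
    generalize D (v + w) = d
    generalize D u = e
    generalize D v = f
    generalize D w = g
    revert a b c d e f g
    decide
  have hnegB : ∀ u v, D (u + -v) + D u + D (-v) = D (u + v) + D u + D v := by
    intro u v
    rw [hDneg v]
    have h := hcoset (u + v) (-v)
    have h1 : u + v + (-v + -v) = u + -v := by abel
    rw [h1] at h
    rw [h]
  -- `B(m, v) = 0` for minimal `m`
  have hB1 : ∀ m : ↥leechLattice, sqNorm m.1 = 32 → ∀ v, D (m + v) + D m + D v = 0 := by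
    intro m hm
    apply leech_induction
    · intro m' hm'
      rw [h22 m m' hm hm', h2 m hm, h2 m' hm']; decide
    · rw [add_zero, hD0, h2 m hm]; decide
    · intro a b ha hb
      rw [hadd m a b, ha, hb]; decide
    · intro a ha
      rw [hnegB m a, ha]
  -- `B(u, v) = 0` for all `u`, `v`
  have hB2 : ∀ v u : ↥leechLattice, D (u + v) + D u + D v = 0 := by
    intro v
    apply leech_induction
    · intro m hm
      exact hB1 m hm v
    · rw [zero_add, hD0]
      generalize D v = a
      revert a; decide
    · intro a b ha hb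
      have h := hadd v a b
      rw [add_comm v (a + b), add_comm v a, add_comm v b] at h
      have h' : D (a + b + v) + D (a + b) + D v = D (a + b + v) + D v + D (a + b) := by ring
      rw [h', h]
      have ha' : D (a + v) + D v + D a = 0 := by rw [← ha]; ring
      have hb' : D (b + v) + D v + D b = 0 := by rw [← hb]; ring
      rw [ha', hb']; decide
    · intro a ha
      have h := hnegB v a
      rw [add_comm v (-a), add_comm v a] at h
      have h' : D (-a + v) + D (-a) + D v = D (-a + v) + D v + D (-a) := by ring
      rw [h', h, ← ha]; ring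
  -- `D` is additive and vanishes on generators
  apply leech_induction
  · exact h2
  · exact hD0
  · intro a b ha hb
    have h := hB2 b a
    rw [ha, hb] at h
    simpa using h
  · intro a ha
    rw [hDneg, ha]

end Cfsg.Agent.Lib.Helper3
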