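import Mathlib
import Cfsg.Prelude.Def_Sporadic_a
import Cfsg.Agent.Lib.Helper3.Co0Trans64
import Cfsg.Agent.Lib.Helper3.LeechQuad

set_option autoImplicit false

/-!
Helper library (helper3): the action of `Co0` on pairs of lattice vectors.  `ConnP x1 x2 y1 y2`
says one element of `Co0` maps `x1 ↦ y1` and `x2 ↦ y2`.  Moves on pairs whose first member is
`P44 a b = 4 e_a + 4 e_b`.
-/

namespace Cfsg.Agent.Lib.Helper3

open Cfsg Cfsg.Agent.Lib.Helper21

/-- one element of `Co0` maps `x1 ↦ y1` and `x2 ↦ y2` -/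
def ConnP (x1 x2 y1 y2 : GolayPt → ℤ) : Prop :=
  ∃ (h1 : x1 ∈ leechLattice) (h2 : x2 ∈ leechLattice) (g : Equiv.Perm leechLattice), g ∈ Co0 ∧
    (g ⟨x1, h1⟩).1 = y1 ∧ (g ⟨x2, h2⟩).1 = y2

theorem connP_refl {x1 x2 : GolayPt → ℤ} (h1 : x1 ∈ leechLattice) (h2 : x2 ∈ leechLattice) :
    ConnP x1 x2 x1 x2 :=
  ⟨h1, h2, 1, one_mem _, rfl, rfl⟩

theorem ConnP.symm {x1 x2 y1 y2 : GolayPt → ℤ} (h : ConnP x1 x2 y1 y2) : ConnP y1 y2 x1 x2 := by
  obtain ⟨h1, h2, g, hg, rfl, rfl⟩ := h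
  refine ⟨(g _).2, (g _).2, g⁻¹, inv_mem hg, ?_, ?_⟩ <;> simp

theorem ConnP.trans {x1 x2 y1 y2 z1 z2 : GolayPt → ℤ} (h : ConnP x1 x2 y1 y2)
    (h' : ConnP y1 y2 z1 z2) : ConnP x1 x2 z1 z2 := by
  obtain ⟨h1, h2, g, hg, rfl, rfl⟩ := h
  obtain ⟨h1', h2', g', hg', rfl, rfl⟩ := h'
  exact ⟨h1, h2, g' * g, mul_mem hg' hg, by simp [Equiv.Perm.mul_apply],
    by simp [Equiv.Perm.mul_apply]⟩

theorem ConnP.mem_left1 {x1 x2 y1 y2 : GolayPt → ℤ} (h : ConnP x1 x2 y1 y2) :
    x1 ∈ leechLattice := h.1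

theorem ConnP.mem_left2 {x1 x2 y1 y2 : GolayPt → ℤ} (h : ConnP x1 x2 y1 y2) :
    x2 ∈ leechLattice := h.2.1

theorem ConnP.mem_right1 {x1 x2 y1 y2 : GolayPt → ℤ} (h : ConnP x1 x2 y1 y2) :
    y1 ∈ leechLattice := h.symm.1

theorem ConnP.mem_right2 {x1 x2 y1 y2 : GolayPt → ℤ} (h : ConnP x1 x2 y1 y2) :
    y2 ∈ leechLattice := h.symm.2.1

theorem ConnP.sqNorm_eq2 {x1 x2 y1 y2 : GolayPt → ℤ} (h : ConnP x1 x2 y1 y2) :
    sqNorm y2 = sqNorm x2 := by
  obtain ⟨h1, h2, g, hg, rfl, rfl⟩ := h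
  exact hg.2 _

/-- elements of `Co0` preserve inner products -/
theorem co0_dot {g : Equiv.Perm leechLattice} (hg : g ∈ Co0) (x y : leechLattice) :
    dotInt (g x).1 (g y).1 = dotInt x.1 y.1 := by
  have h1 := hg.2 (x + y)
  rw [hg.1] at h1
  simp only [AddSubgroup.coe_add] at h1
  rw [sqNorm_add, sqNorm_add, hg.2, hg.2] at h1
  linarith

theorem ConnP.dot_eq {x1 x2 y1 y2 : GolayPt → ℤ} (h : ConnP x1 x2 y1 y2) :
    dotInt y1 y2 = dotInt x1 x2 := by
  obtain ⟨h1, h2, g, hg, rfl, rfl⟩ := h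
  exact co0_dot hg _ _

theorem connP_sgn {x1 x2 : GolayPt → ℤ} (h1 : x1 ∈ leechLattice) (h2 : x2 ∈ leechLattice)
    {C : Finset GolayPt} (hC : C ∈ supports (golayCode : Set (GolayPt → ZMod 2))) :
    ConnP x1 x2 (sgnVec C x1) (sgnVec C x2) :=
  ⟨h1, h2, sgnL C hC, sgnL_mem C hC, rfl, rfl⟩

theorem connP_perm {x1 x2 : GolayPt → ℤ} (h1 : x1 ∈ leechLattice) (h2 : x2 ∈ leechLattice)
    {σ : Equiv.Perm GolayPt} (hσ : σ ∈ M24) :
    ConnP x1 x2 (fun i => x1 (σ i)) (fun i => x2 (σ i)) :=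
  ⟨h1, h2, permL σ hσ, permL_mem σ hσ, rfl, rfl⟩

theorem connP_xi {x1 x2 : GolayPt → ℤ} (h1 : x1 ∈ leechLattice) (h2 : x2 ∈ leechLattice)
    (T : Finset GolayPt) (hT : T.card = 4) :
    ∃ y1 y2, ConnP x1 x2 y1 y2 ∧
      (∀ j, 2 * y1 j = eps T j * (2 * x1 j - ∑ k ∈ tet T hT j, x1 k)) ∧
      (∀ j, 2 * y2 j = eps T j * (2 * x2 j - ∑ k ∈ tet T hT j, x2 k)) :=
  ⟨_, _, ⟨h1, h2, xiL T hT, xiL_mem T hT, rfl, rfl⟩, fun j => xiL_apply T hT ⟨x1, h1⟩ j,
    fun j => xiL_apply T hT ⟨x2, h2⟩ j⟩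

theorem ConnF.toP {x1 y1 : GolayPt → ℤ} (h : ConnF x1 y1) {x2 : GolayPt → ℤ}
    (h2 : x2 ∈ leechLattice) : ∃ y2, ConnP x1 x2 y1 y2 := by
  obtain ⟨h1, g, hg, rfl⟩ := h
  exact ⟨_, h1, h2, g, hg, rfl, rfl⟩

/-- from pair connection to an element of `Co0` on the subtype -/
theorem ConnP.exists_co0 {v w v' w' : leechLattice} (h : ConnP v.1 w.1 v'.1 w'.1) :
    ∃ g : ↥Co0, g • v = v' ∧ g • w = w' := by
  obtain ⟨h1, h2, g, hg, e1, e2⟩ := h
  exact ⟨⟨g, hg⟩, Subtype.ext e1, Subtype.ext e2⟩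

/-! ### the vectors `4 e_a + 4 e_b` -/

/-- `(4,4,0,…)` at the positions `a`, `b` -/
def P44 (a b : GolayPt) : GolayPt → ℤ := fun i => if i = a ∨ i = b then 4 else 0

theorem P44_comm (a b : GolayPt) : P44 a b = P44 b a := by
  funext i; unfold P44; simp only [or_comm]

theorem P44_eq_sv {a b : GolayPt} : P44 a b = sv 4 {a, b} ∅ := by
  funext i
  unfold P44 sv
  simp

theorem P44_mem {a b : GolayPt} (hab : a ≠ b) : P44 a b ∈ leechLattice := by
  rw [P44_eq_sv]
  exact sv4_mem (Finset.card_pair hab) (Finset.empty_subset _)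

theorem sqNorm_P44 {a b : GolayPt} (hab : a ≠ b) : sqNorm (P44 a b) = 32 := by
  rw [P44_eq_sv, sqNorm_sv 4 (Finset.empty_subset _), Finset.card_pair hab]; norm_num

theorem minB0_eq : minB0 = P44 none (some 0) := rfl

theorem dot_P44 {a b : GolayPt} (hab : a ≠ b) (w : GolayPt → ℤ) :
    dotInt (P44 a b) w = 4 * (w a + w b) := by
  classical
  unfold dotInt P44
  have h : ∀ i, (if i = a ∨ i = b then (4 : ℤ) else 0) * w i =
      (if i = a then 4 * w a else 0) + (if i = b then 4 * w b else 0) := by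
    intro i
    by_cases h1 : i = a
    · subst h1; simp [hab]
    · by_cases h2 : i = b
      · subst h2; simp [h1]
      · simp [h1, h2]
  simp_rw [h]
  rw [Finset.sum_add_distrib]
  simp
  ring

theorem M24_three_trans {a b c a' b' c' : GolayPt} (hab : a ≠ b) (hac : a ≠ c) (hbc : b ≠ c)
    (hab' : a' ≠ b') (hac' : a' ≠ c') (hbc' : b' ≠ c') :
    ∃ σ ∈ M24, σ a = a' ∧ σ b = b' ∧ σ c = c' := by
  have H := Cfsg.Agent.Lib.Helper21.M24_pretransitive_of_le (n := 3) (by norm_num)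
  rw [MulAction.isMultiplyPretransitive_iff] at H
  let x : Fin 3 ↪ GolayPt := ⟨![a, b, c], by
    intro i j hij
    fin_cases i <;> fin_cases j <;> simp_all⟩
  let y : Fin 3 ↪ GolayPt := ⟨![a', b', c'], by
    intro i j hij
    fin_cases i <;> fin_cases j <;> simp_all⟩
  obtain ⟨g, hg⟩ := H x y
  refine ⟨g.1, g.2, ?_, ?_, ?_⟩
  · exact congrArg (fun e : Fin 3 ↪ GolayPt => e 0) hg
  · exact congrArg (fun e : Fin 3 ↪ GolayPt => e 1) hg
  · exact congrArg (fun e : Fin 3 ↪ GolayPt => e 2) hg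

/-- sign changes off `{a, b}` fix `P44 a b` -/
theorem connP_sgn44 {a b : GolayPt} (hab : a ≠ b) {w : GolayPt → ℤ} (hw : w ∈ leechLattice)
    {C : Finset GolayPt} (hC : C ∈ supports (golayCode : Set (GolayPt → ZMod 2)))
    (ha : a ∉ C) (hb : b ∉ C) : ConnP (P44 a b) w (P44 a b) (sgnVec C w) := by
  have h := connP_sgn (P44_mem hab) hw hC
  have h1 : sgnVec C (P44 a b) = P44 a b := by
    funext i
    unfold sgnVec P44
    by_cases hi : i ∈ C
    · have h1 : i ≠ a := fun h => ha (h ▸ hi)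
      have h2 : i ≠ b := fun h => hb (h ▸ hi)
      simp [hi, h1, h2]
    · simp [hi]
  rw [h1] at h
  exact h

/-- coordinate permutations -/
theorem connP_perm44 {a b a' b' : GolayPt} (hab : a ≠ b) {w : GolayPt → ℤ}
    (hw : w ∈ leechLattice) {σ : Equiv.Perm GolayPt} (hσ : σ ∈ M24) (ha : σ a' = a)
    (hb : σ b' = b) : ConnP (P44 a b) w (P44 a' b') (fun i => w (σ i)) := by
  have h := connP_perm (P44_mem hab) hw hσ
  have h1 : (fun i => P44 a b (σ i)) = P44 a' b' := by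
    funext i
    unfold P44
    have e1 : σ i = a ↔ i = a' := by
      rw [← ha]; exact σ.injective.eq_iff
    have e2 : σ i = b ↔ i = b' := by
      rw [← hb]; exact σ.injective.eq_iff
    simp only [e1, e2]
  rw [h1] at h
  exact h

/-- the element `ξ_T` for `T = {a, b, c, d}` maps `P44 a b` to `P44 c d` -/
theorem connP_xi44 {a b c d : GolayPt} (hab : a ≠ b) (hac : a ≠ c) (had : a ≠ d) (hbc : b ≠ c)
    (hbd : b ≠ d) (hcd : c ≠ d) {w : GolayPt → ℤ} (hw : w ∈ leechLattice) :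
    ∃ w', ConnP (P44 a b) w (P44 c d) w' ∧
      2 * w' a = (w b + w c + w d) - w a ∧ 2 * w' b = (w a + w c + w d) - w b ∧
      2 * w' c = (w a + w b + w d) - w c ∧ 2 * w' d = (w a + w b + w c) - w d := by
  classical
  obtain ⟨T, hTdef⟩ : ∃ T : Finset GolayPt, T = insert a (insert b (insert c {d})) := ⟨_, rfl⟩
  have hd1 : c ∉ ({d} : Finset GolayPt) := by simp [hcd]
  have hd2 : b ∉ insert c ({d} : Finset GolayPt) := by simp [hbc, hbd]
  have hd3 : a ∉ insert b (insert c ({d} : Finset GolayPt)) := by simp [hab, hac, had]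
  have hT : T.card = 4 := by
    rw [hTdef, Finset.card_insert_of_notMem hd3, Finset.card_insert_of_notMem hd2,
      Finset.card_insert_of_notMem hd1, Finset.card_singleton]
  have haT : a ∈ T := by rw [hTdef]; simp
  have hbT : b ∈ T := by rw [hTdef]; simp
  have hcT : c ∈ T := by rw [hTdef]; simp
  have hdT : d ∈ T := by rw [hTdef]; simp
  have hsumT : ∀ f : GolayPt → ℤ, ∑ k ∈ T, f k = f a + (f b + (f c + f d)) := by
    intro f
    rw [hTdef, Finset.sum_insert hd3, Finset.sum_insert hd2, Finset.sum_insert hd1,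
      Finset.sum_singleton]
  obtain ⟨y1, y2, hconn, hy1, hy2⟩ := connP_xi (P44_mem hab) hw T hT
  have hepsT : ∀ j ∈ T, eps T j = -1 := fun j hj => by unfold eps; rw [if_pos hj]
  have hy1' : y1 = P44 c d := by
    funext j
    have h := hy1 j
    by_cases hjT : j ∈ T
    · rw [tet_eq_T T hT hjT, hepsT j hjT, hsumT] at h
      have hv : P44 a b a = 4 ∧ P44 a b b = 4 ∧ P44 a b c = 0 ∧ P44 a b d = 0 := by
        unfold P44
        refine ⟨by simp, by simp, ?_, ?_⟩
        · simp [hac.symm, hbc.symm]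
        · simp [had.symm, hbd.symm]
      rw [hv.1, hv.2.1, hv.2.2.1, hv.2.2.2] at h
      rw [hTdef] at hjT
      simp only [Finset.mem_insert, Finset.mem_singleton] at hjT
      rcases hjT with hj | hj | hj | hj
      · rw [hj] at h ⊢
        rw [hv.1] at h
        have : P44 c d a = 0 := by unfold P44; simp [hac, had]
        rw [this]; omega
      · rw [hj] at h ⊢
        rw [hv.2.1] at h
        have : P44 c d b = 0 := by unfold P44; simp [hbc, hbd]
        rw [this]; omega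
      · rw [hj] at h ⊢
        rw [hv.2.2.1] at h
        have : P44 c d c = 4 := by unfold P44; simp
        rw [this]; omega
      · rw [hj] at h ⊢
        rw [hv.2.2.2] at h
        have : P44 c d d = 4 := by unfold P44; simp
        rw [this]; omega
    · have hne : tet T hT j ≠ T := fun h' => hjT (h' ▸ mem_tet T hT j)
      have hdisj : Disjoint (tet T hT j) (tet T hT a) := by
        apply tet_disjoint
        rw [tet_eq_T T hT haT]; exact hne
      rw [tet_eq_T T hT haT] at hdisj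
      have hzero : ∀ k ∈ tet T hT j, P44 a b k = 0 := by
        intro k hk
        have hkT : k ∉ T := Finset.disjoint_left.1 hdisj hk
        unfold P44
        have h1 : k ≠ a := fun h => hkT (h ▸ haT)
        have h2 : k ≠ b := fun h => hkT (h ▸ hbT)
        simp [h1, h2]
      rw [Finset.sum_eq_zero hzero] at h
      have h1 : P44 a b j = 0 := by
        unfold P44
        have h1 : j ≠ a := fun h => hjT (h ▸ haT)
        have h2 : j ≠ b := fun h => hjT (h ▸ hbT)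
        simp [h1, h2]
      have h2 : P44 c d j = 0 := by
        unfold P44
        have h1 : j ≠ c := fun h => hjT (h ▸ hcT)
        have h2 : j ≠ d := fun h => hjT (h ▸ hdT)
        simp [h1, h2]
      rw [h1] at h
      rw [h2]
      simpa using h
  rw [hy1'] at hconn
  refine ⟨y2, hconn, ?_, ?_, ?_, ?_⟩
  · have h := hy2 a
    rw [tet_eq_T T hT haT, hepsT a haT, hsumT] at h
    linarith
  · have h := hy2 b
    rw [tet_eq_T T hT hbT, hepsT b hbT, hsumT] at h
    linarith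
  · have h := hy2 c
    rw [tet_eq_T T hT hcT, hepsT c hcT, hsumT] at h
    linarith
  · have h := hy2 d
    rw [tet_eq_T T hT hdT, hepsT d hdT, hsumT] at h
    linarith

/-- move the first vector of a pair to `P44 none (some 0)` -/
theorem connP_normalize {v w : GolayPt → ℤ} (hv : v ∈ leechLattice) (hvn : sqNorm v = 32)
    (hw : w ∈ leechLattice) : ∃ w', ConnP v w (P44 none (some 0)) w' := by
  have h := connF_minimal hv hvn
  rw [minB0_eq] at h
  exact h.toP hw

end Cfsg.Agent.Lib.Helper3
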