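import Mathlib
import Cfsg.Agent.Lib.Helper3.Co0Pair
import Cfsg.Agent.Lib.Helper3.Co0Trans48
import Cfsg.Agent.Lib.Helper21.SteinerCounts
import Cfsg.Agent.Lib.Helper21.GolayFacts

/-!
Counting lattice vectors relative to a fixed one: transport by `Co0`, passage to functions,
and the count of octads through a point.
-/

set_option autoImplicit false

namespace Cfsg.Agent.Lib.Helper3

open Cfsg Cfsg.Agent.Lib.Helper21

theorem ncard_subtype (Q : (GolayPt → ℤ) → Prop) :
    {v : ↥leechLattice | Q v.1}.ncard = {x : GolayPt → ℤ | x ∈ leechLattice ∧ Q x}.ncard := by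
  rw [← Set.ncard_image_of_injective _ Subtype.val_injective]
  congr 1
  ext x
  constructor
  · rintro ⟨v, hv, rfl⟩
    exact ⟨v.2, hv⟩
  · rintro ⟨hx, hq⟩
    exact ⟨⟨x, hx⟩, hq, rfl⟩

theorem ncard_co0 {g : Equiv.Perm leechLattice} (hg : g ∈ Co0) (u : ↥leechLattice) (a b : ℤ) :
    {v : ↥leechLattice | sqNorm v.1 = a ∧ dotInt u.1 v.1 = b}.ncard =
    {v : ↥leechLattice | sqNorm v.1 = a ∧ dotInt (g u).1 v.1 = b}.ncard := by
  rw [← Set.ncard_image_of_injective _ g.injective]
  congr 1
  ext w
  constructor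
  · rintro ⟨v, ⟨h1, h2⟩, rfl⟩
    exact ⟨by rw [hg.2]; exact h1, by rw [co0_dot hg]; exact h2⟩
  · rintro ⟨h1, h2⟩
    refine ⟨g.symm w, ⟨?_, ?_⟩, by simp⟩
    · have := hg.2 (g.symm w)
      rw [Equiv.apply_symm_apply] at this
      rw [← this]; exact h1
    · have := co0_dot hg u (g.symm w)
      rw [Equiv.apply_symm_apply] at this
      rw [← this]; exact h2

theorem ncard_octads_through (j : GolayPt) : {O | O ∈ octads ∧ j ∈ O}.ncard = 253 := by
  classical
  rw [ncard_blocks_filter]
  have := (lam_5_8_24 card_golayPt octads_steiner {j}).2.1 (by simp)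
  rw [← this]
  congr 1
  ext O
  simp

theorem ncard_ne_pt (j : GolayPt) : {i : GolayPt | i ≠ j}.ncard = 23 := by
  classical
  have : {i : GolayPt | i ≠ j} = ↑(Finset.univ.erase j) := by
    ext i; simp
  rw [this, Set.ncard_coe_finset, Finset.card_erase_of_mem (Finset.mem_univ _), Finset.card_univ,
    card_golayPt]

theorem dot_V0 (x : GolayPt → ℤ) : dotInt V0 x = -(∑ i, x i) - 4 * x none := by
  unfold dotInt V0
  have h : ∀ i : GolayPt, (if i = none then (-5:ℤ) else -1) * x i =
      -(x i) - (if i = none then 4 * x none else 0) := by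
    intro i
    by_cases h : i = none
    · subst h; simp; ring
    · simp [h]
  rw [Finset.sum_congr rfl (fun i _ => h i), Finset.sum_sub_distrib, Finset.sum_neg_distrib,
    Finset.sum_ite_eq']
  simp

end Cfsg.Agent.Lib.Helper3
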