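import Mathlib
import Cfsg.Agent.Lib.Helper3.Co0Count
import Cfsg.Agent.Lib.Helper3.LeechNorm48Count
import Cfsg.Agent.Lib.Helper3.LeechFam

/-!
Finsets of octads, dodecads, 16-sets with membership conditions and their cardinalities;
dot product algebra; negation under `Co0`.
-/

set_option autoImplicit false

namespace Cfsg.Agent.Lib.Helper3

open Cfsg Cfsg.Agent.Lib.Helper21

theorem dotInt_comm (a b : GolayPt → ℤ) : dotInt a b = dotInt b a := by
  unfold dotInt
  apply Finset.sum_congr rfl
  intro i _
  ring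

theorem dotInt_self (y : GolayPt → ℤ) : dotInt y y = sqNorm y := by
  unfold dotInt sqNorm
  apply Finset.sum_congr rfl
  intro i _
  ring

theorem dotInt_add_left (a b c : GolayPt → ℤ) : dotInt (a + b) c = dotInt a c + dotInt b c := by
  unfold dotInt
  rw [← Finset.sum_add_distrib]
  apply Finset.sum_congr rfl
  intro i _
  simp only [Pi.add_apply]; ring

theorem dotInt_add_right (a b c : GolayPt → ℤ) : dotInt a (b + c) = dotInt a b + dotInt a c := by
  rw [dotInt_comm, dotInt_add_left, dotInt_comm b, dotInt_comm c]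

theorem dotInt_neg_left (a c : GolayPt → ℤ) : dotInt (-a) c = -dotInt a c := by
  unfold dotInt
  rw [← Finset.sum_neg_distrib]
  apply Finset.sum_congr rfl
  intro i _
  simp only [Pi.neg_apply]; ring

theorem dotInt_neg_right (a c : GolayPt → ℤ) : dotInt a (-c) = -dotInt a c := by
  rw [dotInt_comm, dotInt_neg_left, dotInt_comm]

theorem dotInt_sub_left (a b c : GolayPt → ℤ) : dotInt (a - b) c = dotInt a c - dotInt b c := by
  rw [sub_eq_add_neg, dotInt_add_left, dotInt_neg_left]; ring

theorem dotInt_sub_right (a b c : GolayPt → ℤ) : dotInt a (b - c) = dotInt a b - dotInt a c := by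
  rw [sub_eq_add_neg, dotInt_add_right, dotInt_neg_right]; ring

theorem sqNorm_neg (a : GolayPt → ℤ) : sqNorm (-a) = sqNorm a := by
  unfold sqNorm
  apply Finset.sum_congr rfl
  intro i _
  simp only [Pi.neg_apply]; ring

theorem co0_zero (g : ↥Co0) : g • (0 : ↥leechLattice) = 0 := by
  have h := g.2.1 0 0
  rw [add_zero] at h
  have h' : g • (0 : ↥leechLattice) = g • (0 : ↥leechLattice) + g • (0 : ↥leechLattice) := h
  have : g • (0 : ↥leechLattice) + 0 = g • (0 : ↥leechLattice) + g • (0 : ↥leechLattice) := by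
    rw [add_zero]; exact h'
  exact (add_left_cancel this).symm

theorem co0_add (g : ↥Co0) (x y : ↥leechLattice) : g • (x + y) = g • x + g • y := g.2.1 x y

theorem co0_neg (g : ↥Co0) (x : ↥leechLattice) : g • (-x) = -(g • x) := by
  have h := co0_add g x (-x)
  rw [add_neg_cancel, co0_zero] at h
  exact (neg_eq_of_add_eq_zero_right h.symm).symm

theorem co0_sub (g : ↥Co0) (x y : ↥leechLattice) : g • (x - y) = g • x - g • y := by
  rw [sub_eq_add_neg, co0_add, co0_neg, sub_eq_add_neg]

open Classical in
/-- the octads as a finset -/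
noncomputable def octFin : Finset (Finset GolayPt) := Finset.univ.filter (· ∈ octads)

open Classical in
/-- the dodecads as a finset -/
noncomputable def dodFin : Finset (Finset GolayPt) := Finset.univ.filter (· ∈ dodecads)

open Classical in
/-- the 16-sets as a finset -/
noncomputable def sixtFin : Finset (Finset GolayPt) := Finset.univ.filter (· ∈ sixteens)

theorem mem_octFin {O : Finset GolayPt} : O ∈ octFin ↔ O ∈ octads := by
  unfold octFin; simp

theorem mem_dodFin {O : Finset GolayPt} : O ∈ dodFin ↔ O ∈ dodecads := by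
  unfold dodFin; simp

theorem mem_sixtFin {O : Finset GolayPt} : O ∈ sixtFin ↔ O ∈ sixteens := by
  unfold sixtFin; simp

theorem card_octFin : octFin.card = 759 := by
  rw [← ncard_octads, ← Set.ncard_coe_finset]
  congr 1
  ext s
  simp [mem_octFin]

theorem card_dodFin : dodFin.card = 2576 := by
  rw [← ncard_dodecads, ← Set.ncard_coe_finset]
  congr 1
  ext s
  simp [mem_dodFin]

theorem card_octFin_mem (j : GolayPt) : (octFin.filter (j ∈ ·)).card = 253 := by
  rw [← ncard_octads_through j, ← Set.ncard_coe_finset]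
  congr 1
  ext s
  simp [mem_octFin]

theorem card_octFin_notMem (j : GolayPt) : (octFin.filter (j ∉ ·)).card = 506 := by
  have h := Finset.card_filter_add_card_filter_not (s := octFin) (fun O => j ∈ O)
  rw [card_octFin_mem, card_octFin] at h
  omega

theorem compl_mem_dodecads {D : Finset GolayPt} (hD : D ∈ dodecads) : Dᶜ ∈ dodecads := by
  refine ⟨compl_mem_supports hD.1, ?_⟩
  rw [Finset.card_compl, hD.2, card_golayPt]

theorem card_dodFin_mem_eq (j : GolayPt) :
    (dodFin.filter (j ∈ ·)).card = (dodFin.filter (j ∉ ·)).card := by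
  apply Finset.card_bij (fun D _ => Dᶜ)
  · intro D hD
    rw [Finset.mem_filter] at hD ⊢
    refine ⟨mem_dodFin.2 (compl_mem_dodecads (mem_dodFin.1 hD.1)), ?_⟩
    rw [Finset.mem_compl, not_not]
    exact hD.2
  · intro D _ D' _ h
    exact compl_injective h
  · intro D hD
    rw [Finset.mem_filter] at hD
    refine ⟨Dᶜ, ?_, compl_compl D⟩
    rw [Finset.mem_filter]
    exact ⟨mem_dodFin.2 (compl_mem_dodecads (mem_dodFin.1 hD.1)), Finset.mem_compl.2 hD.2⟩

theorem card_dodFin_notMem (j : GolayPt) : (dodFin.filter (j ∉ ·)).card = 1288 := by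
  have h := Finset.card_filter_add_card_filter_not (s := dodFin) (fun O => j ∈ O)
  rw [card_dodFin] at h
  have h2 := card_dodFin_mem_eq j
  omega

theorem card_dodFin_mem (j : GolayPt) : (dodFin.filter (j ∈ ·)).card = 1288 := by
  rw [card_dodFin_mem_eq, card_dodFin_notMem]

theorem compl_mem_sixteens {O : Finset GolayPt} (hO : O ∈ octads) : Oᶜ ∈ sixteens := by
  refine ⟨compl_mem_supports hO.1, ?_⟩
  rw [Finset.card_compl, hO.2, card_golayPt]

theorem compl_mem_octads {C : Finset GolayPt} (hC : C ∈ sixteens) : Cᶜ ∈ octads := by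
  refine ⟨compl_mem_supports hC.1, ?_⟩
  rw [Finset.card_compl, hC.2, card_golayPt]

theorem card_sixtFin_mem (j : GolayPt) : (sixtFin.filter (j ∈ ·)).card = 506 := by
  rw [← card_octFin_notMem j]
  apply Finset.card_bij (fun D _ => Dᶜ)
  · intro D hD
    rw [Finset.mem_filter] at hD ⊢
    refine ⟨mem_octFin.2 (compl_mem_octads (mem_sixtFin.1 hD.1)), ?_⟩
    rw [Finset.mem_compl, not_not]
    exact hD.2
  · intro D _ D' _ h
    exact compl_injective h
  · intro D hD
    rw [Finset.mem_filter] at hD
    refine ⟨Dᶜ, ?_, compl_compl D⟩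
    rw [Finset.mem_filter]
    exact ⟨mem_sixtFin.2 (compl_mem_sixteens (mem_octFin.1 hD.1)), Finset.mem_compl.2 hD.2⟩

theorem card_sixtFin_notMem (j : GolayPt) : (sixtFin.filter (j ∉ ·)).card = 253 := by
  rw [← card_octFin_mem j]
  apply Finset.card_bij (fun D _ => Dᶜ)
  · intro D hD
    rw [Finset.mem_filter] at hD ⊢
    refine ⟨mem_octFin.2 (compl_mem_octads (mem_sixtFin.1 hD.1)), ?_⟩
    rw [Finset.mem_compl]
    exact hD.2
  · intro D _ D' _ h
    exact compl_injective h
  · intro D hD
    rw [Finset.mem_filter] at hD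
    refine ⟨Dᶜ, ?_, compl_compl D⟩
    rw [Finset.mem_filter]
    refine ⟨mem_sixtFin.2 (compl_mem_sixteens (mem_octFin.1 hD.1)), ?_⟩
    rw [Finset.mem_compl, not_not]
    exact hD.2

theorem sv_none (c : ℤ) (s T : Finset GolayPt) :
    sv c s T none = if none ∈ T then -c else if none ∈ s then c else 0 := rfl

theorem ov_none (C : Finset GolayPt) (j : GolayPt) :
    ov C j none = if none = j then (if j ∈ C then -3 else 3) else if none ∈ C then 1 else -1 := rfl

theorem card_le_23 {C : Finset GolayPt} {j : GolayPt} (h : j ∉ C) : C.card ≤ 23 := by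
  have := Finset.card_le_card (Finset.subset_univ (insert j C))
  rw [Finset.card_insert_of_notMem h, Finset.card_univ, card_golayPt] at this
  omega

end Cfsg.Agent.Lib.Helper3
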