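import Mathlib
import Cfsg.Prelude.Def_Sporadic_a
import Cfsg.Agent.Lib.Helper3.Co0Pair

set_option autoImplicit false

/-!
Helper library (helper3): `Co0` is transitive on ordered pairs of orthogonal minimal vectors.
Every such pair is connected to `(P44 none (some 0), D44 none (some 0))`.
-/

namespace Cfsg.Agent.Lib.Helper3

open Cfsg Cfsg.Agent.Lib.Helper21

/-- `(4,-4,0,…)` at the positions `a`, `b` -/
def D44 (a b : GolayPt) : GolayPt → ℤ := fun i => if i = a then 4 else if i = b then -4 else 0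

/-! ### generalities on minimal vectors -/

theorem zero_off_pair {a b : GolayPt} (hab : a ≠ b) {w : GolayPt → ℤ}
    (hn : sqNorm w = w a ^ 2 + w b ^ 2) : ∀ i, i ≠ a → i ≠ b → w i = 0 := by
  classical
  unfold sqNorm at hn
  have h1 := Finset.add_sum_erase Finset.univ (fun i => w i ^ 2) (Finset.mem_univ a)
  have h2 := Finset.add_sum_erase (Finset.univ.erase a) (fun i => w i ^ 2)
    (Finset.mem_erase.2 ⟨hab.symm, Finset.mem_univ b⟩)
  have h3 : ∑ i ∈ (Finset.univ.erase a).erase b, w i ^ 2 = 0 := by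
    beta_reduce at h1 h2
    linarith
  intro i hia hib
  have h4 := (Finset.sum_eq_zero_iff_of_nonneg (fun i _ => sq_nonneg (w i))).1 h3 i
    (Finset.mem_erase.2 ⟨hib, Finset.mem_erase.2 ⟨hia, Finset.mem_univ i⟩⟩)
  exact pow_eq_zero_iff (by norm_num) |>.1 h4

theorem sv_val_mem (c : ℤ) {s W : Finset GolayPt} {i : GolayPt} (hi : i ∈ s) :
    sv c s W i = c ∨ sv c s W i = -c := by
  unfold sv
  by_cases h : i ∈ W
  · right; rw [if_pos h]
  · left; rw [if_neg h, if_pos hi]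

theorem ov_val (C : Finset GolayPt) (j i : GolayPt) :
    (i = j → (ov C j i = 3 ∨ ov C j i = -3)) ∧ (i ≠ j → (ov C j i = 1 ∨ ov C j i = -1)) := by
  unfold ov
  constructor
  · intro h
    rw [if_pos h]
    by_cases hj : j ∈ C
    · right; rw [if_pos hj]
    · left; rw [if_neg hj]
  · intro h
    rw [if_neg h]
    by_cases hi : i ∈ C
    · left; rw [if_pos hi]
    · right; rw [if_neg hi]

/-- a minimal vector with a coordinate `±4` has exactly one other nonzero coordinate, `±4` -/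
theorem typeB_of_coord4 {w : GolayPt → ℤ} (hw : w ∈ leechLattice) (hn : sqNorm w = 32)
    {x : GolayPt} (hx : w x = 4 ∨ w x = -4) :
    ∃ y, y ≠ x ∧ (w y = 4 ∨ w y = -4) ∧ ∀ i, i ≠ x → i ≠ y → w i = 0 := by
  classical
  rcases (leech_minimal_iff w).1 ⟨hw, hn⟩ with ⟨s, W, hs, hW, rfl⟩ | ⟨s, W, hs, hW, hev, rfl⟩ |
    ⟨C, k, hC, rfl⟩
  · have hxs : x ∈ s := by
      by_contra h
      rw [sv_notMem hW h] at hx
      omega
    obtain ⟨p, q, hpq, rfl⟩ := Finset.card_eq_two.1 hs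
    have hother : ∀ y, y ∈ ({p, q} : Finset GolayPt) → y ≠ x →
        ∃ y, y ≠ x ∧ (sv 4 {p, q} W y = 4 ∨ sv 4 {p, q} W y = -4) ∧
          ∀ i, i ≠ x → i ≠ y → sv 4 {p, q} W i = 0 := by
      intro y hy hyx
      refine ⟨y, hyx, sv_val_mem 4 hy, fun i hix hiy => ?_⟩
      apply sv_notMem hW
      intro hi
      rw [Finset.mem_insert, Finset.mem_singleton] at hi hxs hy
      rcases hi with rfl | rfl <;> rcases hxs with rfl | rfl <;> rcases hy with rfl | rfl <;>
        simp_all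
    rw [Finset.mem_insert, Finset.mem_singleton] at hxs
    rcases hxs with rfl | rfl
    · exact hother q (by simp) hpq.symm
    · exact hother p (by simp) hpq
  · exfalso
    rcases sv2_vals s W x with h | h | h <;> omega
  · exfalso
    have := ov_odd C k x
    omega

theorem exists_pair_same {t : Finset GolayPt} (ht : 3 ≤ t.card) (f : GolayPt → ℤ) (e : ℤ)
    (hf : ∀ i ∈ t, f i = e ∨ f i = -e) : ∃ c ∈ t, ∃ d ∈ t, c ≠ d ∧ f c = f d := by
  classical
  obtain ⟨t3, ht3, hc3⟩ := Finset.exists_subset_card_eq ht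
  obtain ⟨x, y, z, hxy, hxz, hyz, rfl⟩ := Finset.card_eq_three.1 hc3
  have hx : x ∈ t := ht3 (by simp)
  have hy : y ∈ t := ht3 (by simp)
  have hz : z ∈ t := ht3 (by simp)
  rcases hf x hx with h1 | h1 <;> rcases hf y hy with h2 | h2 <;> rcases hf z hz with h3 | h3
  · exact ⟨x, hx, y, hy, hxy, by rw [h1, h2]⟩
  · exact ⟨x, hx, y, hy, hxy, by rw [h1, h2]⟩
  · exact ⟨x, hx, z, hz, hxz, by rw [h1, h3]⟩
  · exact ⟨y, hy, z, hz, hyz, by rw [h2, h3]⟩
  · exact ⟨y, hy, z, hz, hyz, by rw [h2, h3]⟩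
  · exact ⟨x, hx, z, hz, hxz, by rw [h1, h3]⟩
  · exact ⟨x, hx, y, hy, hxy, by rw [h1, h2]⟩
  · exact ⟨x, hx, y, hy, hxy, by rw [h1, h2]⟩

/-! ### the cases -/

theorem orth_B1 {a b : GolayPt} (hab : a ≠ b) {w : GolayPt → ℤ} (hw : w ∈ leechLattice)
    (hn : sqNorm w = 32) (h : (w a = 4 ∧ w b = -4) ∨ (w a = -4 ∧ w b = 4)) :
    ConnP (P44 a b) w (P44 none (some 0)) (D44 none (some 0)) := by
  have hpq : (none : GolayPt) ≠ some 0 := by decide
  have h0 : ∀ i, i ≠ a → i ≠ b → w i = 0 := by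
    apply zero_off_pair hab
    rcases h with ⟨h1, h2⟩ | ⟨h1, h2⟩ <;> rw [hn, h1, h2] <;> norm_num
  rcases h with ⟨h1, h2⟩ | ⟨h1, h2⟩
  · obtain ⟨σ, hσ, e1, e2⟩ := M24_two_trans (i := some 0) (j := none) (i' := b) (j' := a)
      hpq hab
    have hc := connP_perm44 hab hw hσ e1 e2
    have : (fun i => w (σ i)) = D44 none (some 0) := by
      funext i
      unfold D44
      by_cases hi1 : i = none
      · rw [if_pos hi1, hi1, e1, h1]
      · rw [if_neg hi1]
        by_cases hi2 : i = some 0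
        · rw [if_pos hi2, hi2, e2, h2]
        · rw [if_neg hi2]
          apply h0
          · intro h; apply hi1; apply σ.injective; rw [h, e1]
          · intro h; apply hi2; apply σ.injective; rw [h, e2]
    rw [this] at hc
    exact hc
  · obtain ⟨σ, hσ, e1, e2⟩ := M24_two_trans (i := some 0) (j := none) (i' := a) (j' := b)
      hpq hab.symm
    have hc := connP_perm44 hab.symm hw hσ e1 e2
    rw [P44_comm b a] at hc
    have : (fun i => w (σ i)) = D44 none (some 0) := by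
      funext i
      unfold D44
      by_cases hi1 : i = none
      · rw [if_pos hi1, hi1, e1, h2]
      · rw [if_neg hi1]
        by_cases hi2 : i = some 0
        · rw [if_pos hi2, hi2, e2, h1]
        · rw [if_neg hi2]
          apply h0
          · intro h; apply hi2; apply σ.injective; rw [h, e2]
          · intro h; apply hi1; apply σ.injective; rw [h, e1]
    rw [this] at hc
    exact hc

theorem orth_B2' {a b c d : GolayPt} (hab : a ≠ b) (hac : a ≠ c) (had : a ≠ d) (hbc : b ≠ c)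
    (hbd : b ≠ d) (hcd : c ≠ d) {w : GolayPt → ℤ} (hw : w ∈ leechLattice)
    (hn : sqNorm w = 32) (h : (w c = 4 ∧ w d = -4) ∨ (w c = -4 ∧ w d = 4)) :
    ConnP (P44 a b) w (P44 none (some 0)) (D44 none (some 0)) := by
  have h0 : ∀ i, i ≠ c → i ≠ d → w i = 0 := by
    apply zero_off_pair hcd
    rcases h with ⟨h1, h2⟩ | ⟨h1, h2⟩ <;> rw [hn, h1, h2] <;> norm_num
  have ha0 := h0 a hac had
  have hb0 := h0 b hbc hbd
  obtain ⟨w', hc, -, -, e3, e4⟩ := connP_xi44 hab hac had hbc hbd hcd hw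
  rw [ha0, hb0] at e3 e4
  refine hc.trans (orth_B1 hcd hc.mem_right2 (by rw [hc.sqNorm_eq2, hn]) ?_)
  rcases h with ⟨h1, h2⟩ | ⟨h1, h2⟩
  · right; rw [h1, h2] at e3 e4; constructor <;> omega
  · left; rw [h1, h2] at e3 e4; constructor <;> omega

theorem orth_B2 {a b c d : GolayPt} (hab : a ≠ b) (hac : a ≠ c) (had : a ≠ d) (hbc : b ≠ c)
    (hbd : b ≠ d) (hcd : c ≠ d) {w : GolayPt → ℤ} (hw : w ∈ leechLattice)
    (hn : sqNorm w = 32) (h1 : w c = 4 ∨ w c = -4) (h2 : w d = 4 ∨ w d = -4) :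
    ConnP (P44 a b) w (P44 none (some 0)) (D44 none (some 0)) := by
  classical
  by_cases hopp : (w c = 4 ∧ w d = -4) ∨ (w c = -4 ∧ w d = 4)
  · exact orth_B2' hab hac had hbc hbd hcd hw hn hopp
  · have hdA : d ∉ ({a, b, c} : Finset GolayPt) := by
      simp [had.symm, hbd.symm, hcd.symm]
    have hA : ({a, b, c} : Finset GolayPt).card ≤ 4 := by
      have := Finset.card_le_three (a := a) (b := b) (c := c)
      omega
    obtain ⟨C, hC, hdC, hCA⟩ := exists_octad_avoid hdA hA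
    have haC : a ∉ C := hCA a (by simp)
    have hbC : b ∉ C := hCA b (by simp)
    have hcC : c ∉ C := hCA c (by simp)
    have hc := connP_sgn44 hab hw hC.1 haC hbC
    refine hc.trans (orth_B2' hab hac had hbc hbd hcd hc.mem_right2
      (by rw [hc.sqNorm_eq2, hn]) ?_)
    unfold sgnVec
    rw [if_neg hcC, if_pos hdC]
    rcases h1 with h1 | h1 <;> rcases h2 with h2 | h2
    · left; exact ⟨h1, by rw [h2]⟩
    · exact absurd (Or.inl ⟨h1, h2⟩) hopp
    · exact absurd (Or.inr ⟨h1, h2⟩) hopp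
    · right; exact ⟨h1, by rw [h2]; norm_num⟩

theorem orth_A2 {a b c d : GolayPt} (hab : a ≠ b) (hac : a ≠ c) (had : a ≠ d) (hbc : b ≠ c)
    (hbd : b ≠ d) (hcd : c ≠ d) {w : GolayPt → ℤ} (hw : w ∈ leechLattice)
    (hn : sqNorm w = 32) (h1 : (w a = 2 ∧ w b = -2) ∨ (w a = -2 ∧ w b = 2))
    (h2 : (w c = 2 ∧ w d = 2) ∨ (w c = -2 ∧ w d = -2)) :
    ConnP (P44 a b) w (P44 none (some 0)) (D44 none (some 0)) := by
  obtain ⟨w', hc, e1, e2, e3, e4⟩ := connP_xi44 hab hac had hbc hbd hcd hw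
  have hn' : sqNorm w' = 32 := by rw [hc.sqNorm_eq2, hn]
  have hw' := hc.mem_right2
  have hc0 : w' c = 0 := by
    rcases h1 with ⟨p1, p2⟩ | ⟨p1, p2⟩ <;> rcases h2 with ⟨q1, q2⟩ | ⟨q1, q2⟩ <;>
      rw [p1, p2, q1, q2] at e3 <;> omega
  have hd0 : w' d = 0 := by
    rcases h1 with ⟨p1, p2⟩ | ⟨p1, p2⟩ <;> rcases h2 with ⟨q1, q2⟩ | ⟨q1, q2⟩ <;>
      rw [p1, p2, q1, q2] at e4 <;> omega
  have hx : ∃ x, (x = a ∨ x = b) ∧ (w' x = 4 ∨ w' x = -4) := by
    rcases h1 with ⟨p1, p2⟩ | ⟨p1, p2⟩ <;> rcases h2 with ⟨q1, q2⟩ | ⟨q1, q2⟩ <;>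
      rw [p1, p2, q1, q2] at e1 e2
    · exact ⟨b, Or.inr rfl, Or.inl (by omega)⟩
    · exact ⟨a, Or.inl rfl, Or.inr (by omega)⟩
    · exact ⟨a, Or.inl rfl, Or.inl (by omega)⟩
    · exact ⟨b, Or.inr rfl, Or.inr (by omega)⟩
  obtain ⟨x, hxab, hx4⟩ := hx
  obtain ⟨y, hyx, hy4, -⟩ := typeB_of_coord4 hw' hn' hx4
  have hxc : x ≠ c := by rintro rfl; rw [hc0] at hx4; omega
  have hxd : x ≠ d := by rintro rfl; rw [hd0] at hx4; omega
  have hyc : y ≠ c := by rintro rfl; rw [hc0] at hy4; omega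
  have hyd : y ≠ d := by rintro rfl; rw [hd0] at hy4; omega
  exact hc.trans (orth_B2 hcd hxc.symm hyc.symm hxd.symm hyd.symm hyx.symm hw' hn' hx4 hy4)

theorem orth_A2gen {a b : GolayPt} (hab : a ≠ b) {w : GolayPt → ℤ} (hw : w ∈ leechLattice)
    (hn : sqNorm w = 32) (h1 : (w a = 2 ∧ w b = -2) ∨ (w a = -2 ∧ w b = 2)) :
    ConnP (P44 a b) w (P44 none (some 0)) (D44 none (some 0)) := by
  classical
  rcases (leech_minimal_iff w).1 ⟨hw, hn⟩ with ⟨s, W, hs, hW, rfl⟩ | ⟨s, W, hs, hW, hev, rfl⟩ |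
    ⟨C, k, hC, rfl⟩
  · exfalso
    have h4 := sv4_mod4 s W a
    rcases h1 with ⟨p1, p2⟩ | ⟨p1, p2⟩ <;> omega
  · have has : a ∈ s := by
      by_contra h
      rw [sv_notMem hW h] at h1
      omega
    have hbs : b ∈ s := by
      by_contra h
      rw [sv_notMem hW h] at h1
      omega
    have hcard : 3 ≤ (s \ {a, b}).card := by
      have h1 : ({a, b} : Finset GolayPt) ⊆ s := by
        intro i hi
        rcases Finset.mem_insert.1 hi with rfl | hi
        · exact has
        · rw [Finset.mem_singleton.1 hi]; exact hbs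
      rw [Finset.card_sdiff_of_subset h1, hs.2, Finset.card_pair hab]
      norm_num
    obtain ⟨c, hc, d, hd, hcd, hcdv⟩ := exists_pair_same hcard (sv 2 s W) 2 (fun i hi =>
      sv_val_mem 2 (Finset.mem_sdiff.1 hi).1)
    have hc' := Finset.mem_sdiff.1 hc
    have hd' := Finset.mem_sdiff.1 hd
    have hca : c ≠ a ∧ c ≠ b := by
      have := hc'.2; simpa using this
    have hda : d ≠ a ∧ d ≠ b := by
      have := hd'.2; simpa using this
    refine orth_A2 hab hca.1.symm hda.1.symm hca.2.symm hda.2.symm hcd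
      (sv2_mem hs hW hev) hn h1 ?_
    rcases sv_val_mem 2 (W := W) hc'.1 with h | h
    · left; exact ⟨h, by rw [← hcdv, h]⟩
    · right; exact ⟨h, by rw [← hcdv, h]⟩
  · exfalso
    have := ov_odd C k a
    rcases h1 with ⟨p1, p2⟩ | ⟨p1, p2⟩ <;> omega

theorem orth_A1core {a b c d : GolayPt} (hab : a ≠ b) (hac : a ≠ c) (had : a ≠ d) (hbc : b ≠ c)
    (hbd : b ≠ d) (hcd : c ≠ d) {w : GolayPt → ℤ} (hw : w ∈ leechLattice)
    (hn : sqNorm w = 32) (ha0 : w a = 0) (hb0 : w b = 0)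
    (h2 : (w c = 2 ∧ w d = -2) ∨ (w c = -2 ∧ w d = 2)) :
    ConnP (P44 a b) w (P44 none (some 0)) (D44 none (some 0)) := by
  obtain ⟨w', hc, -, -, e3, e4⟩ := connP_xi44 hab hac had hbc hbd hcd hw
  rw [ha0, hb0] at e3 e4
  refine hc.trans (orth_A2gen hcd hc.mem_right2 (by rw [hc.sqNorm_eq2, hn]) ?_)
  rcases h2 with ⟨q1, q2⟩ | ⟨q1, q2⟩
  · right; rw [q1, q2] at e3 e4; constructor <;> omega
  · left; rw [q1, q2] at e3 e4; constructor <;> omega

theorem orth_A1gen {a b c d : GolayPt} (hab : a ≠ b) (hac : a ≠ c) (had : a ≠ d) (hbc : b ≠ c)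
    (hbd : b ≠ d) (hcd : c ≠ d) {w : GolayPt → ℤ} (hw : w ∈ leechLattice)
    (hn : sqNorm w = 32) (ha0 : w a = 0) (hb0 : w b = 0)
    (h1 : w c = 2 ∨ w c = -2) (h2 : w d = 2 ∨ w d = -2) :
    ConnP (P44 a b) w (P44 none (some 0)) (D44 none (some 0)) := by
  classical
  by_cases hopp : (w c = 2 ∧ w d = -2) ∨ (w c = -2 ∧ w d = 2)
  · exact orth_A1core hab hac had hbc hbd hcd hw hn ha0 hb0 hopp
  · have hdA : d ∉ ({a, b, c} : Finset GolayPt) := by
      simp [had.symm, hbd.symm, hcd.symm]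
    have hA : ({a, b, c} : Finset GolayPt).card ≤ 4 := by
      have := Finset.card_le_three (a := a) (b := b) (c := c)
      omega
    obtain ⟨C, hC, hdC, hCA⟩ := exists_octad_avoid hdA hA
    have haC : a ∉ C := hCA a (by simp)
    have hbC : b ∉ C := hCA b (by simp)
    have hcC : c ∉ C := hCA c (by simp)
    have hc := connP_sgn44 hab hw hC.1 haC hbC
    refine hc.trans (orth_A1core hab hac had hbc hbd hcd hc.mem_right2
      (by rw [hc.sqNorm_eq2, hn]) ?_ ?_ ?_)
    · unfold sgnVec; rw [if_neg haC, ha0]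
    · unfold sgnVec; rw [if_neg hbC, hb0]
    · unfold sgnVec
      rw [if_neg hcC, if_pos hdC]
      rcases h1 with h1 | h1 <;> rcases h2 with h2 | h2
      · left; exact ⟨h1, by rw [h2]⟩
      · exact absurd (Or.inl ⟨h1, h2⟩) hopp
      · exact absurd (Or.inr ⟨h1, h2⟩) hopp
      · right; exact ⟨h1, by rw [h2]; norm_num⟩

theorem orth_C {a b c d : GolayPt} (hab : a ≠ b) (hac : a ≠ c) (had : a ≠ d) (hbc : b ≠ c)
    (hbd : b ≠ d) (hcd : c ≠ d) {w : GolayPt → ℤ} (hw : w ∈ leechLattice)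
    (hn : sqNorm w = 32) (h1 : (w a = 1 ∧ w b = -1) ∨ (w a = -1 ∧ w b = 1))
    (h2 : (w c = 1 ∧ w d = 1) ∨ (w c = -1 ∧ w d = -1)) :
    ConnP (P44 a b) w (P44 none (some 0)) (D44 none (some 0)) := by
  classical
  obtain ⟨w', hc, e1, e2, e3, e4⟩ := connP_xi44 hab hac had hbc hbd hcd hw
  have hn' : sqNorm w' = 32 := by rw [hc.sqNorm_eq2, hn]
  have hw' := hc.mem_right2
  have hc0 : w' c = 0 := by
    rcases h1 with ⟨p1, p2⟩ | ⟨p1, p2⟩ <;> rcases h2 with ⟨q1, q2⟩ | ⟨q1, q2⟩ <;>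
      rw [p1, p2, q1, q2] at e3 <;> omega
  have hd0 : w' d = 0 := by
    rcases h1 with ⟨p1, p2⟩ | ⟨p1, p2⟩ <;> rcases h2 with ⟨q1, q2⟩ | ⟨q1, q2⟩ <;>
      rw [p1, p2, q1, q2] at e4 <;> omega
  have hx : ∃ x, w' x = 2 ∨ w' x = -2 := by
    rcases h1 with ⟨p1, p2⟩ | ⟨p1, p2⟩ <;> rcases h2 with ⟨q1, q2⟩ | ⟨q1, q2⟩ <;>
      rw [p1, p2, q1, q2] at e1 e2
    · exact ⟨b, Or.inl (by omega)⟩
    · exact ⟨a, Or.inr (by omega)⟩
    · exact ⟨a, Or.inl (by omega)⟩
    · exact ⟨b, Or.inr (by omega)⟩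
  obtain ⟨x, hx2⟩ := hx
  rcases (leech_minimal_iff w').1 ⟨hw', hn'⟩ with ⟨s, W, hs, hW, hw'e⟩ |
    ⟨s, W, hs, hW, hev, hw'e⟩ | ⟨C, k, hC, hw'e⟩
  · exfalso
    have h4 := sv4_mod4 s W x
    rw [← hw'e] at h4
    omega
  · have hcs : c ∉ s := by
      intro h
      have := sv_val_mem 2 (W := W) h
      rw [← hw'e, hc0] at this
      omega
    have hds : d ∉ s := by
      intro h
      have := sv_val_mem 2 (W := W) h
      rw [← hw'e, hd0] at this
      omega
    have h2' : 1 < s.card := by rw [hs.2]; norm_num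
    obtain ⟨y, hy, z, hz, hyz⟩ := Finset.one_lt_card.1 h2'
    have hyv : w' y = 2 ∨ w' y = -2 := by rw [hw'e]; exact sv_val_mem 2 hy
    have hzv : w' z = 2 ∨ w' z = -2 := by rw [hw'e]; exact sv_val_mem 2 hz
    have hyc : y ≠ c := fun h => hcs (h ▸ hy)
    have hyd : y ≠ d := fun h => hds (h ▸ hy)
    have hzc : z ≠ c := fun h => hcs (h ▸ hz)
    have hzd : z ≠ d := fun h => hds (h ▸ hz)
    exact hc.trans (orth_A1gen hcd hyc.symm hzc.symm hyd.symm hzd.symm hyz hw' hn' hc0 hd0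
      hyv hzv)
  · exfalso
    have := ov_odd C k c
    rw [← hw'e, hc0] at this
    omega

/-- all ordered pairs of orthogonal minimal vectors are connected to the standard one -/
theorem connP_orth {v w : GolayPt → ℤ} (hv : v ∈ leechLattice) (hvn : sqNorm v = 32)
    (hw : w ∈ leechLattice) (hwn : sqNorm w = 32) (hd : dotInt v w = 0) :
    ConnP v w (P44 none (some 0)) (D44 none (some 0)) := by
  classical
  obtain ⟨w1, hc⟩ := connP_normalize hv hvn hw
  have hpq : (none : GolayPt) ≠ some 0 := by decide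
  have hw1 := hc.mem_right2
  have hn1 : sqNorm w1 = 32 := by rw [hc.sqNorm_eq2, hwn]
  have hdot : w1 none + w1 (some 0) = 0 := by
    have h := hc.dot_eq
    rw [hd, dot_P44 hpq] at h
    omega
  refine hc.trans ?_
  rcases (leech_minimal_iff w1).1 ⟨hw1, hn1⟩ with ⟨s, W, hs, hW, he⟩ | ⟨s, W, hs, hW, hev, he⟩ |
    ⟨C, k, hC, he⟩
  · -- type B
    by_cases hps : (none : GolayPt) ∈ s
    · have h1 : w1 none = 4 ∨ w1 none = -4 := by rw [he]; exact sv_val_mem 4 hps
      have h2 : w1 (some 0) = 4 ∨ w1 (some 0) = -4 := by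
        rcases h1 with h | h <;> [right; left] <;> omega
      apply orth_B1 hpq hw1 hn1
      rcases h1 with h | h
      · left; exact ⟨h, by omega⟩
      · right; exact ⟨h, by omega⟩
    · have hp0 : w1 none = 0 := by rw [he]; exact sv_notMem hW hps
      have hqs : (some 0 : GolayPt) ∉ s := by
        intro h
        have := sv_val_mem 4 (W := W) h
        rw [← he] at this
        omega
      obtain ⟨c, d, hcd, rfl⟩ := Finset.card_eq_two.1 hs
      have hcv : w1 c = 4 ∨ w1 c = -4 := by rw [he]; exact sv_val_mem 4 (by simp)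
      have hdv : w1 d = 4 ∨ w1 d = -4 := by rw [he]; exact sv_val_mem 4 (by simp)
      have hpc : (none : GolayPt) ≠ c := fun h => hps (by rw [h]; simp)
      have hpd : (none : GolayPt) ≠ d := fun h => hps (by rw [h]; simp)
      have hqc : (some 0 : GolayPt) ≠ c := fun h => hqs (by rw [h]; simp)
      have hqd : (some 0 : GolayPt) ≠ d := fun h => hqs (by rw [h]; simp)
      exact orth_B2 hpq hpc hpd hqc hqd hcd hw1 hn1 hcv hdv
  · -- type A
    by_cases hps : (none : GolayPt) ∈ s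
    · have h1 : w1 none = 2 ∨ w1 none = -2 := by rw [he]; exact sv_val_mem 2 hps
      apply orth_A2gen hpq hw1 hn1
      rcases h1 with h | h
      · left; exact ⟨h, by omega⟩
      · right; exact ⟨h, by omega⟩
    · have hp0 : w1 none = 0 := by rw [he]; exact sv_notMem hW hps
      have hq0 : w1 (some 0) = 0 := by omega
      have hqs : (some 0 : GolayPt) ∉ s := by
        intro h
        have := sv_val_mem 2 (W := W) h
        rw [← he] at this
        omega
      have h2' : 1 < s.card := by rw [hs.2]; norm_num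
      obtain ⟨y, hy, z, hz, hyz⟩ := Finset.one_lt_card.1 h2'
      have hyv : w1 y = 2 ∨ w1 y = -2 := by rw [he]; exact sv_val_mem 2 hy
      have hzv : w1 z = 2 ∨ w1 z = -2 := by rw [he]; exact sv_val_mem 2 hz
      have hyp : (none : GolayPt) ≠ y := fun h => hps (h ▸ hy)
      have hzp : (none : GolayPt) ≠ z := fun h => hps (h ▸ hz)
      have hyq : (some 0 : GolayPt) ≠ y := fun h => hqs (h ▸ hy)
      have hzq : (some 0 : GolayPt) ≠ z := fun h => hqs (h ▸ hz)
      exact orth_A1gen hpq hyp hzp hyq hzq hyz hw1 hn1 hp0 hq0 hyv hzv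
  · -- type C
    have hpk : (none : GolayPt) ≠ k := by
      intro h
      have h1 := (ov_val C k none).1 h
      have h2 := ov_odd C k (some 0)
      have h3 : (some 0 : GolayPt) ≠ k := fun h' => hpq (h.trans h'.symm)
      have h4 := (ov_val C k (some 0)).2 h3
      rw [← he] at h1 h4
      omega
    have hqk : (some 0 : GolayPt) ≠ k := by
      intro h
      have h1 := (ov_val C k (some 0)).1 h
      have h4 := (ov_val C k none).2 hpk
      rw [← he] at h1 h4
      omega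
    have h1 := (ov_val C k none).2 hpk
    have h2 := (ov_val C k (some 0)).2 hqk
    rw [← he] at h1 h2
    have hcard : 3 ≤ ((Finset.univ : Finset GolayPt) \ {none, some 0, k}).card := by
      rw [Finset.card_sdiff_of_subset (Finset.subset_univ _), Finset.card_univ, card_golayPt]
      have := Finset.card_le_three (a := (none : GolayPt)) (b := some 0) (c := k)
      omega
    obtain ⟨c, hc', d, hd', hcd, hcdv⟩ := exists_pair_same hcard w1 1 (fun i hi => by
      have hi' := (Finset.mem_sdiff.1 hi).2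
      have hik : i ≠ k := fun h => hi' (by rw [h]; simp)
      have := (ov_val C k i).2 hik
      rw [← he] at this
      exact this)
    have hc2 := (Finset.mem_sdiff.1 hc').2
    have hd2 := (Finset.mem_sdiff.1 hd').2
    have hcp : (none : GolayPt) ≠ c := fun h => hc2 (by rw [← h]; simp)
    have hcq : (some 0 : GolayPt) ≠ c := fun h => hc2 (by rw [← h]; simp)
    have hck : c ≠ k := fun h => hc2 (by rw [h]; simp)
    have hdp : (none : GolayPt) ≠ d := fun h => hd2 (by rw [← h]; simp)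
    have hdq : (some 0 : GolayPt) ≠ d := fun h => hd2 (by rw [← h]; simp)
    have hcv := (ov_val C k c).2 hck
    rw [← he] at hcv
    apply orth_C hpq hcp hdp hcq hdq hcd hw1 hn1
    · rcases h1 with h | h
      · left; exact ⟨h, by omega⟩
      · right; exact ⟨h, by omega⟩
    · rcases hcv with h | h
      · left; exact ⟨h, by rw [← hcdv, h]⟩
      · right; exact ⟨h, by rw [← hcdv, h]⟩

end Cfsg.Agent.Lib.Helper3
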