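import Mathlib
import Cfsg.Prelude.Def_Sporadic_a
import Cfsg.Agent.Lib.Helper3.Co0PairOrth

set_option autoImplicit false

/-!
Helper library (helper3): `Co0` is transitive on ordered pairs of minimal vectors with inner
product `-16` (customary `-2`) and on those with inner product `-8` (customary `-1`).
-/

namespace Cfsg.Agent.Lib.Helper3

open Cfsg Cfsg.Agent.Lib.Helper21

/-- `(-4, 0, 4, 0, …)`: `-4` at `none`, `4` at `some 1` -/
def W2c : GolayPt → ℤ := fun i => if i = none then -4 else if i = some 1 then 4 else 0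

/-- `(3, -1^23)` with the `3` at `some 1` -/
def W1c : GolayPt → ℤ := fun i => if i = some 1 then 3 else -1

/-! ### inner product `-16` -/

theorem m2_B' {x y k : GolayPt} (hxy : x ≠ y) (hxk : x ≠ k) (hyk : y ≠ k) {w : GolayPt → ℤ}
    (hw : w ∈ leechLattice) (hn : sqNorm w = 32) (hx : w x = -4) (hk : w k = 4) :
    ConnP (P44 x y) w (P44 none (some 0)) W2c := by
  have h0 : ∀ i, i ≠ x → i ≠ k → w i = 0 := by
    apply zero_off_pair hxk
    rw [hn, hx, hk]; norm_num
  obtain ⟨σ, hσ, e1, e2, e3⟩ := M24_three_trans (a := (none : GolayPt)) (b := some 0)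
    (c := some 1) (a' := x) (b' := y) (c' := k) (by decide) (by decide) (by decide) hxy hxk hyk
  have hc := connP_perm44 hxy hw hσ e1 e2
  have : (fun i => w (σ i)) = W2c := by
    funext i
    unfold W2c
    by_cases hi1 : i = none
    · rw [if_pos hi1, hi1, e1, hx]
    · rw [if_neg hi1]
      by_cases hi2 : i = some 1
      · rw [if_pos hi2, hi2, e3, hk]
      · rw [if_neg hi2]
        apply h0
        · intro h; apply hi1; apply σ.injective; rw [h, e1]
        · intro h; apply hi2; apply σ.injective; rw [h, e3]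
  rw [this] at hc
  exact hc

theorem m2_B {x y k : GolayPt} (hxy : x ≠ y) (hxk : x ≠ k) (hyk : y ≠ k) {w : GolayPt → ℤ}
    (hw : w ∈ leechLattice) (hn : sqNorm w = 32) (hx : w x = -4) (hk : w k = 4 ∨ w k = -4) :
    ConnP (P44 x y) w (P44 none (some 0)) W2c := by
  classical
  rcases hk with hk | hk
  · exact m2_B' hxy hxk hyk hw hn hx hk
  · have hkA : k ∉ ({x, y} : Finset GolayPt) := by simp [hxk.symm, hyk.symm]
    have hA : ({x, y} : Finset GolayPt).card ≤ 4 := by
      have := Finset.card_le_two (a := x) (b := y)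
      omega
    obtain ⟨C, hC, hkC, hCA⟩ := exists_octad_avoid hkA hA
    have hxC : x ∉ C := hCA x (by simp)
    have hyC : y ∉ C := hCA y (by simp)
    have hc := connP_sgn44 hxy hw hC.1 hxC hyC
    refine hc.trans (m2_B' hxy hxk hyk hc.mem_right2 (by rw [hc.sqNorm_eq2, hn]) ?_ ?_)
    · unfold sgnVec; rw [if_neg hxC, hx]
    · unfold sgnVec; rw [if_pos hkC, hk]; norm_num

theorem m2_B_any {a b : GolayPt} (hab : a ≠ b) {w : GolayPt → ℤ} (hw : w ∈ leechLattice)
    (hn : sqNorm w = 32) (hsum : w a + w b = -4) {x : GolayPt} (hx : w x = 4 ∨ w x = -4) :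
    ConnP (P44 a b) w (P44 none (some 0)) W2c := by
  obtain ⟨y, hyx, hy, h0⟩ := typeB_of_coord4 hw hn hx
  have hvals : ∀ i, w i = 0 ∨ w i = 4 ∨ w i = -4 := by
    intro i
    by_cases h1 : i = x
    · rw [h1]; tauto
    · by_cases h2 : i = y
      · rw [h2]; tauto
      · left; exact h0 i h1 h2
  have hcase : (w a = -4 ∧ w b = 0) ∨ (w a = 0 ∧ w b = -4) := by
    rcases hvals a with h1 | h1 | h1 <;> rcases hvals b with h2 | h2 | h2 <;> omega
  -- the other nonzero coordinate
  have hother : ∀ z, (w z = 4 ∨ w z = -4) → z = x ∨ z = y := by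
    intro z hz
    by_contra hcon
    push Not at hcon
    have := h0 z hcon.1 hcon.2
    omega
  rcases hcase with ⟨h1, h2⟩ | ⟨h1, h2⟩
  · have hax := hother a (Or.inr h1)
    obtain ⟨k, hka, hk4⟩ : ∃ k, k ≠ a ∧ (w k = 4 ∨ w k = -4) := by
      rcases hax with rfl | rfl
      · exact ⟨y, hyx, hy⟩
      · exact ⟨x, hyx.symm, hx⟩
    have hkb : k ≠ b := by rintro rfl; omega
    exact m2_B hab hka.symm hkb.symm hw hn h1 hk4
  · have hbx := hother b (Or.inr h2)
    obtain ⟨k, hkb, hk4⟩ : ∃ k, k ≠ b ∧ (w k = 4 ∨ w k = -4) := by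
      rcases hbx with rfl | rfl
      · exact ⟨y, hyx, hy⟩
      · exact ⟨x, hyx.symm, hx⟩
    have hka : k ≠ a := by rintro rfl; omega
    rw [P44_comm]
    exact m2_B hab.symm hkb.symm hka.symm hw hn h2 hk4

theorem m2_A_core {a b c d : GolayPt} (hab : a ≠ b) (hac : a ≠ c) (had : a ≠ d) (hbc : b ≠ c)
    (hbd : b ≠ d) (hcd : c ≠ d) {w : GolayPt → ℤ} (hw : w ∈ leechLattice)
    (hn : sqNorm w = 32) (ha : w a = -2) (hb : w b = -2) (hc : w c = -2) (hd : w d = 2) :
    ConnP (P44 a b) w (P44 none (some 0)) W2c := by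
  obtain ⟨w', hconn, -, -, e3, e4⟩ := connP_xi44 hab hac had hbc hbd hcd hw
  rw [ha, hb, hc, hd] at e3 e4
  have h3 : w' c = 0 := by omega
  have h4 : w' d = -4 := by omega
  exact hconn.trans (m2_B_any hcd hconn.mem_right2 (by rw [hconn.sqNorm_eq2, hn])
    (by rw [h3, h4]; norm_num) (Or.inr h4))

theorem m2_A' {a b k k' : GolayPt} (hab : a ≠ b) (hak : a ≠ k) (hak' : a ≠ k') (hbk : b ≠ k)
    (hbk' : b ≠ k') (hkk' : k ≠ k') {w : GolayPt → ℤ} (hw : w ∈ leechLattice)
    (hn : sqNorm w = 32) (ha : w a = -2) (hb : w b = -2) (hk : w k = 2 ∨ w k = -2)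
    (hk' : w k' = 2 ∨ w k' = -2) : ConnP (P44 a b) w (P44 none (some 0)) W2c := by
  classical
  rcases hk with hk | hk <;> rcases hk' with hk' | hk'
  · -- both `+2`: flip `k`
    have hkA : k ∉ ({a, b, k'} : Finset GolayPt) := by simp [hak.symm, hbk.symm, hkk']
    have hA : ({a, b, k'} : Finset GolayPt).card ≤ 4 := by
      have := Finset.card_le_three (a := a) (b := b) (c := k')
      omega
    obtain ⟨C, hC, hkC, hCA⟩ := exists_octad_avoid hkA hA
    have haC : a ∉ C := hCA a (by simp)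
    have hbC : b ∉ C := hCA b (by simp)
    have hk'C : k' ∉ C := hCA k' (by simp)
    have hc := connP_sgn44 hab hw hC.1 haC hbC
    refine hc.trans (m2_A_core hab hak hak' hbk hbk' hkk' hc.mem_right2
      (by rw [hc.sqNorm_eq2, hn]) ?_ ?_ ?_ ?_)
    · unfold sgnVec; rw [if_neg haC, ha]
    · unfold sgnVec; rw [if_neg hbC, hb]
    · unfold sgnVec; rw [if_pos hkC, hk]
    · unfold sgnVec; rw [if_neg hk'C, hk']
  · exact m2_A_core hab hak' hak hbk' hbk hkk'.symm hw hn ha hb hk' hk
  · exact m2_A_core hab hak hak' hbk hbk' hkk' hw hn ha hb hk hk'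
  · -- both `-2`: flip `k'`
    have hkA : k' ∉ ({a, b, k} : Finset GolayPt) := by simp [hak'.symm, hbk'.symm, hkk'.symm]
    have hA : ({a, b, k} : Finset GolayPt).card ≤ 4 := by
      have := Finset.card_le_three (a := a) (b := b) (c := k)
      omega
    obtain ⟨C, hC, hkC, hCA⟩ := exists_octad_avoid hkA hA
    have haC : a ∉ C := hCA a (by simp)
    have hbC : b ∉ C := hCA b (by simp)
    have hk'C : k ∉ C := hCA k (by simp)
    have hc := connP_sgn44 hab hw hC.1 haC hbC
    refine hc.trans (m2_A_core hab hak hak' hbk hbk' hkk' hc.mem_right2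
      (by rw [hc.sqNorm_eq2, hn]) ?_ ?_ ?_ ?_)
    · unfold sgnVec; rw [if_neg haC, ha]
    · unfold sgnVec; rw [if_neg hbC, hb]
    · unfold sgnVec; rw [if_neg hk'C, hk]
    · unfold sgnVec; rw [if_pos hkC, hk']; norm_num

theorem m2_A_gen {a b : GolayPt} (hab : a ≠ b) {w : GolayPt → ℤ} (hw : w ∈ leechLattice)
    (hn : sqNorm w = 32) (ha : w a = -2) (hb : w b = -2) :
    ConnP (P44 a b) w (P44 none (some 0)) W2c := by
  classical
  rcases (leech_minimal_iff w).1 ⟨hw, hn⟩ with ⟨s, W, hs, hW, rfl⟩ | ⟨s, W, hs, hW, hev, rfl⟩ |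
    ⟨C, k, hC, rfl⟩
  · exfalso
    have h4 := sv4_mod4 s W a
    omega
  · have has : a ∈ s := by
      by_contra h
      rw [sv_notMem hW h] at ha
      omega
    have hbs : b ∈ s := by
      by_contra h
      rw [sv_notMem hW h] at hb
      omega
    have hsub : ({a, b} : Finset GolayPt) ⊆ s := by
      intro i hi
      rcases Finset.mem_insert.1 hi with rfl | hi
      · exact has
      · rw [Finset.mem_singleton.1 hi]; exact hbs
    have hcard : 1 < (s \ {a, b}).card := by
      rw [Finset.card_sdiff_of_subset hsub, hs.2, Finset.card_pair hab]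
      norm_num
    obtain ⟨k, hk, k', hk', hkk'⟩ := Finset.one_lt_card.1 hcard
    have hk2 := Finset.mem_sdiff.1 hk
    have hk2' := Finset.mem_sdiff.1 hk'
    have hka : k ≠ a ∧ k ≠ b := by have := hk2.2; simpa using this
    have hka' : k' ≠ a ∧ k' ≠ b := by have := hk2'.2; simpa using this
    exact m2_A' hab hka.1.symm hka'.1.symm hka.2.symm hka'.2.symm hkk' (sv2_mem hs hW hev) hn
      ha hb (sv_val_mem 2 hk2.1) (sv_val_mem 2 hk2'.1)
  · exfalso
    have := ov_odd C k a
    omega

theorem m2_C {a b c d : GolayPt} (hab : a ≠ b) (hac : a ≠ c) (had : a ≠ d) (hbc : b ≠ c)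
    (hbd : b ≠ d) (hcd : c ≠ d) {w : GolayPt → ℤ} (hw : w ∈ leechLattice)
    (hn : sqNorm w = 32) (hsum : w a + w b = -4)
    (h2 : (w c = 1 ∧ w d = 1) ∨ (w c = -1 ∧ w d = -1)) :
    ConnP (P44 a b) w (P44 none (some 0)) W2c := by
  obtain ⟨w', hconn, -, -, e3, e4⟩ := connP_xi44 hab hac had hbc hbd hcd hw
  have h3 : w' c = -2 := by rcases h2 with ⟨q1, q2⟩ | ⟨q1, q2⟩ <;> omega
  have h4 : w' d = -2 := by rcases h2 with ⟨q1, q2⟩ | ⟨q1, q2⟩ <;> omega
  exact hconn.trans (m2_A_gen hcd hconn.mem_right2 (by rw [hconn.sqNorm_eq2, hn]) h3 h4)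

/-- all ordered pairs of minimal vectors with inner product `-16` are connected to the standard
one -/
theorem connP_m2 {v w : GolayPt → ℤ} (hv : v ∈ leechLattice) (hvn : sqNorm v = 32)
    (hw : w ∈ leechLattice) (hwn : sqNorm w = 32) (hd : dotInt v w = -16) :
    ConnP v w (P44 none (some 0)) W2c := by
  classical
  obtain ⟨w1, hc⟩ := connP_normalize hv hvn hw
  have hpq : (none : GolayPt) ≠ some 0 := by decide
  have hw1 := hc.mem_right2
  have hn1 : sqNorm w1 = 32 := by rw [hc.sqNorm_eq2, hwn]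
  have hdot : w1 none + w1 (some 0) = -4 := by
    have h := hc.dot_eq
    rw [hd, dot_P44 hpq] at h
    omega
  refine hc.trans ?_
  rcases (leech_minimal_iff w1).1 ⟨hw1, hn1⟩ with ⟨s, W, hs, hW, he⟩ | ⟨s, W, hs, hW, hev, he⟩ |
    ⟨C, k, hC, he⟩
  · have hne : s.Nonempty := by rw [← Finset.card_pos, hs]; norm_num
    obtain ⟨x, hx⟩ := hne
    have hx4 : w1 x = 4 ∨ w1 x = -4 := by rw [he]; exact sv_val_mem 4 hx
    exact m2_B_any hpq hw1 hn1 hdot hx4
  · have h1 : w1 none = 0 ∨ w1 none = 2 ∨ w1 none = -2 := by rw [he]; exact sv2_vals s W none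
    have h2 : w1 (some 0) = 0 ∨ w1 (some 0) = 2 ∨ w1 (some 0) = -2 := by
      rw [he]; exact sv2_vals s W (some 0)
    exact m2_A_gen hpq hw1 hn1 (by omega) (by omega)
  · have hcard : 3 ≤ ((Finset.univ : Finset GolayPt) \ {none, some 0, k}).card := by
      rw [Finset.card_sdiff_of_subset (Finset.subset_univ _), Finset.card_univ, card_golayPt]
      have := Finset.card_le_three (a := (none : GolayPt)) (b := some 0) (c := k)
      omega
    obtain ⟨c, hc', d, hd', hcd, hcdv⟩ := exists_pair_same hcard w1 1 (fun i hi => by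
      have hi' := (Finset.mem_sdiff.1 hi).2
      have hik : i ≠ k := fun h => hi' (by rw [h]; simp)
      have := (ov_val C k i).2 hik
      rw [← he] at this
      exact this)
    have hc2 := (Finset.mem_sdiff.1 hc').2
    have hd2 := (Finset.mem_sdiff.1 hd').2
    have hcp : (none : GolayPt) ≠ c := fun h => hc2 (by rw [← h]; simp)
    have hcq : (some 0 : GolayPt) ≠ c := fun h => hc2 (by rw [← h]; simp)
    have hck : c ≠ k := fun h => hc2 (by rw [h]; simp)
    have hdp : (none : GolayPt) ≠ d := fun h => hd2 (by rw [← h]; simp)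
    have hdq : (some 0 : GolayPt) ≠ d := fun h => hd2 (by rw [← h]; simp)
    have hcv := (ov_val C k c).2 hck
    rw [← he] at hcv
    apply m2_C hpq hcp hdp hcq hdq hcd hw1 hn1 hdot
    rcases hcv with h | h
    · left; exact ⟨h, by rw [← hcdv, h]⟩
    · right; exact ⟨h, by rw [← hcdv, h]⟩

/-! ### inner product `-8` -/

theorem sgnVec_ov_self (C : Finset GolayPt) (j : GolayPt) : sgnVec C (ov C j) = ov ∅ j := by
  funext i
  unfold sgnVec ov
  by_cases hij : i = j
  · subst hij
    by_cases hiC : i ∈ C <;> simp [hiC]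
  · by_cases hiC : i ∈ C <;> simp [hij, hiC]

theorem m1_C11 {a b : GolayPt} (hab : a ≠ b) {w : GolayPt → ℤ} (hw : w ∈ leechLattice)
    (hn : sqNorm w = 32) (ha : w a = -1) (hb : w b = -1) :
    ConnP (P44 a b) w (P44 none (some 0)) W1c := by
  classical
  rcases (leech_minimal_iff w).1 ⟨hw, hn⟩ with ⟨s, W, hs, hW, rfl⟩ | ⟨s, W, hs, hW, hev, rfl⟩ |
    ⟨C, j, hC, rfl⟩
  · exfalso
    have h4 := sv4_mod4 s W a
    omega
  · exfalso
    have := sv_even 2 (by norm_num) s W a
    omega
  · have haj : a ≠ j := by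
      intro h
      have := (ov_val C j a).1 h
      omega
    have hbj : b ≠ j := by
      intro h
      have := (ov_val C j b).1 h
      omega
    have haC : a ∉ C := by
      intro h
      unfold ov at ha
      rw [if_neg haj, if_pos h] at ha
      omega
    have hbC : b ∉ C := by
      intro h
      unfold ov at hb
      rw [if_neg hbj, if_pos h] at hb
      omega
    have hc := connP_sgn44 hab hw hC haC hbC
    rw [sgnVec_ov_self] at hc
    obtain ⟨σ, hσ, e1, e2, e3⟩ := M24_three_trans (a := (none : GolayPt)) (b := some 0)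
      (c := some 1) (a' := a) (b' := b) (c' := j) (by decide) (by decide) (by decide)
      hab haj hbj
    have hc2 := connP_perm44 hab hc.mem_right2 hσ e1 e2
    have : (fun i => ov ∅ j (σ i)) = W1c := by
      funext i
      unfold ov W1c
      by_cases hi : i = some 1
      · rw [if_pos hi, hi, e3]; simp
      · have : σ i ≠ j := by
          intro h; apply hi; apply σ.injective; rw [h, e3]
        rw [if_neg hi, if_neg this]; simp
    rw [this] at hc2
    exact hc.trans hc2

theorem m1_A {a b c d : GolayPt} (hab : a ≠ b) (hac : a ≠ c) (had : a ≠ d) (hbc : b ≠ c)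
    (hbd : b ≠ d) (hcd : c ≠ d) {w : GolayPt → ℤ} (hw : w ∈ leechLattice)
    (hn : sqNorm w = 32) (hsum : w a + w b = -2) (hc0 : w c = 0) (hd0 : w d = 0) :
    ConnP (P44 a b) w (P44 none (some 0)) W1c := by
  obtain ⟨w', hconn, -, -, e3, e4⟩ := connP_xi44 hab hac had hbc hbd hcd hw
  have h3 : w' c = -1 := by omega
  have h4 : w' d = -1 := by omega
  exact hconn.trans (m1_C11 hcd hconn.mem_right2 (by rw [hconn.sqNorm_eq2, hn]) h3 h4)

theorem m1_A_gen {a b : GolayPt} (hab : a ≠ b) {w : GolayPt → ℤ} (hw : w ∈ leechLattice)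
    (hn : sqNorm w = 32) (hsum : w a + w b = -2) (hev : ∀ i, w i % 2 = 0) :
    ConnP (P44 a b) w (P44 none (some 0)) W1c := by
  classical
  rcases (leech_minimal_iff w).1 ⟨hw, hn⟩ with ⟨s, W, hs, hW, rfl⟩ | ⟨s, W, hs, hW, hev', rfl⟩ |
    ⟨C, k, hC, rfl⟩
  · exfalso
    have h4 := sv4_mod4 s W a
    have h5 := sv4_mod4 s W b
    omega
  · have hcard : 1 < ((Finset.univ : Finset GolayPt) \ (s ∪ {a, b})).card := by
      rw [Finset.card_sdiff_of_subset (Finset.subset_univ _), Finset.card_univ, card_golayPt]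
      have h1 := Finset.card_union_le s {a, b}
      have h2 := Finset.card_le_two (a := a) (b := b)
      rw [hs.2] at h1
      omega
    obtain ⟨c, hc, d, hd, hcd⟩ := Finset.one_lt_card.1 hcard
    have hc2 := (Finset.mem_sdiff.1 hc).2
    have hd2 := (Finset.mem_sdiff.1 hd).2
    rw [Finset.mem_union, not_or] at hc2 hd2
    have hca : c ≠ a ∧ c ≠ b := by have := hc2.2; simpa using this
    have hda : d ≠ a ∧ d ≠ b := by have := hd2.2; simpa using this
    exact m1_A hab hca.1.symm hda.1.symm hca.2.symm hda.2.symm hcd (sv2_mem hs hW hev') hn hsum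
      (sv_notMem hW hc2.1) (sv_notMem hW hd2.1)
  · exfalso
    have := ov_odd C k a
    have := hev a
    omega

theorem m1_Cmix {a b c d : GolayPt} (hab : a ≠ b) (hac : a ≠ c) (had : a ≠ d) (hbc : b ≠ c)
    (hbd : b ≠ d) (hcd : c ≠ d) {w : GolayPt → ℤ} (hw : w ∈ leechLattice)
    (hn : sqNorm w = 32) (hsum : w a + w b = -2) (hc1 : w c = 1) (hd1 : w d = -1) :
    ConnP (P44 a b) w (P44 none (some 0)) W1c := by
  obtain ⟨w', hconn, -, -, e3, e4⟩ := connP_xi44 hab hac had hbc hbd hcd hw
  have h3 : w' c = -2 := by omega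
  have h4 : w' d = 0 := by omega
  have hw' := hconn.mem_right2
  have hev : ∀ i, w' i % 2 = 0 := by
    rcases parity_cases hw' with h | h
    · exact h
    · exfalso
      have := h d
      omega
  exact hconn.trans (m1_A_gen hcd hw' (by rw [hconn.sqNorm_eq2, hn]) (by rw [h3, h4]; norm_num)
    hev)

theorem m1_C3 {a b x x' : GolayPt} (hab : a ≠ b) (hax : a ≠ x) (hax' : a ≠ x') (hbx : b ≠ x)
    (hbx' : b ≠ x') (hxx' : x ≠ x') {w : GolayPt → ℤ} (hw : w ∈ leechLattice)
    (hn : sqNorm w = 32) (hsum : w a + w b = -2) (hx : w x = 1 ∨ w x = -1)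
    (hx' : w x' = 1 ∨ w x' = -1) : ConnP (P44 a b) w (P44 none (some 0)) W1c := by
  classical
  rcases hx with hx | hx <;> rcases hx' with hx' | hx'
  · -- both `+1`: flip `x'`
    have hkA : x' ∉ ({a, b, x} : Finset GolayPt) := by simp [hax'.symm, hbx'.symm, hxx'.symm]
    have hA : ({a, b, x} : Finset GolayPt).card ≤ 4 := by
      have := Finset.card_le_three (a := a) (b := b) (c := x)
      omega
    obtain ⟨C, hC, hkC, hCA⟩ := exists_octad_avoid hkA hA
    have haC : a ∉ C := hCA a (by simp)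
    have hbC : b ∉ C := hCA b (by simp)
    have hxC : x ∉ C := hCA x (by simp)
    have hc := connP_sgn44 hab hw hC.1 haC hbC
    refine hc.trans (m1_Cmix hab hax hax' hbx hbx' hxx' hc.mem_right2
      (by rw [hc.sqNorm_eq2, hn]) ?_ ?_ ?_)
    · unfold sgnVec; rw [if_neg haC, if_neg hbC]; exact hsum
    · unfold sgnVec; rw [if_neg hxC, hx]
    · unfold sgnVec; rw [if_pos hkC, hx']
  · exact m1_Cmix hab hax hax' hbx hbx' hxx' hw hn hsum hx hx'
  · exact m1_Cmix hab hax' hax hbx' hbx hxx'.symm hw hn hsum hx' hx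
  · -- both `-1`: flip `x`
    have hkA : x ∉ ({a, b, x'} : Finset GolayPt) := by simp [hax.symm, hbx.symm, hxx']
    have hA : ({a, b, x'} : Finset GolayPt).card ≤ 4 := by
      have := Finset.card_le_three (a := a) (b := b) (c := x')
      omega
    obtain ⟨C, hC, hkC, hCA⟩ := exists_octad_avoid hkA hA
    have haC : a ∉ C := hCA a (by simp)
    have hbC : b ∉ C := hCA b (by simp)
    have hxC : x' ∉ C := hCA x' (by simp)
    have hc := connP_sgn44 hab hw hC.1 haC hbC
    refine hc.trans (m1_Cmix hab hax hax' hbx hbx' hxx' hc.mem_right2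
      (by rw [hc.sqNorm_eq2, hn]) ?_ ?_ ?_)
    · unfold sgnVec; rw [if_neg haC, if_neg hbC]; exact hsum
    · unfold sgnVec; rw [if_pos hkC, hx]; norm_num
    · unfold sgnVec; rw [if_neg hxC, hx']

/-- all ordered pairs of minimal vectors with inner product `-8` are connected to the standard
one -/
theorem connP_m1 {v w : GolayPt → ℤ} (hv : v ∈ leechLattice) (hvn : sqNorm v = 32)
    (hw : w ∈ leechLattice) (hwn : sqNorm w = 32) (hd : dotInt v w = -8) :
    ConnP v w (P44 none (some 0)) W1c := by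
  classical
  obtain ⟨w1, hc⟩ := connP_normalize hv hvn hw
  have hpq : (none : GolayPt) ≠ some 0 := by decide
  have hw1 := hc.mem_right2
  have hn1 : sqNorm w1 = 32 := by rw [hc.sqNorm_eq2, hwn]
  have hdot : w1 none + w1 (some 0) = -2 := by
    have h := hc.dot_eq
    rw [hd, dot_P44 hpq] at h
    omega
  refine hc.trans ?_
  rcases (leech_minimal_iff w1).1 ⟨hw1, hn1⟩ with ⟨s, W, hs, hW, he⟩ | ⟨s, W, hs, hW, hev, he⟩ |
    ⟨C, k, hC, he⟩
  · exfalso
    have h1 := sv4_mod4 s W none
    have h2 := sv4_mod4 s W (some 0)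
    rw [← he] at h1 h2
    omega
  · apply m1_A_gen hpq hw1 hn1 hdot
    intro i
    rw [he]
    exact sv_even 2 (by norm_num) s W i
  · have hcard : 1 < ((Finset.univ : Finset GolayPt) \ {none, some 0, k}).card := by
      rw [Finset.card_sdiff_of_subset (Finset.subset_univ _), Finset.card_univ, card_golayPt]
      have := Finset.card_le_three (a := (none : GolayPt)) (b := some 0) (c := k)
      omega
    obtain ⟨x, hx, x', hx', hxx'⟩ := Finset.one_lt_card.1 hcard
    have hx2 := (Finset.mem_sdiff.1 hx).2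
    have hx2' := (Finset.mem_sdiff.1 hx').2
    have hxp : (none : GolayPt) ≠ x := fun h => hx2 (by rw [← h]; simp)
    have hxq : (some 0 : GolayPt) ≠ x := fun h => hx2 (by rw [← h]; simp)
    have hxk : x ≠ k := fun h => hx2 (by rw [h]; simp)
    have hxp' : (none : GolayPt) ≠ x' := fun h => hx2' (by rw [← h]; simp)
    have hxq' : (some 0 : GolayPt) ≠ x' := fun h => hx2' (by rw [← h]; simp)
    have hxk' : x' ≠ k := fun h => hx2' (by rw [h]; simp)
    have hxv := (ov_val C k x).2 hxk
    have hxv' := (ov_val C k x').2 hxk'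
    rw [← he] at hxv hxv'
    exact m1_C3 hpq hxp hxp' hxq hxq' hxx' hw1 hn1 hdot hxv hxv'

end Cfsg.Agent.Lib.Helper3
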