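import Mathlib
import Cfsg.Prelude.Def_Sporadic_a
import Cfsg.Agent.Lib.Helper3.Co0PairOrth

set_option autoImplicit false

/-!
Helper library (helper3): `Co0` is transitive on pairs `(x, v)` with `x` minimal, `sqNorm v = 48`
and inner product `16` (customary `2`).  Every such pair is connected to
`(D44 none (some 0), p5 none)`.
-/

namespace Cfsg.Agent.Lib.Helper3

open Cfsg Cfsg.Agent.Lib.Helper21

theorem k2_G {a b : GolayPt} (hab : a ≠ b) {v : GolayPt → ℤ} (hv : v ∈ leechLattice)
    (hn : sqNorm v = 48) (ha : v a = 5) (hb : v b = -1) :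
    ConnP (P44 a b) v (D44 none (some 0)) (p5 none) := by
  classical
  rcases (leech_norm48_iff v).1 ⟨hv, hn⟩ with ⟨s, T, hs, hT, hev, rfl⟩ |
    ⟨s, T, k, c, hs, hT, hodd, hk, hc, rfl⟩ | ⟨C, J, hC, hJ, rfl⟩ | ⟨C, j, hC, rfl⟩
  · exfalso
    have := sv_even 2 (by norm_num) s T a
    omega
  · exfalso
    have := ev_even s T k (c := c) (by rcases hc with h | h <;> rw [h] <;> norm_num) a
    omega
  · exfalso
    have h1 := oddv_abs C (p3 J) a
    rw [ha] at h1
    unfold p3 at h1
    split_ifs at h1 <;> norm_num at h1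
  · have hja : j = a := by
      by_contra hne
      have h1 := oddv_abs C (p5 j) a
      rw [ha] at h1
      unfold p5 at h1
      rw [if_neg (fun h => hne h.symm)] at h1
      norm_num at h1
    subst hja
    have haC : j ∈ C := by
      rw [oddv_mod4 C (p5_odd j) j, ha]; norm_num
    have hbC : b ∉ C := by
      rw [oddv_mod4 C (p5_odd j) b, hb]; norm_num
    have hc1 := connP_sgn (P44_mem hab) hv (compl_mem_supports hC)
    have e1 : sgnVec Cᶜ (P44 j b) = D44 j b := by
      funext i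
      unfold sgnVec P44 D44
      by_cases h1 : i = j
      · subst h1; simp [haC]
      · by_cases h2 : i = b
        · subst h2; simp [hbC, h1]
        · by_cases h3 : i ∈ Cᶜ <;> simp [h1, h2, h3]
    have e2 : sgnVec Cᶜ (oddv C (p5 j)) = p5 j := by
      funext i
      unfold sgnVec oddv
      have h5 : p5 j i % 4 = 1 := by unfold p5; split_ifs <;> norm_num
      by_cases h3 : i ∈ C
      · simp [h3, h5]
      · simp [h3, h5]
    rw [e1, e2] at hc1
    obtain ⟨σ, hσ, s1, s2⟩ := M24_two_trans (i := some 0) (j := none) (i' := b) (j' := j)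
      (by decide) hab
    have hc2 := connP_perm hc1.mem_right1 hc1.mem_right2 hσ
    have e3 : (fun i => D44 j b (σ i)) = D44 none (some 0) := by
      funext i
      unfold D44
      have q1 : σ i = j ↔ i = none := by rw [← s1]; exact σ.injective.eq_iff
      have q2 : σ i = b ↔ i = some 0 := by rw [← s2]; exact σ.injective.eq_iff
      simp only [q1, q2]
    have e4 : (fun i => p5 j (σ i)) = p5 none := by
      funext i
      unfold p5
      have q1 : σ i = j ↔ i = none := by rw [← s1]; exact σ.injective.eq_iff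
      simp only [q1]
    rw [e3, e4] at hc2
    exact hc1.trans hc2

theorem k2_F' {a b c d : GolayPt} (hab : a ≠ b) (hac : a ≠ c) (had : a ≠ d) (hbc : b ≠ c)
    (hbd : b ≠ d) (hcd : c ≠ d) {v : GolayPt → ℤ} (hv : v ∈ leechLattice)
    (hn : sqNorm v = 48) (ha : v a = 3) (hb : v b = 1) (hc : v c = -3) (hd : v d = 3) :
    ConnP (P44 a b) v (D44 none (some 0)) (p5 none) := by
  obtain ⟨v', hconn, -, -, e3, e4⟩ := connP_xi44 hab hac had hbc hbd hcd hv
  rw [ha, hb, hc, hd] at e3 e4
  have h3 : v' c = 5 := by omega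
  have h4 : v' d = -1 := by omega
  exact hconn.trans (k2_G hcd hconn.mem_right2 (by rw [hconn.sqNorm_eq2, hn]) h3 h4)

/-- flip the sign of the coordinate `k`, keeping `a`, `b`, `k'` -/
theorem connP_flip {a b k k' : GolayPt} (hab : a ≠ b) (hak : a ≠ k) (hbk : b ≠ k) (hkk' : k ≠ k')
    {v : GolayPt → ℤ} (hv : v ∈ leechLattice) :
    ∃ v', ConnP (P44 a b) v (P44 a b) v' ∧ v' a = v a ∧ v' b = v b ∧ v' k = -v k ∧
      v' k' = v k' := by
  classical
  have hkA : k ∉ ({a, b, k'} : Finset GolayPt) := by simp [hak.symm, hbk.symm, hkk']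
  have hA : ({a, b, k'} : Finset GolayPt).card ≤ 4 := by
    have := Finset.card_le_three (a := a) (b := b) (c := k')
    omega
  obtain ⟨C, hC, hkC, hCA⟩ := exists_octad_avoid hkA hA
  have haC : a ∉ C := hCA a (by simp)
  have hbC : b ∉ C := hCA b (by simp)
  have hk'C : k' ∉ C := hCA k' (by simp)
  refine ⟨_, connP_sgn44 hab hv hC.1 haC hbC, ?_, ?_, ?_, ?_⟩
  · unfold sgnVec; rw [if_neg haC]
  · unfold sgnVec; rw [if_neg hbC]
  · unfold sgnVec; rw [if_pos hkC]
  · unfold sgnVec; rw [if_neg hk'C]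

theorem k2_F {a b c d : GolayPt} (hab : a ≠ b) (hac : a ≠ c) (had : a ≠ d) (hbc : b ≠ c)
    (hbd : b ≠ d) (hcd : c ≠ d) {v : GolayPt → ℤ} (hv : v ∈ leechLattice)
    (hn : sqNorm v = 48) (ha : v a = 3) (hb : v b = 1) (hc : v c = 3 ∨ v c = -3)
    (hd : v d = 3 ∨ v d = -3) : ConnP (P44 a b) v (D44 none (some 0)) (p5 none) := by
  rcases hc with hc | hc <;> rcases hd with hd | hd
  · obtain ⟨v', hconn, e1, e2, e3, e4⟩ := connP_flip hab hac hbc hcd hv
    exact hconn.trans (k2_F' hab hac had hbc hbd hcd hconn.mem_right2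
      (by rw [hconn.sqNorm_eq2, hn]) (by rw [e1, ha]) (by rw [e2, hb]) (by rw [e3, hc])
      (by rw [e4, hd]))
  · exact k2_F' hab had hac hbd hbc hcd.symm hv hn ha hb hd hc
  · exact k2_F' hab hac had hbc hbd hcd hv hn ha hb hc hd
  · obtain ⟨v', hconn, e1, e2, e3, e4⟩ := connP_flip hab had hbd hcd.symm hv
    exact hconn.trans (k2_F' hab hac had hbc hbd hcd hconn.mem_right2
      (by rw [hconn.sqNorm_eq2, hn]) (by rw [e1, ha]) (by rw [e2, hb]) (by rw [e4, hc])
      (by rw [e3, hd]; norm_num))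

theorem k2_odd {a b : GolayPt} (hab : a ≠ b) {v : GolayPt → ℤ} (hv : v ∈ leechLattice)
    (hn : sqNorm v = 48) (hsum : v a + v b = 4) (hodd : v a % 2 = 1) :
    ConnP (P44 a b) v (D44 none (some 0)) (p5 none) := by
  classical
  rcases (leech_norm48_iff v).1 ⟨hv, hn⟩ with ⟨s, T, hs, hT, hev, he⟩ |
    ⟨s, T, k, c, hs, hT, hodd', hk, hc, he⟩ | ⟨C, J, hC, hJ, he⟩ | ⟨C, j, hC, he⟩
  · exfalso
    have := sv_even 2 (by norm_num) s T a
    rw [← he] at this
    omega
  · exfalso
    have := ev_even s T k (c := c) (by rcases hc with h | h <;> rw [h] <;> norm_num) a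
    rw [← he] at this
    omega
  · -- shape `(3^3, 1^21)`
    have habs : ∀ i, |v i| = p3 J i := by
      intro i
      rw [he, oddv_abs, abs_of_pos (p3_pos J i)]
    have hp3 : ∀ i, p3 J i = 3 ∨ p3 J i = 1 := by
      intro i; unfold p3; split_ifs <;> simp
    have hcase : (v a = 3 ∧ v b = 1) ∨ (v a = 1 ∧ v b = 3) := by
      have h1 := habs a
      have h2 := habs b
      rcases hp3 a with q1 | q1 <;> rcases hp3 b with q2 | q2 <;> rw [q1] at h1 <;>
        rw [q2] at h2 <;>
        rcases abs_cases (v a) with ⟨r1, -⟩ | ⟨r1, -⟩ <;>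
        rcases abs_cases (v b) with ⟨r2, -⟩ | ⟨r2, -⟩ <;> omega
    have hJmem : ∀ i, i ∈ J ↔ |v i| = 3 := by
      intro i
      rw [habs i]
      unfold p3
      by_cases h : i ∈ J <;> simp [h]
    -- the general step, for `x ∈ J`, `y ∉ J`
    have key : ∀ x y : GolayPt, x ≠ y → v x = 3 → v y = 1 →
        ConnP (P44 x y) v (D44 none (some 0)) (p5 none) := by
      intro x y hxy hx hy
      have hxJ : x ∈ J := by rw [hJmem, hx]; norm_num
      have hyJ : y ∉ J := by rw [hJmem, hy]; norm_num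
      have hc2 : (J.erase x).card = 2 := by rw [Finset.card_erase_of_mem hxJ, hJ]
      obtain ⟨c, d, hcd, hcdJ⟩ := Finset.card_eq_two.1 hc2
      have hcJ : c ∈ J.erase x := by rw [hcdJ]; simp
      have hdJ : d ∈ J.erase x := by rw [hcdJ]; simp
      have hc' := Finset.mem_erase.1 hcJ
      have hd' := Finset.mem_erase.1 hdJ
      have hyc : y ≠ c := fun h => hyJ (h ▸ hc'.2)
      have hyd : y ≠ d := fun h => hyJ (h ▸ hd'.2)
      have hcv : v c = 3 ∨ v c = -3 := by
        have := (hJmem c).1 hc'.2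
        rcases abs_cases (v c) with ⟨r1, -⟩ | ⟨r1, -⟩ <;> [left; right] <;> omega
      have hdv : v d = 3 ∨ v d = -3 := by
        have := (hJmem d).1 hd'.2
        rcases abs_cases (v d) with ⟨r1, -⟩ | ⟨r1, -⟩ <;> [left; right] <;> omega
      exact k2_F hxy hc'.1.symm hd'.1.symm hyc hyd hcd hv hn hx hy hcv hdv
    rcases hcase with ⟨h1, h2⟩ | ⟨h1, h2⟩
    · exact key a b hab h1 h2
    · rw [P44_comm]
      exact key b a hab.symm h2 h1
  · -- shape `(5, 1^23)`
    have habs : ∀ i, |v i| = p5 j i := by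
      intro i
      rw [he, oddv_abs, abs_of_pos (p5_pos j i)]
    have hp5 : ∀ i, p5 j i = 5 ∨ p5 j i = 1 := by
      intro i; unfold p5; split_ifs <;> simp
    have hcase : (v a = 5 ∧ v b = -1) ∨ (v a = -1 ∧ v b = 5) := by
      have h1 := habs a
      have h2 := habs b
      rcases hp5 a with q1 | q1 <;> rcases hp5 b with q2 | q2 <;> rw [q1] at h1 <;>
        rw [q2] at h2 <;>
        rcases abs_cases (v a) with ⟨r1, -⟩ | ⟨r1, -⟩ <;>
        rcases abs_cases (v b) with ⟨r2, -⟩ | ⟨r2, -⟩ <;> omega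
    rcases hcase with ⟨h1, h2⟩ | ⟨h1, h2⟩
    · exact k2_G hab hv hn h1 h2
    · rw [P44_comm]
      exact k2_G hab.symm hv hn h2 h1

theorem k2_even_step {a b c d : GolayPt} (hab : a ≠ b) (hac : a ≠ c) (had : a ≠ d) (hbc : b ≠ c)
    (hbd : b ≠ d) (hcd : c ≠ d) {v : GolayPt → ℤ} (hv : v ∈ leechLattice)
    (hn : sqNorm v = 48) (hsum : v a + v b = 4) (hc : v c % 4 = 2) (hd : v d % 4 = 0) :
    ConnP (P44 a b) v (D44 none (some 0)) (p5 none) := by
  obtain ⟨v', hconn, -, -, e3, e4⟩ := connP_xi44 hab hac had hbc hbd hcd hv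
  have h3 : v' c % 2 = 1 := by omega
  have h4 : v' c + v' d = 4 := by omega
  exact hconn.trans (k2_odd hcd hconn.mem_right2 (by rw [hconn.sqNorm_eq2, hn]) h4 h3)

/-- all pairs `(x, v)` with `x` minimal, `sqNorm v = 48`, inner product `16` are connected to the
standard one -/
theorem connP_k2 {x v : GolayPt → ℤ} (hx : x ∈ leechLattice) (hxn : sqNorm x = 32)
    (hv : v ∈ leechLattice) (hvn : sqNorm v = 48) (hd : dotInt x v = 16) :
    ConnP x v (D44 none (some 0)) (p5 none) := by
  classical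
  obtain ⟨v1, hc⟩ := connP_normalize hx hxn hv
  have hpq : (none : GolayPt) ≠ some 0 := by decide
  have hv1 := hc.mem_right2
  have hn1 : sqNorm v1 = 48 := by rw [hc.sqNorm_eq2, hvn]
  have hdot : v1 none + v1 (some 0) = 4 := by
    have h := hc.dot_eq
    rw [hd, dot_P44 hpq] at h
    omega
  refine hc.trans ?_
  rcases parity_cases hv1 with hpar | hpar
  · -- even: find `c`, `d`
    obtain ⟨s, hs8, hs16, hsdef⟩ : ∃ s : Finset GolayPt, 8 ≤ s.card ∧ s.card ≤ 12 ∧
        ∀ i, i ∈ s ↔ v1 i % 4 = 2 := by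
      rcases classify48_even hv1 hpar hn1 with ⟨s, T, hs, hT, hev, he⟩ |
        ⟨s, T, k, c, hs, hT, hodd', hk, hc', he⟩
      · refine ⟨s, by rw [hs.2]; norm_num, by rw [hs.2], fun i => ?_⟩
        rw [he]; exact sv2_mod4 hT i
      · refine ⟨s, by rw [hs.2], by rw [hs.2]; norm_num, fun i => ?_⟩
        rw [he]
        exact ev_mod4 hT hk (by rcases hc' with h | h <;> rw [h] <;> norm_num) i
    have hc1 : 0 < (s \ {none, some 0}).card := by
      have h1 := Finset.le_card_sdiff ({none, some 0} : Finset GolayPt) s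
      have h2 := Finset.card_le_two (a := (none : GolayPt)) (b := some 0)
      omega
    obtain ⟨c, hcm⟩ := Finset.card_pos.1 hc1
    have hc2 : 0 < ((Finset.univ : Finset GolayPt) \ (s ∪ {none, some 0})).card := by
      rw [Finset.card_sdiff_of_subset (Finset.subset_univ _), Finset.card_univ, card_golayPt]
      have h1 := Finset.card_union_le s {none, some 0}
      have h2 := Finset.card_le_two (a := (none : GolayPt)) (b := some 0)
      omega
    obtain ⟨d, hdm⟩ := Finset.card_pos.1 hc2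
    have hc' := Finset.mem_sdiff.1 hcm
    have hd' := (Finset.mem_sdiff.1 hdm).2
    rw [Finset.mem_union, not_or] at hd'
    have hcp : c ≠ none ∧ c ≠ some 0 := by have := hc'.2; simpa using this
    have hdp : d ≠ none ∧ d ≠ some 0 := by have := hd'.2; simpa using this
    have hcd : c ≠ d := fun h => hd'.1 (h ▸ hc'.1)
    have hcv : v1 c % 4 = 2 := (hsdef c).1 hc'.1
    have hdv : v1 d % 4 = 0 := by
      have h1 : ¬ v1 d % 4 = 2 := fun h => hd'.1 ((hsdef d).2 h)
      have h2 := hpar d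
      omega
    exact k2_even_step hpq hcp.1.symm hdp.1.symm hcp.2.symm hdp.2.symm hcd hv1 hn1 hdot hcv hdv
  · exact k2_odd hpq hv1 hn1 hdot (hpar none)

end Cfsg.Agent.Lib.Helper3
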