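import Mathlib
import Cfsg.Agent.Lib.Helper3.Co0PairK2
import Cfsg.Agent.Lib.Helper3.Co0Count2

/-!
Helper library (helper3): the action of `Co0` on triples of lattice vectors.
`ConnT x1 x2 x3 y1 y2 y3` says one element of `Co0` maps `xi ↦ yi`.
The Higman–Sims triples `(m, x, v)`: `m`, `x` minimal and orthogonal, `sqNorm v = 48`,
`m·v = 16`, `x·v = 24` are all connected.
-/

set_option autoImplicit false

namespace Cfsg.Agent.Lib.Helper3

open Cfsg Cfsg.Agent.Lib.Helper21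

/-- one element of `Co0` maps `x1 ↦ y1`, `x2 ↦ y2`, `x3 ↦ y3` -/
def ConnT (x1 x2 x3 y1 y2 y3 : GolayPt → ℤ) : Prop :=
  ∃ (h1 : x1 ∈ leechLattice) (h2 : x2 ∈ leechLattice) (h3 : x3 ∈ leechLattice)
    (g : Equiv.Perm leechLattice), g ∈ Co0 ∧
    (g ⟨x1, h1⟩).1 = y1 ∧ (g ⟨x2, h2⟩).1 = y2 ∧ (g ⟨x3, h3⟩).1 = y3

theorem connT_refl {x1 x2 x3 : GolayPt → ℤ} (h1 : x1 ∈ leechLattice) (h2 : x2 ∈ leechLattice)
    (h3 : x3 ∈ leechLattice) : ConnT x1 x2 x3 x1 x2 x3 :=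
  ⟨h1, h2, h3, 1, one_mem _, rfl, rfl, rfl⟩

theorem ConnT.symm {x1 x2 x3 y1 y2 y3 : GolayPt → ℤ} (h : ConnT x1 x2 x3 y1 y2 y3) :
    ConnT y1 y2 y3 x1 x2 x3 := by
  obtain ⟨h1, h2, h3, g, hg, rfl, rfl, rfl⟩ := h
  refine ⟨(g _).2, (g _).2, (g _).2, g⁻¹, inv_mem hg, ?_, ?_, ?_⟩ <;> simp

theorem ConnT.trans {x1 x2 x3 y1 y2 y3 z1 z2 z3 : GolayPt → ℤ} (h : ConnT x1 x2 x3 y1 y2 y3)
    (h' : ConnT y1 y2 y3 z1 z2 z3) : ConnT x1 x2 x3 z1 z2 z3 := by
  obtain ⟨h1, h2, h3, g, hg, rfl, rfl, rfl⟩ := h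
  obtain ⟨h1', h2', h3', g', hg', rfl, rfl, rfl⟩ := h'
  exact ⟨h1, h2, h3, g' * g, mul_mem hg' hg, by simp [Equiv.Perm.mul_apply],
    by simp [Equiv.Perm.mul_apply], by simp [Equiv.Perm.mul_apply]⟩

theorem ConnT.mem_right1 {x1 x2 x3 y1 y2 y3 : GolayPt → ℤ} (h : ConnT x1 x2 x3 y1 y2 y3) :
    y1 ∈ leechLattice := h.symm.1

theorem ConnT.mem_right2 {x1 x2 x3 y1 y2 y3 : GolayPt → ℤ} (h : ConnT x1 x2 x3 y1 y2 y3) :
    y2 ∈ leechLattice := h.symm.2.1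

theorem ConnT.mem_right3 {x1 x2 x3 y1 y2 y3 : GolayPt → ℤ} (h : ConnT x1 x2 x3 y1 y2 y3) :
    y3 ∈ leechLattice := h.symm.2.2.1

theorem ConnT.sqNorm_eq3 {x1 x2 x3 y1 y2 y3 : GolayPt → ℤ} (h : ConnT x1 x2 x3 y1 y2 y3) :
    sqNorm y3 = sqNorm x3 := by
  obtain ⟨h1, h2, h3, g, hg, rfl, rfl, rfl⟩ := h
  exact hg.2 _

theorem ConnT.dot_eq13 {x1 x2 x3 y1 y2 y3 : GolayPt → ℤ} (h : ConnT x1 x2 x3 y1 y2 y3) :
    dotInt y1 y3 = dotInt x1 x3 := by
  obtain ⟨h1, h2, h3, g, hg, rfl, rfl, rfl⟩ := h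
  exact co0_dot hg _ _

theorem ConnT.dot_eq23 {x1 x2 x3 y1 y2 y3 : GolayPt → ℤ} (h : ConnT x1 x2 x3 y1 y2 y3) :
    dotInt y2 y3 = dotInt x2 x3 := by
  obtain ⟨h1, h2, h3, g, hg, rfl, rfl, rfl⟩ := h
  exact co0_dot hg _ _

theorem ConnT.dot_eq12 {x1 x2 x3 y1 y2 y3 : GolayPt → ℤ} (h : ConnT x1 x2 x3 y1 y2 y3) :
    dotInt y1 y2 = dotInt x1 x2 := by
  obtain ⟨h1, h2, h3, g, hg, rfl, rfl, rfl⟩ := h
  exact co0_dot hg _ _

theorem connT_sgn {x1 x2 x3 : GolayPt → ℤ} (h1 : x1 ∈ leechLattice) (h2 : x2 ∈ leechLattice)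
    (h3 : x3 ∈ leechLattice)
    {C : Finset GolayPt} (hC : C ∈ supports (golayCode : Set (GolayPt → ZMod 2))) :
    ConnT x1 x2 x3 (sgnVec C x1) (sgnVec C x2) (sgnVec C x3) :=
  ⟨h1, h2, h3, sgnL C hC, sgnL_mem C hC, rfl, rfl, rfl⟩

theorem connT_perm {x1 x2 x3 : GolayPt → ℤ} (h1 : x1 ∈ leechLattice) (h2 : x2 ∈ leechLattice)
    (h3 : x3 ∈ leechLattice) {σ : Equiv.Perm GolayPt} (hσ : σ ∈ M24) :
    ConnT x1 x2 x3 (fun i => x1 (σ i)) (fun i => x2 (σ i)) (fun i => x3 (σ i)) :=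
  ⟨h1, h2, h3, permL σ hσ, permL_mem σ hσ, rfl, rfl, rfl⟩

theorem ConnP.toT {x1 x2 y1 y2 : GolayPt → ℤ} (h : ConnP x1 x2 y1 y2) {x3 : GolayPt → ℤ}
    (h3 : x3 ∈ leechLattice) : ∃ y3, ConnT x1 x2 x3 y1 y2 y3 := by
  obtain ⟨h1, h2, g, hg, rfl, rfl⟩ := h
  exact ⟨_, h1, h2, h3, g, hg, rfl, rfl, rfl⟩

theorem ConnT.toP12 {x1 x2 x3 y1 y2 y3 : GolayPt → ℤ} (h : ConnT x1 x2 x3 y1 y2 y3) :
    ConnP x1 x2 y1 y2 := by
  obtain ⟨h1, h2, h3, g, hg, e1, e2, e3⟩ := h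
  exact ⟨h1, h2, g, hg, e1, e2⟩

/-- from triple connection to an element of `Co0` on the subtype -/
theorem ConnT.exists_co0 {v w u v' w' u' : leechLattice} (h : ConnT v.1 w.1 u.1 v'.1 w'.1 u'.1) :
    ∃ g : ↥Co0, g • v = v' ∧ g • w = w' ∧ g • u = u' := by
  obtain ⟨h1, h2, h3, g, hg, e1, e2, e3⟩ := h
  exact ⟨⟨g, hg⟩, Subtype.ext e1, Subtype.ext e2, Subtype.ext e3⟩

theorem sgnVec_eq_self {S : Finset GolayPt} {y : GolayPt → ℤ} (h : ∀ i ∈ S, y i = 0) :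
    sgnVec S y = y := by
  funext i
  unfold sgnVec
  by_cases hi : i ∈ S
  · rw [if_pos hi, h i hi]; rfl
  · rw [if_neg hi]

theorem dot_D44 {a b : GolayPt} (hab : a ≠ b) (w : GolayPt → ℤ) :
    dotInt (D44 a b) w = 4 * (w a - w b) := by
  classical
  unfold dotInt D44
  have h : ∀ i, (if i = a then (4 : ℤ) else if i = b then -4 else 0) * w i =
      (if i = a then 4 * w a else 0) + (if i = b then -4 * w b else 0) := by
    intro i
    by_cases h1 : i = a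
    · subst h1; simp [hab]
    · by_cases h2 : i = b
      · subst h2; simp [h1]
      · simp [h1, h2]
  rw [Finset.sum_congr rfl (fun i _ => h i), Finset.sum_add_distrib, Finset.sum_ite_eq',
    Finset.sum_ite_eq']
  simp only [Finset.mem_univ, if_true]
  ring

theorem dot_p5 (j : GolayPt) (x : GolayPt → ℤ) : dotInt (p5 j) x = (∑ i, x i) + 4 * x j := by
  classical
  unfold dotInt p5
  have h : ∀ i : GolayPt, (if i = j then (5:ℤ) else 1) * x i =
      x i + (if i = j then 4 * x j else 0) := by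
    intro i
    by_cases h : i = j
    · subst h; simp; ring
    · simp [h]
  rw [Finset.sum_congr rfl (fun i _ => h i), Finset.sum_add_distrib, Finset.sum_ite_eq']
  simp

/-- the shape `(5, -1, ±1, …)` -/
theorem shape_5m1 {a b : GolayPt} {v : GolayPt → ℤ} (hv : v ∈ leechLattice)
    (hn : sqNorm v = 48) (ha : v a = 5) (hb : v b = -1) :
    ∃ C ∈ supports (golayCode : Set (GolayPt → ZMod 2)), a ∈ C ∧ b ∉ C ∧ v = oddv C (p5 a) := by
  classical
  rcases (leech_norm48_iff v).1 ⟨hv, hn⟩ with ⟨s, T, hs, hT, hev, rfl⟩ |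
    ⟨s, T, k, c, hs, hT, hodd, hk, hc, rfl⟩ | ⟨C, J, hC, hJ, rfl⟩ | ⟨C, j, hC, rfl⟩
  · exfalso
    have := sv_even 2 (by norm_num) s T a
    omega
  · exfalso
    have := ev_even s T k (c := c) (by rcases hc with h | h <;> rw [h] <;> norm_num) a
    omega
  · exfalso
    have h1 := oddv_abs C (p3 J) a
    rw [ha] at h1
    unfold p3 at h1
    split_ifs at h1 <;> norm_num at h1
  · have hja : j = a := by
      by_contra hne
      have h1 := oddv_abs C (p5 j) a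
      rw [ha] at h1
      unfold p5 at h1
      rw [if_neg (fun h => hne h.symm)] at h1
      norm_num at h1
    subst hja
    have haC : j ∈ C := by
      rw [oddv_mod4 C (p5_odd j) j, ha]; norm_num
    have hbC : b ∉ C := by
      rw [oddv_mod4 C (p5_odd j) b, hb]; norm_num
    exact ⟨C, hC, haC, hbC, rfl⟩

theorem exists_O0 : ∃ O ∈ octads, (none : GolayPt) ∈ O ∧ (some 0 : GolayPt) ∉ O :=
  exists_octad_sep (by decide)

/-- a fixed octad through `none` and not through `some 0` -/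
noncomputable def O0 : Finset GolayPt := Classical.choose exists_O0

theorem O0_spec : O0 ∈ octads ∧ (none : GolayPt) ∈ O0 ∧ (some 0 : GolayPt) ∉ O0 :=
  Classical.choose_spec exists_O0

/-- the Higman–Sims triples are all connected to a standard one -/
theorem connT_hs {m x v : GolayPt → ℤ} (hm : m ∈ leechLattice) (hmn : sqNorm m = 32)
    (hx : x ∈ leechLattice) (hxn : sqNorm x = 32) (hv : v ∈ leechLattice) (hvn : sqNorm v = 48)
    (hmx : dotInt m x = 0) (hmv : dotInt m v = 16) (hxv : dotInt x v = 24) :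
    ConnT m x v (P44 none (some 0)) (D44 none (some 0)) (oddv O0 (p5 none)) := by
  classical
  have hpq : (none : GolayPt) ≠ some 0 := by decide
  obtain ⟨v1, hT⟩ := (connP_orth hm hmn hx hxn hmx).toT hv
  have hv1 := hT.mem_right3
  have hn1 : sqNorm v1 = 48 := by rw [hT.sqNorm_eq3, hvn]
  have hd1 := hT.dot_eq13
  have hd2 := hT.dot_eq23
  rw [hmv, dot_P44 hpq] at hd1
  rw [hxv, dot_D44 hpq] at hd2
  have ha : v1 none = 5 := by omega
  have hb : v1 (some 0) = -1 := by omega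
  obtain ⟨C, hC, haC, hbC, rfl⟩ := shape_5m1 hv1 hn1 ha hb
  obtain ⟨hO1, hO2, hO3⟩ := O0_spec
  have hS := supports_symmDiff hC hO1.1
  have h2 := connT_sgn hT.mem_right1 hT.mem_right2 hv1 hS
  rw [sgnVec_oddv_symm] at h2
  have hnS : (none : GolayPt) ∉ (C \ O0) ∪ (O0 \ C) := by
    simp [haC, hO2]
  have hzS : (some 0 : GolayPt) ∉ (C \ O0) ∪ (O0 \ C) := by
    simp [hbC, hO3]
  have e1 : sgnVec ((C \ O0) ∪ (O0 \ C)) (P44 none (some 0)) = P44 none (some 0) := by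
    apply sgnVec_eq_self
    intro i hi
    unfold P44
    rw [if_neg]
    rintro (h | h)
    · exact hnS (h ▸ hi)
    · exact hzS (h ▸ hi)
  have e2 : sgnVec ((C \ O0) ∪ (O0 \ C)) (D44 none (some 0)) = D44 none (some 0) := by
    apply sgnVec_eq_self
    intro i hi
    unfold D44
    have h1 : ¬ (i = none) := fun h => hnS (h ▸ hi)
    have h2 : ¬ (i = some 0) := fun h => hzS (h ▸ hi)
    rw [if_neg h1, if_neg h2]
  rw [e1, e2] at h2
  exact hT.trans h2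

theorem ncard_co0_2 {g : Equiv.Perm leechLattice} (hg : g ∈ Co0) (u1 u2 : ↥leechLattice)
    (a b1 b2 : ℤ) :
    {v : ↥leechLattice | sqNorm v.1 = a ∧ dotInt u1.1 v.1 = b1 ∧ dotInt u2.1 v.1 = b2}.ncard =
    {v : ↥leechLattice | sqNorm v.1 = a ∧ dotInt (g u1).1 v.1 = b1 ∧
      dotInt (g u2).1 v.1 = b2}.ncard := by
  rw [← Set.ncard_image_of_injective _ g.injective]
  congr 1
  ext w
  constructor
  · rintro ⟨v, ⟨h1, h2, h3⟩, rfl⟩
    exact ⟨by rw [hg.2]; exact h1, by rw [co0_dot hg]; exact h2, by rw [co0_dot hg]; exact h3⟩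
  · rintro ⟨h1, h2, h3⟩
    refine ⟨g.symm w, ⟨?_, ?_, ?_⟩, by simp⟩
    · have := hg.2 (g.symm w)
      rw [Equiv.apply_symm_apply] at this
      rw [← this]; exact h1
    · have := co0_dot hg u1 (g.symm w)
      rw [Equiv.apply_symm_apply] at this
      rw [← this]; exact h2
    · have := co0_dot hg u2 (g.symm w)
      rw [Equiv.apply_symm_apply] at this
      rw [← this]; exact h3

theorem card_octFin_mem2 {a b : GolayPt} (hab : a ≠ b) :
    (octFin.filter (fun O => a ∈ O ∧ b ∈ O)).card = 77 := by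
  classical
  have h := (lam_5_8_24 card_golayPt octads_steiner {a, b}).2.2.1 (Finset.card_pair hab)
  rw [← h]
  apply Finset.card_bij (fun O _ => O)
  · intro O hO
    obtain ⟨h1, h2, h3⟩ := Finset.mem_filter.1 hO
    refine Finset.mem_filter.2 ⟨mem_blocksFinset.2 (mem_octFin.1 h1), ?_⟩
    intro i hi
    rw [Finset.mem_insert, Finset.mem_singleton] at hi
    rcases hi with hi | hi <;> rw [hi] <;> assumption
  · intro O _ O' _ h
    exact h
  · intro O hO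
    obtain ⟨h1, h2⟩ := Finset.mem_filter.1 hO
    refine ⟨O, Finset.mem_filter.2 ⟨mem_octFin.2 (mem_blocksFinset.1 h1), h2 (by simp),
      h2 (by simp)⟩, rfl⟩

end Cfsg.Agent.Lib.Helper3
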