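import Mathlib
import Cfsg.Agent.Lib.Helper3.Co0Triple

/-!
Helper library (helper3): `M24` on five points, and on the octads through two points.
-/

set_option autoImplicit false

namespace Cfsg.Agent.Lib.Helper3

open Cfsg Cfsg.Agent.Lib.Helper21
open scoped Pointwise

theorem M24_five_trans {a b c d e a' b' c' d' e' : GolayPt} (h : [a, b, c, d, e].Nodup)
    (h' : [a', b', c', d', e'].Nodup) :
    ∃ σ ∈ M24, σ a = a' ∧ σ b = b' ∧ σ c = c' ∧ σ d = d' ∧ σ e = e' := by
  have H := Cfsg.Agent.Lib.Helper21.M24_pretransitive_of_le (n := 5) (by norm_num)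
  rw [MulAction.isMultiplyPretransitive_iff] at H
  simp only [List.nodup_cons, List.mem_cons, List.not_mem_nil, or_false, not_or,
    List.nodup_nil, and_true, not_false_eq_true] at h h'
  let x : Fin 5 ↪ GolayPt := ⟨![a, b, c, d, e], by
    intro i j hij
    fin_cases i <;> fin_cases j <;> simp_all⟩
  let y : Fin 5 ↪ GolayPt := ⟨![a', b', c', d', e'], by
    intro i j hij
    fin_cases i <;> fin_cases j <;> simp_all⟩
  obtain ⟨g, hg⟩ := H x y
  refine ⟨g.1, g.2, ?_, ?_, ?_, ?_, ?_⟩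
  · have := congrArg (fun e : Fin 5 ↪ GolayPt => e 0) hg
    exact this
  · have := congrArg (fun e : Fin 5 ↪ GolayPt => e 1) hg
    exact this
  · have := congrArg (fun e : Fin 5 ↪ GolayPt => e 2) hg
    exact this
  · have := congrArg (fun e : Fin 5 ↪ GolayPt => e 3) hg
    exact this
  · have := congrArg (fun e : Fin 5 ↪ GolayPt => e 4) hg
    exact this

theorem M24_smul_octad {σ : Equiv.Perm GolayPt} (hσ : σ ∈ M24) {O : Finset GolayPt}
    (hO : O ∈ octads) : σ • O ∈ octads :=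
  ⟨M24_smul_mem hσ hO.1, by rw [Finset.card_smul_finset]; exact hO.2⟩

theorem exists_three_of_octad {p q : GolayPt} {O : Finset GolayPt} (hO : O ∈ octads) :
    ∃ a b c, a ∈ O ∧ b ∈ O ∧ c ∈ O ∧ [p, q, a, b, c].Nodup ∨ p = q := by
  classical
  by_cases hpq : p = q
  · exact ⟨p, p, p, Or.inr hpq⟩
  have hcard : 3 ≤ (O \ {p, q}).card := by
    have h1 := Finset.le_card_sdiff ({p, q} : Finset GolayPt) O
    have h2 : ({p, q} : Finset GolayPt).card = 2 := Finset.card_pair hpq
    rw [hO.2, h2] at h1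
    omega
  obtain ⟨T, hT, hT3⟩ := Finset.exists_subset_card_eq hcard
  obtain ⟨a, b, c, hab, hac, hbc, rfl⟩ := Finset.card_eq_three.1 hT3
  have ha := Finset.mem_sdiff.1 (hT (by simp : a ∈ ({a, b, c} : Finset GolayPt)))
  have hb := Finset.mem_sdiff.1 (hT (by simp : b ∈ ({a, b, c} : Finset GolayPt)))
  have hc := Finset.mem_sdiff.1 (hT (by simp : c ∈ ({a, b, c} : Finset GolayPt)))
  refine ⟨a, b, c, Or.inl ⟨ha.1, hb.1, hc.1, ?_⟩⟩
  have ha2 := ha.2
  have hb2 := hb.2
  have hc2 := hc.2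
  simp only [Finset.mem_insert, Finset.mem_singleton, not_or] at ha2 hb2 hc2
  simp only [List.nodup_cons, List.mem_cons, List.not_mem_nil, or_false, not_or,
    List.nodup_nil, and_true, not_false_eq_true]
  refine ⟨⟨hpq, ?_, ?_, ?_⟩, ⟨?_, ?_, ?_⟩, ⟨hab, hac⟩, hbc⟩
  · exact fun h => ha2.1 h.symm
  · exact fun h => hb2.1 h.symm
  · exact fun h => hc2.1 h.symm
  · exact fun h => ha2.2 h.symm
  · exact fun h => hb2.2 h.symm
  · exact fun h => hc2.2 h.symm

/-- the stabiliser of two points is transitive on the octads through them -/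
theorem M24_octad_trans2 {p q : GolayPt} (hpq : p ≠ q) {O O' : Finset GolayPt} (hO : O ∈ octads)
    (hO' : O' ∈ octads) (hp : p ∈ O) (hq : q ∈ O) (hp' : p ∈ O') (hq' : q ∈ O') :
    ∃ σ ∈ M24, σ p = p ∧ σ q = q ∧ ∀ i, i ∈ O ↔ σ i ∈ O' := by
  classical
  obtain ⟨a, b, c, h | h⟩ := exists_three_of_octad (p := p) (q := q) hO
  swap
  · exact absurd h hpq
  obtain ⟨a', b', c', h' | h'⟩ := exists_three_of_octad (p := p) (q := q) hO'
  swap
  · exact absurd h' hpq
  obtain ⟨ha, hb, hc, hnd⟩ := h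
  obtain ⟨ha', hb', hc', hnd'⟩ := h'
  obtain ⟨σ, hσ, s1, s2, s3, s4, s5⟩ := M24_five_trans hnd hnd'
  refine ⟨σ, hσ, s1, s2, ?_⟩
  have hO'' := M24_smul_octad hσ hO
  have hmem : ∀ i, i ∈ O → σ i ∈ σ • O := by
    intro i hi
    rw [Finset.mem_smul_finset]
    exact ⟨i, hi, rfl⟩
  have h5 : ({p, q, a', b', c'} : Finset GolayPt).card = 5 := by
    have := List.toFinset_card_of_nodup hnd'
    simpa using this
  obtain ⟨B, -, huniq⟩ := octads_steiner.2 _ h5
  have e1 : σ • O = B := by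
    apply huniq
    refine ⟨hO'', ?_⟩
    intro i hi
    simp only [Finset.mem_insert, Finset.mem_singleton] at hi
    rcases hi with rfl | rfl | rfl | rfl | rfl
    · rw [← s1]; exact hmem _ hp
    · rw [← s2]; exact hmem _ hq
    · rw [← s3]; exact hmem _ ha
    · rw [← s4]; exact hmem _ hb
    · rw [← s5]; exact hmem _ hc
  have e2 : O' = B := by
    apply huniq
    refine ⟨hO', ?_⟩
    intro i hi
    simp only [Finset.mem_insert, Finset.mem_singleton] at hi
    rcases hi with rfl | rfl | rfl | rfl | rfl <;> assumption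
  intro i
  rw [e2, ← e1, Finset.mem_smul_finset]
  constructor
  · intro hi
    exact ⟨i, hi, rfl⟩
  · rintro ⟨y, hy, hyi⟩
    have : y = i := σ.injective hyi
    rw [← this]; exact hy

end Cfsg.Agent.Lib.Helper3
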