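import Mathlib
import Cfsg.Agent.Lib.Helper3.M24Trans5
import Cfsg.Agent.Lib.Helper3.Co0PairNeg

/-!
Helper library (helper3): the McLaughlin triples `(v, x, u)`: `v`, `x` minimal with inner product
`16`, `sqNorm u = 48`, `v·u = x·u = 24` are all connected under `Co0`.
-/

set_option autoImplicit false

namespace Cfsg.Agent.Lib.Helper3

open Cfsg Cfsg.Agent.Lib.Helper21

theorem P44_apply (a b i : GolayPt) : P44 a b i = if i = a ∨ i = b then 4 else 0 := rfl

theorem connT_xi {x1 x2 x3 : GolayPt → ℤ} (h1 : x1 ∈ leechLattice) (h2 : x2 ∈ leechLattice)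
    (h3 : x3 ∈ leechLattice) (T : Finset GolayPt) (hT : T.card = 4) :
    ∃ y1 y2 y3, ConnT x1 x2 x3 y1 y2 y3 ∧
      (∀ j, 2 * y1 j = eps T j * (2 * x1 j - ∑ k ∈ tet T hT j, x1 k)) ∧
      (∀ j, 2 * y2 j = eps T j * (2 * x2 j - ∑ k ∈ tet T hT j, x2 k)) ∧
      (∀ j, 2 * y3 j = eps T j * (2 * x3 j - ∑ k ∈ tet T hT j, x3 k)) :=
  ⟨_, _, _, ⟨h1, h2, h3, xiL T hT, xiL_mem T hT, rfl, rfl, rfl⟩,
    fun j => xiL_apply T hT ⟨x1, h1⟩ j, fun j => xiL_apply T hT ⟨x2, h2⟩ j,
    fun j => xiL_apply T hT ⟨x3, h3⟩ j⟩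

theorem xi44_P44_fun {p q r s : GolayPt} (hpq : p ≠ q) (hpr : p ≠ r) (hps : p ≠ s) (hqr : q ≠ r)
    (hqs : q ≠ s) (hrs : r ≠ s) (T : Finset GolayPt) (hT : T.card = 4)
    (hmem : ∀ j, j ∈ T ↔ j = p ∨ j = q ∨ j = r ∨ j = s)
    (hsum : ∀ f : GolayPt → ℤ, ∑ k ∈ T, f k = f p + f q + f r + f s) {y : GolayPt → ℤ}
    (hy : ∀ j, 2 * y j = eps T j * (2 * P44 p q j - ∑ k ∈ tet T hT j, P44 p q k)) :
    y = P44 r s := by
  funext j
  have h := hy j
  have hv : P44 p q p = 4 ∧ P44 p q q = 4 ∧ P44 p q r = 0 ∧ P44 p q s = 0 := by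
    simp [P44_apply, hpr.symm, hqr.symm, hps.symm, hqs.symm]
  by_cases hjT : j ∈ T
  · have he : eps T j = -1 := by unfold eps; rw [if_pos hjT]
    rw [tet_eq_T T hT hjT, he, hsum, hv.1, hv.2.1, hv.2.2.1, hv.2.2.2] at h
    rcases (hmem j).1 hjT with hj | hj | hj | hj
    · rw [hj] at h ⊢
      rw [hv.1] at h
      have : P44 r s p = 0 := by simp [P44_apply, hpr, hps]
      rw [this]; omega
    · rw [hj] at h ⊢
      rw [hv.2.1] at h
      have : P44 r s q = 0 := by simp [P44_apply, hqr, hqs]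
      rw [this]; omega
    · rw [hj] at h ⊢
      rw [hv.2.2.1] at h
      have : P44 r s r = 4 := by simp [P44_apply]
      rw [this]; omega
    · rw [hj] at h ⊢
      rw [hv.2.2.2] at h
      have : P44 r s s = 4 := by simp [P44_apply]
      rw [this]; omega
  · have he : eps T j = 1 := by unfold eps; rw [if_neg hjT]
    have hzero : ∀ k ∈ tet T hT j, P44 p q k = 0 := by
      intro k hk
      have hkT : k ∉ T := fun hkT => hjT ((tet_mem_T_iff T hT hk).1 hkT)
      have h1 : k ≠ p := fun h => hkT ((hmem k).2 (Or.inl h))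
      have h2 : k ≠ q := fun h => hkT ((hmem k).2 (Or.inr (Or.inl h)))
      simp [P44_apply, h1, h2]
    rw [he, Finset.sum_eq_zero hzero, hzero j (mem_tet T hT j)] at h
    have h2 : P44 r s j = 0 := by
      have h3 : j ≠ r := fun h => hjT ((hmem j).2 (Or.inr (Or.inr (Or.inl h))))
      have h4 : j ≠ s := fun h => hjT ((hmem j).2 (Or.inr (Or.inr (Or.inr h))))
      simp [P44_apply, h3, h4]
    rw [h2]; omega

/-- the element `ξ_T` for `T = {a, b, c, d}` on a triple `(P44 a b, P44 a c, u)` -/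
theorem connT_xi44 {a b c d : GolayPt} (hab : a ≠ b) (hac : a ≠ c) (had : a ≠ d) (hbc : b ≠ c)
    (hbd : b ≠ d) (hcd : c ≠ d) {u : GolayPt → ℤ} (hu : u ∈ leechLattice) :
    ∃ u', ConnT (P44 a b) (P44 a c) u (P44 c d) (P44 b d) u' ∧
      2 * u' a = (u b + u c + u d) - u a ∧ 2 * u' b = (u a + u c + u d) - u b ∧
      2 * u' c = (u a + u b + u d) - u c ∧ 2 * u' d = (u a + u b + u c) - u d := by
  classical
  obtain ⟨T, hTdef⟩ : ∃ T : Finset GolayPt, T = insert a (insert b (insert c {d})) := ⟨_, rfl⟩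
  have hd1 : c ∉ ({d} : Finset GolayPt) := by simp [hcd]
  have hd2 : b ∉ insert c ({d} : Finset GolayPt) := by simp [hbc, hbd]
  have hd3 : a ∉ insert b (insert c ({d} : Finset GolayPt)) := by simp [hab, hac, had]
  have hT : T.card = 4 := by
    rw [hTdef, Finset.card_insert_of_notMem hd3, Finset.card_insert_of_notMem hd2,
      Finset.card_insert_of_notMem hd1, Finset.card_singleton]
  have hmem : ∀ j, j ∈ T ↔ j = a ∨ j = b ∨ j = c ∨ j = d := by
    intro j; rw [hTdef]; simp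
  have hmem' : ∀ j, j ∈ T ↔ j = a ∨ j = c ∨ j = b ∨ j = d := by
    intro j; rw [hmem j]; tauto
  have hsumT : ∀ f : GolayPt → ℤ, ∑ k ∈ T, f k = f a + f b + f c + f d := by
    intro f
    rw [hTdef, Finset.sum_insert hd3, Finset.sum_insert hd2, Finset.sum_insert hd1,
      Finset.sum_singleton]
    ring
  have hsumT' : ∀ f : GolayPt → ℤ, ∑ k ∈ T, f k = f a + f c + f b + f d := by
    intro f; rw [hsumT f]; ring
  have haT : a ∈ T := (hmem a).2 (Or.inl rfl)
  have hbT : b ∈ T := (hmem b).2 (Or.inr (Or.inl rfl))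
  have hcT : c ∈ T := (hmem c).2 (Or.inr (Or.inr (Or.inl rfl)))
  have hdT : d ∈ T := (hmem d).2 (Or.inr (Or.inr (Or.inr rfl)))
  obtain ⟨y1, y2, y3, hconn, hy1, hy2, hy3⟩ := connT_xi (P44_mem hab) (P44_mem hac) hu T hT
  have e1 : y1 = P44 c d := xi44_P44_fun hab hac had hbc hbd hcd T hT hmem hsumT hy1
  have e2 : y2 = P44 b d := xi44_P44_fun hac hab had hbc.symm hcd hbd T hT hmem' hsumT' hy2
  rw [e1, e2] at hconn
  have hepsT : ∀ j ∈ T, eps T j = -1 := fun j hj => by unfold eps; rw [if_pos hj]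
  refine ⟨y3, hconn, ?_, ?_, ?_, ?_⟩
  · have h := hy3 a
    rw [tet_eq_T T hT haT, hepsT a haT, hsumT] at h
    linarith
  · have h := hy3 b
    rw [tet_eq_T T hT hbT, hepsT b hbT, hsumT] at h
    linarith
  · have h := hy3 c
    rw [tet_eq_T T hT hcT, hepsT c hcT, hsumT] at h
    linarith
  · have h := hy3 d
    rw [tet_eq_T T hT hdT, hepsT d hdT, hsumT] at h
    linarith

theorem ConnP.neg2 {x1 x2 y1 y2 : GolayPt → ℤ} (h : ConnP x1 (-x2) y1 y2) :
    ConnP x1 x2 y1 (-y2) := by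
  obtain ⟨h1, h2, g, hg, e1, e2⟩ := h
  have h2' : x2 ∈ leechLattice := by
    have := leechLattice.neg_mem h2
    simpa using this
  refine ⟨h1, h2', g, hg, e1, ?_⟩
  have hneg : (⟨-x2, h2⟩ : ↥leechLattice) = -⟨x2, h2'⟩ := rfl
  have h3 := co0_neg ⟨g, hg⟩ ⟨x2, h2'⟩
  have h4 : g (-⟨x2, h2'⟩) = -(g ⟨x2, h2'⟩) := h3
  rw [hneg, h4] at e2
  have h5 : -(g ⟨x2, h2'⟩).1 = y2 := e2
  rw [← h5, neg_neg]

theorem p3_vals (C J : Finset GolayPt) (i : GolayPt) :
    (i ∈ J ∧ (oddv C (p3 J) i = 3 ∨ oddv C (p3 J) i = -3)) ∨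
    (i ∉ J ∧ (oddv C (p3 J) i = 1 ∨ oddv C (p3 J) i = -1)) := by
  unfold oddv p3
  by_cases h : i ∈ J
  · left; refine ⟨h, ?_⟩
    simp only [h, if_true]
    split_ifs <;> simp
  · right; refine ⟨h, ?_⟩
    simp only [h, if_false]
    split_ifs <;> simp

theorem p5_vals (C : Finset GolayPt) (j i : GolayPt) :
    (i = j ∧ (oddv C (p5 j) i = 5 ∨ oddv C (p5 j) i = -5)) ∨
    (i ≠ j ∧ (oddv C (p5 j) i = 1 ∨ oddv C (p5 j) i = -1)) := by
  unfold oddv p5
  by_cases h : i = j
  · left; refine ⟨h, ?_⟩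
    simp only [h, if_true]
    split_ifs <;> simp
  · right; refine ⟨h, ?_⟩
    simp only [h, if_false]
    split_ifs <;> simp

theorem ev_vals (s T : Finset GolayPt) (k : GolayPt) (c : ℤ) (i : GolayPt) :
    (i = k ∧ ev s T k c i = c) ∨
    (i ≠ k ∧ ev s T k c i = sv 2 s T i) := by
  unfold ev
  by_cases h : i = k
  · left; exact ⟨h, by rw [if_pos h]⟩
  · right; exact ⟨h, by rw [if_neg h]⟩

/-- type B: `(3, 3, 3)` -/
theorem mcl_B {a b c : GolayPt} (hab : a ≠ b) (hac : a ≠ c) (hbc : b ≠ c) {u : GolayPt → ℤ}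
    (hu : u ∈ leechLattice) (hn : sqNorm u = 48) (ha : u a = 3) (hb : u b = 3) (hc : u c = 3) :
    ∃ a' b' c' u', a' ≠ b' ∧ a' ≠ c' ∧ b' ≠ c' ∧
      ConnT (P44 a b) (P44 a c) u (P44 a' b') (P44 a' c') u' ∧
      u' a' = 5 ∧ u' b' = 1 ∧ u' c' = 1 := by
  classical
  rcases (leech_norm48_iff u).1 ⟨hu, hn⟩ with ⟨s, T, hs, hT, hev, rfl⟩ |
    ⟨s, T, k, c', hs, hT, hodd, hk, hc', rfl⟩ | ⟨C, J, hC, hJ, rfl⟩ | ⟨C, j, hC, rfl⟩
  · exfalso
    have := sv_even 2 (by norm_num) s T a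
    omega
  · exfalso
    have := ev_even s T k (c := c') (by rcases hc' with h | h <;> rw [h] <;> norm_num) a
    omega
  · -- the main case
    have haJ : a ∈ J := by
      rcases p3_vals C J a with ⟨h, -⟩ | ⟨-, h⟩
      · exact h
      · omega
    have hbJ : b ∈ J := by
      rcases p3_vals C J b with ⟨h, -⟩ | ⟨-, h⟩
      · exact h
      · omega
    have hcJ : c ∈ J := by
      rcases p3_vals C J c with ⟨h, -⟩ | ⟨-, h⟩
      · exact h
      · omega
    have haC : a ∉ C := by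
      rw [oddv_mod4 C (p3_odd J) a, ha]; norm_num
    have hcard : C.card ≤ 16 := by
      have h1 := supports_card_cases hC
      have h2 := card_le_23 haC
      omega
    have hJC : (C ∪ J).card < 24 := by
      have := Finset.card_union_le C J
      omega
    obtain ⟨d, hd⟩ := exists_notMem_of_card_lt hJC
    have hdC : d ∉ C := fun h => hd (Finset.mem_union_left _ h)
    have hdJ : d ∉ J := fun h => hd (Finset.mem_union_right _ h)
    have hud : oddv C (p3 J) d = -1 := by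
      have h1 : ¬ (oddv C (p3 J) d % 4 = 1) := fun h => hdC ((oddv_mod4 C (p3_odd J) d).2 h)
      rcases p3_vals C J d with ⟨h, -⟩ | ⟨-, h | h⟩
      · exact absurd h hdJ
      · rw [h] at h1; norm_num at h1
      · exact h
    have had : a ≠ d := fun h => hdJ (h ▸ haJ)
    have hbd : b ≠ d := fun h => hdJ (h ▸ hbJ)
    have hcd : c ≠ d := fun h => hdJ (h ▸ hcJ)
    obtain ⟨u', hconn, e1, e2, e3, e4⟩ := connT_xi44 hab hac had hbc hbd hcd hu
    rw [ha, hb, hc, hud] at e1 e2 e3 e4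
    refine ⟨d, c, b, u', hcd.symm, hbd.symm, hbc.symm, ?_, by omega, by omega, by omega⟩
    rw [P44_comm d c, P44_comm d b]
    exact hconn
  · exfalso
    rcases p5_vals C j a with ⟨-, h | h⟩ | ⟨-, h | h⟩ <;> omega

/-- type C: `(4, 2, 2)` -/
theorem mcl_C {a b c : GolayPt} (hab : a ≠ b) (hac : a ≠ c) (hbc : b ≠ c) {u : GolayPt → ℤ}
    (hu : u ∈ leechLattice) (hn : sqNorm u = 48) (ha : u a = 4) (hb : u b = 2) (hc : u c = 2) :
    ∃ a' b' c' u', a' ≠ b' ∧ a' ≠ c' ∧ b' ≠ c' ∧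
      ConnT (P44 a b) (P44 a c) u (P44 a' b') (P44 a' c') u' ∧
      u' a' = 5 ∧ u' b' = 1 ∧ u' c' = 1 := by
  classical
  rcases (leech_norm48_iff u).1 ⟨hu, hn⟩ with ⟨s, T, hs, hT, hev, rfl⟩ |
    ⟨s, T, k, c', hs, hT, hodd, hk, hc', rfl⟩ | ⟨C, J, hC, hJ, rfl⟩ | ⟨C, j, hC, rfl⟩
  · exfalso
    rcases sv2_vals s T a with h | h | h <;> omega
  · -- the main case
    have hak : a = k := by
      rcases ev_vals s T k c' a with ⟨h, -⟩ | ⟨-, h⟩
      · exact h
      · rw [h] at ha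
        rcases sv2_vals s T a with h' | h' | h' <;> omega
    have hbk : b ≠ k := fun h => hab (hak.trans h.symm)
    have hck : c ≠ k := fun h => hac (hak.trans h.symm)
    have hbs : b ∈ s := by
      rcases ev_vals s T k c' b with ⟨h, -⟩ | ⟨-, h⟩
      · exact absurd h hbk
      · rw [h] at hb
        rw [sv_mem_s (by norm_num : (2:ℤ) ≠ 0) hT b, hb]; norm_num
    have hcs : c ∈ s := by
      rcases ev_vals s T k c' c with ⟨h, -⟩ | ⟨-, h⟩
      · exact absurd h hck
      · rw [h] at hc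
        rw [sv_mem_s (by norm_num : (2:ℤ) ≠ 0) hT c, hc]; norm_num
    have hcard : 2 < s.card := by rw [hs.2]; norm_num
    have hex : ∃ d ∈ s, d ≠ b ∧ d ≠ c := by
      by_contra hcon
      push Not at hcon
      have hsub : s ⊆ {b, c} := by
        intro i hi
        by_cases h1 : i = b
        · rw [h1]; simp
        · have := hcon i hi h1
          rw [this]; simp
      have := Finset.card_le_card hsub
      have h2 : ({b, c} : Finset GolayPt).card ≤ 2 := Finset.card_le_two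
      omega
    obtain ⟨d, hds, hdb, hdc⟩ := hex
    have hdk : d ≠ k := fun h => hk (h ▸ hds)
    have had : a ≠ d := fun h => hdk (h.symm.trans hak)
    have hud : ev s T k c' d = 2 ∨ ev s T k c' d = -2 := by
      rcases ev_vals s T k c' d with ⟨h, -⟩ | ⟨-, h⟩
      · exact absurd h hdk
      · rw [h]
        have h0 := (sv_mem_s (by norm_num : (2:ℤ) ≠ 0) hT d).1 hds
        rcases sv2_vals s T d with h' | h' | h'
        · exact absurd h' h0
        · exact Or.inl h'
        · exact Or.inr h'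
    have hconnmem := hu
    obtain ⟨u', hconn, e1, e2, e3, e4⟩ := connT_xi44 hab hac had hbc hdb.symm hdc.symm hu
    rw [ha, hb, hc] at e1 e2 e3 e4
    rcases hud with hud | hud
    · rw [hud] at e1 e2 e3 e4
      have hu'n : sqNorm u' = 48 := by rw [hconn.sqNorm_eq3, hn]
      obtain ⟨a', b', c', u'', h1, h2, h3, hconn2, h4, h5, h6⟩ :=
        mcl_B (a := d) (b := c) (c := b) hdc hdb hbc.symm hconn.mem_right3 hu'n
          (by omega) (by omega) (by omega)
      refine ⟨a', b', c', u'', h1, h2, h3, ?_, h4, h5, h6⟩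
      rw [P44_comm d c, P44_comm d b] at hconn2
      exact hconn.trans hconn2
    · rw [hud] at e1 e2 e3 e4
      refine ⟨d, c, b, u', hdc, hdb, hbc.symm, ?_, by omega, by omega, by omega⟩
      rw [P44_comm d c, P44_comm d b]
      exact hconn
  · exfalso
    have := oddv_odd C (p3_odd J) a
    omega
  · exfalso
    have := oddv_odd C (p5_odd j) a
    omega

/-- normalisation of `u` in a triple `(P44 a b, P44 a c, u)` -/
theorem mcl_norm {a b c : GolayPt} (hab : a ≠ b) (hac : a ≠ c) (hbc : b ≠ c) {u : GolayPt → ℤ}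
    (hu : u ∈ leechLattice) (hn : sqNorm u = 48) (h1 : u a + u b = 6) (h2 : u a + u c = 6) :
    ∃ a' b' c' u', a' ≠ b' ∧ a' ≠ c' ∧ b' ≠ c' ∧
      ConnT (P44 a b) (P44 a c) u (P44 a' b') (P44 a' c') u' ∧
      u' a' = 5 ∧ u' b' = 1 ∧ u' c' = 1 := by
  classical
  rcases (leech_norm48_iff u).1 ⟨hu, hn⟩ with ⟨s, T, hs, hT, hev, hus⟩ |
    ⟨s, T, k, c', hs, hT, hodd, hk, hc', hus⟩ | ⟨C, J, hC, hJ, hus⟩ | ⟨C, j, hC, hus⟩
  · exfalso
    rw [hus] at h1
    rcases sv2_vals s T a with h | h | h <;> rcases sv2_vals s T b with h' | h' | h' <;> omega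
  · have hva : u a = 4 ∧ u b = 2 ∧ u c = 2 := by
      rw [hus] at h1 h2 ⊢
      rcases ev_vals s T k c' a with ⟨ha1, ha2⟩ | ⟨ha1, ha2⟩
      · have hbk : b ≠ k := fun h => hab (ha1.trans h.symm)
        have hck : c ≠ k := fun h => hac (ha1.trans h.symm)
        rcases ev_vals s T k c' b with ⟨hb1, hb2⟩ | ⟨hb1, hb2⟩
        · exact absurd hb1 hbk
        · rcases ev_vals s T k c' c with ⟨hc1, hc2⟩ | ⟨hc1, hc2⟩
          · exact absurd hc1 hck
          · rw [ha2, hb2] at h1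
            rw [ha2, hc2] at h2
            rw [ha2, hb2, hc2]
            rcases sv2_vals s T b with h' | h' | h' <;> rcases sv2_vals s T c with h'' | h'' | h'' <;>
              rcases hc' with h3 | h3 <;> omega
      · exfalso
        rw [ha2] at h1 h2
        rcases ev_vals s T k c' b with ⟨hb1, hb2⟩ | ⟨hb1, hb2⟩
        · have hck : c ≠ k := fun h => hbc (hb1.trans h.symm)
          rcases ev_vals s T k c' c with ⟨hc1, hc2⟩ | ⟨hc1, hc2⟩
          · exact absurd hc1 hck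
          · rw [hc2] at h2
            rcases sv2_vals s T a with h' | h' | h' <;>
              rcases sv2_vals s T c with h'' | h'' | h'' <;> omega
        · rw [hb2] at h1
          rcases sv2_vals s T a with h' | h' | h' <;>
            rcases sv2_vals s T b with h'' | h'' | h'' <;> omega
    exact mcl_C hab hac hbc hu hn hva.1 hva.2.1 hva.2.2
  · have hva : u a = 3 ∧ u b = 3 ∧ u c = 3 := by
      rw [hus] at h1 h2 ⊢
      rcases p3_vals C J a with ⟨-, h | h⟩ | ⟨-, h | h⟩ <;>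
        rcases p3_vals C J b with ⟨-, h' | h'⟩ | ⟨-, h' | h'⟩ <;>
        rcases p3_vals C J c with ⟨-, h'' | h''⟩ | ⟨-, h'' | h''⟩ <;>
        first | omega | exact ⟨h, h', h''⟩
    exact mcl_B hab hac hbc hu hn hva.1 hva.2.1 hva.2.2
  · have hva : u a = 5 ∧ u b = 1 ∧ u c = 1 := by
      rw [hus] at h1 h2 ⊢
      rcases p5_vals C j a with ⟨ha1, h | h⟩ | ⟨ha1, h | h⟩
      · rcases p5_vals C j b with ⟨-, h' | h'⟩ | ⟨-, h' | h'⟩ <;>
          rcases p5_vals C j c with ⟨-, h'' | h''⟩ | ⟨-, h'' | h''⟩ <;>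
          first | omega | exact ⟨h, h', h''⟩
      · exfalso
        rcases p5_vals C j b with ⟨-, h' | h'⟩ | ⟨-, h' | h'⟩ <;> omega
      · exfalso
        rcases p5_vals C j b with ⟨hb1, h' | h'⟩ | ⟨-, h' | h'⟩
        · rcases p5_vals C j c with ⟨hc1, h'' | h''⟩ | ⟨-, h'' | h''⟩
          · exact hbc (hb1.trans hc1.symm)
          · exact hbc (hb1.trans hc1.symm)
          · omega
          · omega
        · omega
        · omega
        · omega
      · exfalso
        rcases p5_vals C j b with ⟨-, h' | h'⟩ | ⟨-, h' | h'⟩ <;> omega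
    exact ⟨a, b, c, u, hab, hac, hbc, connT_refl (P44_mem hab) (P44_mem hac) hu, hva.1, hva.2.1,
      hva.2.2⟩

theorem exists_O1 : ∃ O ∈ octads, (none : GolayPt) ∈ O ∧ (some 0 : GolayPt) ∈ O ∧
    (some 1 : GolayPt) ∈ O := by
  have hT : ({none, some 0, some 1, some 2} : Finset GolayPt).card = 4 := by decide
  obtain ⟨O, hO, hsub⟩ := exists_octad_superset hT
  exact ⟨O, hO, hsub (by decide), hsub (by decide), hsub (by decide)⟩

/-- a fixed octad through `none`, `some 0`, `some 1` -/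
noncomputable def O1 : Finset GolayPt := Classical.choose exists_O1

theorem O1_spec : O1 ∈ octads ∧ (none : GolayPt) ∈ O1 ∧ (some 0 : GolayPt) ∈ O1 ∧
    (some 1 : GolayPt) ∈ O1 := Classical.choose_spec exists_O1

theorem shape_5 {a : GolayPt} {v : GolayPt → ℤ} (hv : v ∈ leechLattice)
    (hn : sqNorm v = 48) (ha : v a = 5) :
    ∃ C ∈ supports (golayCode : Set (GolayPt → ZMod 2)), v = oddv C (p5 a) := by
  classical
  rcases (leech_norm48_iff v).1 ⟨hv, hn⟩ with ⟨s, T, hs, hT, hev, rfl⟩ |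
    ⟨s, T, k, c, hs, hT, hodd, hk, hc, rfl⟩ | ⟨C, J, hC, hJ, rfl⟩ | ⟨C, j, hC, rfl⟩
  · exfalso
    have := sv_even 2 (by norm_num) s T a
    omega
  · exfalso
    have := ev_even s T k (c := c) (by rcases hc with h | h <;> rw [h] <;> norm_num) a
    omega
  · exfalso
    rcases p3_vals C J a with ⟨-, h | h⟩ | ⟨-, h | h⟩ <;> omega
  · have hja : a = j := by
      rcases p5_vals C j a with ⟨h, -⟩ | ⟨-, h | h⟩
      · exact h
      · omega
      · omega
    subst hja
    exact ⟨C, hC, rfl⟩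

/-- the McLaughlin triples are all connected to a standard one -/
theorem connT_mcl {v x u : GolayPt → ℤ} (hv : v ∈ leechLattice) (hvn : sqNorm v = 32)
    (hx : x ∈ leechLattice) (hxn : sqNorm x = 32) (hu : u ∈ leechLattice) (hun : sqNorm u = 48)
    (hvx : dotInt v x = 16) (hvu : dotInt v u = 24) (hxu : dotInt x u = 24) :
    ConnT v x u (P44 none (some 0)) (P44 none (some 1)) (oddv O1 (p5 none)) := by
  classical
  have h01 : (none : GolayPt) ≠ some 0 := by decide
  have h02 : (none : GolayPt) ≠ some 1 := by decide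
  have h12 : (some 0 : GolayPt) ≠ some 1 := by decide
  -- step 0: the pair
  have c0 := (connP_m2 hv hvn (leechLattice.neg_mem hx) (by rw [sqNorm_neg]; exact hxn)
    (by rw [dotInt_neg_right, hvx])).neg2
  have eW : -W2c = D44 none (some 1) := by
    funext i
    unfold W2c D44
    simp only [Pi.neg_apply]
    split_ifs <;> simp
  rw [eW] at c0
  -- step 1: sign change at `some 1`
  have hkA : (some 1 : GolayPt) ∉ ({none, some 0} : Finset GolayPt) := by decide
  have hA : ({none, some 0} : Finset GolayPt).card ≤ 4 := by decide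
  obtain ⟨O, hO, hkO, hOA⟩ := exists_octad_avoid hkA hA
  have hnO : (none : GolayPt) ∉ O := hOA _ (by simp)
  have hzO : (some 0 : GolayPt) ∉ O := hOA _ (by simp)
  have c1 := connP_sgn c0.mem_right1 c0.mem_right2 hO.1
  have e1 : sgnVec O (P44 none (some 0)) = P44 none (some 0) := by
    apply sgnVec_eq_self
    intro i hi
    have hi1 : i ≠ none := fun h => hnO (h ▸ hi)
    have hi2 : i ≠ some 0 := fun h => hzO (h ▸ hi)
    simp [P44_apply, hi1, hi2]
  have e2 : sgnVec O (D44 none (some 1)) = P44 none (some 1) := by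
    funext i
    unfold sgnVec D44 P44
    by_cases hi1 : i = none
    · subst hi1; simp [hnO]
    · by_cases hi2 : i = some 1
      · subst hi2; simp [hkO]
      · by_cases hi3 : i ∈ O <;> simp [hi1, hi2, hi3]
  rw [e1, e2] at c1
  have c2 := c0.trans c1
  -- step 2: bring in `u`
  obtain ⟨u1, hT1⟩ := c2.toT hu
  have hu1 := hT1.mem_right3
  have hn1 : sqNorm u1 = 48 := by rw [hT1.sqNorm_eq3, hun]
  have hd1 := hT1.dot_eq13
  have hd2 := hT1.dot_eq23
  rw [hvu, dot_P44 h01] at hd1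
  rw [hxu, dot_P44 h02] at hd2
  -- step 3: normalise `u`
  obtain ⟨a', b', c', u2, hab', hac', hbc', hT2, ha2, hb2, hc2⟩ :=
    mcl_norm h01 h02 h12 hu1 hn1 (by omega) (by omega)
  have hu2 := hT2.mem_right3
  have hn2 : sqNorm u2 = 48 := by rw [hT2.sqNorm_eq3, hn1]
  -- step 4: permute to the standard positions
  obtain ⟨σ, hσ, s1, s2, s3⟩ := M24_three_trans h01 h02 h12 hab' hac' hbc'
  have hT3 := connT_perm hT2.mem_right1 hT2.mem_right2 hu2 hσ
  have q1 : ∀ i, σ i = a' ↔ i = none := fun i => by rw [← s1]; exact σ.injective.eq_iff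
  have q2 : ∀ i, σ i = b' ↔ i = some 0 := fun i => by rw [← s2]; exact σ.injective.eq_iff
  have q3 : ∀ i, σ i = c' ↔ i = some 1 := fun i => by rw [← s3]; exact σ.injective.eq_iff
  have e3 : (fun i => P44 a' b' (σ i)) = P44 none (some 0) := by
    funext i
    simp only [P44_apply, q1, q2]
  have e4 : (fun i => P44 a' c' (σ i)) = P44 none (some 1) := by
    funext i
    simp only [P44_apply, q1, q3]
  rw [e3, e4] at hT3
  have hu3 := hT3.mem_right3
  have hn3 : sqNorm (fun i => u2 (σ i)) = 48 := by rw [hT3.sqNorm_eq3, hn2]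
  have ha3 : (fun i => u2 (σ i)) none = 5 := by show u2 (σ none) = 5; rw [s1]; exact ha2
  have hb3 : (fun i => u2 (σ i)) (some 0) = 1 := by show u2 (σ (some 0)) = 1; rw [s2]; exact hb2
  have hc3 : (fun i => u2 (σ i)) (some 1) = 1 := by show u2 (σ (some 1)) = 1; rw [s3]; exact hc2
  -- step 5: sign change to the standard `u`
  obtain ⟨C, hC, hCeq⟩ := shape_5 hu3 hn3 ha3
  rw [hCeq] at hT3 ha3 hb3 hc3
  have haC : (none : GolayPt) ∈ C := by
    rw [oddv_mod4 C (p5_odd none) none, ha3]; norm_num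
  have hbC : (some 0 : GolayPt) ∈ C := by
    rw [oddv_mod4 C (p5_odd none) (some 0), hb3]; norm_num
  have hcC : (some 1 : GolayPt) ∈ C := by
    rw [oddv_mod4 C (p5_odd none) (some 1), hc3]; norm_num
  obtain ⟨hO1, hO2, hO3, hO4⟩ := O1_spec
  have hS := supports_symmDiff hC hO1.1
  have hT4 := connT_sgn hT3.mem_right1 hT3.mem_right2 hT3.mem_right3 hS
  rw [sgnVec_oddv_symm] at hT4
  have hnS : (none : GolayPt) ∉ (C \ O1) ∪ (O1 \ C) := by simp [haC, hO2]
  have hzS : (some 0 : GolayPt) ∉ (C \ O1) ∪ (O1 \ C) := by simp [hbC, hO3]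
  have hoS : (some 1 : GolayPt) ∉ (C \ O1) ∪ (O1 \ C) := by simp [hcC, hO4]
  have e5 : sgnVec ((C \ O1) ∪ (O1 \ C)) (P44 none (some 0)) = P44 none (some 0) := by
    apply sgnVec_eq_self
    intro i hi
    have hi1 : i ≠ none := fun h => hnS (h ▸ hi)
    have hi2 : i ≠ some 0 := fun h => hzS (h ▸ hi)
    simp [P44_apply, hi1, hi2]
  have e6 : sgnVec ((C \ O1) ∪ (O1 \ C)) (P44 none (some 1)) = P44 none (some 1) := by
    apply sgnVec_eq_self
    intro i hi
    have hi1 : i ≠ none := fun h => hnS (h ▸ hi)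
    have hi2 : i ≠ some 1 := fun h => hoS (h ▸ hi)
    simp [P44_apply, hi1, hi2]
  rw [e5, e6] at hT4
  exact ((hT1.trans hT2).trans hT3).trans hT4

end Cfsg.Agent.Lib.Helper3
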