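import Mathlib
import Cfsg.Prelude.Def_Sporadic_a
import Cfsg.Agent.Lib.Helper3.Co0Trans64

set_option autoImplicit false

/-!
Helper library (helper3): the subgroup `Jgen` of `Co0` generated by the monomial maps (sign
changes on codewords, coordinate permutations from `M24`, negation) and the maps `ξ_T` is
transitive on the vectors of `sqNorm = 64`; hence `Jgen = Co0` (see `GenCo0`).
This file repeats the proofs of `Co0Trans64` with `ConnF` relative to `Jgen`.
-/

namespace Cfsg.Agent.Lib.Helper3.Gen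

open Cfsg Cfsg.Agent.Lib.Helper21 Cfsg.Agent.Lib.Helper3

/-- the generating moves -/
def moves : Set (Equiv.Perm leechLattice) :=
  {g | (∃ (C : Finset GolayPt) (hC : C ∈ supports (golayCode : Set (GolayPt → ZMod 2))),
      g = sgnL C hC) ∨
    (∃ (σ : Equiv.Perm GolayPt) (hσ : σ ∈ M24), g = permL σ hσ) ∨
    (∃ (T : Finset GolayPt) (hT : T.card = 4), g = xiL T hT) ∨ g = Equiv.neg leechLattice}

/-- the subgroup generated by the moves -/
def Jgen : Subgroup (Equiv.Perm leechLattice) := Subgroup.closure moves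

theorem Jgen_le : Jgen ≤ Co0 := by
  unfold Jgen
  rw [Subgroup.closure_le]
  rintro g (⟨C, hC, rfl⟩ | ⟨σ, hσ, rfl⟩ | ⟨T, hT, rfl⟩ | rfl)
  · exact sgnL_mem C hC
  · exact permL_mem σ hσ
  · exact xiL_mem T hT
  · exact neg_mem_Co0

/-- `y` is the image of the lattice vector `x` under an element of `Jgen`. -/
def ConnF (x y : GolayPt → ℤ) : Prop :=
  ∃ (hx : x ∈ leechLattice) (g : Equiv.Perm leechLattice), g ∈ Jgen ∧ (g ⟨x, hx⟩).1 = y

theorem connF_refl {x : GolayPt → ℤ} (hx : x ∈ leechLattice) : ConnF x x :=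
  ⟨hx, 1, one_mem _, rfl⟩

theorem ConnF.mem_left {x y : GolayPt → ℤ} (h : ConnF x y) : x ∈ leechLattice := h.1

theorem ConnF.mem_right {x y : GolayPt → ℤ} (h : ConnF x y) : y ∈ leechLattice := by
  obtain ⟨hx, g, hg, rfl⟩ := h
  exact (g _).2

theorem ConnF.sqNorm_eq {x y : GolayPt → ℤ} (h : ConnF x y) : sqNorm y = sqNorm x := by
  obtain ⟨hx, g, hg, rfl⟩ := h
  exact (Jgen_le hg).2 _

theorem ConnF.symm {x y : GolayPt → ℤ} (h : ConnF x y) : ConnF y x := by
  obtain ⟨hx, g, hg, rfl⟩ := h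
  refine ⟨(g _).2, g⁻¹, inv_mem hg, ?_⟩
  simp

theorem ConnF.trans {x y z : GolayPt → ℤ} (h1 : ConnF x y) (h2 : ConnF y z) : ConnF x z := by
  obtain ⟨hx, g, hg, rfl⟩ := h1
  obtain ⟨hy, h, hh, rfl⟩ := h2
  exact ⟨hx, h * g, mul_mem hh hg, by simp [Equiv.Perm.mul_apply]⟩

theorem connF_neg {x : GolayPt → ℤ} (hx : x ∈ leechLattice) : ConnF x (-x) :=
  ⟨hx, Equiv.neg _, Subgroup.subset_closure (Or.inr (Or.inr (Or.inr rfl))), rfl⟩

theorem connF_sgn {x : GolayPt → ℤ} (hx : x ∈ leechLattice) {C : Finset GolayPt}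
    (hC : C ∈ supports (golayCode : Set (GolayPt → ZMod 2))) : ConnF x (sgnVec C x) :=
  ⟨hx, sgnL C hC, Subgroup.subset_closure (Or.inl ⟨C, hC, rfl⟩), rfl⟩

theorem connF_perm {x : GolayPt → ℤ} (hx : x ∈ leechLattice) {σ : Equiv.Perm GolayPt}
    (hσ : σ ∈ M24) : ConnF x (fun i => x (σ i)) :=
  ⟨hx, permL σ hσ, Subgroup.subset_closure (Or.inr (Or.inl ⟨σ, hσ, rfl⟩)), rfl⟩

theorem connF_xi {x : GolayPt → ℤ} (hx : x ∈ leechLattice) (T : Finset GolayPt)
    (hT : T.card = 4) :
    ∃ y, ConnF x y ∧ ∀ j, 2 * y j = eps T j * (2 * x j - ∑ k ∈ tet T hT j, x k) :=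
  ⟨_, ⟨hx, xiL T hT, Subgroup.subset_closure (Or.inr (Or.inr (Or.inl ⟨T, hT, rfl⟩))), rfl⟩,
    fun j => xiL_apply T hT ⟨x, hx⟩ j⟩

/-- the `ξ_T` step on the tetrad `T` itself -/
theorem connF_xi_T {x : GolayPt → ℤ} (hx : x ∈ leechLattice) (T : Finset GolayPt)
    (hT : T.card = 4) :
    ∃ y, ConnF x y ∧ ∀ j ∈ T, 2 * y j = (∑ k ∈ T, x k) - 2 * x j := by
  obtain ⟨y, hy, hyj⟩ := connF_xi hx T hT
  refine ⟨y, hy, fun j hj => ?_⟩
  have h1 := hyj j
  rw [tet_eq_T T hT hj] at h1
  have h2 : eps T j = -1 := by unfold eps; rw [if_pos hj]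
  rw [h2] at h1
  linarith

theorem connF_P8 (j : GolayPt) {c : ℤ} (hc : c = 8 ∨ c = -8) :
    ConnF (fun i => if i = j then c else 0) E0 := by
  have h8 : ConnF (fun i => if i = j then (8 : ℤ) else 0) E0 := by
    obtain ⟨σ, hσ, hσj⟩ := M24_trans none j
    have h2 := connF_perm (e8_mem j) hσ
    have h3 : (fun i => (fun i => if i = j then (8 : ℤ) else 0) (σ i)) = E0 := by
      funext i
      unfold E0
      by_cases hi : i = none
      · subst hi; simp [hσj]
      · have : σ i ≠ j := fun h => hi (σ.injective (h.trans hσj.symm))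
        simp [hi, this]
    rw [h3] at h2
    exact h2
  rcases hc with rfl | rfl
  · exact h8
  · have h1 : (fun i => if i = j then (-8 : ℤ) else 0) = -(fun i => if i = j then (8 : ℤ) else 0) := by
      funext i
      by_cases hi : i = j <;> simp [hi]
    have h2 := (connF_neg (e8_mem j)).symm
    rw [← h1] at h2
    exact h2.trans h8

theorem connF_H1 {x : GolayPt → ℤ} (h : x ∈ famV 8 1) : ConnF x E0 := by
  obtain ⟨s, T, hs, hT, rfl⟩ := h
  obtain ⟨j, rfl⟩ := Finset.card_eq_one.1 hs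
  by_cases hj : j ∈ T
  · have : sv 8 {j} T = fun i => if i = j then (-8 : ℤ) else 0 := by
      funext i
      unfold sv
      by_cases hi : i = j
      · subst hi; simp [hj]
      · have : i ∉ T := fun h => hi (Finset.mem_singleton.1 (hT h))
        simp [hi, this]
    rw [this]
    exact connF_P8 j (Or.inr rfl)
  · have : sv 8 {j} T = fun i => if i = j then (8 : ℤ) else 0 := by
      funext i
      unfold sv
      by_cases hi : i = j
      · subst hi; simp [hj]
      · have : i ∉ T := fun h => hi (Finset.mem_singleton.1 (hT h))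
        simp [hi, this]
    rw [this]
    exact connF_P8 j (Or.inl rfl)

/-- recognition: a coordinate `±8` -/
theorem connF_of_coord8 {x : GolayPt → ℤ} (hx : x ∈ leechLattice) (hn : sqNorm x = 64)
    {j : GolayPt} (hj : |x j| = 8) : ConnF x E0 := by
  rcases norm64_cases hx hn with h | h | h | h | h | h | h | h
  · exact connF_H1 h
  · exfalso; have := famS_abs_le h j; omega
  · exfalso; have := famS_abs_le h j; omega
  · exfalso; have := evSig_abs_le (sub_sig_H4 h) j; omega
  · exfalso; have := famS_abs_le h j; omega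
  · exfalso; have := famS_abs_le h j; omega
  · exfalso; have := famO_abs h j; omega
  · exfalso; have := famO_abs h j; omega

theorem connF_H2_odd {x : GolayPt → ℤ} (hx : x ∈ leechLattice) (hn : sqNorm x = 64)
    {U : Finset GolayPt} (hU : U.card = 4) (hv : ∀ i ∈ U, x i = 4 ∨ x i = -4)
    (hs : ∑ i ∈ U, x i = 8 ∨ ∑ i ∈ U, x i = -8) : ConnF x E0 := by
  obtain ⟨y, hy, hyj⟩ := connF_xi_T hx U hU
  have hyn : sqNorm y = 64 := by rw [hy.sqNorm_eq, hn]
  rcases hs with hs | hs
  · -- some coordinate is `-4`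
    have hex : ∃ j ∈ U, x j = -4 := by
      by_contra hcon
      push Not at hcon
      have : ∑ i ∈ U, x i = ∑ i ∈ U, (4 : ℤ) := by
        apply Finset.sum_congr rfl
        intro i hi
        rcases hv i hi with h | h
        · exact h
        · exact absurd h (hcon i hi)
      rw [this, Finset.sum_const, hU] at hs
      norm_num at hs
    obtain ⟨j, hjU, hj⟩ := hex
    have h1 := hyj j hjU
    rw [hs, hj] at h1
    have h2 : y j = 8 := by omega
    exact hy.trans (connF_of_coord8 hy.mem_right hyn (by rw [h2]; norm_num))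
  · have hex : ∃ j ∈ U, x j = 4 := by
      by_contra hcon
      push Not at hcon
      have : ∑ i ∈ U, x i = ∑ i ∈ U, (-4 : ℤ) := by
        apply Finset.sum_congr rfl
        intro i hi
        rcases hv i hi with h | h
        · exact absurd h (hcon i hi)
        · exact h
      rw [this, Finset.sum_const, hU] at hs
      norm_num at hs
    obtain ⟨j, hjU, hj⟩ := hex
    have h1 := hyj j hjU
    rw [hs, hj] at h1
    have h2 : y j = -8 := by omega
    exact hy.trans (connF_of_coord8 hy.mem_right hyn (by rw [h2]; norm_num))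

theorem connF_sv4U {U W : Finset GolayPt} (hU : U.card = 4) (hW : W ⊆ U)
    (hx : sv 4 U W ∈ leechLattice) : ConnF (sv 4 U W) E0 := by
  classical
  have hn : sqNorm (sv 4 U W) = 64 := by rw [sqNorm_sv 4 hW, hU]; norm_num
  have hv : ∀ i ∈ U, sv 4 U W i = 4 ∨ sv 4 U W i = -4 := by
    intro i hi
    unfold sv
    by_cases h : i ∈ W
    · right; rw [if_pos h]
    · left; rw [if_neg h, if_pos hi]
  have hsum : ∑ i ∈ U, sv 4 U W i = 16 - 8 * (W.card : ℤ) := by
    have h1 : ∑ i ∈ U, sv 4 U W i = ∑ i, sv 4 U W i := by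
      apply Finset.sum_subset (Finset.subset_univ _)
      intro i _ hi
      exact sv_notMem hW hi
    rw [h1, sum_sv 4 hW, hU]; push_cast; ring
  have hWle : W.card ≤ 4 := by rw [← hU]; exact Finset.card_le_card hW
  by_cases hodd : W.card = 1 ∨ W.card = 3
  · apply connF_H2_odd hx hn hU hv
    rw [hsum]
    rcases hodd with h | h <;> rw [h] <;> norm_num
  · -- flip one sign
    have hne : U.Nonempty := by rw [← Finset.card_pos, hU]; norm_num
    obtain ⟨u, hu⟩ := hne
    have hA : (U.erase u).card ≤ 4 := by rw [Finset.card_erase_of_mem hu, hU]; norm_num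
    obtain ⟨O, hO, huO, hOA⟩ := exists_octad_avoid (k := u) (A := U.erase u)
      (Finset.notMem_erase u U) hA
    have h1 := connF_sgn hx hO.1
    have hv' : ∀ i ∈ U, sgnVec O (sv 4 U W) i = 4 ∨ sgnVec O (sv 4 U W) i = -4 := by
      intro i hi
      unfold sgnVec
      by_cases hiO : i ∈ O
      · rw [if_pos hiO]
        rcases hv i hi with h | h <;> rw [h] <;> norm_num
      · rw [if_neg hiO]; exact hv i hi
    have hsum' : ∑ i ∈ U, sgnVec O (sv 4 U W) i = (16 - 8 * (W.card : ℤ)) - 2 * sv 4 U W u := by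
      rw [← hsum]
      have h2 : ∀ i ∈ U, sgnVec O (sv 4 U W) i = sv 4 U W i -
          (if i = u then 2 * sv 4 U W u else 0) := by
        intro i hi
        unfold sgnVec
        by_cases hiu : i = u
        · subst hiu
          rw [if_pos huO, if_pos rfl]; ring
        · have : i ∉ O := hOA i (Finset.mem_erase.2 ⟨hiu, hi⟩)
          rw [if_neg this, if_neg hiu]; ring
      rw [Finset.sum_congr rfl h2, Finset.sum_sub_distrib, Finset.sum_ite_eq' U u]
      rw [if_pos hu]
    refine h1.trans (connF_H2_odd h1.mem_right (by rw [h1.sqNorm_eq, hn]) hU hv' ?_)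
    rw [hsum']
    by_cases huW : u ∈ W
    · have h : sv 4 U W u = -4 := by unfold sv; rw [if_pos huW]
      have hpos : 0 < W.card := Finset.card_pos.2 ⟨u, huW⟩
      have hW' : W.card = 2 ∨ W.card = 4 := by omega
      rw [h]
      rcases hW' with h' | h' <;> rw [h'] <;> norm_num
    · have h : sv 4 U W u = 4 := by unfold sv; rw [if_neg huW, if_pos hu]
      have hlt : W.card < U.card := Finset.card_lt_card (Finset.ssubset_iff_subset_ne.2
        ⟨hW, fun h => huW (h ▸ hu)⟩)
      have hW' : W.card = 0 ∨ W.card = 2 := by omega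
      rw [h]
      rcases hW' with h' | h' <;> rw [h'] <;> norm_num

theorem connF_H2 {x : GolayPt → ℤ} (h : x ∈ famS B0 (fun t => t = 0) 4) : ConnF x E0 := by
  have hmem := (famS_mem 64 B0_spec (fun t w ht => by rw [ht]; push_cast; omega) (by norm_num) h).1
  obtain ⟨s, T, U, W, hs, hT, -, hU, hk, hW, rfl⟩ := h
  have hs' : s = ∅ := hs
  subst hs'
  have hT' : T = ∅ := Finset.subset_empty.1 hT
  subst hT'
  have h1 : ev2 ∅ ∅ U W = sv 4 U W := by
    funext i
    unfold ev2 sv
    simp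
  rw [h1] at hmem ⊢
  exact connF_sv4U hk hW hmem

/-- recognition: three coordinates `±4` -/
theorem connF_of_three4 {x : GolayPt → ℤ} (hx : x ∈ leechLattice) (hn : sqNorm x = 64)
    (A : Finset GolayPt) (hA : A.card = 3) (hA4 : ∀ i ∈ A, |x i| = 4) : ConnF x E0 := by
  have hne : A.Nonempty := by rw [← Finset.card_pos, hA]; norm_num
  obtain ⟨j, hj⟩ := hne
  have hj4 := hA4 j hj
  rcases norm64_cases hx hn with h | h | h | h | h | h | h | h
  · exact connF_H1 h
  · exact connF_H2 h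
  · exfalso; have := famS_four_card h A hA4; omega
  · exfalso
    rcases famI_vals h j with h' | h' | h' | h' | h' <;> rw [h'] at hj4 <;> norm_num at hj4
  · exfalso; have := famS_four_card h A hA4; omega
  · exfalso; have := famS_four_card h A hA4; omega
  · exfalso; have := famO_abs h j; omega
  · exfalso; have := famO_abs h j; omega

theorem connF_H4_core {x : GolayPt → ℤ} (hx : x ∈ leechLattice) (hn : sqNorm x = 64)
    {s : Finset GolayPt} (hs : s.card = 8) {j : GolayPt} (hj : j ∈ s) (h6 : x j = 6)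
    (h2 : ∀ i ∈ s, i ≠ j → x i = 2 ∨ x i = -2) (hP : ∃ a ∈ s, a ≠ j ∧ x a = 2) :
    ConnF x E0 := by
  classical
  obtain ⟨P, hPdef⟩ : ∃ P, P = (s.erase j).filter (fun i => x i = 2) := ⟨_, rfl⟩
  obtain ⟨M, hMdef⟩ : ∃ M, M = (s.erase j).filter (fun i => ¬ x i = 2) := ⟨_, rfl⟩
  have hPM : P.card + M.card = 7 := by
    rw [hPdef, hMdef, Finset.card_filter_add_card_filter_not, Finset.card_erase_of_mem hj, hs]
  have hPmem : ∀ i ∈ P, i ∈ s ∧ i ≠ j ∧ x i = 2 := by
    intro i hi
    rw [hPdef, Finset.mem_filter, Finset.mem_erase] at hi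
    exact ⟨hi.1.2, hi.1.1, hi.2⟩
  have hMmem : ∀ i ∈ M, i ∈ s ∧ i ≠ j ∧ x i = -2 := by
    intro i hi
    rw [hMdef, Finset.mem_filter, Finset.mem_erase] at hi
    refine ⟨hi.1.2, hi.1.1, ?_⟩
    rcases h2 i hi.1.2 hi.1.1 with h | h
    · exact absurd h hi.2
    · exact h
  by_cases h3 : 3 ≤ P.card
  · obtain ⟨t3, ht3, hc3⟩ := Finset.exists_subset_card_eq h3
    have hj3 : j ∉ t3 := fun h => (hPmem j (ht3 h)).2.1 rfl
    obtain ⟨T, hTdef⟩ : ∃ T, T = insert j t3 := ⟨_, rfl⟩
    have hT : T.card = 4 := by rw [hTdef, Finset.card_insert_of_notMem hj3, hc3]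
    obtain ⟨y, hy, hyj⟩ := connF_xi_T hx T hT
    have hyn : sqNorm y = 64 := by rw [hy.sqNorm_eq, hn]
    have hsum : ∑ k ∈ T, x k = 12 := by
      rw [hTdef, Finset.sum_insert hj3, h6]
      have : ∑ k ∈ t3, x k = ∑ k ∈ t3, (2 : ℤ) :=
        Finset.sum_congr rfl (fun k hk => (hPmem k (ht3 hk)).2.2)
      rw [this, Finset.sum_const, hc3]; norm_num
    refine hy.trans (connF_of_three4 hy.mem_right hyn t3 hc3 (fun i hi => ?_))
    have h1 := hyj i (by rw [hTdef]; exact Finset.mem_insert_of_mem hi)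
    rw [hsum, (hPmem i (ht3 hi)).2.2] at h1
    have : y i = 4 := by omega
    rw [this]; norm_num
  · obtain ⟨a, has, haj, ha2⟩ := hP
    obtain ⟨t2, ht2, hc2⟩ := Finset.exists_subset_card_eq (s := M) (n := 2) (by omega)
    have ha2' : a ∉ t2 := fun h => by
      have := (hMmem a (ht2 h)).2.2
      rw [ha2] at this; norm_num at this
    have hj2 : j ∉ insert a t2 := by
      rw [Finset.mem_insert, not_or]
      exact ⟨fun h => haj h.symm, fun h => (hMmem j (ht2 h)).2.1 rfl⟩
    obtain ⟨T, hTdef⟩ : ∃ T, T = insert j (insert a t2) := ⟨_, rfl⟩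
    have hT : T.card = 4 := by
      rw [hTdef, Finset.card_insert_of_notMem hj2, Finset.card_insert_of_notMem ha2', hc2]
    obtain ⟨y, hy, hyj⟩ := connF_xi_T hx T hT
    have hyn : sqNorm y = 64 := by rw [hy.sqNorm_eq, hn]
    have hsum : ∑ k ∈ T, x k = 4 := by
      rw [hTdef, Finset.sum_insert hj2, Finset.sum_insert ha2', h6, ha2]
      have : ∑ k ∈ t2, x k = ∑ k ∈ t2, (-2 : ℤ) :=
        Finset.sum_congr rfl (fun k hk => (hMmem k (ht2 hk)).2.2)
      rw [this, Finset.sum_const, hc2]; norm_num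
    have hj2'' : j ∉ t2 := fun h => (hMmem j (ht2 h)).2.1 rfl
    refine hy.trans (connF_of_three4 hy.mem_right hyn (insert j t2)
      (by rw [Finset.card_insert_of_notMem hj2'', hc2]) (fun i hi => ?_))
    rcases Finset.mem_insert.1 hi with rfl | hi2
    · have h1 := hyj i (by rw [hTdef]; exact Finset.mem_insert_self _ _)
      rw [hsum, h6] at h1
      have : y i = -4 := by omega
      rw [this]; norm_num
    · have h1 := hyj i (by
        rw [hTdef]; exact Finset.mem_insert_of_mem (Finset.mem_insert_of_mem hi2))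
      rw [hsum, (hMmem i (ht2 hi2)).2.2] at h1
      have : y i = 4 := by omega
      rw [this]; norm_num

theorem connF_H4_pos {x : GolayPt → ℤ} (hx : x ∈ leechLattice) (hn : sqNorm x = 64)
    {s : Finset GolayPt} (hs : s.card = 8) {j : GolayPt} (hj : j ∈ s) (h6 : x j = 6)
    (h2 : ∀ i ∈ s, i ≠ j → x i = 2 ∨ x i = -2) : ConnF x E0 := by
  classical
  by_cases hP : ∃ a ∈ s, a ≠ j ∧ x a = 2
  · exact connF_H4_core hx hn hs hj h6 h2 hP
  · push Not at hP
    have hex : ∃ a ∈ s, a ≠ j := by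
      have h1 : 1 < s.card := by rw [hs]; norm_num
      obtain ⟨a, ha, b, hb, hab⟩ := Finset.one_lt_card.1 h1
      by_cases h : a = j
      · exact ⟨b, hb, fun h' => hab (h.trans h'.symm)⟩
      · exact ⟨a, ha, h⟩
    obtain ⟨a, has, haj⟩ := hex
    have ha2 : x a = -2 := by
      rcases h2 a has haj with h | h
      · exact absurd h (hP a has haj)
      · exact h
    obtain ⟨O, hO, haO, hjO⟩ := exists_octad_sep haj
    have h1 := connF_sgn hx hO.1
    refine h1.trans (connF_H4_core h1.mem_right (by rw [h1.sqNorm_eq, hn]) hs hj ?_ ?_ ?_)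
    · unfold sgnVec; rw [if_neg hjO, h6]
    · intro i hi hij
      unfold sgnVec
      by_cases hiO : i ∈ O
      · rw [if_pos hiO]
        rcases h2 i hi hij with h | h <;> rw [h] <;> norm_num
      · rw [if_neg hiO]; exact h2 i hi hij
    · refine ⟨a, has, haj, ?_⟩
      unfold sgnVec; rw [if_pos haO, ha2]; norm_num

theorem connF_H4 {x : GolayPt → ℤ} (h : x ∈ famI octads Odd) : ConnF x E0 := by
  have hmem := famI_mem 64 (B := octads) (P := Odd) (m := 8) (fun s hs => ⟨hs.1, hs.2⟩)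
    (fun t w ht => by
      obtain ⟨r, hr⟩ := ht
      rw [hr]; push_cast; omega) (by norm_num) h
  obtain ⟨hx, hn⟩ := hmem
  obtain ⟨s, T, j, hs, hT, -, hj, rfl⟩ := h
  have hvals := fun i => ev2_vals hT (Finset.inter_subset_left) (agree_single s T j) i
  have hjU : j ∈ ({j} : Finset GolayPt) := Finset.mem_singleton_self j
  have h2 : ∀ i ∈ s, i ≠ j → ev2 s T {j} ({j} ∩ T) i = 2 ∨ ev2 s T {j} ({j} ∩ T) i = -2 := by
    intro i hi hij
    have hiU : i ∉ ({j} : Finset GolayPt) := by rw [Finset.mem_singleton]; exact hij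
    obtain ⟨-, h2, -, -⟩ := hvals i
    by_cases hTi : i ∈ T
    · right; exact (h2 hi hiU).1 hTi
    · left; exact (h2 hi hiU).2 hTi
  by_cases hjT : j ∈ T
  · -- negate
    have h6 : ev2 s T {j} ({j} ∩ T) j = -6 := ((hvals j).1 hj hjU).1 hjT
    have h1 := connF_neg hx
    refine h1.trans (connF_H4_pos h1.mem_right (by rw [h1.sqNorm_eq, hn]) hs.2 hj ?_ ?_)
    · rw [Pi.neg_apply, h6]; norm_num
    · intro i hi hij
      rw [Pi.neg_apply]
      rcases h2 i hi hij with h | h <;> rw [h] <;> norm_num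
  · have h6 : ev2 s T {j} ({j} ∩ T) j = 6 := ((hvals j).1 hj hjU).2 hjT
    exact connF_H4_pos hx hn hs.2 hj h6 h2

/-- recognition: a coordinate `±6` -/
theorem connF_of_coord6 {x : GolayPt → ℤ} (hx : x ∈ leechLattice) (hn : sqNorm x = 64)
    {j : GolayPt} (hj : |x j| = 6) : ConnF x E0 := by
  rcases norm64_cases hx hn with h | h | h | h | h | h | h | h
  · exact connF_H1 h
  · exact connF_H2 h
  · exfalso; have := famS_abs_le h j; omega
  · exact connF_H4 h
  · exfalso; have := famS_abs_le h j; omega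
  · exfalso; have := famS_abs_le h j; omega
  · exfalso; have := famO_abs h j; omega
  · exfalso; have := famO_abs h j; omega

theorem connF_H8 {x : GolayPt → ℤ} (h : x ∈ famO 2 1) : ConnF x E0 := by
  classical
  obtain ⟨hx, hn⟩ := famO_mem 64 (by norm_num) (by norm_num) h
  obtain ⟨C, J, K, hC, hd, hJ, hK, rfl⟩ := h
  obtain ⟨k, rfl⟩ := Finset.card_eq_one.1 hK
  have hkJ : k ∉ J := fun h => (Finset.disjoint_left.1 hd h) (Finset.mem_singleton_self k)
  obtain ⟨O, hO, hkO, hOJ⟩ := exists_octad_avoid hkJ (by omega)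
  have h1 := connF_sgn hx (supports_symmDiff hC hO.1)
  rw [sgnVec_oddv_symm] at h1
  have hn1 : sqNorm (oddv O (p35 J {k})) = 64 := by rw [h1.sqNorm_eq, hn]
  -- a point outside `O ∪ J`
  obtain ⟨m, hm⟩ := exists_notMem_of_card_lt (s := O ∪ J) (by
    have := Finset.card_union_le O J
    rw [hO.2, hJ] at this; omega)
  rw [Finset.mem_union, not_or] at hm
  have hmk : m ≠ k := fun h => hm.1 (h ▸ hkO)
  have hkJ' : k ∉ J := hkJ
  have hmkJ : m ∉ insert k J := by
    rw [Finset.mem_insert, not_or]; exact ⟨hmk, hm.2⟩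
  obtain ⟨T, hTdef⟩ : ∃ T, T = insert m (insert k J) := ⟨_, rfl⟩
  have hT : T.card = 4 := by
    rw [hTdef, Finset.card_insert_of_notMem hmkJ, Finset.card_insert_of_notMem hkJ', hJ]
  obtain ⟨y, hy, hyj⟩ := connF_xi_T h1.mem_right T hT
  have hyn : sqNorm y = 64 := by rw [hy.sqNorm_eq, hn1]
  have hxm : oddv O (p35 J {k}) m = -1 := by
    unfold oddv p35
    have : m ∉ ({k} : Finset GolayPt) := by rw [Finset.mem_singleton]; exact hmk
    simp [hm.1, hm.2, this]
  have hxk : oddv O (p35 J {k}) k = 5 := by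
    unfold oddv p35
    simp [hkO]
  have hxJ : ∀ i ∈ J, oddv O (p35 J {k}) i = 3 := by
    intro i hi
    have hik : i ∉ ({k} : Finset GolayPt) := by
      rw [Finset.mem_singleton]; intro h; exact hkJ (h ▸ hi)
    unfold oddv p35
    simp [hOJ i hi, hik, hi]
  have hsum : ∑ i ∈ T, oddv O (p35 J {k}) i = 10 := by
    rw [hTdef, Finset.sum_insert hmkJ, Finset.sum_insert hkJ', hxm, hxk,
      Finset.sum_congr rfl hxJ, Finset.sum_const, hJ]
    norm_num
  have h2 := hyj m (by rw [hTdef]; exact Finset.mem_insert_self _ _)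
  rw [hsum, hxm] at h2
  have h3 : y m = 6 := by omega
  exact h1.trans (hy.trans (connF_of_coord6 hy.mem_right hyn (by rw [h3]; norm_num)))

/-- recognition: a coordinate `±5` -/
theorem connF_of_coord5' {x : GolayPt → ℤ} (hx : x ∈ leechLattice) (hn : sqNorm x = 64)
    {j : GolayPt} (hj : |x j| = 5) : ConnF x E0 := by
  rcases norm64_cases hx hn with h | h | h | h | h | h | h | h
  · exact connF_H1 h
  · exact connF_H2 h
  · exfalso; have := famS_abs_le h j; omega
  · exact connF_H4 h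
  · exfalso; have := famS_abs_le h j; omega
  · exfalso; have := famS_abs_le h j; omega
  · exfalso; have := famO_abs h j; omega
  · exact connF_H8 h

theorem connF_H7 {x : GolayPt → ℤ} (h : x ∈ famO 5 0) : ConnF x E0 := by
  classical
  obtain ⟨hx, hn⟩ := famO_mem 64 (by norm_num) (by norm_num) h
  obtain ⟨C, J, K, hC, hd, hJ, hK, rfl⟩ := h
  have hK' : K = ∅ := Finset.card_eq_zero.1 hK
  subst hK'
  have h1 := connF_sgn hx hC
  rw [sgnVec_oddv_self] at h1
  have hn1 : sqNorm (oddv ∅ (p35 J ∅)) = 64 := by rw [h1.sqNorm_eq, hn]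
  obtain ⟨t3, ht3, hc3⟩ := Finset.exists_subset_card_eq (s := J) (n := 3) (by omega)
  obtain ⟨m, hm⟩ := exists_notMem_of_card_lt (s := J) (by omega)
  have hm3 : m ∉ t3 := fun h => hm (ht3 h)
  obtain ⟨T, hTdef⟩ : ∃ T, T = insert m t3 := ⟨_, rfl⟩
  have hT : T.card = 4 := by rw [hTdef, Finset.card_insert_of_notMem hm3, hc3]
  obtain ⟨y, hy, hyj⟩ := connF_xi_T h1.mem_right T hT
  have hyn : sqNorm y = 64 := by rw [hy.sqNorm_eq, hn1]
  have hxm : oddv ∅ (p35 J ∅) m = -1 := by
    unfold oddv p35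
    simp [hm]
  have hxJ : ∀ i ∈ t3, oddv ∅ (p35 J ∅) i = 3 := by
    intro i hi
    unfold oddv p35
    simp [ht3 hi]
  have hsum : ∑ i ∈ T, oddv ∅ (p35 J ∅) i = 8 := by
    rw [hTdef, Finset.sum_insert hm3, hxm, Finset.sum_congr rfl hxJ, Finset.sum_const, hc3]
    norm_num
  have h2 := hyj m (by rw [hTdef]; exact Finset.mem_insert_self _ _)
  rw [hsum, hxm] at h2
  have h3 : y m = 5 := by omega
  exact h1.trans (hy.trans (connF_of_coord5' hy.mem_right hyn (by rw [h3]; norm_num)))

/-- recognition: an odd coordinate -/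
theorem connF_odd64 {x : GolayPt → ℤ} (hx : x ∈ leechLattice) (hn : sqNorm x = 64)
    {j : GolayPt} (hj : x j % 2 = 1) : ConnF x E0 := by
  rcases norm64_cases hx hn with h | h | h | h | h | h | h | h
  · exact connF_H1 h
  · exact connF_H2 h
  · exfalso; have := evSig_even (sub_sig_H3 h) j; omega
  · exact connF_H4 h
  · exfalso; have := evSig_even (sub_sig_H5 h) j; omega
  · exfalso; have := evSig_even (sub_sig_H6 h) j; omega
  · exact connF_H7 h
  · exact connF_H8 h

theorem connF_famS {B : Set (Finset GolayPt)} {P : ℕ → Prop} {k : ℕ} {x : GolayPt → ℤ}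
    (hB : ∀ s ∈ B, 0 < s.card ∧ s.card ≤ 16)
    (hx : x ∈ leechLattice) (hn : sqNorm x = 64) (h : x ∈ famS B P k) : ConnF x E0 := by
  classical
  obtain ⟨s, T, U, W, hs, hT, -, hU, hk, hW, rfl⟩ := h
  obtain ⟨hpos, hle⟩ := hB s hs
  obtain ⟨a, ha⟩ := Finset.card_pos.1 hpos
  have hcard : 3 ≤ ((Finset.univ : Finset GolayPt) \ s).card := by
    rw [Finset.card_sdiff_of_subset (Finset.subset_univ _), Finset.card_univ, card_golayPt]
    omega
  obtain ⟨t3, ht3, hc3⟩ := Finset.exists_subset_card_eq hcard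
  have ht3' : ∀ i ∈ t3, i ∉ s := fun i hi => (Finset.mem_sdiff.1 (ht3 hi)).2
  have ha3 : a ∉ t3 := fun h => ht3' a h ha
  obtain ⟨T', hTdef⟩ : ∃ T', T' = insert a t3 := ⟨_, rfl⟩
  have hT' : T'.card = 4 := by rw [hTdef, Finset.card_insert_of_notMem ha3, hc3]
  obtain ⟨y, hy, hyj⟩ := connF_xi_T hx T' hT'
  have hyn : sqNorm y = 64 := by rw [hy.sqNorm_eq, hn]
  have h1 := hyj a (by rw [hTdef]; exact Finset.mem_insert_self _ _)
  rw [hTdef, Finset.sum_insert ha3] at h1
  have h2 : ev2 s T U W a % 4 = 2 := (ev2_mod4 hT U W a).1 ha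
  have h3 : (∑ i ∈ t3, ev2 s T U W i) % 4 = 0 := by
    rw [Finset.sum_int_mod]
    have : ∑ i ∈ t3, ev2 s T U W i % 4 = ∑ i ∈ t3, (0 : ℤ) := by
      apply Finset.sum_congr rfl
      intro i hi
      have h4 := ev2_even s T U W i
      have h5 : ¬ ev2 s T U W i % 4 = 2 := fun h => ht3' i hi ((ev2_mod4 hT U W i).2 h)
      omega
    rw [this]; simp
  have h4 : y a % 2 = 1 := by omega
  exact hy.trans (connF_odd64 hy.mem_right hyn h4)

/-- every vector of `sqNorm = 64` is connected to `E0` -/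
theorem connF_norm64 {x : GolayPt → ℤ} (hx : x ∈ leechLattice) (hn : sqNorm x = 64) :
    ConnF x E0 := by
  rcases norm64_cases hx hn with h | h | h | h | h | h | h | h
  · exact connF_H1 h
  · exact connF_H2 h
  · exact connF_famS (fun s hs => by rw [hs.2]; norm_num) hx hn h
  · exact connF_H4 h
  · exact connF_famS (fun s hs => by rw [hs.2]; norm_num) hx hn h
  · exact connF_famS (fun s hs => by rw [hs.2]; norm_num) hx hn h
  · exact connF_H7 h
  · exact connF_H8 h


/-- `Jgen` is transitive on vectors of `sqNorm = 64` -/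
theorem jgen_trans_norm64 (v w : leechLattice) (hv : sqNorm v.1 = 64) (hw : sqNorm w.1 = 64) :
    ∃ g ∈ Jgen, g v = w := by
  have h1 := connF_norm64 v.2 hv
  have h2 := connF_norm64 w.2 hw
  obtain ⟨hx, g, hg, h3⟩ := h1.trans h2.symm
  exact ⟨g, hg, Subtype.ext h3⟩

end Cfsg.Agent.Lib.Helper3.Gen
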