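import Mathlib
import Cfsg.Agent.S0397
import Cfsg.Agent.S5392

/-!
Helper library (helper3): the monomial homomorphism `M24 → Co0` and the stabiliser in `Co0` of
the standard Higman–Sims triple `(5,1,1^22)`, `(4,-4,0^22)`, `(4,4,0^22)`: it is the image of
the two point stabiliser of `M24`.
-/

set_option autoImplicit false

namespace Cfsg.Agent.Lib.Helper3

open Cfsg Cfsg.Agent.Lib.Helper21 Cfsg.Agent.S5392

theorem hpq0 : (none : GolayPt) ≠ some 0 := by decide

theorem permL_congr {σ τ : Equiv.Perm GolayPt} (h : σ = τ) (hσ : σ ∈ M24) (hτ : τ ∈ M24) :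
    permL σ hσ = permL τ hτ := by
  subst h; rfl

/-- `permL` is an anti-homomorphism -/
theorem permL_mul (σ τ : Equiv.Perm GolayPt) (hσ : σ ∈ M24) (hτ : τ ∈ M24) :
    permL σ hσ * permL τ hτ = permL (τ * σ) (M24.mul_mem hτ hσ) := by
  apply Equiv.ext; intro y; apply Subtype.ext; funext i
  rfl

/-- the monomial homomorphism `M24 → Co0`, `σ ↦ (y ↦ y ∘ σ⁻¹)` -/
def permHom : ↥M24 →* ↥Co0 where
  toFun σ := ⟨permL σ.1⁻¹ (inv_mem σ.2), permL_mem _ _⟩
  map_one' := by
    apply Subtype.ext; apply Equiv.ext; intro y; apply Subtype.ext; funext i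
    show y.1 (((1 : ↥M24) : Equiv.Perm GolayPt)⁻¹ i) = y.1 i
    simp
  map_mul' σ τ := by
    apply Subtype.ext
    show permL (σ.1 * τ.1)⁻¹ (inv_mem (M24.mul_mem σ.2 τ.2)) =
      permL σ.1⁻¹ (inv_mem σ.2) * permL τ.1⁻¹ (inv_mem τ.2)
    rw [permL_mul]
    exact permL_congr (mul_inv_rev _ _) _ _

theorem permHom_apply (σ : ↥M24) (y : leechLattice) (i : GolayPt) :
    ((permHom σ) • y : leechLattice).1 i = y.1 (σ.1⁻¹ i) := rfl

theorem permHom_injective : Function.Injective permHom := by
  intro σ τ h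
  apply Subtype.ext
  apply Equiv.ext
  intro j
  have h1 : ((permHom σ) • (e8 j) : leechLattice).1 (σ.1 j) =
      ((permHom τ) • (e8 j) : leechLattice).1 (σ.1 j) := by rw [h]
  rw [permHom_apply, permHom_apply, e8_apply, e8_apply, if_pos (by simp)] at h1
  by_cases h2 : τ.1⁻¹ (σ.1 j) = j
  · rw [Equiv.Perm.inv_eq_iff_eq] at h2
    exact h2
  · rw [if_neg h2] at h1
    norm_num at h1

/-- the three standard vectors -/
def vS : leechLattice := ⟨p5 none, p5_mem none⟩
def mS : leechLattice := ⟨D44 none (some 0), D44_mem hpq0⟩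
def xS : leechLattice := ⟨P44 none (some 0), P44_mem hpq0⟩

theorem mS_add_xS : mS + xS = e8 none := by
  apply Subtype.ext; funext i
  show D44 none (some 0) i + P44 none (some 0) i = if i = none then (8 : ℤ) else 0
  unfold D44 P44
  by_cases h1 : i = none
  · simp [h1]
  · by_cases h2 : i = some 0
    · simp [h2]
    · simp [h1, h2]

theorem xS_sub_mS : xS - mS = e8 (some 0) := by
  apply Subtype.ext; funext i
  show P44 none (some 0) i - D44 none (some 0) i = if i = some 0 then (8 : ℤ) else 0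
  unfold D44 P44
  by_cases h1 : i = none
  · simp [h1]
  · by_cases h2 : i = some 0
    · simp [h2]
    · simp [h1, h2]

/-- an element of `Co0` fixing the standard triple is a coordinate permutation from the two point
stabiliser of `M24` -/
theorem stab_std (g : ↥Co0) (h1 : g • vS = vS) (h2 : g • mS = mS) (h3 : g • xS = xS) :
    ∃ σ : ↥M24, σ.1 none = none ∧ σ.1 (some 0) = some 0 ∧ permHom σ = g := by
  classical
  have hee : g • e8 none = e8 none := by
    rw [← mS_add_xS, co0_add, h2, h3]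
  have he0 : g • e8 (some 0) = e8 (some 0) := by
    rw [← xS_sub_mS, co0_sub, h2, h3]
  have hst : g ∈ Cfsg.Agent.S0397.stabH :=
    Cfsg.Agent.S0397.stab_le (MulAction.mem_stabilizer_iff.2 hee)
  obtain ⟨σ, hσ, C, hC, hg⟩ := Cfsg.Agent.S1571.structure_of_stab g.1 g.2 hst
  have key : ∀ j : GolayPt, g • e8 j = e8 j → σ j = j ∧ j ∉ C := by
    intro j hj
    have e1 : (g.1 (e8 j)).1 = (e8 j).1 := congrArg Subtype.val hj
    rw [hg, Cfsg.Agent.S1571.e8_val, Cfsg.Agent.S1571.signedPerm_single] at e1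
    obtain ⟨e2, e3⟩ := Cfsg.Agent.S1571.single_inj (by split_ifs <;> norm_num) e1
    refine ⟨e2, ?_⟩
    intro hjC
    rw [e2, if_pos hjC] at e3
    norm_num at e3
  obtain ⟨hσn, hnC⟩ := key none hee
  obtain ⟨hσ0, h0C⟩ := key (some 0) he0
  have hCe : C = ∅ := by
    rw [Finset.eq_empty_iff_forall_notMem]
    intro i hi
    have e1 : (g.1 vS).1 i = vS.1 i := congrFun (congrArg Subtype.val h1) i
    rw [hg] at e1
    unfold signedPerm at e1
    rw [if_pos hi] at e1
    have p1 : ∀ k, 0 < p5 none k := by intro k; unfold p5; split_ifs <;> norm_num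
    have := p1 i
    have := p1 (σ.symm i)
    show False
    have e2 : -(p5 none (σ.symm i)) = p5 none i := e1
    omega
  refine ⟨⟨σ, hσ⟩, hσn, hσ0, ?_⟩
  apply Subtype.ext; apply Equiv.ext; intro y; apply Subtype.ext; funext i
  rw [hg, hCe]
  unfold signedPerm
  rw [if_neg (Finset.notMem_empty i)]
  rfl

/-- conversely the two point stabiliser fixes the standard triple -/
theorem permHom_fix (σ : ↥M24) (hn : σ.1 none = none) (h0 : σ.1 (some 0) = some 0) :
    permHom σ • vS = vS ∧ permHom σ • mS = mS ∧ permHom σ • xS = xS := by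
  have e1 : ∀ i, σ.1⁻¹ i = none ↔ i = none := by
    intro i; rw [Equiv.Perm.inv_eq_iff_eq, hn]
  have e2 : ∀ i, σ.1⁻¹ i = some 0 ↔ i = some 0 := by
    intro i; rw [Equiv.Perm.inv_eq_iff_eq, h0]
  refine ⟨?_, ?_, ?_⟩
  · apply Subtype.ext; funext i
    rw [permHom_apply]
    show p5 none (σ.1⁻¹ i) = p5 none i
    unfold p5
    simp only [e1]
  · apply Subtype.ext; funext i
    rw [permHom_apply]
    show D44 none (some 0) (σ.1⁻¹ i) = D44 none (some 0) i
    unfold D44
    simp only [e1, e2]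
  · apply Subtype.ext; funext i
    rw [permHom_apply]
    show P44 none (some 0) (σ.1⁻¹ i) = P44 none (some 0) i
    unfold P44
    simp only [e1, e2]

end Cfsg.Agent.Lib.Helper3
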