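import Mathlib
import Cfsg.Agent.Lib.Helper3.GenTrans
import Cfsg.Agent.Lib.Helper3.StdStab

/-!
Helper library (helper3): `Co0` is generated by the monomial maps and the maps `ξ_T`.
-/

set_option autoImplicit false

namespace Cfsg.Agent.Lib.Helper3

open Cfsg Cfsg.Agent.Lib.Helper21

/-- an element of `Co0` preserving the standard cross is monomial -/
theorem eq_mono_of_stab (g : Equiv.Perm leechLattice) (hg : g ∈ Co0)
    (hstab : ∀ v : ↥leechLattice, (v : GolayPt → ℤ) ∈ stdCross →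
      ((g v : ↥leechLattice) : GolayPt → ℤ) ∈ stdCross) :
    ∃ (σ : Equiv.Perm GolayPt) (hσ : σ ∈ M24) (C : Finset GolayPt)
      (hC : C ∈ supports (golayCode : Set (GolayPt → ZMod 2))),
      g = sgnL C hC * permL σ⁻¹ (inv_mem hσ) := by
  obtain ⟨σ, hσ, C, hC, h⟩ := Cfsg.Agent.S1571.structure_of_stab g hg hstab
  refine ⟨σ, hσ, C, hC, ?_⟩
  apply Equiv.ext
  intro y
  apply Subtype.ext
  rw [h]
  rfl

theorem co0_le_Jgen : Co0 ≤ Gen.Jgen := by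
  intro g hg
  have hn : sqNorm (g (e8 none)).1 = 64 := by
    rw [hg.2]; exact Cfsg.Agent.S0397.ee_norm
  obtain ⟨j, hj, hje⟩ := Gen.jgen_trans_norm64 (e8 none) (g (e8 none)) Cfsg.Agent.S0397.ee_norm hn
  have hjC : j ∈ Co0 := Gen.Jgen_le hj
  have hfix : (j⁻¹ * g) (e8 none) = e8 none := by
    rw [Equiv.Perm.mul_apply, ← hje]
    simp
  have hmem : j⁻¹ * g ∈ Co0 := Co0.mul_mem (Co0.inv_mem hjC) hg
  have hst : (⟨j⁻¹ * g, hmem⟩ : ↥Co0) ∈ Cfsg.Agent.S0397.stabH :=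
    Cfsg.Agent.S0397.stab_le (MulAction.mem_stabilizer_iff.2 hfix)
  obtain ⟨σ, hσ, C, hC, h⟩ := eq_mono_of_stab (j⁻¹ * g) hmem hst
  have h1 : j⁻¹ * g ∈ Gen.Jgen := by
    rw [h]
    exact Gen.Jgen.mul_mem (Subgroup.subset_closure (Or.inl ⟨C, hC, rfl⟩))
      (Subgroup.subset_closure (Or.inr (Or.inl ⟨σ⁻¹, inv_mem hσ, rfl⟩)))
  have := Gen.Jgen.mul_mem hj h1
  rwa [mul_inv_cancel_left] at this

/-- a subgroup of `Co0` containing all the moves is everything -/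
theorem eq_top_of_moves (K : Subgroup ↥Co0)
    (h1 : ∀ (C : Finset GolayPt) (hC : C ∈ supports (golayCode : Set (GolayPt → ZMod 2))),
      (⟨sgnL C hC, sgnL_mem C hC⟩ : ↥Co0) ∈ K)
    (h2 : ∀ (σ : Equiv.Perm GolayPt) (hσ : σ ∈ M24), (⟨permL σ hσ, permL_mem σ hσ⟩ : ↥Co0) ∈ K)
    (h3 : ∀ (T : Finset GolayPt) (hT : T.card = 4), (⟨xiL T hT, xiL_mem T hT⟩ : ↥Co0) ∈ K)
    (h4 : (⟨Equiv.neg leechLattice, neg_mem_Co0⟩ : ↥Co0) ∈ K) : K = ⊤ := by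
  rw [eq_top_iff]
  intro g _
  have hle : Gen.Jgen ≤ K.map Co0.subtype := by
    unfold Gen.Jgen
    rw [Subgroup.closure_le]
    rintro g (⟨C, hC, rfl⟩ | ⟨σ, hσ, rfl⟩ | ⟨T, hT, rfl⟩ | rfl)
    · exact ⟨_, h1 C hC, rfl⟩
    · exact ⟨_, h2 σ hσ, rfl⟩
    · exact ⟨_, h3 T hT, rfl⟩
    · exact ⟨_, h4, rfl⟩
  obtain ⟨k, hk, hkg⟩ := hle (co0_le_Jgen g.2)
  have : k = g := Subtype.ext hkg
  rw [← this]
  exact hk

end Cfsg.Agent.Lib.Helper3
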