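import Mathlib
import Cfsg.Agent.Lib.Helper3.Co0Xi
import Cfsg.Agent.Lib.Helper3.Co0Sign
import Cfsg.Agent.Lib.Helper3.LeechShapes
import Cfsg.Agent.Lib.Helper3.Golay
import Cfsg.Agent.Lib.Helper3.Co0Count2

/-!
Helper library (helper3): the braid relation `ξ_T ε_O ξ_T = ε_O ξ_T ε_O` for an octad `O`
meeting the tetrad `T` in three points (so `ξ_T ε_O` has order 3).
-/

set_option autoImplicit false

namespace Cfsg.Agent.Lib.Helper3

open Cfsg Cfsg.Agent.Lib.Helper21

/-- two octads meet in 0, 2, 4 or 8 points -/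
theorem octad_inter_card {O O' : Finset GolayPt} (hO : O ∈ octads) (hO' : O' ∈ octads) :
    (O ∩ O').card = 0 ∨ (O ∩ O').card = 2 ∨ (O ∩ O').card = 4 ∨ (O ∩ O').card = 8 := by
  classical
  have h1 := supports_card_cases (supports_symmDiff hO.1 hO'.1)
  have h2 : ((O \ O') ∪ (O' \ O)).card + 2 * (O ∩ O').card = 16 := by
    have d1 : Disjoint (O \ O') (O' \ O) := by
      rw [Finset.disjoint_left]; intro x hx hx'
      exact (Finset.mem_sdiff.1 hx).2 (Finset.mem_sdiff.1 hx').1
    rw [Finset.card_union_of_disjoint d1]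
    have e1 := Finset.card_sdiff_add_card_inter O O'
    have e2 := Finset.card_sdiff_add_card_inter O' O
    rw [Finset.inter_comm O' O] at e2
    rw [hO.2] at e1
    rw [hO'.2] at e2
    omega
  omega

section
variable (T : Finset GolayPt) (hT : T.card = 4)

/-- tetrad sums -/
noncomputable def tS (y : GolayPt → ℤ) (j : GolayPt) : ℤ := ∑ k ∈ tet T hT j, y k

/-- partial tetrad sums over `O` -/
noncomputable def tP (O : Finset GolayPt) (y : GolayPt → ℤ) (j : GolayPt) : ℤ :=
  ∑ k ∈ tet T hT j ∩ O, y k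

variable {T hT}

theorem tS_xi {y y' : GolayPt → ℤ}
    (hX : ∀ j, 2 * y' j = eps T j * (2 * y j - tS T hT y j)) (j : GolayPt) :
    tS T hT y' j = - (eps T j * tS T hT y j) := by
  have h1 : ∀ k ∈ tet T hT j, 2 * y' k = eps T j * (2 * y k - tS T hT y j) := by
    intro k hk
    rw [hX k, eps_tet T hT hk]
    unfold tS
    rw [tet_eq_of_mem_tet T hT hk]
  have h2 : 2 * tS T hT y' j = ∑ k ∈ tet T hT j, eps T j * (2 * y k - tS T hT y j) := by
    unfold tS
    rw [Finset.mul_sum]
    exact Finset.sum_congr rfl h1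
  rw [← Finset.mul_sum, Finset.sum_sub_distrib, ← Finset.mul_sum, Finset.sum_const, tet_card,
    nsmul_eq_mul] at h2
  have h3 : ∑ k ∈ tet T hT j, y k = tS T hT y j := rfl
  rw [h3] at h2
  push_cast at h2
  have : 2 * tS T hT y' j = 2 * (-(eps T j * tS T hT y j)) := by rw [h2]; ring
  linarith

theorem tP_xi (O : Finset GolayPt) {y y' : GolayPt → ℤ}
    (hX : ∀ j, 2 * y' j = eps T j * (2 * y j - tS T hT y j)) (j : GolayPt) :
    2 * tP T hT O y' j =
      eps T j * (2 * tP T hT O y j - ((tet T hT j ∩ O).card : ℤ) * tS T hT y j) := by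
  have h1 : ∀ k ∈ tet T hT j ∩ O, 2 * y' k = eps T j * (2 * y k - tS T hT y j) := by
    intro k hk
    have hk' := (Finset.mem_inter.1 hk).1
    rw [hX k, eps_tet T hT hk']
    unfold tS
    rw [tet_eq_of_mem_tet T hT hk']
  unfold tP
  rw [Finset.mul_sum, Finset.sum_congr rfl h1, ← Finset.mul_sum, Finset.sum_sub_distrib,
    ← Finset.mul_sum, Finset.sum_const, nsmul_eq_mul]

theorem tS_sgn (O : Finset GolayPt) (y : GolayPt → ℤ) (j : GolayPt) :
    tS T hT (sgnVec O y) j = tS T hT y j - 2 * tP T hT O y j := by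
  classical
  unfold tS tP sgnVec
  rw [Finset.sum_ite, Finset.sum_neg_distrib]
  have h1 : (tet T hT j).filter (fun k => k ∈ O) = tet T hT j ∩ O := by
    ext k; simp [Finset.mem_filter, Finset.mem_inter]
  have h2 := Finset.sum_filter_add_sum_filter_not (tet T hT j) (fun k => k ∈ O) y
  rw [h1] at h2 ⊢
  linarith

theorem tP_sgn (O : Finset GolayPt) (y : GolayPt → ℤ) (j : GolayPt) :
    tP T hT O (sgnVec O y) j = - tP T hT O y j := by
  unfold tP sgnVec
  rw [← Finset.sum_neg_distrib]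
  apply Finset.sum_congr rfl
  intro k hk
  rw [if_pos (Finset.mem_inter.1 hk).2]

/-- the coordinatewise braid identity -/
theorem braid_coord {O : Finset GolayPt} (hO : O ∈ octads) (h3 : (O ∩ T).card = 3)
    {y y1 y3 z2 : GolayPt → ℤ}
    (hy1 : ∀ j, 2 * y1 j = eps T j * (2 * y j - tS T hT y j))
    (hy3 : ∀ j, 2 * y3 j = eps T j * (2 * sgnVec O y1 j - tS T hT (sgnVec O y1) j))
    (hz2 : ∀ j, 2 * z2 j = eps T j * (2 * sgnVec O y j - tS T hT (sgnVec O y) j))
    (j : GolayPt) : y3 j = sgnVec O z2 j := by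
  classical
  have a1 := hy3 j
  rw [tS_sgn, tS_xi hy1] at a1
  have a2 := tP_xi O hy1 j
  have a3 := hy1 j
  have b1 := hz2 j
  rw [tS_sgn] at b1
  have hee := eps_sq T j
  -- structure of `O` relative to the tetrad of `j`
  by_cases hjT : j ∈ T
  · -- the tetrad is `T`
    have ht : tet T hT j = T := tet_eq_T T hT hjT
    have he : eps T j = -1 := by unfold eps; rw [if_pos hjT]
    have hc : ((tet T hT j ∩ O).card : ℤ) = 3 := by
      rw [ht, Finset.inter_comm, h3]; norm_num
    -- the missing point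
    have hd : ∃ d ∈ T, d ∉ O ∧ T ∩ O = T.erase d := by
      have hsd : (T \ O).card = 1 := by
        have := Finset.card_sdiff_add_card_inter T O
        rw [Finset.inter_comm, h3, hT] at this
        omega
      obtain ⟨d, hd⟩ := Finset.card_eq_one.1 hsd
      have hdm : d ∈ T \ O := by rw [hd]; exact Finset.mem_singleton_self d
      refine ⟨d, (Finset.mem_sdiff.1 hdm).1, (Finset.mem_sdiff.1 hdm).2, ?_⟩
      ext k
      rw [Finset.mem_inter, Finset.mem_erase]
      constructor
      · rintro ⟨h1, h2⟩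
        exact ⟨fun h => (Finset.mem_sdiff.1 hdm).2 (h ▸ h2), h1⟩
      · rintro ⟨h1, h2⟩
        refine ⟨h2, ?_⟩
        by_contra hkO
        have : k ∈ T \ O := Finset.mem_sdiff.2 ⟨h2, hkO⟩
        rw [hd, Finset.mem_singleton] at this
        exact h1 this
    obtain ⟨d, hdT, hdO, hTO⟩ := hd
    have hP : tP T hT O y j = tS T hT y j - y d := by
      unfold tP tS
      rw [ht, hTO]
      have := Finset.add_sum_erase T y hdT
      linarith
    rw [hc, he] at a2
    rw [he] at a1 a3 b1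
    unfold sgnVec at a1 b1 ⊢
    by_cases hjO : j ∈ O
    · rw [if_pos hjO] at a1 b1 ⊢
      linarith
    · rw [if_neg hjO] at a1 b1 ⊢
      have hjd : j = d := by
        by_contra hne
        have : j ∈ T.erase d := Finset.mem_erase.2 ⟨hne, hjT⟩
        rw [← hTO] at this
        exact hjO (Finset.mem_inter.1 this).2
      rw [hjd] at a1 a3 b1 ⊢
      rw [hjd] at hP a2
      linarith
  · -- another tetrad
    have he : eps T j = 1 := by unfold eps; rw [if_neg hjT]
    have hne : T.Nonempty := by rw [← Finset.card_pos]; omega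
    obtain ⟨a, haT⟩ := hne
    have hta : tet T hT a = T := tet_eq_T T hT haT
    have hneq : tet T hT a ≠ tet T hT j := by
      rw [hta]; intro h; exact hjT (h ▸ mem_tet T hT j)
    have hoct := tet_union_octad T hT hneq
    have hdis := tet_disjoint T hT hneq
    rw [hta] at hoct hdis
    have hcard : (O ∩ (T ∪ tet T hT j)).card = 3 + (tet T hT j ∩ O).card := by
      rw [Finset.inter_union_distrib_left, Finset.card_union_of_disjoint, h3,
        Finset.inter_comm O (tet T hT j)]
      rw [Finset.disjoint_left]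
      intro k hk hk'
      exact (Finset.disjoint_left.1 hdis (Finset.mem_inter.1 hk).2) (Finset.mem_inter.1 hk').2
    have hle : (tet T hT j ∩ O).card ≤ 4 := by
      have := Finset.card_le_card (Finset.inter_subset_left : tet T hT j ∩ O ⊆ tet T hT j)
      rw [tet_card] at this
      exact this
    have hc1 : (tet T hT j ∩ O).card = 1 := by
      rcases octad_inter_card hO hoct with h | h | h | h <;> omega
    have hc : ((tet T hT j ∩ O).card : ℤ) = 1 := by rw [hc1]; norm_num
    rw [hc, he] at a2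
    rw [he] at a1 a3 b1
    unfold sgnVec at a1 b1 ⊢
    by_cases hjO : j ∈ O
    · rw [if_pos hjO] at a1 b1 ⊢
      obtain ⟨o, ho⟩ := Finset.card_eq_one.1 hc1
      have hjm : j ∈ tet T hT j ∩ O := Finset.mem_inter.2 ⟨mem_tet T hT j, hjO⟩
      rw [ho, Finset.mem_singleton] at hjm
      have hP : tP T hT O y j = y j := by
        unfold tP
        rw [ho, Finset.sum_singleton, hjm]
      linarith
    · rw [if_neg hjO] at a1 b1 ⊢
      linarith

end

/-- the braid relation in `Co0` -/
theorem xi_braid (T : Finset GolayPt) (hT : T.card = 4) {O : Finset GolayPt} (hO : O ∈ octads)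
    (h3 : (O ∩ T).card = 3) :
    xiL T hT * sgnL O hO.1 * xiL T hT = sgnL O hO.1 * xiL T hT * sgnL O hO.1 := by
  apply Equiv.ext; intro y; apply Subtype.ext; funext j
  show (xiL T hT (sgnL O hO.1 (xiL T hT y))).1 j = sgnVec O (xiL T hT (sgnL O hO.1 y)).1 j
  exact braid_coord (T := T) (hT := hT) hO h3 (y := y.1) (y1 := (xiL T hT y).1)
    (fun j => xiL_apply T hT y j)
    (fun j => xiL_apply T hT (sgnL O hO.1 (xiL T hT y)) j)
    (fun j => xiL_apply T hT (sgnL O hO.1 y) j) j

/-- an octad meeting a given tetrad in exactly three points -/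
theorem exists_octad_three {T : Finset GolayPt} (hT : T.card = 4) :
    ∃ O ∈ octads, (O ∩ T).card = 3 := by
  classical
  have hne : T.Nonempty := by rw [← Finset.card_pos]; omega
  obtain ⟨d, hd⟩ := hne
  have hS : (T.erase d).card = 3 := by rw [Finset.card_erase_of_mem hd, hT]
  have h21 := (lam_5_8_24 card_golayPt octads_steiner (T.erase d)).2.2.2.1 hS
  have h5 := (lam_5_8_24 card_golayPt octads_steiner T).2.2.2.2 hT
  have hlt : ((blocksFinset octads).filter (T ⊆ ·)).card <
      ((blocksFinset octads).filter (T.erase d ⊆ ·)).card := by rw [h21, h5]; norm_num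
  obtain ⟨O, hO1, hO2⟩ := Finset.exists_mem_notMem_of_card_lt_card hlt
  obtain ⟨hOb, hOS⟩ := Finset.mem_filter.1 hO1
  have hOoct : O ∈ octads := mem_blocksFinset.1 hOb
  have hdO : d ∉ O := by
    intro hdO
    apply hO2
    refine Finset.mem_filter.2 ⟨hOb, ?_⟩
    intro k hk
    by_cases hkd : k = d
    · rw [hkd]; exact hdO
    · exact hOS (Finset.mem_erase.2 ⟨hkd, hk⟩)
  refine ⟨O, hOoct, ?_⟩
  have : O ∩ T = T.erase d := by
    ext k
    rw [Finset.mem_inter, Finset.mem_erase]
    constructor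
    · rintro ⟨h1, h2⟩
      exact ⟨fun h => hdO (h ▸ h1), h2⟩
    · rintro ⟨h1, h2⟩
      exact ⟨hOS (Finset.mem_erase.2 ⟨h1, h2⟩), h2⟩
  rw [this, hS]

/-- a normal subgroup of `Co0` containing the sign changes contains every `ξ_T` -/
theorem xi_mem_of_normal (K : Subgroup ↥Co0) [hK : K.Normal]
    (h1 : ∀ (C : Finset GolayPt) (hC : C ∈ supports (golayCode : Set (GolayPt → ZMod 2))),
      (⟨sgnL C hC, sgnL_mem C hC⟩ : ↥Co0) ∈ K)
    (T : Finset GolayPt) (hT : T.card = 4) : (⟨xiL T hT, xiL_mem T hT⟩ : ↥Co0) ∈ K := by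
  obtain ⟨O, hO, h3⟩ := exists_octad_three hT
  have hb := xi_braid T hT hO h3
  have he := h1 O hO.1
  -- ξ = ε (ξ ε ξ⁻¹) ε
  have hconj := hK.conj_mem _ he (⟨xiL T hT, xiL_mem T hT⟩ : ↥Co0)
  have hprod := K.mul_mem (K.mul_mem he hconj) he
  have hxx : xiL T hT * xiL T hT = 1 := by
    apply Equiv.ext; intro y
    exact xiMap_xiMap T hT y
  have hss : sgnL O hO.1 * sgnL O hO.1 = 1 := by
    apply Equiv.ext; intro y; apply Subtype.ext
    exact sgnVec_sgnVec O y.1
  have hxinv : (xiL T hT)⁻¹ = xiL T hT := inv_eq_of_mul_eq_one_right hxx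
  have key : (⟨xiL T hT, xiL_mem T hT⟩ : ↥Co0) =
      ⟨sgnL O hO.1, sgnL_mem O hO.1⟩ *
        (⟨xiL T hT, xiL_mem T hT⟩ * ⟨sgnL O hO.1, sgnL_mem O hO.1⟩ *
          (⟨xiL T hT, xiL_mem T hT⟩ : ↥Co0)⁻¹) * ⟨sgnL O hO.1, sgnL_mem O hO.1⟩ := by
    apply Subtype.ext
    show xiL T hT = sgnL O hO.1 * (xiL T hT * sgnL O hO.1 * (xiL T hT)⁻¹) * sgnL O hO.1
    rw [hxinv, hb]
    calc xiL T hT = (sgnL O hO.1 * sgnL O hO.1) * xiL T hT * (sgnL O hO.1 * sgnL O hO.1) := by
          rw [hss]; simp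
      _ = _ := by simp only [mul_assoc]
  rw [key]
  exact hprod

end Cfsg.Agent.Lib.Helper3
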