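import Mathlib
import Cfsg.Agent.Lib.Helper3.XiBraid
import Cfsg.Agent.Lib.Helper3.GenCo0
import Cfsg.Agent.S0365

/-!
Helper library (helper3): for an octad `O` meeting the tetrad `T` in two points the element
`ξ_T ε_O ξ_T` of `Co0` is monomial with a non-trivial permutation part.  Consequently a normal
subgroup of `Co0` containing all sign changes contains all coordinate permutations, hence is
all of `Co0`.
-/

set_option autoImplicit false

namespace Cfsg.Agent.Lib.Helper3

open Cfsg Cfsg.Agent.Lib.Helper21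

section
variable {T : Finset GolayPt} {hT : T.card = 4}

/-- coordinates of `ξ ε_O ξ y` -/
theorem xsx_coord (O : Finset GolayPt) {y y1 y3 : GolayPt → ℤ}
    (hy1 : ∀ j, 2 * y1 j = eps T j * (2 * y j - tS T hT y j))
    (hy3 : ∀ j, 2 * y3 j = eps T j * (2 * sgnVec O y1 j - tS T hT (sgnVec O y1) j))
    (j : GolayPt) :
    4 * y3 j = 2 * (if j ∈ O then -1 else 1) * (2 * y j - tS T hT y j) + 2 * tS T hT y j +
      4 * tP T hT O y j - 2 * ((tet T hT j ∩ O).card : ℤ) * tS T hT y j := by
  have a1 := hy3 j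
  rw [tS_sgn, tS_xi hy1] at a1
  have a2 := tP_xi O hy1 j
  have a3 := hy1 j
  unfold sgnVec at a1
  by_cases hjT : j ∈ T
  · have he : eps T j = -1 := by unfold eps; rw [if_pos hjT]
    rw [he] at a1 a2 a3
    by_cases hjO : j ∈ O
    · rw [if_pos hjO] at a1 ⊢; linarith
    · rw [if_neg hjO] at a1 ⊢; linarith
  · have he : eps T j = 1 := by unfold eps; rw [if_neg hjT]
    rw [he] at a1 a2 a3
    by_cases hjO : j ∈ O
    · rw [if_pos hjO] at a1 ⊢; linarith
    · rw [if_neg hjO] at a1 ⊢; linarith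

/-- an octad meeting `T` in two points meets every tetrad of the sextet in 0 or 2 points -/
theorem tet_inter_card_of_two {O : Finset GolayPt} (hO : O ∈ octads) (h2 : (O ∩ T).card = 2)
    (k : GolayPt) : (tet T hT k ∩ O).card = 0 ∨ (tet T hT k ∩ O).card = 2 := by
  classical
  by_cases hkT : k ∈ T
  · right
    rw [tet_eq_T T hT hkT, Finset.inter_comm, h2]
  · have hne : T.Nonempty := by rw [← Finset.card_pos]; omega
    obtain ⟨a, haT⟩ := hne
    have hta : tet T hT a = T := tet_eq_T T hT haT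
    have hneq : tet T hT a ≠ tet T hT k := by
      rw [hta]; intro h; exact hkT (h ▸ mem_tet T hT k)
    have hoct := tet_union_octad T hT hneq
    have hdis := tet_disjoint T hT hneq
    rw [hta] at hoct hdis
    have hcard : (O ∩ (T ∪ tet T hT k)).card = 2 + (tet T hT k ∩ O).card := by
      rw [Finset.inter_union_distrib_left, Finset.card_union_of_disjoint, h2,
        Finset.inter_comm O (tet T hT k)]
      rw [Finset.disjoint_left]
      intro i hi hi'
      exact (Finset.disjoint_left.1 hdis (Finset.mem_inter.1 hi).2) (Finset.mem_inter.1 hi').2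
    have hle : (tet T hT k ∩ O).card ≤ 4 := by
      have := Finset.card_le_card (Finset.inter_subset_left : tet T hT k ∩ O ⊆ tet T hT k)
      rw [tet_card] at this
      exact this
    rcases octad_inter_card hO hoct with h | h | h | h <;> omega

theorem tS_e8 (j k : GolayPt) : tS T hT (e8 j).1 k = if j ∈ tet T hT k then 8 else 0 := by
  unfold tS
  simp only [e8_apply]
  rw [Finset.sum_ite_eq']

theorem tP_e8 (O : Finset GolayPt) (j k : GolayPt) :
    tP T hT O (e8 j).1 k = if j ∈ tet T hT k ∩ O then 8 else 0 := by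
  unfold tP
  simp only [e8_apply]
  rw [Finset.sum_ite_eq']

/-- the coordinates of `ξ ε_O ξ (8 e_j)` are `0` or `±8` -/
theorem xsx_e8_vals {O : Finset GolayPt} (hO : O ∈ octads) (h2 : (O ∩ T).card = 2)
    (j : GolayPt) {y1 y3 : GolayPt → ℤ}
    (hy1 : ∀ i, 2 * y1 i = eps T i * (2 * (e8 j).1 i - tS T hT (e8 j).1 i))
    (hy3 : ∀ i, 2 * y3 i = eps T i * (2 * sgnVec O y1 i - tS T hT (sgnVec O y1) i))
    (k : GolayPt) : (y3 k = 0 ∨ y3 k = 8 ∨ y3 k = -8) ∧ (k = j → j ∈ O → y3 k = 0) := by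
  classical
  have h := xsx_coord O hy1 hy3 k
  rw [tS_e8, tP_e8, e8_apply] at h
  have hc := tet_inter_card_of_two (hT := hT) hO h2 k
  by_cases hjt : j ∈ tet T hT k
  · rw [if_pos hjt] at h
    rcases hc with hc | hc
    · -- no point of `O` in the tetrad
      have hem : tet T hT k ∩ O = ∅ := Finset.card_eq_zero.1 hc
      have hkO : k ∉ O := fun hk => by
        have : k ∈ tet T hT k ∩ O := Finset.mem_inter.2 ⟨mem_tet T hT k, hk⟩
        rw [hem] at this; exact absurd this (Finset.notMem_empty k)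
      have hjO : j ∉ tet T hT k ∩ O := by rw [hem]; exact Finset.notMem_empty j
      rw [if_neg hkO, if_neg hjO, hc] at h
      refine ⟨?_, ?_⟩
      · by_cases hkj : k = j
        · rw [if_pos hkj] at h; right; left; push_cast at h; linarith
        · rw [if_neg hkj] at h; left; push_cast at h; linarith
      · intro hkj hjO'
        exact absurd (hkj ▸ hjO') hkO
    · rw [hc] at h
      push_cast at h
      refine ⟨?_, ?_⟩
      · by_cases hkj : k = j <;> by_cases hkO : k ∈ O <;> by_cases hjO : j ∈ tet T hT k ∩ O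
        all_goals (try rw [if_pos hkj] at h) <;> (try rw [if_neg hkj] at h) <;>
          (try rw [if_pos hkO] at h) <;> (try rw [if_neg hkO] at h) <;>
          (try rw [if_pos hjO] at h) <;> (try rw [if_neg hjO] at h)
        all_goals first
          | (left; linarith)
          | (right; left; linarith)
          | (right; right; linarith)
      · intro hkj hjO
        have hkO : k ∈ O := hkj ▸ hjO
        have hjm : j ∈ tet T hT k ∩ O := Finset.mem_inter.2 ⟨hjt, hjO⟩
        rw [if_pos hkj, if_pos hkO, if_pos hjm] at h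
        linarith
  · rw [if_neg hjt] at h
    have hkj : ¬ k = j := fun e => hjt (e ▸ mem_tet T hT k)
    have hjO : j ∉ tet T hT k ∩ O := fun hh => hjt (Finset.mem_inter.1 hh).1
    rw [if_neg hkj, if_neg hjO] at h
    refine ⟨Or.inl (by linarith), fun e => absurd e hkj⟩

end

/-- a vector of `sqNorm = 64` with all coordinates in `{0, 8, -8}` is in the standard cross -/
theorem mem_stdCross_of_vals {x : GolayPt → ℤ} (hn : sqNorm x = 64)
    (hv : ∀ k, x k = 0 ∨ x k = 8 ∨ x k = -8) : x ∈ stdCross := by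
  classical
  have hex : ∃ k, x k ≠ 0 := by
    by_contra hcon
    push Not at hcon
    have : sqNorm x = 0 := by
      unfold sqNorm
      apply Finset.sum_eq_zero
      intro i _
      rw [hcon i]; norm_num
    rw [this] at hn; norm_num at hn
  obtain ⟨k, hk⟩ := hex
  have hk8 : x k = 8 ∨ x k = -8 := by
    rcases hv k with h | h | h
    · exact absurd h hk
    · exact Or.inl h
    · exact Or.inr h
  have hsq : x k ^ 2 = 64 := by rcases hk8 with h | h <;> rw [h] <;> norm_num
  have hsum : ∑ i ∈ Finset.univ.erase k, x i ^ 2 = 0 := by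
    have := Finset.add_sum_erase Finset.univ (fun i => x i ^ 2) (Finset.mem_univ k)
    unfold sqNorm at hn
    rw [hn] at this
    linarith
  have hz : ∀ i, i ≠ k → x i = 0 := by
    intro i hi
    have h1 := (Finset.sum_eq_zero_iff_of_nonneg (fun i _ => sq_nonneg (x i))).1 hsum i
      (Finset.mem_erase.2 ⟨hi, Finset.mem_univ i⟩)
    exact pow_eq_zero_iff (by norm_num) |>.1 h1
  refine ⟨k, x k, hk8, ?_⟩
  funext i
  rw [Pi.single_apply]
  by_cases hi : i = k
  · rw [if_pos hi, hi]
  · rw [if_neg hi, hz i hi]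

theorem neg_mem_stdCross {x : GolayPt → ℤ} (hx : x ∈ stdCross) : -x ∈ stdCross := by
  obtain ⟨i, s, hs, rfl⟩ := hx
  refine ⟨i, -s, ?_, ?_⟩
  · rcases hs with h | h <;> rw [h] <;> norm_num
  · funext k
    simp [Pi.single_apply]
    split_ifs <;> simp

/-- a tetrad and an octad meeting it in exactly two points -/
theorem exists_T_O : ∃ (T : Finset GolayPt) (_ : T.card = 4) (O : Finset GolayPt),
    O ∈ octads ∧ (O ∩ T).card = 2 ∧ ∃ p, p ∈ O ∧ p ∈ T := by
  classical
  obtain ⟨hO, -, -⟩ := O0_spec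
  have h8 : O0.card = 8 := hO.2
  obtain ⟨p, hp, q, hq, hpq⟩ := Finset.one_lt_card.1 (by rw [h8]; norm_num : 1 < O0.card)
  have h16 : (O0ᶜ).card = 16 := by
    rw [Finset.card_compl, h8, card_golayPt]
  obtain ⟨r, hr, s, hs, hrs⟩ := Finset.one_lt_card.1 (by rw [h16]; norm_num : 1 < (O0ᶜ).card)
  rw [Finset.mem_compl] at hr hs
  have hpr : p ≠ r := fun h => hr (h ▸ hp)
  have hps : p ≠ s := fun h => hs (h ▸ hp)
  have hqr : q ≠ r := fun h => hr (h ▸ hq)
  have hqs : q ≠ s := fun h => hs (h ▸ hq)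
  refine ⟨{p, q, r, s}, ?_, O0, hO, ?_, p, hp, by simp⟩
  · rw [Finset.card_insert_of_notMem, Finset.card_insert_of_notMem, Finset.card_pair hrs]
    · simp [hqr, hqs]
    · simp [hpq, hpr, hps]
  · have : O0 ∩ {p, q, r, s} = {p, q} := by
      ext k
      simp only [Finset.mem_inter, Finset.mem_insert, Finset.mem_singleton]
      constructor
      · rintro ⟨hk, rfl | rfl | rfl | rfl⟩
        · exact Or.inl rfl
        · exact Or.inr rfl
        · exact absurd hk hr
        · exact absurd hk hs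
      · rintro (rfl | rfl)
        · exact ⟨hp, Or.inl rfl⟩
        · exact ⟨hq, Or.inr (Or.inl rfl)⟩
    rw [this, Finset.card_pair hpq]

theorem sgnL_mul_self (C : Finset GolayPt)
    (hC : C ∈ supports (golayCode : Set (GolayPt → ZMod 2))) : sgnL C hC * sgnL C hC = 1 := by
  apply Equiv.ext; intro y; apply Subtype.ext
  exact sgnVec_sgnVec C y.1

theorem xiL_mul_self (T : Finset GolayPt) (hT : T.card = 4) : xiL T hT * xiL T hT = 1 := by
  apply Equiv.ext; intro y
  exact xiMap_xiMap T hT y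

/-- a normal subgroup of `Co0` containing the sign changes contains a non-trivial coordinate
permutation -/
theorem exists_perm_mem_of_normal (K : Subgroup ↥Co0) [hK : K.Normal]
    (h1 : ∀ (C : Finset GolayPt) (hC : C ∈ supports (golayCode : Set (GolayPt → ZMod 2))),
      (⟨sgnL C hC, sgnL_mem C hC⟩ : ↥Co0) ∈ K) :
    ∃ σ : ↥M24, σ ≠ 1 ∧ permHom σ ∈ K := by
  classical
  obtain ⟨T, hT, O, hO, h2, p, hpO, hpT⟩ := exists_T_O
  have hxinv : (xiL T hT)⁻¹ = xiL T hT := inv_eq_of_mul_eq_one_right (xiL_mul_self T hT)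
  have hm : (⟨xiL T hT * sgnL O hO.1 * xiL T hT,
      Co0.mul_mem (Co0.mul_mem (xiL_mem T hT) (sgnL_mem O hO.1)) (xiL_mem T hT)⟩ : ↥Co0) ∈ K := by
    have := hK.conj_mem _ (h1 O hO.1) (⟨xiL T hT, xiL_mem T hT⟩ : ↥Co0)
    have e : (⟨xiL T hT, xiL_mem T hT⟩ * ⟨sgnL O hO.1, sgnL_mem O hO.1⟩ *
        (⟨xiL T hT, xiL_mem T hT⟩ : ↥Co0)⁻¹) = ⟨xiL T hT * sgnL O hO.1 * xiL T hT,
      Co0.mul_mem (Co0.mul_mem (xiL_mem T hT) (sgnL_mem O hO.1)) (xiL_mem T hT)⟩ := by
      apply Subtype.ext
      show xiL T hT * sgnL O hO.1 * (xiL T hT)⁻¹ = _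
      rw [hxinv]
    rwa [e] at this
  set m : Equiv.Perm leechLattice := xiL T hT * sgnL O hO.1 * xiL T hT with hmdef
  have hmC : m ∈ Co0 := Co0.mul_mem (Co0.mul_mem (xiL_mem T hT) (sgnL_mem O hO.1)) (xiL_mem T hT)
  have hvals : ∀ j k, ((m (e8 j)).1 k = 0 ∨ (m (e8 j)).1 k = 8 ∨ (m (e8 j)).1 k = -8) ∧
      (k = j → j ∈ O → (m (e8 j)).1 k = 0) := by
    intro j k
    exact xsx_e8_vals (T := T) (hT := hT) hO h2 j (y1 := (xiL T hT (e8 j)).1)
      (y3 := (xiL T hT (sgnL O hO.1 (xiL T hT (e8 j)))).1)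
      (fun i => xiL_apply T hT (e8 j) i)
      (fun i => xiL_apply T hT (sgnL O hO.1 (xiL T hT (e8 j))) i) k
  have hcross : ∀ j, (m (e8 j)).1 ∈ stdCross := by
    intro j
    apply mem_stdCross_of_vals
    · rw [hmC.2]
      have := Cfsg.Agent.S1571.e8_cross j
      obtain ⟨i, s, hs, hv⟩ := this
      rw [hv]
      unfold sqNorm
      rw [Finset.sum_eq_single i]
      · rw [Pi.single_eq_same]; rcases hs with h | h <;> rw [h] <;> norm_num
      · intro b _ hb; rw [Pi.single_eq_of_ne hb]; norm_num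
      · intro h; exact absurd (Finset.mem_univ i) h
    · intro k; exact (hvals j k).1
  have hstab : ∀ v : ↥leechLattice, (v : GolayPt → ℤ) ∈ stdCross →
      ((m v : ↥leechLattice) : GolayPt → ℤ) ∈ stdCross := by
    intro v hv
    obtain ⟨i, s, hs, hvi⟩ := hv
    rcases hs with rfl | rfl
    · have : v = e8 i := by
        apply Subtype.ext; rw [hvi, Cfsg.Agent.S1571.e8_val]
      rw [this]; exact hcross i
    · have : v = -e8 i := by
        apply Subtype.ext
        rw [hvi]
        show _ = -(e8 i).1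
        rw [Cfsg.Agent.S1571.e8_val]
        funext k
        simp [Pi.single_apply]
        split_ifs <;> simp
      rw [this]
      have hneg : m (-e8 i) = -(m (e8 i)) := map_neg (co0Hom m hmC) (e8 i)
      rw [hneg]
      exact neg_mem_stdCross (hcross i)
  obtain ⟨σ, hσ, C, hC, hmeq⟩ := eq_mono_of_stab m hmC hstab
  refine ⟨⟨σ, hσ⟩, ?_, ?_⟩
  · intro h1σ
    have hσ1 : σ = 1 := congrArg Subtype.val h1σ
    have e1 := (hvals p p).2 rfl hpO
    rw [hmeq] at e1
    have e2 : ((sgnL C hC * permL σ⁻¹ (inv_mem hσ)) (e8 p)).1 p =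
        sgnVec C (fun i => (e8 p).1 (σ⁻¹ i)) p := rfl
    rw [e2, hσ1] at e1
    unfold sgnVec at e1
    simp only [inv_one, Equiv.Perm.coe_one, id_eq, e8_apply] at e1
    split_ifs at e1 <;> norm_num at e1
  · have e : permHom ⟨σ, hσ⟩ = ⟨sgnL C hC, sgnL_mem C hC⟩ * ⟨m, hmC⟩ := by
      apply Subtype.ext
      show permL σ⁻¹ (inv_mem hσ) = sgnL C hC * m
      rw [hmeq, ← mul_assoc, sgnL_mul_self, one_mul]
    rw [e]
    exact K.mul_mem (h1 C hC) hm

/-- a normal subgroup of `Co0` containing all the sign changes is everything -/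
theorem normal_eq_top_of_sgn (K : Subgroup ↥Co0) [hK : K.Normal]
    (h1 : ∀ (C : Finset GolayPt) (hC : C ∈ supports (golayCode : Set (GolayPt → ZMod 2))),
      (⟨sgnL C hC, sgnL_mem C hC⟩ : ↥Co0) ∈ K) : K = ⊤ := by
  obtain ⟨σ, hσ1, hσK⟩ := exists_perm_mem_of_normal K h1
  have hsimple : IsSimpleGroup ↥M24 := Cfsg.Agent.S0365.result
  have hcn : (K.comap permHom).Normal := hK.comap permHom
  have htop : K.comap permHom = ⊤ := by
    rcases hsimple.eq_bot_or_eq_top_of_normal _ hcn with h | h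
    · exfalso
      have : σ ∈ K.comap permHom := hσK
      rw [h, Subgroup.mem_bot] at this
      exact hσ1 this
    · exact h
  have hperm : ∀ (τ : Equiv.Perm GolayPt) (hτ : τ ∈ M24),
      (⟨permL τ hτ, permL_mem τ hτ⟩ : ↥Co0) ∈ K := by
    intro τ hτ
    have : (⟨τ⁻¹, inv_mem hτ⟩ : ↥M24) ∈ K.comap permHom := by rw [htop]; trivial
    have h2 : permHom ⟨τ⁻¹, inv_mem hτ⟩ ∈ K := this
    have e : permHom ⟨τ⁻¹, inv_mem hτ⟩ = ⟨permL τ hτ, permL_mem τ hτ⟩ := by
      apply Subtype.ext
      show permL (τ⁻¹)⁻¹ (inv_mem (inv_mem hτ)) = permL τ hτ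
      exact permL_congr (inv_inv τ) _ _
    rwa [e] at h2
  apply eq_top_of_moves K h1 hperm (fun T hT => xi_mem_of_normal K h1 T hT)
  have e : (⟨Equiv.neg leechLattice, neg_mem_Co0⟩ : ↥Co0) =
      ⟨sgnL Finset.univ univ_mem_supports, sgnL_mem _ _⟩ := by
    apply Subtype.ext; apply Equiv.ext; intro y; apply Subtype.ext; funext i
    show (-y).1 i = sgnVec Finset.univ y.1 i
    unfold sgnVec
    rw [if_pos (Finset.mem_univ i)]
    rfl
  rw [e]
  exact h1 _ _

end Cfsg.Agent.Lib.Helper3
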