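import Mathlib
import Cfsg.Agent.Lib.Helper3.XiMono
import Cfsg.Agent.S0367
import Cfsg.Agent.S0368
import Cfsg.Agent.S0386

/-!
Helper library (helper3): a normal subgroup of `Co0` containing `-1` and meeting the monomial
group `N` (stabiliser of the standard cross) in an element other than `±1` contains all the
sign changes `ε_C`, hence is all of `Co0`.
-/

set_option autoImplicit false

open scoped Pointwise

namespace Cfsg.Agent.Lib.Helper3

open Cfsg Cfsg.Agent.Lib.Helper21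

theorem sgnL_mul_sgnL {A B : Finset GolayPt}
    (hA : A ∈ supports (golayCode : Set (GolayPt → ZMod 2)))
    (hB : B ∈ supports (golayCode : Set (GolayPt → ZMod 2))) :
    sgnL A hA * sgnL B hB = sgnL ((A \ B) ∪ (B \ A)) (supports_symmDiff hA hB) := by
  classical
  apply Equiv.ext; intro y; apply Subtype.ext; funext i
  show sgnVec A (sgnVec B y.1) i = sgnVec ((A \ B) ∪ (B \ A)) y.1 i
  unfold sgnVec
  by_cases h1 : i ∈ A <;> by_cases h2 : i ∈ B <;> simp [h1, h2]

theorem sgnL_congr {A B : Finset GolayPt} (h : A = B)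
    (hA : A ∈ supports (golayCode : Set (GolayPt → ZMod 2)))
    (hB : B ∈ supports (golayCode : Set (GolayPt → ZMod 2))) : sgnL A hA = sgnL B hB := by
  subst h; rfl

theorem permL_inv (τ : Equiv.Perm GolayPt) (hτ : τ ∈ M24) :
    (permL τ hτ)⁻¹ = permL τ⁻¹ (inv_mem hτ) := by
  apply inv_eq_of_mul_eq_one_right
  rw [permL_mul]
  apply Equiv.ext; intro y; apply Subtype.ext; funext i
  show y.1 ((τ⁻¹ * τ) i) = y.1 i
  simp

theorem permL_conj_sgnL (τ : Equiv.Perm GolayPt) (hτ : τ ∈ M24) {D : Finset GolayPt}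
    (hD : D ∈ supports (golayCode : Set (GolayPt → ZMod 2))) :
    permL τ hτ * sgnL D hD * (permL τ hτ)⁻¹ =
      sgnL (τ⁻¹ • D) (M24_smul_mem (inv_mem hτ) hD) := by
  classical
  rw [permL_inv]
  apply Equiv.ext; intro y; apply Subtype.ext; funext i
  show sgnVec D (fun k => y.1 (τ⁻¹ k)) (τ i) = sgnVec (τ⁻¹ • D) y.1 i
  unfold sgnVec
  have : τ i ∈ D ↔ i ∈ τ⁻¹ • D := by
    rw [Finset.mem_inv_smul_finset_iff]; rfl
  by_cases h : τ i ∈ D
  · rw [if_pos h, if_pos (this.1 h)]; simp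
  · rw [if_neg h, if_neg (fun hh => h (this.2 hh))]; simp

section
variable (K : Subgroup ↥Co0)

/-- the sign change on `C` lies in `K` -/
def WK (C : Finset GolayPt) : Prop :=
  ∃ hC : C ∈ supports (golayCode : Set (GolayPt → ZMod 2)), (⟨sgnL C hC, sgnL_mem C hC⟩ : ↥Co0) ∈ K

variable {K}

theorem WK.symmDiff {A B : Finset GolayPt} (hA : WK K A) (hB : WK K B) :
    WK K ((A \ B) ∪ (B \ A)) := by
  obtain ⟨hA1, hA2⟩ := hA
  obtain ⟨hB1, hB2⟩ := hB
  refine ⟨supports_symmDiff hA1 hB1, ?_⟩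
  have := K.mul_mem hA2 hB2
  have e : (⟨sgnL A hA1, sgnL_mem A hA1⟩ * ⟨sgnL B hB1, sgnL_mem B hB1⟩ : ↥Co0) =
      ⟨sgnL ((A \ B) ∪ (B \ A)) (supports_symmDiff hA1 hB1), sgnL_mem _ _⟩ := by
    apply Subtype.ext
    exact sgnL_mul_sgnL hA1 hB1
  rwa [e] at this

theorem WK.congr {A B : Finset GolayPt} (hA : WK K A) (h : A = B) : WK K B := h ▸ hA

theorem WK.smul [hK : K.Normal] {D : Finset GolayPt} (hD : WK K D) {τ : Equiv.Perm GolayPt}
    (hτ : τ ∈ M24) : WK K (τ • D) := by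
  obtain ⟨hD1, hD2⟩ := hD
  refine ⟨M24_smul_mem hτ hD1, ?_⟩
  have := hK.conj_mem _ hD2 (⟨permL τ⁻¹ (inv_mem hτ), permL_mem _ _⟩ : ↥Co0)
  have e : (⟨permL τ⁻¹ (inv_mem hτ), permL_mem _ _⟩ * ⟨sgnL D hD1, sgnL_mem D hD1⟩ *
      (⟨permL τ⁻¹ (inv_mem hτ), permL_mem _ _⟩ : ↥Co0)⁻¹) =
      ⟨sgnL (τ • D) (M24_smul_mem hτ hD1), sgnL_mem _ _⟩ := by
    apply Subtype.ext
    show permL τ⁻¹ (inv_mem hτ) * sgnL D hD1 * (permL τ⁻¹ (inv_mem hτ))⁻¹ = _
    rw [permL_conj_sgnL]
    exact sgnL_congr (by rw [inv_inv]) _ (M24_smul_mem hτ hD1)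
  rwa [e] at this

theorem symmDiff_eq (A B : Finset GolayPt) : (A \ B) ∪ (B \ A) = symmDiff A B := by
  rw [symmDiff_def]; rfl

theorem card_symmDiff' (A B : Finset GolayPt) :
    ((A \ B) ∪ (B \ A)).card + 2 * (A ∩ B).card = A.card + B.card := by
  classical
  have d1 : Disjoint (A \ B) (B \ A) := by
    rw [Finset.disjoint_left]; intro x hx hx'
    exact (Finset.mem_sdiff.1 hx).2 (Finset.mem_sdiff.1 hx').1
  rw [Finset.card_union_of_disjoint d1]
  have e1 := Finset.card_sdiff_add_card_inter A B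
  have e2 := Finset.card_sdiff_add_card_inter B A
  rw [Finset.inter_comm B A] at e2
  omega

/-- from one octad to all octads -/
theorem WK.all_octads [hK : K.Normal] {O : Finset GolayPt} (hO : O ∈ octads) (h : WK K O)
    {O' : Finset GolayPt} (hO' : O' ∈ octads) : WK K O' := by
  obtain ⟨g, hg⟩ := Cfsg.Agent.S0367.result O O' hO hO'
  have := h.smul (τ := g.1) g.2
  exact this.congr hg

/-- from the octads to the dodecads -/
theorem WK.dodecad (h : ∀ O ∈ octads, WK K O) {D : Finset GolayPt} (hD : D ∈ dodecads) :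
    WK K D := by
  classical
  have h132 := (Cfsg.Agent.S0386.result D hD).1
  obtain ⟨O, hO, hOD⟩ : ({o : Finset GolayPt | o ∈ octads ∧ (o ∩ D).card = 6}).Nonempty :=
    Set.nonempty_of_ncard_ne_zero (by rw [h132]; norm_num)
  have hO2supp := supports_symmDiff hD.1 hO.1
  have hO2card : ((D \ O) ∪ (O \ D)).card = 8 := by
    have := card_symmDiff' D O
    rw [Finset.inter_comm, hOD, hD.2, hO.2] at this
    omega
  have hO2 : (D \ O) ∪ (O \ D) ∈ octads := ⟨hO2supp, hO2card⟩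
  have := (h O hO).symmDiff (h _ hO2)
  refine this.congr ?_
  rw [symmDiff_eq, symmDiff_eq, symmDiff_comm D O, symmDiff_symmDiff_cancel_left]

/-- a non-trivial sign change in a normal subgroup gives an octad sign change -/
theorem WK.exists_octad [hK : K.Normal] (huniv : WK K Finset.univ) {C : Finset GolayPt}
    (h : WK K C) (h0 : C ≠ ∅) (h1 : C ≠ Finset.univ) : ∃ O ∈ octads, WK K O := by
  classical
  obtain ⟨hC, hCK⟩ := h
  rcases supports_card_cases hC with hc | hc | hc | hc | hc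
  · exact absurd (Finset.card_eq_zero.1 hc) h0
  · exact ⟨C, ⟨hC, hc⟩, hC, hCK⟩
  · -- dodecad
    have hD : C ∈ dodecads := ⟨hC, hc⟩
    have h495 := (Cfsg.Agent.S0386.result C hD).2.2
    obtain ⟨O, hO, hOD⟩ : ({o : Finset GolayPt | o ∈ octads ∧ (o ∩ C).card = 4}).Nonempty :=
      Set.nonempty_of_ncard_ne_zero (by rw [h495]; norm_num)
    have hD'supp := supports_symmDiff hC hO.1
    have hD'card : ((C \ O) ∪ (O \ C)).card = 12 := by
      have := card_symmDiff' C O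
      rw [Finset.inter_comm, hOD, hc, hO.2] at this
      omega
    have hD' : (C \ O) ∪ (O \ C) ∈ dodecads := ⟨hD'supp, hD'card⟩
    obtain ⟨g, hg⟩ := Cfsg.Agent.S0368.result C _ hD hD'
    have w1 : WK K ((C \ O) ∪ (O \ C)) := (WK.smul ⟨hC, hCK⟩ (τ := g.1) g.2).congr hg
    have w2 := (show WK K C from ⟨hC, hCK⟩).symmDiff w1
    refine ⟨O, hO, w2.congr ?_⟩
    rw [symmDiff_eq, symmDiff_eq, symmDiff_symmDiff_cancel_left]
  · -- complement of an octad
    have hoct : Cᶜ ∈ octads := compl_mem_octads ⟨hC, hc⟩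
    have w := huniv.symmDiff (show WK K C from ⟨hC, hCK⟩)
    refine ⟨Cᶜ, hoct, w.congr ?_⟩
    ext i
    simp
  · exfalso
    apply h1
    apply Finset.eq_univ_of_card
    rw [hc, card_golayPt]

/-- all sign changes -/
theorem WK.all [hK : K.Normal] (huniv : WK K Finset.univ) {C : Finset GolayPt}
    (h : WK K C) (h0 : C ≠ ∅) (h1 : C ≠ Finset.univ) {C' : Finset GolayPt}
    (hC' : C' ∈ supports (golayCode : Set (GolayPt → ZMod 2))) : WK K C' := by
  classical
  obtain ⟨O, hO, hOK⟩ := WK.exists_octad huniv h h0 h1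
  have hoct : ∀ O' ∈ octads, WK K O' := fun O' hO' => hOK.all_octads hO hO'
  rcases supports_card_cases hC' with hc | hc | hc | hc | hc
  · have : C' = ∅ := Finset.card_eq_zero.1 hc
    subst this
    refine ⟨hC', ?_⟩
    have e : (⟨sgnL ∅ hC', sgnL_mem _ _⟩ : ↥Co0) = 1 := by
      apply Subtype.ext; apply Equiv.ext; intro y; apply Subtype.ext; funext i
      show sgnVec ∅ y.1 i = y.1 i
      unfold sgnVec; simp
    rw [e]; exact K.one_mem
  · exact hoct C' ⟨hC', hc⟩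
  · exact WK.dodecad hoct ⟨hC', hc⟩
  · have hoct' : C'ᶜ ∈ octads := compl_mem_octads ⟨hC', hc⟩
    have w := huniv.symmDiff (hoct _ hoct')
    refine w.congr ?_
    ext i
    simp
  · have : C' = Finset.univ := by
      apply Finset.eq_univ_of_card
      rw [hc, card_golayPt]
    exact huniv.congr this.symm

end

theorem sgnL_conj_sgnL {C X : Finset GolayPt}
    (hC : C ∈ supports (golayCode : Set (GolayPt → ZMod 2)))
    (hX : X ∈ supports (golayCode : Set (GolayPt → ZMod 2))) :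
    sgnL C hC * sgnL X hX * sgnL C hC = sgnL X hX := by
  classical
  apply Equiv.ext; intro y; apply Subtype.ext; funext i
  show sgnVec C (sgnVec X (sgnVec C y.1)) i = sgnVec X y.1 i
  unfold sgnVec
  by_cases h1 : i ∈ C <;> by_cases h2 : i ∈ X <;> simp [h1, h2]

theorem neg_eq_sgnL_univ : (⟨Equiv.neg leechLattice, neg_mem_Co0⟩ : ↥Co0) =
    ⟨sgnL Finset.univ univ_mem_supports, sgnL_mem _ _⟩ := by
  apply Subtype.ext; apply Equiv.ext; intro y; apply Subtype.ext; funext i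
  show (-y).1 i = sgnVec Finset.univ y.1 i
  unfold sgnVec
  rw [if_pos (Finset.mem_univ i)]
  rfl

theorem sgnL_empty_eq_one (h : (∅ : Finset GolayPt) ∈ supports (golayCode : Set (GolayPt → ZMod 2))) :
    sgnL ∅ h = 1 := by
  apply Equiv.ext; intro y; apply Subtype.ext; funext i
  show sgnVec ∅ y.1 i = y.1 i
  unfold sgnVec; simp

/-- an element of `K ∩ N` other than `±1` yields a non-trivial sign change in `K` -/
theorem exists_WK_of_mem (K : Subgroup ↥Co0) [hK : K.Normal] (g : ↥Co0) (hgK : g ∈ K)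
    (hgN : g ∈ Cfsg.Agent.S0397.stabH) (h1 : g ≠ 1)
    (hneg : g ≠ ⟨Equiv.neg leechLattice, neg_mem_Co0⟩) :
    ∃ C, WK K C ∧ C ≠ ∅ ∧ C ≠ Finset.univ := by
  classical
  obtain ⟨σ, hσ, C, hC, hg⟩ := eq_mono_of_stab g.1 g.2 hgN
  by_cases hσ1 : σ = 1
  · subst hσ1
    have hp1 : permL (1 : Equiv.Perm GolayPt)⁻¹ (inv_mem hσ) = 1 := by
      apply Equiv.ext; intro y; apply Subtype.ext; funext i
      show y.1 ((1 : Equiv.Perm GolayPt)⁻¹ i) = y.1 i
      simp
    rw [hp1, mul_one] at hg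
    have hgeq : g = ⟨sgnL C hC, sgnL_mem C hC⟩ := Subtype.ext hg
    refine ⟨C, ⟨hC, hgeq ▸ hgK⟩, ?_, ?_⟩
    · intro hCe
      subst hCe
      apply h1
      rw [hgeq]
      exact Subtype.ext (sgnL_empty_eq_one hC)
    · intro hCu
      subst hCu
      apply hneg
      rw [hgeq, neg_eq_sgnL_univ]
  · have hex : ∃ i, σ i ≠ i := by
      by_contra hcon
      push Not at hcon
      exact hσ1 (Equiv.ext hcon)
    obtain ⟨i, hi⟩ := hex
    obtain ⟨D, hD, hiD, hσiD⟩ := exists_octad_sep (a := i) (b := σ i) (Ne.symm hi)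
    -- the commutator
    have hc1 := hK.conj_mem _ (K.inv_mem hgK) (⟨sgnL D hD.1, sgnL_mem D hD.1⟩ : ↥Co0)
    have hc2 := K.mul_mem hgK hc1
    have hDD : (sgnL D hD.1)⁻¹ = sgnL D hD.1 := inv_eq_of_mul_eq_one_right (sgnL_mul_self D hD.1)
    have hCC : (sgnL C hC)⁻¹ = sgnL C hC := inv_eq_of_mul_eq_one_right (sgnL_mul_self C hC)
    have hσD : σ • D ∈ supports (golayCode : Set (GolayPt → ZMod 2)) := M24_smul_mem hσ hD.1
    have key : g * (⟨sgnL D hD.1, sgnL_mem D hD.1⟩ * g⁻¹ *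
        (⟨sgnL D hD.1, sgnL_mem D hD.1⟩ : ↥Co0)⁻¹) =
        ⟨sgnL ((σ • D \ D) ∪ (D \ σ • D)) (supports_symmDiff hσD hD.1), sgnL_mem _ _⟩ := by
      apply Subtype.ext
      show g.1 * (sgnL D hD.1 * g.1⁻¹ * (sgnL D hD.1)⁻¹) =
        sgnL ((σ • D \ D) ∪ (D \ σ • D)) (supports_symmDiff hσD hD.1)
      rw [hDD, ← sgnL_mul_sgnL hσD hD.1]
      have e1 : g.1 * sgnL D hD.1 * g.1⁻¹ = sgnL (σ • D) hσD := by
        rw [hg, mul_inv_rev, hCC]
        have e2 := permL_conj_sgnL σ⁻¹ (inv_mem hσ) hD.1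
        calc sgnL C hC * permL σ⁻¹ (inv_mem hσ) * sgnL D hD.1 *
              ((permL σ⁻¹ (inv_mem hσ))⁻¹ * sgnL C hC)
            = sgnL C hC * (permL σ⁻¹ (inv_mem hσ) * sgnL D hD.1 *
              (permL σ⁻¹ (inv_mem hσ))⁻¹) * sgnL C hC := by simp only [mul_assoc]
          _ = sgnL C hC * sgnL ((σ⁻¹)⁻¹ • D) (M24_smul_mem (inv_mem (inv_mem hσ)) hD.1) *
              sgnL C hC := by rw [e2]
          _ = sgnL ((σ⁻¹)⁻¹ • D) (M24_smul_mem (inv_mem (inv_mem hσ)) hD.1) :=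
              sgnL_conj_sgnL hC _
          _ = sgnL (σ • D) hσD := sgnL_congr (by rw [inv_inv]) _ _
      rw [← e1]
      simp only [mul_assoc]
    rw [key] at hc2
    refine ⟨_, ⟨_, hc2⟩, ?_, ?_⟩
    · intro he
      have : σ i ∈ (σ • D \ D) ∪ (D \ σ • D) := by
        apply Finset.mem_union_left
        rw [Finset.mem_sdiff]
        refine ⟨?_, hσiD⟩
        rw [Finset.mem_smul_finset]
        exact ⟨i, hiD, rfl⟩
      rw [he] at this
      exact absurd this (Finset.notMem_empty _)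
    · intro he
      have h2 := card_symmDiff' (σ • D) D
      rw [he, Finset.card_univ, card_golayPt, Finset.card_smul_finset, hD.2] at h2
      omega

/-- a normal subgroup of `Co0` containing `-1` and an element of `N` other than `±1` is
everything -/
theorem normal_eq_top_of_mem (K : Subgroup ↥Co0) [hK : K.Normal]
    (hnegK : (⟨Equiv.neg leechLattice, neg_mem_Co0⟩ : ↥Co0) ∈ K) (g : ↥Co0) (hgK : g ∈ K)
    (hgN : g ∈ Cfsg.Agent.S0397.stabH) (h1 : g ≠ 1)
    (hneg : g ≠ ⟨Equiv.neg leechLattice, neg_mem_Co0⟩) : K = ⊤ := by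
  obtain ⟨C, hC, h0, hu⟩ := exists_WK_of_mem K g hgK hgN h1 hneg
  have huniv : WK K Finset.univ := ⟨univ_mem_supports, by rw [← neg_eq_sgnL_univ]; exact hnegK⟩
  apply normal_eq_top_of_sgn K
  intro C' hC'
  obtain ⟨_, h⟩ := WK.all huniv hC h0 hu hC'
  exact h

end Cfsg.Agent.Lib.Helper3
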