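import Mathlib

/-!
Helper library (helper3): simplicity of a finite group from a rank 3 action with simple point
stabiliser (block trick: the orbit of a normal subgroup is a block invariant under the
point stabiliser).
-/

set_option autoImplicit false

namespace Cfsg.Agent.Lib.Helper3

open MulAction

section
variable {G Y : Type*} [Group G] [MulAction G Y]

/-- the orbit of a normal subgroup is a block: its size divides the size of the orbit of the
whole group -/
theorem ncard_orbit_normal_dvd (K : Subgroup G) [K.Normal] (x : Y) :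
    (orbit K x).ncard ∣ (orbit G x).ncard := by
  let x' : orbit G x := ⟨x, mem_orbit_self x⟩
  have hB : IsBlock G (orbit K x') := IsBlock.orbit_of_normal x'
  have h1 := hB.ncard_dvd_card ⟨x', mem_orbit_self x'⟩
  have h2 : Subtype.val '' (orbit K x') = orbit K x := by
    ext y
    constructor
    · rintro ⟨_, ⟨k, rfl⟩, rfl⟩
      exact ⟨k, rfl⟩
    · rintro ⟨k, rfl⟩
      exact ⟨k • x', ⟨k, rfl⟩, rfl⟩
  rw [← h2, Set.ncard_image_of_injective _ Subtype.val_injective,
    ← Nat.card_coe_set_eq (orbit G x)]
  exact h1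

/-- the orbit of a normal subgroup through `x` is invariant under the stabiliser of `x` -/
theorem smul_mem_orbit_of_normal (K : Subgroup G) [hK : K.Normal] {x y : Y} {h : G}
    (hh : h • x = x) (hy : y ∈ orbit K x) : h • y ∈ orbit K x := by
  obtain ⟨k, rfl⟩ := hy
  refine ⟨⟨h * k.1 * h⁻¹, hK.conj_mem k.1 k.2 h⟩, ?_⟩
  show (h * k.1 * h⁻¹) • x = h • (k.1 • x)
  rw [mul_smul, mul_smul]
  congr 2
  rw [inv_smul_eq_iff, hh]

/-- orbit of a normal subgroup at a translate -/
theorem ncard_orbit_normal_smul (K : Subgroup G) [K.Normal] (x : Y) (g : G) :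
    (orbit K (g • x)).ncard = (orbit K x).ncard := by
  rw [← smul_orbit_eq_orbit_smul K x g]
  exact Set.ncard_image_of_injective _ (MulAction.injective g)

/-- a set invariant under a group acting transitively on `D` contains `D` or misses it -/
theorem subset_or_disjoint_of_trans {x : Y} {D B : Set Y}
    (tD : ∀ y ∈ D, ∀ y' ∈ D, ∃ h : G, h • x = x ∧ h • y = y')
    (hB : ∀ h : G, h • x = x → ∀ y ∈ B, h • y ∈ B) : D ⊆ B ∨ Disjoint D B := by
  by_cases h : ∃ y ∈ D, y ∈ B
  · obtain ⟨y, hyD, hyB⟩ := h
    left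
    intro y' hy'
    obtain ⟨g, hg, rfl⟩ := tD y hyD y' hy'
    exact hB g hg y hyB
  · right
    rw [Set.disjoint_left]
    intro y hyD hyB
    exact h ⟨y, hyD, hyB⟩

/-- rank 3 dichotomy: the orbit of a normal subgroup is a point or everything -/
theorem rank3_orbit_normal (K : Subgroup G) [K.Normal] (x : Y) (Δ Γ : Set Y) (a b : ℕ)
    (hX : orbit G x = insert x (Δ ∪ Γ)) (hxΔ : x ∉ Δ) (hxΓ : x ∉ Γ) (hΔΓ : Disjoint Δ Γ)
    (ha : Δ.ncard = a) (hb : Γ.ncard = b) (ha0 : 0 < a) (hb0 : 0 < b)
    (tΔ : ∀ y ∈ Δ, ∀ y' ∈ Δ, ∃ h : G, h • x = x ∧ h • y = y')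
    (tΓ : ∀ y ∈ Γ, ∀ y' ∈ Γ, ∃ h : G, h • x = x ∧ h • y = y')
    (h1 : ¬ (1 + a ∣ 1 + a + b)) (h2 : ¬ (1 + b ∣ 1 + a + b)) :
    orbit K x = {x} ∨ orbit K x = orbit G x := by
  have fΔ : Δ.Finite := Set.finite_of_ncard_pos (by omega)
  have fΓ : Γ.Finite := Set.finite_of_ncard_pos (by omega)
  have hxB : x ∈ orbit K x := mem_orbit_self x
  have hBX : orbit K x ⊆ orbit G x := by
    rintro _ ⟨k, rfl⟩
    exact ⟨k.1, rfl⟩
  have hinv : ∀ h : G, h • x = x → ∀ y ∈ orbit K x, h • y ∈ orbit K x :=
    fun h hh y hy => smul_mem_orbit_of_normal K hh hy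
  have hn : (orbit G x).ncard = 1 + a + b := by
    rw [hX, Set.ncard_insert_of_notMem (by simp [hxΔ, hxΓ]) (fΔ.union fΓ),
      Set.ncard_union_eq hΔΓ fΔ fΓ, ha, hb]
    ring
  have hdvd := ncard_orbit_normal_dvd K x
  rw [hn] at hdvd
  rcases subset_or_disjoint_of_trans tΔ hinv with hΔ | hΔ <;>
    rcases subset_or_disjoint_of_trans tΓ hinv with hΓ | hΓ
  · right
    apply Set.Subset.antisymm hBX
    rw [hX]
    intro y hy
    rcases hy with rfl | hy | hy
    · exact hxB
    · exact hΔ hy
    · exact hΓ hy
  · exfalso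
    have : orbit K x = insert x Δ := by
      apply Set.Subset.antisymm
      · intro y hy
        have := hBX hy
        rw [hX] at this
        rcases this with rfl | h | h
        · exact Set.mem_insert _ _
        · exact Set.mem_insert_of_mem _ h
        · exact absurd hy (Set.disjoint_left.1 hΓ h)
      · intro y hy
        rcases hy with rfl | hy
        · exact hxB
        · exact hΔ hy
    rw [this, Set.ncard_insert_of_notMem hxΔ fΔ, ha, add_comm] at hdvd
    exact h1 hdvd
  · exfalso
    have : orbit K x = insert x Γ := by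
      apply Set.Subset.antisymm
      · intro y hy
        have := hBX hy
        rw [hX] at this
        rcases this with rfl | h | h
        · exact Set.mem_insert _ _
        · exact absurd hy (Set.disjoint_left.1 hΔ h)
        · exact Set.mem_insert_of_mem _ h
      · intro y hy
        rcases hy with rfl | hy
        · exact hxB
        · exact hΓ hy
    rw [this, Set.ncard_insert_of_notMem hxΓ fΓ, hb, add_comm] at hdvd
    exact h2 hdvd
  · left
    apply Set.Subset.antisymm
    · intro y hy
      have := hBX hy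
      rw [hX] at this
      rcases this with rfl | h | h
      · rfl
      · exact absurd hy (Set.disjoint_left.1 hΔ h)
      · exact absurd hy (Set.disjoint_left.1 hΓ h)
    · rintro _ rfl
      exact hxB

/-- trichotomy for a normal subgroup once its orbit through `x` is a point or everything,
the point stabiliser being simple and moving some point of the orbit -/
theorem normal_trichotomy (K : Subgroup G) [hK : K.Normal] (x : Y)
    (hH : IsSimpleGroup (stabilizer G x))
    (hmove : ∃ h : G, h • x = x ∧ ∃ g : G, h • (g • x) ≠ g • x)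
    (hdich : orbit K x = {x} ∨ orbit K x = orbit G x) :
    K = ⊥ ∨ K = ⊤ ∨ Nat.card K = (orbit G x).ncard := by
  have hN : (K.subgroupOf (stabilizer G x)).Normal := hK.subgroupOf _
  rcases hdich with hd | hd
  · have hKH : K ≤ stabilizer G x := by
      intro k hk
      have : k • x ∈ orbit K x := ⟨⟨k, hk⟩, rfl⟩
      rw [hd] at this
      exact this
    rcases hH.eq_bot_or_eq_top_of_normal _ hN with h | h
    · left
      rw [Subgroup.subgroupOf_eq_bot] at h
      rw [eq_bot_iff]
      intro k hk
      have := Subgroup.disjoint_def.1 h hk (hKH hk)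
      rw [this]; exact one_mem _
    · exfalso
      rw [Subgroup.subgroupOf_eq_top] at h
      obtain ⟨s, hs, g, hg⟩ := hmove
      have hsK : s ∈ K := h hs
      have h1 : (orbit K (g • x)).ncard = 1 := by
        rw [ncard_orbit_normal_smul, hd, Set.ncard_singleton]
      obtain ⟨z, hz⟩ := Set.ncard_eq_one.1 h1
      have h2 : g • x ∈ orbit K (g • x) := mem_orbit_self _
      have h3 : s • (g • x) ∈ orbit K (g • x) := ⟨⟨s, hsK⟩, rfl⟩
      rw [hz] at h2 h3
      exact hg (h3.trans h2.symm)
  · rcases hH.eq_bot_or_eq_top_of_normal _ hN with h | h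
    · right; right
      rw [Subgroup.subgroupOf_eq_bot] at h
      have hst : stabilizer K x = ⊥ := by
        rw [eq_bot_iff]
        intro k hk
        have h1 : (k : G) ∈ stabilizer G x := hk
        have := Subgroup.disjoint_def.1 h k.2 h1
        exact Subtype.ext this
      have h1 := Subgroup.card_mul_index (stabilizer K x)
      rw [MulAction.index_stabilizer, hst, Subgroup.card_bot, one_mul, hd] at h1
      exact h1.symm
    · right; left
      rw [Subgroup.subgroupOf_eq_top] at h
      rw [eq_top_iff]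
      intro g _
      have : g • x ∈ orbit K x := by rw [hd]; exact ⟨g, rfl⟩
      obtain ⟨k, hk⟩ := this
      have hk' : k.1 • x = g • x := hk
      have h1 : k.1⁻¹ * g ∈ stabilizer G x := by
        rw [mem_stabilizer_iff, mul_smul, ← hk', inv_smul_smul]
      have h2 := K.mul_mem k.2 (h h1)
      rwa [mul_inv_cancel_left] at h2

theorem factorization_100_5 : (100 : ℕ).factorization 5 = 2 := by
  have : (100 : ℕ) = 5 ^ 2 * 4 := by norm_num
  rw [this, Nat.factorization_mul (by norm_num) (by norm_num),
    Nat.Prime.factorization_pow (by norm_num : Nat.Prime 5), Finsupp.add_apply,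
    Nat.factorization_eq_zero_of_not_dvd (by norm_num : ¬ 5 ∣ 4)]
  simp

/-- a group with a rank 3 action of degree `100 = 1 + 22 + 77` and simple point stabiliser is
simple -/
theorem simple_of_rank3_100 [Finite G] (x : Y) (Δ Γ : Set Y)
    (hX : orbit G x = insert x (Δ ∪ Γ)) (hxΔ : x ∉ Δ) (hxΓ : x ∉ Γ) (hΔΓ : Disjoint Δ Γ)
    (ha : Δ.ncard = 22) (hb : Γ.ncard = 77)
    (tΔ : ∀ y ∈ Δ, ∀ y' ∈ Δ, ∃ h : G, h • x = x ∧ h • y = y')
    (tΓ : ∀ y ∈ Γ, ∀ y' ∈ Γ, ∃ h : G, h • x = x ∧ h • y = y')
    (hH : IsSimpleGroup (stabilizer G x)) : IsSimpleGroup G := by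
  have fΔ : Δ.Finite := Set.finite_of_ncard_pos (by omega)
  have fΓ : Γ.Finite := Set.finite_of_ncard_pos (by omega)
  have hn : (orbit G x).ncard = 100 := by
    rw [hX, Set.ncard_insert_of_notMem (by simp [hxΔ, hxΓ]) (fΔ.union fΓ),
      Set.ncard_union_eq hΔΓ fΔ fΓ, ha, hb]
  have hmove : ∃ h : G, h • x = x ∧ ∃ g : G, h • (g • x) ≠ g • x := by
    obtain ⟨y, hy, y', hy', hne⟩ := (Set.one_lt_ncard fΔ).1 (by omega)
    obtain ⟨h, hh, hhy⟩ := tΔ y hy y' hy'
    have : y ∈ orbit G x := by rw [hX]; exact Set.mem_insert_of_mem _ (Or.inl hy)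
    obtain ⟨g, rfl⟩ := this
    exact ⟨h, hh, g, by rw [hhy]; exact hne.symm⟩
  have tri : ∀ K : Subgroup G, K.Normal → K = ⊥ ∨ K = ⊤ ∨ Nat.card K = 100 := by
    intro K hK
    have := normal_trichotomy K x hH hmove
      (rank3_orbit_normal K x Δ Γ 22 77 hX hxΔ hxΓ hΔΓ ha hb (by norm_num) (by norm_num) tΔ tΓ
        (by norm_num) (by norm_num))
    rwa [hn] at this
  have : Nontrivial G := by
    have := hH.toNontrivial
    obtain ⟨s, t, hst⟩ := exists_pair_ne (stabilizer G x)
    exact ⟨⟨s.1, t.1, fun h => hst (Subtype.ext h)⟩⟩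
  refine ⟨fun K hK => ?_⟩
  rcases tri K hK with h | h | h
  · exact Or.inl h
  · exact Or.inr h
  · exfalso
    have : Fact (Nat.Prime 5) := ⟨by norm_num⟩
    obtain P : Sylow 5 K := default
    have hPc : Nat.card P = 25 := by
      rw [P.card_eq_multiplicity, h, factorization_100_5]; norm_num
    have hidx : (P : Subgroup K).index = 4 := by
      have := Subgroup.card_mul_index (P : Subgroup K)
      rw [hPc, h] at this
      omega
    have h1 := card_sylow_modEq_one 5 K
    have h2 := P.card_dvd_index
    rw [hidx] at h2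
    have h3 : Nat.card (Sylow 5 K) = 1 := by
      have hle := Nat.le_of_dvd (by norm_num) h2
      unfold Nat.ModEq at h1
      interval_cases hc : Nat.card (Sylow 5 K) <;> simp_all
    have : Subsingleton (Sylow 5 K) := (Nat.card_eq_one_iff_unique.1 h3).1
    have hchar : (P : Subgroup K).Characteristic := inferInstance
    have hPn : ((P : Subgroup K).map K.subtype).Normal := inferInstance
    have hcard : Nat.card ((P : Subgroup K).map K.subtype) = 25 := by
      rw [Subgroup.card_map_of_injective K.subtype_injective]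
      exact hPc
    rcases tri _ hPn with h' | h' | h'
    · rw [h', Subgroup.card_bot] at hcard
      omega
    · rw [h', Subgroup.card_top] at hcard
      have := Subgroup.card_subgroup_dvd_card K
      rw [h, hcard] at this
      omega
    · omega

end

end Cfsg.Agent.Lib.Helper3
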