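import Mathlib
import Cfsg.Agent.Lib.Helper3.NormalN
import Cfsg.Agent.Lib.Helper3.Rank3Simple
import Cfsg.Agent.Lib.Helper3.Co0McL
import Cfsg.Agent.S1573
import Cfsg.Agent.S0400

/-!
Helper library (helper3): the normal subgroups of `Co0` containing `-1` are `{±1}` and `Co0`.
-/

set_option autoImplicit false

namespace Cfsg.Agent.Lib.Helper3

open Cfsg Cfsg.Agent.Lib.Helper21 MulAction

/-- negation as an element of `Co0` -/
def negC : ↥Co0 := ⟨Equiv.neg leechLattice, neg_mem_Co0⟩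

/-- the standard minimal vector as a function -/
abbrev P0 : GolayPt → ℤ := P44 none (some 0)

theorem P0_mem : P0 ∈ leechLattice := P44_mem hpq0
theorem P0_norm : sqNorm P0 = 32 := sqNorm_P44 hpq0

/-- the stabiliser of `P0` is transitive on the minimal vectors with a given inner product
(other than `±32`) with `P0` -/
theorem stab_trans {w w' : GolayPt → ℤ} (hw : w ∈ leechLattice) (hwn : sqNorm w = 32)
    (hw' : w' ∈ leechLattice) (hwn' : sqNorm w' = 32) {c : ℤ}
    (hc : c = 16 ∨ c = 8 ∨ c = 0 ∨ c = -8 ∨ c = -16)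
    (h : dotInt P0 w = c) (h' : dotInt P0 w' = c) : ConnP P0 w P0 w' := by
  rcases hc with rfl | rfl | rfl | rfl | rfl
  · have h1 := connP_m2 P0_mem P0_norm (leechLattice.neg_mem hw) (by rw [sqNorm_neg, hwn])
      (by rw [dotInt_neg_right, h])
    have h2 := connP_m2 P0_mem P0_norm (leechLattice.neg_mem hw') (by rw [sqNorm_neg, hwn'])
      (by rw [dotInt_neg_right, h'])
    have := (h1.trans h2.symm).neg2
    rwa [neg_neg] at this
  · have h1 := connP_m1 P0_mem P0_norm (leechLattice.neg_mem hw) (by rw [sqNorm_neg, hwn])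
      (by rw [dotInt_neg_right, h])
    have h2 := connP_m1 P0_mem P0_norm (leechLattice.neg_mem hw') (by rw [sqNorm_neg, hwn'])
      (by rw [dotInt_neg_right, h'])
    have := (h1.trans h2.symm).neg2
    rwa [neg_neg] at this
  · exact (connP_orth P0_mem P0_norm hw hwn h).trans (connP_orth P0_mem P0_norm hw' hwn' h').symm
  · exact (connP_m1 P0_mem P0_norm hw hwn h).trans (connP_m1 P0_mem P0_norm hw' hwn' h').symm
  · exact (connP_m2 P0_mem P0_norm hw hwn h).trans (connP_m2 P0_mem P0_norm hw' hwn' h').symm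

theorem finite_Co0 : Finite ↥Co0 :=
  Nat.finite_of_card_ne_zero (by rw [Cfsg.Agent.S0397.result]; norm_num)

theorem orbit_x0 : orbit ↥Co0 Cfsg.Agent.S5392.x0 = {v : ↥leechLattice | sqNorm v.1 = 32} := by
  ext v
  constructor
  · rintro ⟨g, rfl⟩
    show sqNorm ((g.1 Cfsg.Agent.S5392.x0 : ↥leechLattice) : GolayPt → ℤ) = 32
    rw [g.2.2]; exact P0_norm
  · intro hv
    obtain ⟨g, hg⟩ := Cfsg.Agent.S0400.result Cfsg.Agent.S5392.x0 v P0_norm hv
    exact ⟨g, hg⟩

theorem ncard_orbit_x0 : (orbit ↥Co0 Cfsg.Agent.S5392.x0).ncard = 196560 := by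
  rw [orbit_x0, ncard_subtype (fun w => sqNorm w = 32)]
  exact Cfsg.Agent.S0394.result


/-! ### the orbit of a normal subgroup on the minimal vectors -/

open Cfsg.Agent.S1573 (L2 mem_L2 card_L2 nn_32 nn_m32 nn_neg census dot_vals neg_mem_L2
  v0_mem_L2 dot_eq_32 dot_eq_m32)

section core
variable (K : Subgroup ↥Co0) [hK : K.Normal]

/-- membership of a vector in the orbit of `K` through `x0` -/
def InB (w : GolayPt → ℤ) : Prop :=
  ∃ hw : w ∈ leechLattice, (⟨w, hw⟩ : ↥leechLattice) ∈ orbit K Cfsg.Agent.S5392.x0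

omit hK in
theorem InB_P0 : InB K P0 := ⟨P0_mem, mem_orbit_self _⟩

omit hK in
theorem InB.neg {w : GolayPt → ℤ} (hnegK : negC ∈ K) (h : InB K w) : InB K (-w) := by
  obtain ⟨hw, k, hk⟩ := h
  refine ⟨leechLattice.neg_mem hw, ⟨negC, hnegK⟩ * k, ?_⟩
  have hk' : k • Cfsg.Agent.S5392.x0 = ⟨w, hw⟩ := hk
  show (⟨negC, hnegK⟩ * k) • Cfsg.Agent.S5392.x0 = _
  rw [mul_smul, hk']
  rfl

theorem InB.stab {w : GolayPt → ℤ} (h : InB K w) (g : ↥Co0)
    (hg : g • Cfsg.Agent.S5392.x0 = Cfsg.Agent.S5392.x0)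
    {w' : GolayPt → ℤ} (hw' : w' ∈ leechLattice)
    (hgw : ∀ hw : w ∈ leechLattice, g • (⟨w, hw⟩ : ↥leechLattice) = ⟨w', hw'⟩) : InB K w' := by
  obtain ⟨hw, hk⟩ := h
  refine ⟨hw', ?_⟩
  rw [← hgw hw]
  exact smul_mem_orbit_of_normal K hg hk

theorem class_dich {c : ℤ} (hc : c = 16 ∨ c = 8 ∨ c = 0 ∨ c = -8 ∨ c = -16) :
    (∀ w ∈ L2, dotInt P0 w = c → InB K w) ∨ (∀ w ∈ L2, dotInt P0 w = c → ¬ InB K w) := by
  by_cases h : ∃ w ∈ L2, dotInt P0 w = c ∧ InB K w
  · left
    obtain ⟨w, hwL, hwc, hwB⟩ := h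
    intro w' hwL' hwc'
    rw [mem_L2] at hwL hwL'
    have hconn := stab_trans hwL.1 hwL.2 hwL'.1 hwL'.2 hc hwc hwc'
    obtain ⟨g, hg1, hg2⟩ := ConnP.exists_co0 (v := Cfsg.Agent.S5392.x0) (w := ⟨w, hwL.1⟩)
      (v' := Cfsg.Agent.S5392.x0) (w' := ⟨w', hwL'.1⟩) hconn
    exact hwB.stab K g hg1 hwL'.1 (fun _ => hg2)
  · right
    intro w hwL hwc hwB
    exact h ⟨w, hwL, hwc, hwB⟩

theorem arith_cases (a b c : ℕ) (ha : a = 4600 ∨ a = 0) (hb : b = 47104 ∨ b = 0)
    (hc : c = 93150 ∨ c = 0) (h : (1 + (a + (b + (c + (b + (a + 1)))))) ∣ 196560) :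
    1 + (a + (b + (c + (b + (a + 1))))) = 2 ∨ 1 + (a + (b + (c + (b + (a + 1))))) = 196560 := by
  rcases ha with rfl | rfl <;> rcases hb with rfl | rfl <;> rcases hc with rfl | rfl
  · right; norm_num
  · exfalso; revert h; norm_num
  · exfalso; revert h; norm_num
  · exfalso; revert h; norm_num
  · exfalso; revert h; norm_num
  · exfalso; revert h; norm_num
  · exfalso; revert h; norm_num
  · left; norm_num

open Classical in
theorem card_B_cases (hnegK : negC ∈ K) :
    (orbit K Cfsg.Agent.S5392.x0).ncard = 2 ∨ (orbit K Cfsg.Agent.S5392.x0).ncard = 196560 := by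
  set Bf : Finset (GolayPt → ℤ) := L2.filter (InB K) with hBf
  have memBf : ∀ w, w ∈ Bf ↔ w ∈ L2 ∧ InB K w := fun w => Finset.mem_filter
  have hcard : (orbit K Cfsg.Agent.S5392.x0).ncard = Bf.card := by
    rw [← Set.ncard_coe_finset Bf, ← Set.ncard_image_of_injective _ Subtype.val_injective]
    congr 1
    ext w
    constructor
    · rintro ⟨v, hv, rfl⟩
      rw [Finset.mem_coe, memBf, mem_L2]
      refine ⟨⟨v.2, ?_⟩, v.2, hv⟩
      obtain ⟨k, rfl⟩ := hv
      exact (k.1.2.2 _).trans P0_norm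
    · intro hw
      rw [Finset.mem_coe, memBf] at hw
      obtain ⟨_, hw', h⟩ := hw
      exact ⟨⟨w, hw'⟩, h, rfl⟩
  have hdiv : Bf.card ∣ 196560 := by
    rw [← hcard, ← ncard_orbit_x0]
    exact ncard_orbit_normal_dvd K _
  have hsum : Bf.card = ∑ c ∈ ({-32, -16, -8, 0, 8, 16, 32} : Finset ℤ),
      (Bf.filter (fun w => dotInt P0 w = c)).card := by
    apply Finset.card_eq_sum_card_fiberwise
    intro w hw
    exact Finset.mem_coe.2 (dot_vals ((memBf w).1 (Finset.mem_coe.1 hw)).1)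
  have hm32 : (Bf.filter (fun w => dotInt P0 w = 32)).card = 1 := by
    rw [Finset.card_eq_one]
    refine ⟨P0, ?_⟩
    ext w
    rw [Finset.mem_filter, Finset.mem_singleton]
    constructor
    · rintro ⟨h1, h2⟩
      exact (dot_eq_32 ((memBf w).1 h1).1).1 h2
    · intro h
      rw [h]
      exact ⟨(memBf _).2 ⟨v0_mem_L2, InB_P0 K⟩, (dot_eq_32 v0_mem_L2).2 rfl⟩
  have hmneg : ∀ c : ℤ, (Bf.filter (fun w => dotInt P0 w = -c)).card =
      (Bf.filter (fun w => dotInt P0 w = c)).card := by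
    intro c
    apply Finset.card_bij (fun w _ => -w)
    · intro w hw
      rw [Finset.mem_filter, memBf] at hw ⊢
      refine ⟨⟨neg_mem_L2 hw.1.1, hw.1.2.neg K hnegK⟩, ?_⟩
      rw [dotInt_neg_right, hw.2, neg_neg]
    · intro w _ w' _ h
      exact neg_injective h
    · intro w hw
      rw [Finset.mem_filter, memBf] at hw
      refine ⟨-w, ?_, neg_neg w⟩
      rw [Finset.mem_filter, memBf]
      refine ⟨⟨neg_mem_L2 hw.1.1, hw.1.2.neg K hnegK⟩, ?_⟩
      rw [dotInt_neg_right, hw.2]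
  have hmd : ∀ c : ℤ, (c = 16 ∨ c = 8 ∨ c = 0 ∨ c = -8 ∨ c = -16) →
      (Bf.filter (fun w => dotInt P0 w = c)).card = Cfsg.Agent.S1573.nn c ∨
        (Bf.filter (fun w => dotInt P0 w = c)).card = 0 := by
    intro c hc
    rcases class_dich K hc with h | h
    · left
      unfold Cfsg.Agent.S1573.nn
      congr 1
      ext w
      rw [Finset.mem_filter, memBf, Finset.mem_filter]
      constructor
      · rintro ⟨⟨h1, _⟩, h2⟩; exact ⟨h1, h2⟩
      · rintro ⟨h1, h2⟩; exact ⟨⟨h1, h w h1 h2⟩, h2⟩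
    · right
      rw [Finset.card_eq_zero, Finset.filter_eq_empty_iff]
      intro w hw hwc
      exact h w ((memBf w).1 hw).1 hwc ((memBf w).1 hw).2
  obtain ⟨c16, c8, c0⟩ := census
  have en16 : Cfsg.Agent.S1573.nn 16 = 4600 := by rw [← nn_neg 16]; exact c16
  have en8 : Cfsg.Agent.S1573.nn 8 = 47104 := by rw [← nn_neg 8]; exact c8
  rw [Finset.sum_insert (by decide), Finset.sum_insert (by decide), Finset.sum_insert (by decide),
    Finset.sum_insert (by decide), Finset.sum_insert (by decide), Finset.sum_insert (by decide),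
    Finset.sum_singleton, hmneg 32, hmneg 16, hmneg 8, hm32] at hsum
  have h16 := hmd 16 (Or.inl rfl)
  have h8 := hmd 8 (Or.inr (Or.inl rfl))
  have h0 := hmd 0 (Or.inr (Or.inr (Or.inl rfl)))
  rw [en16] at h16
  rw [en8] at h8
  rw [c0] at h0
  rw [hsum] at hdiv
  rw [hcard, hsum]
  exact arith_cases _ _ _ h16 h8 h0 hdiv

omit hK in
theorem negC_mul_negC : negC * negC = 1 := by
  apply Subtype.ext; apply Equiv.ext; intro v; exact neg_neg v

theorem small_case (hnegK : negC ∈ K) (h2 : (orbit K Cfsg.Agent.S5392.x0).ncard = 2) :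
    ∀ k ∈ K, k = 1 ∨ k = negC := by
  have H : ∀ k ∈ K, ∀ v : ↥leechLattice, sqNorm v.1 = 32 → k • v = v ∨ k • v = -v := by
    intro k hk v hv
    obtain ⟨g, hg⟩ := Cfsg.Agent.S0400.result Cfsg.Agent.S5392.x0 v P0_norm hv
    have hn : (orbit K v).ncard = 2 := by
      rw [← hg, ncard_orbit_normal_smul]; exact h2
    have hfin : (orbit K v).Finite := Set.finite_of_ncard_ne_zero (by rw [hn]; norm_num)
    have hsub : ({v, -v} : Set ↥leechLattice) ⊆ orbit K v := by
      intro y hy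
      rcases hy with rfl | rfl
      · exact mem_orbit_self _
      · exact ⟨⟨negC, hnegK⟩, rfl⟩
    have hne : v ≠ -v := Cfsg.Agent.S5392.min_ne_neg hv
    have heq : ({v, -v} : Set ↥leechLattice) = orbit K v := by
      apply Set.eq_of_subset_of_ncard_le hsub _ hfin
      rw [hn, Set.ncard_pair hne]
    have hmem : (⟨k, hk⟩ : ↥K) • v ∈ orbit K v := ⟨⟨k, hk⟩, rfl⟩
    rw [← heq] at hmem
    rcases hmem with h | h
    · left; exact h
    · right; exact h
  intro k hk
  have hx0n : sqNorm Cfsg.Agent.S5392.x0.1 = 32 := P0_norm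
  rcases H k hk _ hx0n with h0 | h0
  · left
    have hall := Cfsg.Agent.S5392.lemmaX k (H k hk) h0
    apply Subtype.ext
    apply Equiv.ext
    intro v
    exact hall v
  · right
    have H' : ∀ v : ↥leechLattice, sqNorm v.1 = 32 →
        (negC * k) • v = v ∨ (negC * k) • v = -v := by
      intro v hv
      rw [mul_smul]
      rcases H k hk v hv with h | h
      · right; rw [h]; rfl
      · left; rw [h]; exact neg_neg v
    have h0' : (negC * k) • Cfsg.Agent.S5392.x0 = Cfsg.Agent.S5392.x0 := by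
      rw [mul_smul, h0]; exact neg_neg _
    have hall := Cfsg.Agent.S5392.lemmaX (negC * k) H' h0'
    have h1 : negC * k = 1 := by
      apply Subtype.ext; apply Equiv.ext; intro v; exact hall v
    calc k = (negC * negC) * k := by rw [negC_mul_negC, one_mul]
      _ = negC * (negC * k) := mul_assoc _ _ _
      _ = negC := by rw [h1, mul_one]

theorem big_case (hnegK : negC ∈ K) (hB : (orbit K Cfsg.Agent.S5392.x0).ncard = 196560) :
    K = ⊤ := by
  haveI := finite_Co0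
  have h16 : 16 ∣ Nat.card K := by
    have h1 := Subgroup.card_mul_index (stabilizer K Cfsg.Agent.S5392.x0)
    rw [index_stabilizer, hB] at h1
    rw [← h1]
    exact Dvd.dvd.mul_left (by norm_num) _
  have hSidx : (Cfsg.Agent.S0397.stabH).index = 8292375 := by
    have h1 := Subgroup.card_mul_index Cfsg.Agent.S0397.stabH
    rw [Cfsg.Agent.S0397.card_stabH, Cfsg.Agent.S0397.result] at h1
    omega
  have hodd : (orbit K ((1 : ↥Co0) : ↥Co0 ⧸ Cfsg.Agent.S0397.stabH)).ncard ∣ 8292375 := by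
    have h1 := ncard_orbit_normal_dvd K ((1 : ↥Co0) : ↥Co0 ⧸ Cfsg.Agent.S0397.stabH)
    have h2 : orbit ↥Co0 ((1 : ↥Co0) : ↥Co0 ⧸ Cfsg.Agent.S0397.stabH) = Set.univ :=
      orbit_eq_univ _ _
    rw [h2, Set.ncard_univ] at h1
    rw [← hSidx]; exact h1
  have hT := Subgroup.card_mul_index
    (stabilizer K ((1 : ↥Co0) : ↥Co0 ⧸ Cfsg.Agent.S0397.stabH))
  rw [index_stabilizer] at hT
  have h16T : 16 ∣ Nat.card (stabilizer K ((1 : ↥Co0) : ↥Co0 ⧸ Cfsg.Agent.S0397.stabH)) := by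
    have hcop : Nat.Coprime 16
        (orbit K ((1 : ↥Co0) : ↥Co0 ⧸ Cfsg.Agent.S0397.stabH)).ncard := by
      apply Nat.Coprime.coprime_dvd_right hodd; norm_num
    rw [← hT] at h16
    exact hcop.dvd_of_dvd_mul_right h16
  by_contra hne
  have hsmall : ∀ t : ↥K, t ∈ stabilizer K ((1 : ↥Co0) : ↥Co0 ⧸ Cfsg.Agent.S0397.stabH) →
      t = 1 ∨ t = ⟨negC, hnegK⟩ := by
    intro t ht
    by_contra hcon
    push Not at hcon
    apply hne
    have htS : t.1 ∈ Cfsg.Agent.S0397.stabH := by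
      have : t.1 ∈ stabilizer ↥Co0 ((1 : ↥Co0) : ↥Co0 ⧸ Cfsg.Agent.S0397.stabH) := ht
      rwa [stabilizer_quotient] at this
    exact normal_eq_top_of_mem K hnegK t.1 t.2 htS (fun h => hcon.1 (Subtype.ext h))
      (fun h => hcon.2 (Subtype.ext h))
  have hle : Nat.card (stabilizer K ((1 : ↥Co0) : ↥Co0 ⧸ Cfsg.Agent.S0397.stabH)) ≤ 2 := by
    have h1 : ((stabilizer K ((1 : ↥Co0) : ↥Co0 ⧸ Cfsg.Agent.S0397.stabH) : Subgroup ↥K) :
        Set ↥K) ⊆ {1, ⟨negC, hnegK⟩} := by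
      intro t ht
      rcases hsmall t ht with h | h
      · left; exact h
      · right; exact h
    calc Nat.card (stabilizer K ((1 : ↥Co0) : ↥Co0 ⧸ Cfsg.Agent.S0397.stabH))
        = ((stabilizer K ((1 : ↥Co0) : ↥Co0 ⧸ Cfsg.Agent.S0397.stabH) : Subgroup ↥K) :
          Set ↥K).ncard := Nat.card_coe_set_eq _
      _ ≤ ({1, ⟨negC, hnegK⟩} : Set ↥K).ncard := Set.ncard_le_ncard h1
      _ ≤ 2 := (Set.ncard_insert_le _ _).trans (by rw [Set.ncard_singleton])
  have hpos : 0 < Nat.card (stabilizer K ((1 : ↥Co0) : ↥Co0 ⧸ Cfsg.Agent.S0397.stabH)) :=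
    Nat.card_pos
  have := Nat.le_of_dvd hpos h16T
  omega

/-- a normal subgroup of `Co0` containing `-1` is `{±1}` or everything -/
theorem normal_core (hnegK : negC ∈ K) : (∀ k ∈ K, k = 1 ∨ k = negC) ∨ K = ⊤ := by
  rcases card_B_cases K hnegK with h | h
  · left; exact small_case K hnegK h
  · right; exact big_case K hnegK h

end core

end Cfsg.Agent.Lib.Helper3
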