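import Mathlib
import Cfsg.Agent.Lib.Helper21.GolayFlag
import Cfsg.Agent.Lib.Helper21.GolaySets
import Cfsg.Agent.Lib.Helper3.XiBraid
import Cfsg.Agent.S1604

/-!
Helper library (helper3): transitivity of `M24` on some flags of octads and points, from the
structure of the octad stabiliser (helper21) and `S1604`.
-/

set_option autoImplicit false

namespace Cfsg.Agent.Lib.Helper3

open Cfsg Cfsg.Agent.Lib.Helper21
open scoped Pointwise

/-- `M24` is transitive on octads with an ordered tuple of at most six of their points -/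
theorem flag_list {O O' : Finset GolayPt} (hO : O ∈ octads) (hO' : O' ∈ octads)
    (l l' : List GolayPt) (hl : l.Nodup) (hl' : l'.Nodup) (hlen : l.length = l'.length)
    (h6 : l.length ≤ 6) (hlO : ∀ z ∈ l, z ∈ O) (hlO' : ∀ z ∈ l', z ∈ O') :
    ∃ σ ∈ M24, σ • O = O' ∧ l.map σ = l' := by
  obtain ⟨k, hk⟩ := octads_transitive O O' hO hO'
  have hk' : (k : Equiv.Perm GolayPt) • O = O' := hk
  let x : Fin l.length ↪ GolayPt := ⟨fun i => (k : Equiv.Perm GolayPt) (l.get i), fun i j h =>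
    List.nodup_iff_injective_get.1 hl ((k : Equiv.Perm GolayPt).injective h)⟩
  let y : Fin l.length ↪ GolayPt := ⟨fun i => l'.get (Fin.cast hlen i), fun i j h => by
    have := List.nodup_iff_injective_get.1 hl' h
    exact Fin.cast_injective _ this⟩
  obtain ⟨g, hg, hgo, hgp⟩ := octad_stab_trans h6 O' hO' x y
    (fun i => by
      rw [← hk']
      exact (apply_mem_smul_iff _ _ _).2 (hlO _ (List.get_mem _ _)))
    (fun i => hlO' _ (List.get_mem _ _))
  refine ⟨g * k, M24.mul_mem hg k.2, by rw [mul_smul, hk', hgo], ?_⟩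
  apply List.ext_get (by rw [List.length_map, hlen])
  intro i h1 h2
  rw [List.get_eq_getElem, List.getElem_map]
  have h3 : i < l.length := by simpa using h1
  exact hgp ⟨i, h3⟩

/-- octads with three of their points -/
theorem flag_in_three {O O' : Finset GolayPt} (hO : O ∈ octads) (hO' : O' ∈ octads)
    {a b c a' b' c' : GolayPt} (ha : a ∈ O) (hb : b ∈ O) (hc : c ∈ O) (hab : a ≠ b) (hac : a ≠ c)
    (hbc : b ≠ c) (ha' : a' ∈ O') (hb' : b' ∈ O') (hc' : c' ∈ O') (hab' : a' ≠ b')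
    (hac' : a' ≠ c') (hbc' : b' ≠ c') :
    ∃ σ ∈ M24, σ • O = O' ∧ σ a = a' ∧ σ b = b' ∧ σ c = c' := by
  obtain ⟨σ, hσ, h1, h2⟩ := flag_list hO hO' [a, b, c] [a', b', c'] (by simp [hab, hac, hbc])
    (by simp [hab', hac', hbc']) rfl (by simp) (by simp [ha, hb, hc]) (by simp [ha', hb', hc'])
  simp only [List.map_cons, List.map_nil, List.cons.injEq, and_true] at h2
  exact ⟨σ, hσ, h1, h2.1, h2.2.1, h2.2.2⟩

/-- octads with two of their points -/
theorem flag_in_two {O O' : Finset GolayPt} (hO : O ∈ octads) (hO' : O' ∈ octads)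
    {a b a' b' : GolayPt} (ha : a ∈ O) (hb : b ∈ O) (hab : a ≠ b)
    (ha' : a' ∈ O') (hb' : b' ∈ O') (hab' : a' ≠ b') :
    ∃ σ ∈ M24, σ • O = O' ∧ σ a = a' ∧ σ b = b' := by
  obtain ⟨σ, hσ, h1, h2⟩ := flag_list hO hO' [a, b] [a', b'] (by simp [hab])
    (by simp [hab']) rfl (by simp) (by simp [ha, hb]) (by simp [ha', hb'])
  simp only [List.map_cons, List.map_nil, List.cons.injEq, and_true] at h2
  exact ⟨σ, hσ, h1, h2.1, h2.2⟩

/-- octads with two of their points and a point outside -/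
theorem flag_in_two_out {O O' : Finset GolayPt} (hO : O ∈ octads) (hO' : O' ∈ octads)
    {a b c a' b' c' : GolayPt} (ha : a ∈ O) (hb : b ∈ O) (hab : a ≠ b) (hc : c ∉ O)
    (ha' : a' ∈ O') (hb' : b' ∈ O') (hab' : a' ≠ b') (hc' : c' ∉ O') :
    ∃ σ ∈ M24, σ • O = O' ∧ σ a = a' ∧ σ b = b' ∧ σ c = c' := by
  obtain ⟨σ, hσ, h1, h2, h3⟩ := flag_in_two hO hO' ha hb hab ha' hb' hab'
  have hc1 : σ c ∉ O' := by
    rw [← h1, apply_mem_smul_iff]; exact hc
  obtain ⟨t, ht, hto, htc⟩ := octad_fix_trans O' hO' (σ c) c' hc1 hc'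
  refine ⟨t * σ, M24.mul_mem ht hσ, ?_, ?_, ?_, ?_⟩
  · rw [mul_smul, h1, smul_eq_of_fixing hto]
  · rw [Equiv.Perm.mul_apply, h2, hto _ ha']
  · rw [Equiv.Perm.mul_apply, h3, hto _ hb']
  · rw [Equiv.Perm.mul_apply, htc]

/-- an octad avoiding two points is the symmetric difference of two octads through them
meeting in four points -/
theorem octad_avoid_decomp {p q : GolayPt} (hpq : p ≠ q) {O : Finset GolayPt} (hO : O ∈ octads)
    (hp : p ∉ O) (hq : q ∉ O) :
    ∃ R ∈ octads, ∃ R2 ∈ octads, p ∈ R ∧ q ∈ R ∧ p ∈ R2 ∧ q ∈ R2 ∧ (R ∩ R2).card = 4 ∧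
      O = (R \ R2) ∪ (R2 \ R) := by
  classical
  obtain ⟨a, ha, b, hb, c, hc, hab, hac, hbc⟩ := Finset.two_lt_card.1 (by rw [hO.2]; norm_num : 2 < O.card)
  have hap : a ≠ p := fun h => hp (h ▸ ha)
  have haq : a ≠ q := fun h => hq (h ▸ ha)
  have hbp : b ≠ p := fun h => hp (h ▸ hb)
  have hbq : b ≠ q := fun h => hq (h ▸ hb)
  have hcp : c ≠ p := fun h => hp (h ▸ hc)
  have hcq : c ≠ q := fun h => hq (h ▸ hc)
  have hS : ({a, b, c, p, q} : Finset GolayPt).card = 5 := by
    rw [Finset.card_insert_of_notMem (by simp [hab, hac, hap, haq]),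
      Finset.card_insert_of_notMem (by simp [hbc, hbp, hbq]),
      Finset.card_insert_of_notMem (by simp [hcp, hcq]), Finset.card_pair hpq]
  obtain ⟨R, ⟨hR, hSR⟩, _⟩ := octads_steiner.2 _ hS
  have haR : a ∈ R := hSR (by simp)
  have hbR : b ∈ R := hSR (by simp)
  have hcR : c ∈ R := hSR (by simp)
  have hpR : p ∈ R := hSR (by simp)
  have hqR : q ∈ R := hSR (by simp)
  have h3 : 3 ≤ (R ∩ O).card := by
    have hsub : ({a, b, c} : Finset GolayPt) ⊆ R ∩ O := by
      intro z hz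
      simp only [Finset.mem_insert, Finset.mem_singleton] at hz
      rcases hz with rfl | rfl | rfl <;> simp [*]
    have := Finset.card_le_card hsub
    rwa [Finset.card_insert_of_notMem (by simp [hab, hac]), Finset.card_pair hbc] at this
  have h4 : (R ∩ O).card = 4 := by
    rcases octad_inter_card hR hO with h | h | h | h
    · omega
    · omega
    · exact h
    · exfalso
      have : R ∩ O = R := Finset.eq_of_subset_of_card_le Finset.inter_subset_left (by rw [h, hR.2])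
      have hpO : p ∈ R ∩ O := by rw [this]; exact hpR
      exact hp (Finset.mem_inter.1 hpO).2
  have hRO : (R \ O).card = 4 := by
    have := Finset.card_sdiff_add_card_inter R O
    rw [h4, hR.2] at this; omega
  have hOR : (O \ R).card = 4 := by
    have := Finset.card_sdiff_add_card_inter O R
    rw [Finset.inter_comm, h4, hO.2] at this; omega
  have hR2 : (R \ O) ∪ (O \ R) ∈ octads := by
    refine ⟨supports_symmDiff hR.1 hO.1, ?_⟩
    rw [Finset.card_union_of_disjoint, hRO, hOR]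
    rw [Finset.disjoint_left]
    intro z hz hz'
    exact (Finset.mem_sdiff.1 hz').2 (Finset.mem_sdiff.1 hz).1
  refine ⟨R, hR, _, hR2, hpR, hqR, ?_, ?_, ?_, ?_⟩
  · exact Finset.mem_union_left _ (Finset.mem_sdiff.2 ⟨hpR, hp⟩)
  · exact Finset.mem_union_left _ (Finset.mem_sdiff.2 ⟨hqR, hq⟩)
  · have : R ∩ ((R \ O) ∪ (O \ R)) = R \ O := by
      ext z
      simp only [Finset.mem_inter, Finset.mem_union, Finset.mem_sdiff]
      tauto
    rw [this, hRO]
  · ext z
    simp only [Finset.mem_union, Finset.mem_sdiff]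
    tauto

/-- the two point stabiliser of `M24` is transitive on the octads avoiding both points -/
theorem octad_avoid_trans {p q : GolayPt} (hpq : p ≠ q) {O O' : Finset GolayPt} (hO : O ∈ octads)
    (hO' : O' ∈ octads) (hp : p ∉ O) (hq : q ∉ O) (hp' : p ∉ O') (hq' : q ∉ O') :
    ∃ σ ∈ M24, σ p = p ∧ σ q = q ∧ σ • O = O' := by
  classical
  obtain ⟨R, hR, R2, hR2, pR, qR, pR2, qR2, hc, rfl⟩ := octad_avoid_decomp hpq hO hp hq
  obtain ⟨R', hR', R2', hR2', pR', qR', pR2', qR2', hc', rfl⟩ := octad_avoid_decomp hpq hO' hp' hq'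
  obtain ⟨σ1, hσ1, e1, e2, e3⟩ := flag_in_two hR hR' pR qR hpq pR' qR' hpq
  have hsR2 : σ1 • R2 ∈ octads := smul_mem_octads hσ1 hR2
  have hpS : p ∈ σ1 • R2 := by
    have := (apply_mem_smul_iff σ1 p R2).2 pR2
    rwa [e2] at this
  have hqS : q ∈ σ1 • R2 := by
    have := (apply_mem_smul_iff σ1 q R2).2 qR2
    rwa [e3] at this
  have hcS : (R' ∩ σ1 • R2).card = (R' ∩ R2').card := by
    rw [hc', ← e1, ← Finset.smul_finset_inter, Finset.card_smul_finset, hc]
  obtain ⟨_, _, g, hg, gp, gq, gR, gR2⟩ := Cfsg.Agent.S1604.result p q hpq R' (σ1 • R2) R2' hR' hsR2 hR2'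
    ⟨pR', hpS, pR2'⟩ ⟨qR', hqS, qR2'⟩ hcS
  refine ⟨g * σ1, M24.mul_mem hg hσ1, ?_, ?_, ?_⟩
  · rw [Equiv.Perm.mul_apply, e2, gp]
  · rw [Equiv.Perm.mul_apply, e3, gq]
  · rw [Finset.smul_finset_union, Finset.smul_finset_sdiff, Finset.smul_finset_sdiff, mul_smul,
      mul_smul, e1, gR, gR2]

end Cfsg.Agent.Lib.Helper3
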