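import Mathlib
import Cfsg.Agent.Lib.Helper3.StdStab
import Cfsg.Agent.Lib.Helper3.M24Flags
import Cfsg.Agent.Lib.Helper3.Co0Triple
import Cfsg.Agent.Lib.Helper21.SteinerCounts
import Cfsg.Agent.S1605

/-!
Helper library (helper3): the standard McLaughlin pair `xS = (4,4,0^22)`, `wS = (1,-3,1^22)`,
the point `mS = (4,-4,0^22)` of the `2025`-set and the three families of vectors forming the
suborbits of the point stabiliser `M22`.
-/

set_option autoImplicit false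

namespace Cfsg.Agent.Lib.Helper3

open Cfsg Cfsg.Agent.Lib.Helper21 MulAction
open scoped Pointwise

/-- the second standard vector `(1,-3,1^22)` -/
def wS : leechLattice := vS - xS

theorem wS_val : wS.1 = p5 none - P44 none (some 0) := rfl

theorem wS_apply (i : GolayPt) : wS.1 i = if i = some 0 then -3 else 1 := by
  show p5 none i - P44 none (some 0) i = _
  unfold p5 P44
  by_cases h1 : i = none
  · subst h1; simp
  · by_cases h0 : i = some 0
    · subst h0; simp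
    · simp [h1, h0]

theorem dot_wS (y : GolayPt → ℤ) : dotInt wS.1 y = (∑ i, y i) - 4 * y (some 0) := by
  rw [wS_val, dotInt_sub_left, dot_p5, dot_P44 hpq0]; ring

theorem dot_xS (y : GolayPt → ℤ) : dotInt xS.1 y = 4 * (y none + y (some 0)) :=
  dot_P44 hpq0 y

/-- the `2025`-set attached to a pair -/
def Om (v w : leechLattice) : Set leechLattice :=
  {x | sqNorm x.1 = 32 ∧ dotInt v.1 x.1 = 0 ∧ dotInt w.1 x.1 = 16}

theorem stab_std' (g : ↥Co0) (h1 : g • xS = xS) (h2 : g • wS = wS) (h3 : g • mS = mS) :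
    ∃ σ : ↥M24, σ.1 none = none ∧ σ.1 (some 0) = some 0 ∧ permHom σ = g := by
  have hv : g • vS = vS := by
    have e : vS = wS + xS := by unfold wS; abel
    rw [e, co0_add, h2, h1]
  exact stab_std g hv h3 h1

theorem permHom_fix' (σ : ↥M24) (hn : σ.1 none = none) (h0 : σ.1 (some 0) = some 0) :
    permHom σ • xS = xS ∧ permHom σ • wS = wS ∧ permHom σ • mS = mS := by
  obtain ⟨e1, e2, e3⟩ := permHom_fix σ hn h0
  refine ⟨e3, ?_, e2⟩
  unfold wS
  rw [co0_sub, e1, e3]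

/-! ### permutations acting on the standard shapes -/

theorem mem_smul_iff' (σ : Equiv.Perm GolayPt) (S : Finset GolayPt) (i : GolayPt) :
    σ⁻¹ i ∈ S ↔ i ∈ σ • S := by
  rw [← Finset.inv_smul_mem_iff]; rfl

theorem sv_perm (c : ℤ) (σ : Equiv.Perm GolayPt) (O T : Finset GolayPt) :
    (fun i => sv c O T (σ⁻¹ i)) = sv c (σ • O) (σ • T) := by
  funext i
  unfold sv
  simp only [mem_smul_iff']

theorem ov_perm (σ : Equiv.Perm GolayPt) (C : Finset GolayPt) (j : GolayPt) :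
    (fun i => ov C j (σ⁻¹ i)) = ov (σ • C) (σ j) := by
  funext i
  unfold ov
  have e1 : σ⁻¹ i = j ↔ i = σ j := by rw [Equiv.Perm.inv_eq_iff_eq]
  have e2 : j ∈ C ↔ σ j ∈ σ • C := (apply_mem_smul_iff σ j C).symm
  simp only [e1, mem_smul_iff', e2]

theorem smul_pair (σ : Equiv.Perm GolayPt) (a b : GolayPt) :
    σ • ({a, b} : Finset GolayPt) = {σ a, σ b} := by
  ext i
  rw [← mem_smul_iff']
  simp only [Finset.mem_insert, Finset.mem_singleton, Equiv.Perm.inv_eq_iff_eq]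

theorem smul_compl' (σ : Equiv.Perm GolayPt) (O : Finset GolayPt) : σ • Oᶜ = (σ • O)ᶜ := by
  ext i
  rw [← mem_smul_iff', Finset.mem_compl, Finset.mem_compl, mem_smul_iff']

/-! ### the three families -/

def Y1 : Set leechLattice :=
  {y | ∃ O ∈ octads, (none : GolayPt) ∉ O ∧ (some 0 : GolayPt) ∉ O ∧ y.1 = sv 2 O ∅}

def Y2 : Set leechLattice :=
  {y | ∃ O ∈ octads, ∃ t : GolayPt, (none : GolayPt) ∈ O ∧ (some 0 : GolayPt) ∈ O ∧ t ∈ O ∧
    t ≠ none ∧ t ≠ some 0 ∧ y.1 = sv 2 O {some 0, t}}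

def Y3 : Set leechLattice :=
  {y | ∃ O ∈ octads, ∃ j : GolayPt, (none : GolayPt) ∉ O ∧ (some 0 : GolayPt) ∈ O ∧ j ∈ O ∧
    j ≠ some 0 ∧ y.1 = ov Oᶜ j}

theorem Y1_sub : Y1 ⊆ Om xS wS := by
  rintro y ⟨O, hO, hn, h0, hy⟩
  have hT : (∅ : Finset GolayPt) ⊆ O := Finset.empty_subset _
  have e1 : sv 2 O ∅ none = 0 := by unfold sv; simp [hn]
  have e2 : sv 2 O ∅ (some 0) = 0 := by unfold sv; simp [h0]
  refine ⟨?_, ?_, ?_⟩
  · rw [hy, sqNorm_sv 2 hT, hO.2]; norm_num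
  · rw [hy, dot_xS, e1, e2]; norm_num
  · rw [hy, dot_wS, sum_sv 2 hT, hO.2, e2]; norm_num

theorem Y2_sub : Y2 ⊆ Om xS wS := by
  rintro y ⟨O, hO, t, hn, h0, ht, htn, ht0, hy⟩
  have hT : ({some 0, t} : Finset GolayPt) ⊆ O := by
    intro z hz
    simp only [Finset.mem_insert, Finset.mem_singleton] at hz
    rcases hz with rfl | rfl <;> assumption
  have hTc : ({some 0, t} : Finset GolayPt).card = 2 := Finset.card_pair (Ne.symm ht0)
  have e1 : sv 2 O {some 0, t} none = 2 := by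
    unfold sv
    rw [if_neg (by simp [hpq0, Ne.symm htn]), if_pos hn]
  have e2 : sv 2 O {some 0, t} (some 0) = -2 := by
    unfold sv
    rw [if_pos (by simp)]
  refine ⟨?_, ?_, ?_⟩
  · rw [hy, sqNorm_sv 2 hT, hO.2]; norm_num
  · rw [hy, dot_xS, e1, e2]; norm_num
  · rw [hy, dot_wS, sum_sv 2 hT, hO.2, hTc, e2]; norm_num

theorem Y3_sub : Y3 ⊆ Om xS wS := by
  rintro y ⟨O, hO, j, hn, h0, hj, hj0, hy⟩
  have hjn : j ≠ none := fun h => hn (h ▸ hj)
  have hjC : j ∉ Oᶜ := by simp [hj]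
  have hcard : (Oᶜ : Finset GolayPt).card = 16 := by
    rw [Finset.card_compl, hO.2, card_golayPt]
  have e1 : ov Oᶜ j none = 1 := by
    unfold ov
    rw [if_neg (Ne.symm hjn), if_pos (by simp [hn])]
  have e2 : ov Oᶜ j (some 0) = -1 := by
    unfold ov
    rw [if_neg (Ne.symm hj0), if_neg (by simp [h0])]
  refine ⟨?_, ?_, ?_⟩
  · rw [hy, sqNorm_ov]
  · rw [hy, dot_xS, e1, e2]; norm_num
  · rw [hy, dot_wS, sum_ov, hcard, if_neg hjC, e2]; norm_num

theorem mS_notMem_Y1 : mS ∉ Y1 := by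
  rintro ⟨O, hO, hn, h0, hy⟩
  have := congrFun hy none
  have e1 : sv 2 O ∅ none = 0 := by unfold sv; simp [hn]
  rw [e1] at this
  have e2 : mS.1 none = 4 := by show D44 none (some 0) none = 4; unfold D44; simp
  rw [e2] at this
  norm_num at this

theorem mS_notMem_Y2 : mS ∉ Y2 := by
  rintro ⟨O, hO, t, hn, h0, ht, htn, ht0, hy⟩
  have := congrFun hy none
  have e1 : sv 2 O {some 0, t} none = 2 := by
    unfold sv
    rw [if_neg (by simp [hpq0, Ne.symm htn]), if_pos hn]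
  rw [e1] at this
  have e2 : mS.1 none = 4 := by show D44 none (some 0) none = 4; unfold D44; simp
  rw [e2] at this
  norm_num at this

theorem mS_notMem_Y3 : mS ∉ Y3 := by
  rintro ⟨O, hO, j, hn, h0, hj, hj0, hy⟩
  have hjn : j ≠ none := fun h => hn (h ▸ hj)
  have := congrFun hy none
  have e1 : ov Oᶜ j none = 1 := by
    unfold ov
    rw [if_neg (Ne.symm hjn), if_pos (by simp [hn])]
  rw [e1] at this
  have e2 : mS.1 none = 4 := by show D44 none (some 0) none = 4; unfold D44; simp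
  rw [e2] at this
  norm_num at this

/-! ### invariance and transitivity under the two point stabiliser -/

theorem permHom_val (σ : ↥M24) (y : leechLattice) :
    ((permHom σ) • y : leechLattice).1 = fun i => y.1 (σ.1⁻¹ i) := rfl

theorem Y1_inv (σ : ↥M24) (hn : σ.1 none = none) (h0 : σ.1 (some 0) = some 0) :
    ∀ y ∈ Y1, permHom σ • y ∈ Y1 := by
  rintro y ⟨O, hO, h1, h2, hy⟩
  refine ⟨σ.1 • O, smul_mem_octads σ.2 hO, ?_, ?_, ?_⟩
  · rw [← hn, apply_mem_smul_iff]; exact h1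
  · rw [← h0, apply_mem_smul_iff]; exact h2
  · rw [permHom_val, hy, sv_perm, Finset.smul_finset_empty]

theorem Y1_trans : ∀ y ∈ Y1, ∀ y' ∈ Y1, ∃ σ : ↥M24, σ.1 none = none ∧ σ.1 (some 0) = some 0 ∧
    permHom σ • y = y' := by
  rintro y ⟨O, hO, h1, h2, hy⟩ y' ⟨O', hO', h1', h2', hy'⟩
  obtain ⟨σ, hσ, e1, e2, e3⟩ := octad_avoid_trans hpq0 hO hO' h1 h2 h1' h2'
  refine ⟨⟨σ, hσ⟩, e1, e2, ?_⟩
  apply Subtype.ext
  rw [permHom_val, hy, hy', sv_perm, Finset.smul_finset_empty, e3]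

theorem Y2_inv (σ : ↥M24) (hn : σ.1 none = none) (h0 : σ.1 (some 0) = some 0) :
    ∀ y ∈ Y2, permHom σ • y ∈ Y2 := by
  rintro y ⟨O, hO, t, h1, h2, ht, htn, ht0, hy⟩
  refine ⟨σ.1 • O, smul_mem_octads σ.2 hO, σ.1 t, ?_, ?_, ?_, ?_, ?_, ?_⟩
  · rw [← hn, apply_mem_smul_iff]; exact h1
  · rw [← h0, apply_mem_smul_iff]; exact h2
  · rw [apply_mem_smul_iff]; exact ht
  · intro h; rw [← hn] at h; exact htn (σ.1.injective h)
  · intro h; rw [← h0] at h; exact ht0 (σ.1.injective h)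
  · rw [permHom_val, hy, sv_perm, smul_pair, h0]

theorem Y2_trans : ∀ y ∈ Y2, ∀ y' ∈ Y2, ∃ σ : ↥M24, σ.1 none = none ∧ σ.1 (some 0) = some 0 ∧
    permHom σ • y = y' := by
  rintro y ⟨O, hO, t, h1, h2, ht, htn, ht0, hy⟩ y' ⟨O', hO', t', h1', h2', ht', htn', ht0', hy'⟩
  obtain ⟨σ, hσ, e0, e1, e2, e3⟩ := flag_in_three hO hO' h1 h2 ht hpq0 (Ne.symm htn) (Ne.symm ht0)
    h1' h2' ht' hpq0 (Ne.symm htn') (Ne.symm ht0')
  refine ⟨⟨σ, hσ⟩, e1, e2, ?_⟩
  apply Subtype.ext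
  rw [permHom_val, hy, hy', sv_perm, smul_pair, e0, e2, e3]

theorem Y3_inv (σ : ↥M24) (hn : σ.1 none = none) (h0 : σ.1 (some 0) = some 0) :
    ∀ y ∈ Y3, permHom σ • y ∈ Y3 := by
  rintro y ⟨O, hO, j, h1, h2, hj, hj0, hy⟩
  refine ⟨σ.1 • O, smul_mem_octads σ.2 hO, σ.1 j, ?_, ?_, ?_, ?_, ?_⟩
  · rw [← hn, apply_mem_smul_iff]; exact h1
  · rw [← h0, apply_mem_smul_iff]; exact h2
  · rw [apply_mem_smul_iff]; exact hj
  · intro h; rw [← h0] at h; exact hj0 (σ.1.injective h)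
  · rw [permHom_val, hy, ov_perm, smul_compl']

theorem Y3_trans : ∀ y ∈ Y3, ∀ y' ∈ Y3, ∃ σ : ↥M24, σ.1 none = none ∧ σ.1 (some 0) = some 0 ∧
    permHom σ • y = y' := by
  rintro y ⟨O, hO, j, h1, h2, hj, hj0, hy⟩ y' ⟨O', hO', j', h1', h2', hj', hj0', hy'⟩
  obtain ⟨σ, hσ, e0, e1, e2, e3⟩ := flag_in_two_out hO hO' h2 hj (Ne.symm hj0) h1
    h2' hj' (Ne.symm hj0') h1'
  refine ⟨⟨σ, hσ⟩, e3, e1, ?_⟩
  apply Subtype.ext
  rw [permHom_val, hy, hy', ov_perm, smul_compl', e0, e2]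

end Cfsg.Agent.Lib.Helper3
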