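import Mathlib
import Cfsg.Agent.Lib.Helper3.McLFam

/-!
Helper library (helper3): the sizes `330`, `462`, `1232` of the three families.
-/

set_option autoImplicit false

namespace Cfsg.Agent.Lib.Helper3

open Cfsg Cfsg.Agent.Lib.Helper21 MulAction
open scoped Pointwise

theorem count_330 : ((Finset.range 4096).filter (fun c => popc 24 (encMask c) = 8 ∧
    ((encMask c).testBit 0 = false ∧ (encMask c).testBit 5 = false))).card = 330 := by
  decide +kernel

/-- the octads avoiding two given points number `330` -/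
theorem ncard_avoid (p q : GolayPt) (hpq : p ≠ q) :
    {x : Finset GolayPt | x ∈ octads ∧ p ∉ x ∧ q ∉ x}.ncard = 330 := by
  have hne : ptN 0 ≠ ptN 5 := fun h => by
    have := ptN_injOn (by norm_num) (by norm_num) h
    omega
  obtain ⟨k, hk, hk2⟩ := M24_tuples 2 (by norm_num)
    ⟨![ptN 0, ptN 5], by
      intro i j h
      fin_cases i <;> fin_cases j <;> simp at h ⊢
      · exact absurd h hne
      · exact absurd h.symm hne⟩
    ⟨![p, q], by
      intro i j h
      fin_cases i <;> fin_cases j <;> simp at h ⊢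
      · exact absurd h hpq
      · exact absurd h.symm hpq⟩
  have hk0 : k (ptN 0) = p := hk2 0
  have hk5 : k (ptN 5) = q := hk2 1
  subst hk0 hk5
  refine ncard_flag (k := k) _ 8 (fun m => m.testBit 0 = false ∧ m.testBit 5 = false) 330
    (fun y => ?_) count_330
  rw [smul_mem_octads_iff hk, apply_mem_smul_iff, apply_mem_smul_iff,
    ptN_mem_iff_testBit 0 (by norm_num), ptN_mem_iff_testBit 5 (by norm_num), Bool.not_eq_true,
    Bool.not_eq_true]
  rfl

theorem Y1_ncard : Y1.ncard = 330 := by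
  rw [← Set.ncard_image_of_injective Y1 Subtype.val_injective]
  have : Subtype.val '' Y1 = (fun O : Finset GolayPt => sv 2 O ∅) ''
      {x | x ∈ octads ∧ (none : GolayPt) ∉ x ∧ (some 0 : GolayPt) ∉ x} := by
    ext f
    constructor
    · rintro ⟨y, ⟨O, hO, h1, h2, hy⟩, rfl⟩
      exact ⟨O, ⟨hO, h1, h2⟩, hy.symm⟩
    · rintro ⟨O, ⟨hO, h1, h2⟩, rfl⟩
      exact ⟨⟨sv 2 O ∅, sv2_mem hO (Finset.empty_subset _) (by simp)⟩, ⟨O, hO, h1, h2, rfl⟩, rfl⟩
  rw [this, Set.ncard_image_of_injOn, ncard_avoid _ _ hpq0]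
  intro O _ O' _ h
  exact (sv_inj (by norm_num) (Finset.empty_subset _) (Finset.empty_subset _) h).1

open Classical in
theorem Y2_ncard : Y2.ncard = 462 := by
  rw [← Set.ncard_image_of_injective Y2 Subtype.val_injective]
  set 𝒪 : Finset (Finset GolayPt) := (blocksFinset octads).filter
    (fun O => (none : GolayPt) ∈ O ∧ (some 0 : GolayPt) ∈ O) with h𝒪
  have mem𝒪 : ∀ O, O ∈ 𝒪 ↔ O ∈ octads ∧ (none : GolayPt) ∈ O ∧ (some 0 : GolayPt) ∈ O := by
    intro O; rw [h𝒪, Finset.mem_filter, mem_blocksFinset]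
  have card𝒪 : 𝒪.card = 77 := by
    rw [← (lam_5_8_24 card_golayPt octads_steiner {(none : GolayPt), some 0}).2.2.1
      (Finset.card_pair hpq0), h𝒪]
    congr 1
    apply Finset.filter_congr
    intro O _
    rw [Finset.insert_subset_iff, Finset.singleton_subset_iff]
  set A : Finset (Σ _ : Finset GolayPt, GolayPt) :=
    𝒪.sigma (fun O => (O.erase none).erase (some 0)) with hA
  have cardA : A.card = 462 := by
    rw [hA, Finset.card_sigma]
    have : ∀ O ∈ 𝒪, ((O.erase none).erase (some 0)).card = 6 := by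
      intro O hO
      obtain ⟨h1, h2, h3⟩ := (mem𝒪 O).1 hO
      rw [Finset.card_erase_of_mem (Finset.mem_erase.2 ⟨hpq0.symm, h3⟩),
        Finset.card_erase_of_mem h2, h1.2]
    rw [Finset.sum_congr rfl this, Finset.sum_const, card𝒪]
    rfl
  have himg : Subtype.val '' Y2 =
      (fun s : (Σ _ : Finset GolayPt, GolayPt) => sv 2 s.1 {some 0, s.2}) '' (A : Set _) := by
    ext f
    constructor
    · rintro ⟨y, ⟨O, hO, t, h1, h2, ht, htn, ht0, hy⟩, rfl⟩
      refine ⟨⟨O, t⟩, ?_, hy.symm⟩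
      rw [Finset.mem_coe, hA, Finset.mem_sigma]
      exact ⟨(mem𝒪 O).2 ⟨hO, h1, h2⟩,
        Finset.mem_erase.2 ⟨ht0, Finset.mem_erase.2 ⟨htn, ht⟩⟩⟩
    · rintro ⟨⟨O, t⟩, hs, rfl⟩
      rw [Finset.mem_coe, hA, Finset.mem_sigma] at hs
      obtain ⟨hO, ht⟩ := hs
      obtain ⟨h1, h2, h3⟩ := (mem𝒪 O).1 hO
      have ht' := Finset.mem_erase.1 ht
      have ht'' := Finset.mem_erase.1 ht'.2
      have hT : ({some 0, t} : Finset GolayPt) ⊆ O := by
        intro z hz
        simp only [Finset.mem_insert, Finset.mem_singleton] at hz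
        rcases hz with rfl | rfl
        · exact h3
        · exact ht''.2
      exact ⟨⟨sv 2 O {some 0, t}, sv2_mem h1 hT
        (by rw [Finset.card_pair (Ne.symm ht'.1)]; exact even_two)⟩,
        ⟨O, h1, t, h2, h3, ht''.2, ht''.1, ht'.1, rfl⟩, rfl⟩
  rw [himg, Set.ncard_image_of_injOn, Set.ncard_coe_finset, cardA]
  rintro ⟨O, t⟩ hs ⟨O', t'⟩ hs' h
  rw [Finset.mem_coe, hA, Finset.mem_sigma] at hs hs'
  obtain ⟨hO, ht⟩ := hs
  obtain ⟨hO', ht'⟩ := hs'
  obtain ⟨h1, h2, h3⟩ := (mem𝒪 O).1 hO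
  obtain ⟨h1', h2', h3'⟩ := (mem𝒪 O').1 hO'
  have a := Finset.mem_erase.1 ht
  have a' := Finset.mem_erase.1 ht'
  have b := Finset.mem_erase.1 a.2
  have b' := Finset.mem_erase.1 a'.2
  have hT : ({some 0, t} : Finset GolayPt) ⊆ O := by
    intro z hz
    simp only [Finset.mem_insert, Finset.mem_singleton] at hz
    rcases hz with rfl | rfl
    · exact h3
    · exact b.2
  have hT' : ({some 0, t'} : Finset GolayPt) ⊆ O' := by
    intro z hz
    simp only [Finset.mem_insert, Finset.mem_singleton] at hz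
    rcases hz with rfl | rfl
    · exact h3'
    · exact b'.2
  obtain ⟨e1, e2⟩ := sv_inj (by norm_num : (0 : ℤ) < 2) hT hT' h
  have : t ∈ ({some 0, t'} : Finset GolayPt) := by rw [← e2]; simp
  simp only [Finset.mem_insert, Finset.mem_singleton] at this
  rcases this with h4 | h4
  · exact absurd h4 a.1
  · subst e1; subst h4; rfl

open Classical in
theorem Y3_ncard : Y3.ncard = 1232 := by
  rw [← Set.ncard_image_of_injective Y3 Subtype.val_injective]
  set 𝒪 : Finset (Finset GolayPt) := (blocksFinset octads).filter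
    (fun O => (some 0 : GolayPt) ∈ O ∧ (none : GolayPt) ∉ O) with h𝒪
  have mem𝒪 : ∀ O, O ∈ 𝒪 ↔ O ∈ octads ∧ (some 0 : GolayPt) ∈ O ∧ (none : GolayPt) ∉ O := by
    intro O; rw [h𝒪, Finset.mem_filter, mem_blocksFinset]
  have card𝒪 : 𝒪.card = 176 := by
    rw [h𝒪, ← ncard_blocks_filter]
    exact (Cfsg.Agent.S1605.result (some 0) none hpq0.symm).1
  set A : Finset (Σ _ : Finset GolayPt, GolayPt) :=
    𝒪.sigma (fun O => O.erase (some 0)) with hA
  have cardA : A.card = 1232 := by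
    rw [hA, Finset.card_sigma]
    have : ∀ O ∈ 𝒪, (O.erase (some 0)).card = 7 := by
      intro O hO
      obtain ⟨h1, h2, h3⟩ := (mem𝒪 O).1 hO
      rw [Finset.card_erase_of_mem h2, h1.2]
    rw [Finset.sum_congr rfl this, Finset.sum_const, card𝒪]
    rfl
  have himg : Subtype.val '' Y3 =
      (fun s : (Σ _ : Finset GolayPt, GolayPt) => ov s.1ᶜ s.2) '' (A : Set _) := by
    ext f
    constructor
    · rintro ⟨y, ⟨O, hO, j, h1, h2, hj, hj0, hy⟩, rfl⟩
      refine ⟨⟨O, j⟩, ?_, hy.symm⟩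
      rw [Finset.mem_coe, hA, Finset.mem_sigma]
      exact ⟨(mem𝒪 O).2 ⟨hO, h2, h1⟩, Finset.mem_erase.2 ⟨hj0, hj⟩⟩
    · rintro ⟨⟨O, j⟩, hs, rfl⟩
      rw [Finset.mem_coe, hA, Finset.mem_sigma] at hs
      obtain ⟨hO, hj⟩ := hs
      obtain ⟨h1, h2, h3⟩ := (mem𝒪 O).1 hO
      have hj' := Finset.mem_erase.1 hj
      exact ⟨⟨ov Oᶜ j, ov_mem (compl_mem_supports h1.1) j⟩,
        ⟨O, h1, j, h3, h2, hj'.2, hj'.1, rfl⟩, rfl⟩
  rw [himg, Set.ncard_image_of_injOn, Set.ncard_coe_finset, cardA]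
  rintro ⟨O, j⟩ _ ⟨O', j'⟩ _ h
  obtain ⟨e1, e2⟩ := ov_inj h
  have e3 : O = O' := compl_injective e1
  subst e3; subst e2; rfl

end Cfsg.Agent.Lib.Helper3
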