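import Mathlib
import Cfsg.Agent.Lib.Helper3.McLCount
import Cfsg.Agent.Lib.Helper3.Co0PairNeg
import Cfsg.Agent.Lib.Helper3.Co0Count
import Cfsg.Agent.S0405
import Cfsg.Agent.S1573
import Cfsg.Agent.S0400
import Cfsg.Agent.S0394
import Cfsg.Agent.S0379
import Cfsg.Agent.S0378

/-!
Helper library (helper3): the joint stabiliser of two minimal vectors with inner product `-8`
(McLaughlin group): order, the action on the `2025`-set, the point stabiliser `M22` and its three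
further orbits.
-/

set_option autoImplicit false

namespace Cfsg.Agent.Lib.Helper3

open Cfsg Cfsg.Agent.Lib.Helper21 MulAction
open scoped Pointwise

theorem finite_Co0' : Finite ↥Co0 :=
  Nat.finite_of_card_ne_zero (by rw [Cfsg.Agent.S0397.result]; norm_num)

theorem xS_norm : sqNorm xS.1 = 32 := sqNorm_P44 hpq0

theorem wS_norm : sqNorm wS.1 = 32 := by
  have e : wS.1 = ov Finset.univ (some 0) := by
    funext i
    rw [wS_apply]
    unfold ov
    by_cases h : i = some 0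
    · rw [if_pos h, if_pos h, if_pos (Finset.mem_univ _)]
    · rw [if_neg h, if_neg h, if_pos (Finset.mem_univ _)]
  rw [e, sqNorm_ov]

theorem xS_wS : dotInt xS.1 wS.1 = -8 := by
  rw [dot_xS, wS_apply, wS_apply, if_neg (by decide), if_pos rfl]; norm_num

theorem mS_mem_Om : mS ∈ Om xS wS := by
  have e1 : mS.1 none = 4 := by show D44 none (some 0) none = 4; unfold D44; simp
  have e2 : mS.1 (some 0) = -4 := by
    show D44 none (some 0) (some 0) = -4; unfold D44; simp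
  refine ⟨Cfsg.Agent.S5392.sqNorm_D44 hpq0, ?_, ?_⟩
  · rw [dot_xS, e1, e2]; norm_num
  · have h1 : dotInt wS.1 mS.1 = dotInt vS.1 mS.1 - dotInt xS.1 mS.1 := by
      rw [wS_val]; exact dotInt_sub_left _ _ _
    have h2 : dotInt vS.1 mS.1 = 16 := by
      show dotInt (p5 none) (D44 none (some 0)) = 16
      rw [dotInt_comm, dot_D44 hpq0]; unfold p5; simp
    rw [h1, h2, dot_xS, e1, e2]; norm_num

/-- every McLaughlin triple is conjugate to the standard one -/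
theorem to_std_mcl (v w x : leechLattice) (hv : sqNorm v.1 = 32) (hw : sqNorm w.1 = 32)
    (hvw : dotInt v.1 w.1 = -8) (hx : x ∈ Om v w) :
    ∃ g : ↥Co0, g • v = xS ∧ g • w = wS ∧ g • x = mS := by
  obtain ⟨hxn, hvx, hwx⟩ := hx
  have eV : (v + w).1 = v.1 + w.1 := rfl
  have eW : (x - (v + w)).1 = x.1 - (v.1 + w.1) := rfl
  have hVn : sqNorm (v.1 + w.1) = 48 := by rw [sqNorm_add, hv, hw, hvw]; norm_num
  have hxV : dotInt x.1 (v.1 + w.1) = 16 := by
    rw [dotInt_add_right, dotInt_comm x.1 v.1, hvx, dotInt_comm x.1 w.1, hwx]; norm_num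
  have hWn : sqNorm (x.1 - (v.1 + w.1)) = 48 := by
    rw [sqNorm_sub, hxn, hVn, hxV]; norm_num
  have hVW : dotInt (v.1 + w.1) (x.1 - (v.1 + w.1)) = -32 := by
    rw [dotInt_sub_right, dotInt_comm (v.1 + w.1) x.1, hxV, dotInt_self, hVn]; norm_num
  have hVv : dotInt (v.1 + w.1) v.1 = 24 := by
    rw [dotInt_add_left, dotInt_self, hv, dotInt_comm, hvw]; norm_num
  have hWv : dotInt (x.1 - (v.1 + w.1)) v.1 = -24 := by
    rw [dotInt_sub_left, dotInt_comm x.1 v.1, hvx, hVv]; norm_num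
  obtain ⟨g, g1, g2, g3⟩ := Cfsg.Agent.S0405.to_std (v + w) (x - (v + w)) v hVn hWn hVW hv hVv hWv
  have e : (v + w) + (x - (v + w)) = x := by abel
  rw [e] at g2
  refine ⟨g, g3, ?_, g2⟩
  have : w = (v + w) - v := by abel
  rw [this, co0_sub, g1, g3]; rfl

/-- every McLaughlin pair is conjugate to the standard one -/
theorem to_std_pair (v w : leechLattice) (hv : sqNorm v.1 = 32) (hw : sqNorm w.1 = 32)
    (hvw : dotInt v.1 w.1 = -8) : ∃ g : ↥Co0, g • v = xS ∧ g • w = wS := by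
  have c := (connP_m1 v.2 hv w.2 hw hvw).trans (connP_m1 xS.2 xS_norm wS.2 wS_norm xS_wS).symm
  exact ConnP.exists_co0 (v := v) (w := w) (v' := xS) (w' := wS) c

theorem smul_mem_Om {v w x : leechLattice} (g : ↥Co0) (hx : x ∈ Om v w) :
    g • x ∈ Om (g • v) (g • w) := by
  obtain ⟨h1, h2, h3⟩ := hx
  refine ⟨?_, ?_, ?_⟩
  · show sqNorm (g.1 x).1 = 32
    rw [g.2.2, h1]
  · show dotInt (g.1 v).1 (g.1 x).1 = 0
    rw [co0_dot g.2, h2]
  · show dotInt (g.1 w).1 (g.1 x).1 = 16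
    rw [co0_dot g.2, h3]

theorem Om_nonempty (v w : leechLattice) (hv : sqNorm v.1 = 32) (hw : sqNorm w.1 = 32)
    (hvw : dotInt v.1 w.1 = -8) : (Om v w).Nonempty := by
  obtain ⟨g, g1, g2⟩ := to_std_pair v w hv hw hvw
  refine ⟨g⁻¹ • mS, ?_⟩
  have := smul_mem_Om g⁻¹ mS_mem_Om
  rwa [← g1, ← g2, inv_smul_smul, inv_smul_smul] at this

section group
variable (v w : leechLattice) (hv : sqNorm v.1 = 32) (hw : sqNorm w.1 = 32)
  (hvw : dotInt v.1 w.1 = -8)

include hv in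
theorem card_stab_min : Nat.card ↥(stabilizer ↥Co0 v) * 196560 = 8315553613086720000 := by
  have horb : orbit ↥Co0 v = {y : leechLattice | sqNorm y.1 = 32} := by
    ext y
    constructor
    · rintro ⟨g, rfl⟩
      show sqNorm (g.1 v).1 = 32
      rw [g.2.2, hv]
    · intro hy
      obtain ⟨g, hg⟩ := Cfsg.Agent.S0400.result v y hv hy
      exact ⟨g, hg⟩
  have h1 := Subgroup.card_mul_index (stabilizer ↥Co0 v)
  rw [index_stabilizer, horb, ncard_subtype (fun y => sqNorm y = 32), Cfsg.Agent.S0394.result,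
    Cfsg.Agent.S0397.result] at h1
  exact h1

include hv hw hvw in
theorem card_G : Nat.card ↥(stabilizer ↥Co0 v ⊓ stabilizer ↥Co0 w) = 898128000 := by
  have horb : orbit ↥(stabilizer ↥Co0 v) w =
      {y : leechLattice | sqNorm y.1 = 32 ∧ dotInt v.1 y.1 = -8} := by
    ext y
    constructor
    · rintro ⟨s, rfl⟩
      have sv : s.1 • v = v := mem_stabilizer_iff.1 s.2
      have sv' : s.1.1 v = v := sv
      refine ⟨?_, ?_⟩
      · show sqNorm (s.1.1 w).1 = 32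
        rw [s.1.2.2, hw]
      · have := co0_dot s.1.2 v w
        rw [sv'] at this
        show dotInt v.1 (s.1.1 w).1 = -8
        rw [this, hvw]
    · rintro ⟨hy, hvy⟩
      have c := (connP_m1 v.2 hv w.2 hw hvw).trans (connP_m1 v.2 hv y.2 hy hvy).symm
      obtain ⟨g, g1, g2⟩ := ConnP.exists_co0 (v := v) (w := w) (v' := v) (w' := y) c
      exact ⟨⟨g, mem_stabilizer_iff.2 g1⟩, g2⟩
  have hn : (orbit ↥(stabilizer ↥Co0 v) w).ncard = 47104 := by
    rw [horb, ncard_subtype (fun y => sqNorm y = 32 ∧ dotInt v.1 y = -8)]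
    exact (Cfsg.Agent.S1573.result v.1 v.2 hv).2.1
  have h1 := Subgroup.card_mul_index (stabilizer ↥(stabilizer ↥Co0 v) w)
  rw [index_stabilizer, hn] at h1
  have h2 := card_stab_min v hv
  have e : Nat.card ↥(stabilizer ↥(stabilizer ↥Co0 v) w) =
      Nat.card ↥(stabilizer ↥Co0 v ⊓ stabilizer ↥Co0 w) := by
    apply Nat.card_congr
    exact
      { toFun := fun k => ⟨k.1.1, Subgroup.mem_inf.2 ⟨k.1.2, k.2⟩⟩
        invFun := fun g => ⟨⟨g.1, (Subgroup.mem_inf.1 g.2).1⟩, (Subgroup.mem_inf.1 g.2).2⟩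
        left_inv := fun k => rfl
        right_inv := fun g => rfl }
  rw [← e]
  omega

end group

/-! ### the point stabiliser -/

section point
variable (v w x : leechLattice) (g0 : ↥Co0) (g0v : g0 • v = xS) (g0w : g0 • w = wS)
  (g0x : g0 • x = mS)

include g0v g0w g0x in
theorem conj_fix (σ : ↥M24) (hn : σ.1 none = none) (h0 : σ.1 (some 0) = some 0) :
    (g0⁻¹ * permHom σ * g0) • v = v ∧ (g0⁻¹ * permHom σ * g0) • w = w ∧
      (g0⁻¹ * permHom σ * g0) • x = x := by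
  obtain ⟨e1, e2, e3⟩ := permHom_fix' σ hn h0
  refine ⟨?_, ?_, ?_⟩
  · rw [mul_smul, mul_smul, g0v, e1, inv_smul_eq_iff, g0v]
  · rw [mul_smul, mul_smul, g0w, e2, inv_smul_eq_iff, g0w]
  · rw [mul_smul, mul_smul, g0x, e3, inv_smul_eq_iff, g0x]

include g0v g0w g0x in
theorem conj_std (t : ↥Co0) (tv : t • v = v) (tw : t • w = w) (tx : t • x = x) :
    ∃ σ : ↥M24, σ.1 none = none ∧ σ.1 (some 0) = some 0 ∧ permHom σ = g0 * t * g0⁻¹ :=
  stab_std' (g0 * t * g0⁻¹)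
    (by rw [← g0v, mul_smul, mul_smul, inv_smul_smul, tv])
    (by rw [← g0w, mul_smul, mul_smul, inv_smul_smul, tw])
    (by rw [← g0x, mul_smul, mul_smul, inv_smul_smul, tx])

include g0v g0w g0x in
theorem pointStab :
    IsSimpleGroup ↥(stabilizer ↥(stabilizer ↥Co0 v ⊓ stabilizer ↥Co0 w) x) ∧
    Nat.card ↥(stabilizer ↥(stabilizer ↥Co0 v ⊓ stabilizer ↥Co0 w) x) = 443520 := by
  let F1 : ↥(stabilizer ↥M24 (none : GolayPt) ⊓ stabilizer ↥M24 (some 0 : GolayPt)) →* ↥Co0 :=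
    (MulAut.conj g0⁻¹).toMonoidHom.comp (permHom.comp (Subgroup.subtype _))
  have F1_apply : ∀ σ, F1 σ = g0⁻¹ * permHom σ.1 * g0 := by
    intro σ
    show g0⁻¹ * permHom σ.1 * g0⁻¹⁻¹ = _
    rw [inv_inv]
  have hfix : ∀ σ, F1 σ • v = v ∧ F1 σ • w = w ∧ F1 σ • x = x := by
    intro σ
    have hn : σ.1.1 none = none := mem_stabilizer_iff.1 σ.2.1
    have h0 : σ.1.1 (some 0) = some 0 := mem_stabilizer_iff.1 σ.2.2
    rw [F1_apply]
    exact conj_fix v w x g0 g0v g0w g0x σ.1 hn h0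
  let F2 : ↥(stabilizer ↥M24 (none : GolayPt) ⊓ stabilizer ↥M24 (some 0 : GolayPt)) →*
      ↥(stabilizer ↥Co0 v ⊓ stabilizer ↥Co0 w) :=
    F1.codRestrict _ (fun σ => Subgroup.mem_inf.2
      ⟨mem_stabilizer_iff.2 (hfix σ).1, mem_stabilizer_iff.2 (hfix σ).2.1⟩)
  let F3 : ↥(stabilizer ↥M24 (none : GolayPt) ⊓ stabilizer ↥M24 (some 0 : GolayPt)) →*
      ↥(stabilizer ↥(stabilizer ↥Co0 v ⊓ stabilizer ↥Co0 w) x) :=
    F2.codRestrict _ (fun σ => mem_stabilizer_iff.2 (hfix σ).2.2)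
  have hinj : Function.Injective F3 := by
    intro a b hab
    have h1 : F1 a = F1 b := congrArg (fun z => z.1.1) hab
    rw [F1_apply, F1_apply] at h1
    have h2 : permHom a.1 = permHom b.1 := mul_left_cancel (mul_right_cancel h1)
    exact Subtype.ext (permHom_injective h2)
  have hsurj : Function.Surjective F3 := by
    intro h
    have kv : h.1.1 • v = v := mem_stabilizer_iff.1 h.1.2.1
    have kw : h.1.1 • w = w := mem_stabilizer_iff.1 h.1.2.2
    have kx : h.1.1 • x = x := mem_stabilizer_iff.1 h.2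
    obtain ⟨σ, hn, h0, hσ⟩ := conj_std v w x g0 g0v g0w g0x h.1.1 kv kw kx
    refine ⟨⟨σ, Subgroup.mem_inf.2 ⟨mem_stabilizer_iff.2 hn, mem_stabilizer_iff.2 h0⟩⟩, ?_⟩
    apply Subtype.ext
    apply Subtype.ext
    show F1 _ = h.1.1
    rw [F1_apply]
    show g0⁻¹ * permHom σ * g0 = h.1.1
    rw [hσ]
    group
  let e := MulEquiv.ofBijective F3 ⟨hinj, hsurj⟩
  have : IsSimpleGroup ↥(stabilizer ↥M24 (none : GolayPt) ⊓ stabilizer ↥M24 (some 0 : GolayPt)) :=
    Cfsg.Agent.S0379.result none (some 0) hpq0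
  refine ⟨e.symm.isSimpleGroup, ?_⟩
  rw [← Nat.card_congr e.toEquiv]
  exact Cfsg.Agent.S0378.result none (some 0) hpq0

/-- transport of a family to general position -/
def Dl (Y : Set leechLattice) : Set leechLattice := (fun y => g0⁻¹ • y) '' Y

include g0v g0w g0x in
theorem Dl_inv {Y : Set leechLattice}
    (hinv : ∀ σ : ↥M24, σ.1 none = none → σ.1 (some 0) = some 0 → ∀ y ∈ Y, permHom σ • y ∈ Y)
    (t : ↥Co0) (tv : t • v = v) (tw : t • w = w) (tx : t • x = x) :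
    ∀ y ∈ Dl g0 Y, t • y ∈ Dl g0 Y := by
  rintro _ ⟨z, hz, rfl⟩
  obtain ⟨σ, hn, h0, hσ⟩ := conj_std v w x g0 g0v g0w g0x t tv tw tx
  refine ⟨permHom σ • z, hinv σ hn h0 z hz, ?_⟩
  show g0⁻¹ • (permHom σ • z) = t • (g0⁻¹ • z)
  rw [hσ, ← mul_smul, ← mul_smul]
  congr 1
  group

include g0v g0w g0x in
theorem Dl_trans {Y : Set leechLattice}
    (htr : ∀ y ∈ Y, ∀ y' ∈ Y, ∃ σ : ↥M24, σ.1 none = none ∧ σ.1 (some 0) = some 0 ∧
      permHom σ • y = y') :
    ∀ y ∈ Dl g0 Y, ∀ y' ∈ Dl g0 Y, ∃ t : ↥Co0, t • v = v ∧ t • w = w ∧ t • x = x ∧ t • y = y' := by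
  rintro _ ⟨z, hz, rfl⟩ _ ⟨z', hz', rfl⟩
  obtain ⟨σ, hn, h0, hσ⟩ := htr z hz z' hz'
  obtain ⟨e1, e2, e3⟩ := conj_fix v w x g0 g0v g0w g0x σ hn h0
  refine ⟨g0⁻¹ * permHom σ * g0, e1, e2, e3, ?_⟩
  show (g0⁻¹ * permHom σ * g0) • (g0⁻¹ • z) = g0⁻¹ • z'
  rw [mul_smul, mul_smul, smul_inv_smul, hσ]

theorem Dl_ncard (Y : Set leechLattice) : (Dl g0 Y).ncard = Y.ncard :=
  Set.ncard_image_of_injective _ (MulAction.injective g0⁻¹)

include g0v g0w in
theorem Dl_sub {Y : Set leechLattice} (hY : Y ⊆ Om xS wS) : Dl g0 Y ⊆ Om v w := by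
  rintro _ ⟨z, hz, rfl⟩
  have := smul_mem_Om g0⁻¹ (hY hz)
  rwa [← g0v, ← g0w, inv_smul_smul, inv_smul_smul] at this

include g0x in
theorem notMem_Dl {Y : Set leechLattice} (hY : mS ∉ Y) : x ∉ Dl g0 Y := by
  rintro ⟨z, hz, hzx⟩
  apply hY
  have : z = g0 • x := by
    have h : g0⁻¹ • z = x := hzx
    rw [← h, smul_inv_smul]
  rw [this, g0x] at hz
  exact hz

end point

end Cfsg.Agent.Lib.Helper3
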