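import Mathlib
import Cfsg.Agent.Lib.Helper3.Rank3Simple

/-!
Helper library (helper3): simplicity of a finite group from a rank 4 action of degree
`2025 = 1 + 330 + 462 + 1232` with simple point stabiliser (block trick, Sylow counting and
Burnside's transfer theorem).
-/

set_option autoImplicit false

namespace Cfsg.Agent.Lib.Helper3

open MulAction

section
variable {G Y : Type*} [Group G] [MulAction G Y]

/-- rank 4 dichotomy: the orbit of a normal subgroup is a point or everything -/
theorem rank4_orbit_normal (K : Subgroup G) [K.Normal] (x : Y) (Δ1 Δ2 Δ3 : Set Y)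
    (hX : orbit G x = insert x (Δ1 ∪ Δ2 ∪ Δ3)) (hx1 : x ∉ Δ1) (hx2 : x ∉ Δ2) (hx3 : x ∉ Δ3)
    (h12 : Disjoint Δ1 Δ2) (h13 : Disjoint Δ1 Δ3) (h23 : Disjoint Δ2 Δ3)
    (ha : Δ1.ncard = 330) (hb : Δ2.ncard = 462) (hc : Δ3.ncard = 1232)
    (t1 : ∀ y ∈ Δ1, ∀ y' ∈ Δ1, ∃ h : G, h • x = x ∧ h • y = y')
    (t2 : ∀ y ∈ Δ2, ∀ y' ∈ Δ2, ∃ h : G, h • x = x ∧ h • y = y')
    (t3 : ∀ y ∈ Δ3, ∀ y' ∈ Δ3, ∃ h : G, h • x = x ∧ h • y = y') :
    orbit K x = {x} ∨ orbit K x = orbit G x := by
  have f1 : Δ1.Finite := Set.finite_of_ncard_pos (by omega)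
  have f2 : Δ2.Finite := Set.finite_of_ncard_pos (by omega)
  have f3 : Δ3.Finite := Set.finite_of_ncard_pos (by omega)
  have hxB : x ∈ orbit K x := mem_orbit_self x
  have hBX : orbit K x ⊆ orbit G x := by
    rintro _ ⟨k, rfl⟩
    exact ⟨k.1, rfl⟩
  have hinv : ∀ h : G, h • x = x → ∀ y ∈ orbit K x, h • y ∈ orbit K x :=
    fun h hh y hy => smul_mem_orbit_of_normal K hh hy
  have hn : (orbit G x).ncard = 2025 := by
    rw [hX, Set.ncard_insert_of_notMem (by simp [hx1, hx2, hx3]) ((f1.union f2).union f3),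
      Set.ncard_union_eq (Set.disjoint_union_left.2 ⟨h13, h23⟩) (f1.union f2) f3,
      Set.ncard_union_eq h12 f1 f2, ha, hb, hc]
  have hdvd := ncard_orbit_normal_dvd K x
  rw [hn] at hdvd
  have hdec : orbit K x = insert x ((orbit K x ∩ Δ1) ∪ (orbit K x ∩ Δ2) ∪ (orbit K x ∩ Δ3)) := by
    ext y
    constructor
    · intro hy
      have := hBX hy
      rw [hX] at this
      rcases this with rfl | (h | h) | h
      · exact Or.inl rfl
      · exact Or.inr (Or.inl (Or.inl ⟨hy, h⟩))
      · exact Or.inr (Or.inl (Or.inr ⟨hy, h⟩))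
      · exact Or.inr (Or.inr ⟨hy, h⟩)
    · rintro (rfl | (h | h) | h)
      · exact hxB
      · exact h.1
      · exact h.1
      · exact h.1
  have hcard : (orbit K x).ncard = 1 + (orbit K x ∩ Δ1).ncard + (orbit K x ∩ Δ2).ncard +
      (orbit K x ∩ Δ3).ncard := by
    have g1 : (orbit K x ∩ Δ1).Finite := f1.subset Set.inter_subset_right
    have g2 : (orbit K x ∩ Δ2).Finite := f2.subset Set.inter_subset_right
    have g3 : (orbit K x ∩ Δ3).Finite := f3.subset Set.inter_subset_right
    have d12 : Disjoint (orbit K x ∩ Δ1) (orbit K x ∩ Δ2) :=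
      h12.mono Set.inter_subset_right Set.inter_subset_right
    have d13 : Disjoint (orbit K x ∩ Δ1) (orbit K x ∩ Δ3) :=
      h13.mono Set.inter_subset_right Set.inter_subset_right
    have d23 : Disjoint (orbit K x ∩ Δ2) (orbit K x ∩ Δ3) :=
      h23.mono Set.inter_subset_right Set.inter_subset_right
    have hxn : x ∉ (orbit K x ∩ Δ1) ∪ (orbit K x ∩ Δ2) ∪ (orbit K x ∩ Δ3) := by
      rintro ((h | h) | h)
      · exact hx1 h.2
      · exact hx2 h.2
      · exact hx3 h.2
    conv_lhs => rw [hdec]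
    rw [Set.ncard_insert_of_notMem hxn ((g1.union g2).union g3),
      Set.ncard_union_eq (Set.disjoint_union_left.2 ⟨d13, d23⟩) (g1.union g2) g3,
      Set.ncard_union_eq d12 g1 g2]
    ring
  have full : ∀ {D : Set Y}, D ⊆ orbit K x → (orbit K x ∩ D).ncard = D.ncard := by
    intro D h; rw [Set.inter_eq_right.2 h]
  have empt : ∀ {D : Set Y}, Disjoint D (orbit K x) → (orbit K x ∩ D).ncard = 0 := by
    intro D h
    rw [Set.disjoint_iff_inter_eq_empty, Set.inter_comm] at h
    rw [h, Set.ncard_empty]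
  rcases subset_or_disjoint_of_trans t1 hinv with e1 | e1 <;>
    rcases subset_or_disjoint_of_trans t2 hinv with e2 | e2 <;>
    rcases subset_or_disjoint_of_trans t3 hinv with e3 | e3
  · right
    apply Set.Subset.antisymm hBX
    rw [hX]
    rintro y (rfl | (h | h) | h)
    · exact hxB
    · exact e1 h
    · exact e2 h
    · exact e3 h
  · exfalso
    rw [hcard, full e1, full e2, empt e3, ha, hb] at hdvd
    revert hdvd; norm_num
  · exfalso
    rw [hcard, full e1, empt e2, full e3, ha, hc] at hdvd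
    revert hdvd; norm_num
  · exfalso
    rw [hcard, full e1, empt e2, empt e3, ha] at hdvd
    revert hdvd; norm_num
  · exfalso
    rw [hcard, empt e1, full e2, full e3, hb, hc] at hdvd
    revert hdvd; norm_num
  · exfalso
    rw [hcard, empt e1, full e2, empt e3, hb] at hdvd
    revert hdvd; norm_num
  · exfalso
    rw [hcard, empt e1, empt e2, full e3, hc] at hdvd
    revert hdvd; norm_num
  · left
    rw [hdec]
    have z1 : orbit K x ∩ Δ1 = ∅ := by
      rw [Set.inter_comm]; exact Set.disjoint_iff_inter_eq_empty.1 e1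
    have z2 : orbit K x ∩ Δ2 = ∅ := by
      rw [Set.inter_comm]; exact Set.disjoint_iff_inter_eq_empty.1 e2
    have z3 : orbit K x ∩ Δ3 = ∅ := by
      rw [Set.inter_comm]; exact Set.disjoint_iff_inter_eq_empty.1 e3
    rw [z1, z2, z3]
    simp

theorem factorization_2025_5 : (2025 : ℕ).factorization 5 = 2 := by
  have : (2025 : ℕ) = 5 ^ 2 * 81 := by norm_num
  rw [this, Nat.factorization_mul (by norm_num) (by norm_num),
    Nat.Prime.factorization_pow (by norm_num : Nat.Prime 5), Finsupp.add_apply,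
    Nat.factorization_eq_zero_of_not_dvd (by norm_num : ¬ 5 ∣ 81)]
  simp

theorem factorization_2025_3 : (2025 : ℕ).factorization 3 = 4 := by
  have : (2025 : ℕ) = 3 ^ 4 * 25 := by norm_num
  rw [this, Nat.factorization_mul (by norm_num) (by norm_num),
    Nat.Prime.factorization_pow (by norm_num : Nat.Prime 3), Finsupp.add_apply,
    Nat.factorization_eq_zero_of_not_dvd (by norm_num : ¬ 3 ∣ 25)]
  simp

/-- a group of order `2025` has a nontrivial proper characteristic subgroup, of order `25` or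
`81`; stated for a normal subgroup `K` of `G`: it contains a normal subgroup of `G` of order `25`
or `81` -/
theorem exists_normal_of_card_2025 [Finite G] (K : Subgroup G) [hK : K.Normal]
    (h : Nat.card K = 2025) :
    ∃ N : Subgroup G, N.Normal ∧ (Nat.card N = 25 ∨ Nat.card N = 81) := by
  have : Fact (Nat.Prime 5) := ⟨by norm_num⟩
  have : Fact (Nat.Prime 3) := ⟨by norm_num⟩
  obtain P : Sylow 5 K := default
  have hPc : Nat.card P = 25 := by
    rw [P.card_eq_multiplicity, h, factorization_2025_5]; norm_num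
  have hidx : (P : Subgroup K).index = 81 := by
    have := Subgroup.card_mul_index (P : Subgroup K)
    rw [hPc, h] at this
    omega
  have h1 := card_sylow_modEq_one 5 K
  have h2 := P.card_dvd_index
  rw [hidx] at h2
  have h3 : Nat.card (Sylow 5 K) = 1 ∨ Nat.card (Sylow 5 K) = 81 := by
    obtain ⟨k, hk, e⟩ := (Nat.dvd_prime_pow (by norm_num : Nat.Prime 3)).1
      (show Nat.card (Sylow 5 K) ∣ 3 ^ 4 by simpa using h2)
    unfold Nat.ModEq at h1
    rw [e] at h1 ⊢
    interval_cases k <;> simp_all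
  rcases h3 with h3 | h3
  · have : Subsingleton (Sylow 5 K) := (Nat.card_eq_one_iff_unique.1 h3).1
    have hchar : (P : Subgroup K).Characteristic := inferInstance
    have hPn : ((P : Subgroup K).map K.subtype).Normal := inferInstance
    refine ⟨_, hPn, Or.inl ?_⟩
    rw [Subgroup.card_map_of_injective K.subtype_injective]
    exact hPc
  · have hNi : (Subgroup.normalizer ((P : Subgroup K) : Set K)).index = 81 := by
      have := P.card_eq_index_normalizer
      rw [h3] at this
      exact this.symm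
    have hNc : Nat.card (Subgroup.normalizer ((P : Subgroup K) : Set K)) = 25 := by
      have := Subgroup.card_mul_index (Subgroup.normalizer ((P : Subgroup K) : Set K))
      rw [hNi, h] at this
      omega
    have hNP : (P : Subgroup K) = Subgroup.normalizer ((P : Subgroup K) : Set K) := by
      apply Subgroup.eq_of_le_of_card_ge Subgroup.le_normalizer
      rw [hNc, hPc]
    have hcomm : IsMulCommutative (P : Subgroup K) :=
      IsPGroup.isMulCommutative_of_card_eq_prime_sq (p := 5) (by rw [hPc]; norm_num)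
    have hP : Subgroup.normalizer ((P : Subgroup K) : Set K) ≤
        Subgroup.centralizer ((P : Subgroup K) : Set K) := by
      rw [← hNP]
      intro a ha b hb
      have := hcomm.is_comm.comm ⟨a, ha⟩ ⟨b, hb⟩
      have h' : a * b = b * a := congrArg Subtype.val this
      exact h'.symm
    have hcompl := MonoidHom.ker_transferSylow_isComplement' P hP
    have hQc : Nat.card (MonoidHom.transferSylow P hP).ker = 81 := by
      have := hcompl.card_mul_card
      rw [hPc, h] at this
      omega
    have hQn : (MonoidHom.transferSylow P hP).ker.Normal := inferInstance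
    let S3 : Sylow 3 K := Sylow.ofCard (MonoidHom.transferSylow P hP).ker
      (by rw [hQc, h, factorization_2025_3]; norm_num)
    have hS3n : (S3 : Subgroup K).Normal := hQn
    have hchar : (S3 : Subgroup K).Characteristic := Sylow.characteristic_of_normal S3 hS3n
    have hSn : ((S3 : Subgroup K).map K.subtype).Normal := inferInstance
    refine ⟨_, hSn, Or.inr ?_⟩
    rw [Subgroup.card_map_of_injective K.subtype_injective]
    exact hQc

/-- a group with a rank 4 action of degree `2025 = 1 + 330 + 462 + 1232` and simple point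
stabiliser is simple -/
theorem simple_of_rank4_2025 [Finite G] (x : Y) (Δ1 Δ2 Δ3 : Set Y)
    (hX : orbit G x = insert x (Δ1 ∪ Δ2 ∪ Δ3)) (hx1 : x ∉ Δ1) (hx2 : x ∉ Δ2) (hx3 : x ∉ Δ3)
    (h12 : Disjoint Δ1 Δ2) (h13 : Disjoint Δ1 Δ3) (h23 : Disjoint Δ2 Δ3)
    (ha : Δ1.ncard = 330) (hb : Δ2.ncard = 462) (hc : Δ3.ncard = 1232)
    (t1 : ∀ y ∈ Δ1, ∀ y' ∈ Δ1, ∃ h : G, h • x = x ∧ h • y = y')
    (t2 : ∀ y ∈ Δ2, ∀ y' ∈ Δ2, ∃ h : G, h • x = x ∧ h • y = y')
    (t3 : ∀ y ∈ Δ3, ∀ y' ∈ Δ3, ∃ h : G, h • x = x ∧ h • y = y')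
    (hH : IsSimpleGroup (stabilizer G x)) (hbig : 2025 < Nat.card G) : IsSimpleGroup G := by
  have f1 : Δ1.Finite := Set.finite_of_ncard_pos (by omega)
  have f2 : Δ2.Finite := Set.finite_of_ncard_pos (by omega)
  have f3 : Δ3.Finite := Set.finite_of_ncard_pos (by omega)
  have hn : (orbit G x).ncard = 2025 := by
    rw [hX, Set.ncard_insert_of_notMem (by simp [hx1, hx2, hx3]) ((f1.union f2).union f3),
      Set.ncard_union_eq (Set.disjoint_union_left.2 ⟨h13, h23⟩) (f1.union f2) f3,
      Set.ncard_union_eq h12 f1 f2, ha, hb, hc]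
  have hmove : ∃ h : G, h • x = x ∧ ∃ g : G, h • (g • x) ≠ g • x := by
    obtain ⟨y, hy, y', hy', hne⟩ := (Set.one_lt_ncard f1).1 (by omega)
    obtain ⟨h, hh, hhy⟩ := t1 y hy y' hy'
    have : y ∈ orbit G x := by rw [hX]; exact Set.mem_insert_of_mem _ (Or.inl (Or.inl hy))
    obtain ⟨g, rfl⟩ := this
    exact ⟨h, hh, g, by rw [hhy]; exact hne.symm⟩
  have tri : ∀ K : Subgroup G, K.Normal → K = ⊥ ∨ K = ⊤ ∨ Nat.card K = 2025 := by
    intro K hK
    have := normal_trichotomy K x hH hmove
      (rank4_orbit_normal K x Δ1 Δ2 Δ3 hX hx1 hx2 hx3 h12 h13 h23 ha hb hc t1 t2 t3)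
    rwa [hn] at this
  have : Nontrivial G := by
    have := hH.toNontrivial
    obtain ⟨s, t, hst⟩ := exists_pair_ne (stabilizer G x)
    exact ⟨⟨s.1, t.1, fun h => hst (Subtype.ext h)⟩⟩
  refine ⟨fun K hK => ?_⟩
  rcases tri K hK with h | h | h
  · exact Or.inl h
  · exact Or.inr h
  · exfalso
    obtain ⟨N, hN, hc⟩ := exists_normal_of_card_2025 K h
    rcases tri N hN with h' | h' | h'
    · rw [h', Subgroup.card_bot] at hc
      omega
    · rw [h', Subgroup.card_top] at hc
      omega
    · omega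

end

end Cfsg.Agent.Lib.Helper3
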