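import Mathlib
import Cfsg.Agent.Lib.Helper3.McLGroup

/-!
Helper library (helper3): the McLaughlin group on its `2025` points.
-/

set_option autoImplicit false

namespace Cfsg.Agent.Lib.Helper3

open Cfsg Cfsg.Agent.Lib.Helper21 MulAction
open scoped Pointwise

section
variable (v w : leechLattice) (hv : sqNorm v.1 = 32) (hw : sqNorm w.1 = 32)
  (hvw : dotInt v.1 w.1 = -8)

include hv hw hvw in
theorem Om_trans : ∀ x ∈ Om v w, ∀ x' ∈ Om v w,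
    ∃ g : ↥Co0, g • v = v ∧ g • w = w ∧ g • x = x' := by
  intro x hx x' hx'
  obtain ⟨g1, a1, a2, a3⟩ := to_std_mcl v w x hv hw hvw hx
  obtain ⟨g2, b1, b2, b3⟩ := to_std_mcl v w x' hv hw hvw hx'
  refine ⟨g2⁻¹ * g1, ?_, ?_, ?_⟩
  · rw [mul_smul, a1, inv_smul_eq_iff, b1]
  · rw [mul_smul, a2, inv_smul_eq_iff, b2]
  · rw [mul_smul, a3, inv_smul_eq_iff, b3]

include hv hw hvw in
theorem Om_orbit (x : leechLattice) (hx : x ∈ Om v w) :
    orbit ↥(stabilizer ↥Co0 v ⊓ stabilizer ↥Co0 w) x = Om v w := by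
  ext y
  constructor
  · rintro ⟨g, rfl⟩
    have gv : g.1 • v = v := mem_stabilizer_iff.1 g.2.1
    have gw : g.1 • w = w := mem_stabilizer_iff.1 g.2.2
    have := smul_mem_Om g.1 hx
    rwa [gv, gw] at this
  · intro hy
    obtain ⟨g, gv, gw, gx⟩ := Om_trans v w hv hw hvw x hx y hy
    exact ⟨⟨g, Subgroup.mem_inf.2 ⟨mem_stabilizer_iff.2 gv, mem_stabilizer_iff.2 gw⟩⟩, gx⟩

include hv hw hvw in
theorem Om_ncard : (Om v w).ncard = 2025 := by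
  have := finite_Co0'
  obtain ⟨x, hx⟩ := Om_nonempty v w hv hw hvw
  obtain ⟨g0, g0v, g0w, g0x⟩ := to_std_mcl v w x hv hw hvw hx
  have h1 := Subgroup.card_mul_index (stabilizer ↥(stabilizer ↥Co0 v ⊓ stabilizer ↥Co0 w) x)
  rw [index_stabilizer, (pointStab v w x g0 g0v g0w g0x).2, Om_orbit v w hv hw hvw x hx,
    card_G v w hv hw hvw] at h1
  omega

end

section
variable (v w x : leechLattice) (g0 : ↥Co0) (g0v : g0 • v = xS) (g0w : g0 • w = wS)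
  (g0x : g0 • x = mS)

include g0v g0w g0x in
theorem orbit_Dl {Y : Set leechLattice}
    (hinv : ∀ σ : ↥M24, σ.1 none = none → σ.1 (some 0) = some 0 → ∀ y ∈ Y, permHom σ • y ∈ Y)
    (htr : ∀ y ∈ Y, ∀ y' ∈ Y, ∃ σ : ↥M24, σ.1 none = none ∧ σ.1 (some 0) = some 0 ∧
      permHom σ • y = y') {y : leechLattice} (hy : y ∈ Dl g0 Y) :
    orbit ↥(stabilizer ↥Co0 v ⊓ stabilizer ↥Co0 w ⊓ stabilizer ↥Co0 x) y = Dl g0 Y := by
  ext y'
  constructor
  · rintro ⟨t, rfl⟩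
    exact Dl_inv v w x g0 g0v g0w g0x hinv t.1 (mem_stabilizer_iff.1 t.2.1.1)
      (mem_stabilizer_iff.1 t.2.1.2) (mem_stabilizer_iff.1 t.2.2) y hy
  · intro hy'
    obtain ⟨t, tv, tw, tx, e⟩ := Dl_trans v w x g0 g0v g0w g0x htr y hy y' hy'
    exact ⟨⟨t, Subgroup.mem_inf.2 ⟨Subgroup.mem_inf.2 ⟨mem_stabilizer_iff.2 tv,
      mem_stabilizer_iff.2 tw⟩, mem_stabilizer_iff.2 tx⟩⟩, e⟩

end

end Cfsg.Agent.Lib.Helper3
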