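import Mathlib
import Cfsg.Agent.Lib.Helper3.McLGroup
import Cfsg.Agent.Lib.Helper3.Rank4Simple
import Cfsg.Agent.S1578
import Cfsg.Agent.S1579
import Cfsg.Agent.S1580
import Cfsg.Agent.S0404
import Cfsg.Agent.S0401
import Cfsg.Agent.S0395

/-!
Helper library (helper3): the stabiliser of a vector of sum of squares `48` (third Conway group)
acting on the `552` minimal vectors `v` with `u - v` minimal.
-/

set_option autoImplicit false

namespace Cfsg.Agent.Lib.Helper3

open Cfsg Cfsg.Agent.Lib.Helper21 MulAction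

/-- the `552`-set -/
def Om3 (u : leechLattice) : Set leechLattice :=
  {v | sqNorm v.1 = 32 ∧ sqNorm (u.1 - v.1) = 32}

/-- values of the inner product of two minimal vectors -/
theorem dot_vals_min {v x : leechLattice} (hv : sqNorm v.1 = 32) (hx : sqNorm x.1 = 32) :
    dotInt v.1 x.1 ∈ ({-32, -16, -8, 0, 8, 16, 32} : Finset ℤ) ∧
      (dotInt v.1 x.1 = 32 → x = v) := by
  obtain ⟨g, hg⟩ := Cfsg.Agent.S0400.result v xS hv xS_norm
  have e : dotInt v.1 x.1 = dotInt (P44 none (some 0)) (g • x : leechLattice).1 := by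
    have h1 := co0_dot g.2 v x
    have h2 : g.1 v = xS := hg
    rw [h2] at h1
    exact h1.symm
  have hL : (g • x : leechLattice).1 ∈ Cfsg.Agent.S1573.L2 :=
    Cfsg.Agent.S1573.mem_L2.2 ⟨(g • x : leechLattice).2, by
      show sqNorm (g.1 x).1 = 32
      rw [g.2.2, hx]⟩
  rw [e]
  refine ⟨Cfsg.Agent.S1573.dot_vals hL, ?_⟩
  intro h
  have h3 := (Cfsg.Agent.S1573.dot_eq_32 hL).1 h
  have h4 : g • x = g • v := by
    rw [hg]; exact Subtype.ext h3
  exact MulAction.injective g h4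

section
variable (u : leechLattice) (hu : sqNorm u.1 = 48)

include hu in
theorem mem_Om3_iff (z : leechLattice) :
    z ∈ Om3 u ↔ sqNorm z.1 = 32 ∧ dotInt u.1 z.1 = 24 := by
  constructor
  · rintro ⟨h1, h2⟩
    refine ⟨h1, ?_⟩
    rw [sqNorm_sub, hu, h1] at h2; linarith
  · rintro ⟨h1, h2⟩
    refine ⟨h1, ?_⟩
    rw [sqNorm_sub, hu, h1, h2]; norm_num

include hu in
theorem card_Co3 : Nat.card ↥(stabilizer ↥Co0 u) = 495766656000 := by
  have horb : orbit ↥Co0 u = {y : leechLattice | sqNorm y.1 = 48} := by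
    ext y
    constructor
    · rintro ⟨g, rfl⟩
      show sqNorm (g.1 u).1 = 48
      rw [g.2.2, hu]
    · intro hy
      obtain ⟨g, hg⟩ := Cfsg.Agent.S0401.result u y hu hy
      exact ⟨g, hg⟩
  have h1 := Subgroup.card_mul_index (stabilizer ↥Co0 u)
  rw [index_stabilizer, horb, ncard_subtype (fun y => sqNorm y = 48), Cfsg.Agent.S0395.result,
    Cfsg.Agent.S0397.result] at h1
  omega

include hu in
theorem smul_mem_Om3 (g : ↥Co0) (gu : g • u = u) {z : leechLattice} (hz : z ∈ Om3 u) :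
    g • z ∈ Om3 u := by
  rw [mem_Om3_iff u hu] at hz ⊢
  refine ⟨by show sqNorm (g.1 z).1 = 32; rw [g.2.2, hz.1], ?_⟩
  have := co0_dot g.2 u z
  have gu' : g.1 u = u := gu
  rw [gu'] at this
  show dotInt u.1 (g.1 z).1 = 24
  rw [this, hz.2]

theorem sub_mem_Om3 {z : leechLattice} (hz : z ∈ Om3 u) : u - z ∈ Om3 u := by
  obtain ⟨h1, h2⟩ := hz
  refine ⟨h2, ?_⟩
  show sqNorm (u.1 - (u.1 - z.1)) = 32
  rw [sub_sub_cancel]; exact h1

include hu in
theorem Om3_orbit (v : leechLattice) (hv : v ∈ Om3 u) :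
    orbit ↥(stabilizer ↥Co0 u) v = Om3 u := by
  ext y
  constructor
  · rintro ⟨g, rfl⟩
    exact smul_mem_Om3 u hu g.1 (mem_stabilizer_iff.1 g.2) hv
  · intro hy
    obtain ⟨g, gu, gv⟩ := Cfsg.Agent.S1579.result u v y hu hv hy
    exact ⟨⟨g, mem_stabilizer_iff.2 gu⟩, gv⟩

include hu in
theorem Om3_ncard : (Om3 u).ncard = 552 := Cfsg.Agent.S1578.result u hu

include hu in
theorem dot_sub_self (v : leechLattice) (hv : v ∈ Om3 u) : dotInt v.1 (u - v).1 = -8 := by
  show dotInt v.1 (u.1 - v.1) = -8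
  rw [dotInt_sub_right, dotInt_self, hv.1, dotInt_comm, ((mem_Om3_iff u hu v).1 hv).2]; norm_num

include hu in
theorem pointStab3 (v : leechLattice) (hv : v ∈ Om3 u) :
    IsSimpleGroup ↥(stabilizer ↥(stabilizer ↥Co0 u) v) := by
  have hmcl := Cfsg.Agent.S0404.result v (u - v) hv.1 hv.2 (dot_sub_self u hu v hv)
  let e : ↥(stabilizer ↥(stabilizer ↥Co0 u) v) ≃* ↥(stabilizer ↥Co0 v ⊓ stabilizer ↥Co0 (u - v)) :=
    { toFun := fun k => ⟨k.1.1, Subgroup.mem_inf.2 ⟨k.2, by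
          have h1 : k.1.1 • u = u := mem_stabilizer_iff.1 k.1.2
          have h2 : k.1.1 • v = v := mem_stabilizer_iff.1 k.2
          rw [mem_stabilizer_iff, co0_sub, h1, h2]⟩⟩
      invFun := fun g => ⟨⟨g.1, by
          have h1 : g.1 • v = v := mem_stabilizer_iff.1 g.2.1
          have h2 : g.1 • (u - v) = u - v := mem_stabilizer_iff.1 g.2.2
          have h3 : g.1 • u = g.1 • ((u - v) + v) := by rw [sub_add_cancel]
          rw [mem_stabilizer_iff, h3, co0_add, h2, h1, sub_add_cancel]⟩,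
          mem_stabilizer_iff.1 g.2.1⟩
      left_inv := fun k => rfl
      right_inv := fun g => rfl
      map_mul' := fun a b => rfl }
  have := hmcl.1
  exact e.isSimpleGroup

/-- the two large suborbits relative to a base point -/
def X3 (p : leechLattice) : Set leechLattice := {x | x ∈ Om3 u ∧ dotInt p.1 x.1 = 16}
def X3' (p : leechLattice) : Set leechLattice := {x | x ∈ Om3 u ∧ dotInt p.1 x.1 = 8}

include hu in
theorem Om3_cases {p x : leechLattice} (hp : p ∈ Om3 u) (hx : x ∈ Om3 u) :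
    x = p ∨ x = u - p ∨ x ∈ X3 u p ∨ x ∈ X3' u p := by
  obtain ⟨ha, ha32⟩ := dot_vals_min hp.1 hx.1
  obtain ⟨hb, hb32⟩ := dot_vals_min (v := u - p) (x := x) hp.2 hx.1
  have hab : dotInt (u - p).1 x.1 = 24 - dotInt p.1 x.1 := by
    show dotInt (u.1 - p.1) x.1 = _
    rw [dotInt_sub_left, ((mem_Om3_iff u hu x).1 hx).2]
  simp only [Finset.mem_insert, Finset.mem_singleton] at ha hb
  rcases ha with h | h | h | h | h | h | h
  · exfalso; omega
  · exfalso; omega
  · right; left; exact hb32 (by omega)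
  · exfalso; omega
  · right; right; right; exact ⟨hx, h⟩
  · right; right; left; exact ⟨hx, h⟩
  · left; exact ha32 h

include hu in
theorem X3_trans {p : leechLattice} (hp : p ∈ Om3 u) : ∀ x ∈ X3 u p, ∀ y ∈ X3 u p,
    ∃ g : ↥(stabilizer ↥Co0 u), g • p = p ∧ g • x = y := by
  intro x hx y hy
  obtain ⟨g, gu, gp, gx⟩ := (Cfsg.Agent.S1580.result u p hu hp).2 x ⟨hx.1.1, hx.1.2, hx.2⟩ y
    ⟨hy.1.1, hy.1.2, hy.2⟩
  exact ⟨⟨g, mem_stabilizer_iff.2 gu⟩, gp, gx⟩

include hu in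
theorem sub_mem_X3 {p x : leechLattice} (hx : x ∈ X3' u p) (hp : p ∈ Om3 u) : u - x ∈ X3 u p := by
  refine ⟨sub_mem_Om3 u hx.1, ?_⟩
  show dotInt p.1 (u.1 - x.1) = 16
  rw [dotInt_sub_right, dotInt_comm p.1 u.1, ((mem_Om3_iff u hu p).1 hp).2, hx.2]; norm_num

include hu in
theorem X3'_trans {p : leechLattice} (hp : p ∈ Om3 u) : ∀ x ∈ X3' u p, ∀ y ∈ X3' u p,
    ∃ g : ↥(stabilizer ↥Co0 u), g • p = p ∧ g • x = y := by
  intro x hx y hy
  obtain ⟨g, gp, gx⟩ := X3_trans u hu hp (u - x) (sub_mem_X3 u hu hx hp) (u - y)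
    (sub_mem_X3 u hu hy hp)
  refine ⟨g, gp, ?_⟩
  have gu : g.1 • u = u := mem_stabilizer_iff.1 g.2
  have h1 : g.1 • (u - x) = u - y := gx
  rw [co0_sub, gu] at h1
  have h2 : g.1 • x = y := by
    have := congrArg (fun t => u - t) h1
    simpa using this
  exact h2

end

end Cfsg.Agent.Lib.Helper3
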