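import Mathlib
import Cfsg.Agent.Lib.Helper3.Co3A
import Cfsg.Agent.Lib.Helper3.McLOrbit

/-!
Helper library (helper3): the stabiliser of `xS = (4,4,0^22)` (second Conway group) acting on the
`47104` minimal vectors `w` with `xS · w = -8`; the point stabiliser is the McLaughlin group.
Transitivity of the point stabiliser on the vectors with `wS · w = 16` and `wS · w = -16`.
-/

set_option autoImplicit false

namespace Cfsg.Agent.Lib.Helper3

open Cfsg Cfsg.Agent.Lib.Helper21 MulAction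

/-- the `47104`-set -/
def Om2 : Set leechLattice := {w | sqNorm w.1 = 32 ∧ dotInt xS.1 w.1 = -8}

theorem wS_mem_Om2 : wS ∈ Om2 := ⟨wS_norm, xS_wS⟩

theorem smul_mem_Om2 (g : ↥Co0) (gx : g • xS = xS) {w : leechLattice} (hw : w ∈ Om2) :
    g • w ∈ Om2 := by
  refine ⟨by show sqNorm (g.1 w).1 = 32; rw [g.2.2, hw.1], ?_⟩
  have := co0_dot g.2 xS w
  have gx' : g.1 xS = xS := gx
  rw [gx'] at this
  show dotInt xS.1 (g.1 w).1 = -8
  rw [this, hw.2]

theorem Om2_to_std {w : leechLattice} (hw : w ∈ Om2) : ∃ g : ↥Co0, g • xS = xS ∧ g • w = wS :=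
  to_std_pair xS w xS_norm hw.1 hw.2

theorem Om2_orbit : orbit ↥(stabilizer ↥Co0 xS) wS = Om2 := by
  ext y
  constructor
  · rintro ⟨g, rfl⟩
    exact smul_mem_Om2 g.1 (mem_stabilizer_iff.1 g.2) wS_mem_Om2
  · intro hy
    obtain ⟨g, g1, g2⟩ := Om2_to_std hy
    refine ⟨⟨g⁻¹, mem_stabilizer_iff.2 (by rw [inv_smul_eq_iff, g1])⟩, ?_⟩
    show g⁻¹ • wS = y
    rw [inv_smul_eq_iff, g2]

theorem card_Co2 : Nat.card ↥(stabilizer ↥Co0 xS) = 42305421312000 := by
  have h := card_stab_min xS xS_norm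
  have e : (42305421312000 : ℕ) * 196560 = 8315553613086720000 := by norm_num
  rw [← e] at h
  exact Nat.eq_of_mul_eq_mul_right (by norm_num) h

/-- the point stabiliser as an intersection of two stabilisers -/
def stabEquiv2 (w : leechLattice) :
    ↥(stabilizer ↥(stabilizer ↥Co0 xS) w) ≃* ↥(stabilizer ↥Co0 xS ⊓ stabilizer ↥Co0 w) where
  toFun k := ⟨k.1.1, Subgroup.mem_inf.2 ⟨k.1.2, k.2⟩⟩
  invFun g := ⟨⟨g.1, g.2.1⟩, g.2.2⟩
  left_inv _ := rfl
  right_inv _ := rfl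
  map_mul' _ _ := rfl

theorem pointStab2 {w : leechLattice} (hw : w ∈ Om2) :
    IsSimpleGroup ↥(stabilizer ↥(stabilizer ↥Co0 xS) w) ∧
      Nat.card ↥(stabilizer ↥(stabilizer ↥Co0 xS) w) = 898128000 := by
  have hmcl := Cfsg.Agent.S0404.result xS w xS_norm hw.1 hw.2
  have := hmcl.1
  refine ⟨(stabEquiv2 w).isSimpleGroup, ?_⟩
  rw [Nat.card_congr (stabEquiv2 w).toEquiv]
  exact hmcl.2

theorem Om2_ncard : Om2.ncard = 47104 := by
  have := finite_Co0'
  have h1 := Subgroup.card_mul_index (stabilizer ↥(stabilizer ↥Co0 xS) wS)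
  rw [index_stabilizer, (pointStab2 wS_mem_Om2).2, Om2_orbit, card_Co2] at h1
  omega

/-- values of the inner product on the `47104`-set -/
theorem dot_vals_Om2 {p w : leechLattice} (hp : p ∈ Om2) (hw : w ∈ Om2) :
    dotInt p.1 w.1 ∈ ({-16, -8, 0, 8, 16, 32} : Finset ℤ) ∧ (dotInt p.1 w.1 = 32 → w = p) := by
  obtain ⟨h1, h2⟩ := dot_vals_min hp.1 hw.1
  refine ⟨?_, h2⟩
  simp only [Finset.mem_insert, Finset.mem_singleton] at h1 ⊢
  rcases h1 with h | h | h | h | h | h | h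
  · exfalso
    have hn : sqNorm (-w).1 = 32 := by
      show sqNorm (-w.1) = 32
      rw [sqNorm_neg]; exact hw.1
    have h3 := (dot_vals_min hp.1 hn).2 (by
      show dotInt p.1 (-w.1) = 32
      rw [dotInt_neg_right, h]; norm_num)
    have h4 : dotInt xS.1 (-w).1 = -8 := by rw [h3]; exact hp.2
    have h5 : dotInt xS.1 (-w).1 = 8 := by
      show dotInt xS.1 (-w.1) = 8
      rw [dotInt_neg_right, hw.2]; norm_num
    omega
  all_goals simp [h]

/-- the classes of the point stabiliser -/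
def cl2 (p : leechLattice) (c : ℤ) : Set leechLattice := {w | w ∈ Om2 ∧ dotInt p.1 w.1 = c}

theorem xS_vS : dotInt xS.1 vS.1 = 24 := by
  rw [dot_xS]
  show 4 * (p5 none none + p5 none (some 0)) = 24
  unfold p5; simp

theorem vS_eq : vS = wS + xS := by unfold wS; abel

/-- transitivity on the class `16` -/
theorem cl2_trans_16 : ∀ w ∈ cl2 wS 16, ∀ w' ∈ cl2 wS 16,
    ∃ g : ↥Co0, g • xS = xS ∧ g • wS = wS ∧ g • w = w' := by
  intro w hw w' hw'
  have key : ∀ z ∈ cl2 wS 16, wS - z ∈ Om xS wS := by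
    intro z hz
    obtain ⟨⟨z1, z2⟩, z3⟩ := hz
    refine ⟨?_, ?_, ?_⟩
    · show sqNorm (wS.1 - z.1) = 32
      rw [sqNorm_sub, wS_norm, z1, z3]; norm_num
    · show dotInt xS.1 (wS.1 - z.1) = 0
      rw [dotInt_sub_right, xS_wS, z2]; norm_num
    · show dotInt wS.1 (wS.1 - z.1) = 16
      rw [dotInt_sub_right, dotInt_self, wS_norm, z3]; norm_num
  obtain ⟨g, g1, g2, g3⟩ := Om_trans xS wS xS_norm wS_norm xS_wS _ (key w hw) _ (key w' hw')
  refine ⟨g, g1, g2, ?_⟩
  rw [co0_sub, g2] at g3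
  exact sub_right_injective g3

/-- transitivity on the class `-16` -/
theorem cl2_trans_m16 : ∀ w ∈ cl2 wS (-16), ∀ w' ∈ cl2 wS (-16),
    ∃ g : ↥Co0, g • xS = xS ∧ g • wS = wS ∧ g • w = w' := by
  intro w hw w' hw'
  have hvn : sqNorm vS.1 = 48 := sqNorm_p5 none
  have key : ∀ z ∈ cl2 wS (-16), ConnT xS.1 (vS + z).1 vS.1 (P44 none (some 0))
      (P44 none (some 1)) (oddv O1 (p5 none)) := by
    intro z hz
    obtain ⟨⟨z1, z2⟩, z3⟩ := hz
    have hvz : dotInt vS.1 z.1 = -24 := by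
      rw [vS_eq]
      show dotInt (wS.1 + xS.1) z.1 = -24
      rw [dotInt_add_left, z3, z2]; norm_num
    apply connT_mcl xS.2 xS_norm (vS + z).2 _ vS.2 hvn
    · show dotInt xS.1 (vS.1 + z.1) = 16
      rw [dotInt_add_right, xS_vS, z2]; norm_num
    · exact xS_vS
    · show dotInt (vS.1 + z.1) vS.1 = 24
      rw [dotInt_add_left, dotInt_self, hvn, dotInt_comm, hvz]; norm_num
    · show sqNorm (vS.1 + z.1) = 32
      rw [sqNorm_add, hvn, z1, hvz]; norm_num
  obtain ⟨g, g1, g2, g3⟩ := ((key w hw).trans (key w' hw').symm).exists_co0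
    (v := xS) (w := vS + w) (u := vS) (v' := xS) (w' := vS + w') (u' := vS)
  refine ⟨g, g1, ?_, ?_⟩
  · have : wS = vS - xS := rfl
    rw [this, co0_sub, g3, g1]
  · rw [co0_add, g3] at g2
    exact add_right_injective _ g2

end Cfsg.Agent.Lib.Helper3
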