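import Mathlib
import Cfsg.Agent.Lib.Helper3.Co2A
import Cfsg.Agent.Lib.Helper3.XiBraid

/-!
Helper library (helper3): transitivity of the McLaughlin point stabiliser on the vectors of the
`47104`-set orthogonal to the base point (the class `0`).  After moving the orthogonal pair to
`(4,4,0..), (4,-4,0..)` everything is monomial.
-/

set_option autoImplicit false

namespace Cfsg.Agent.Lib.Helper3

open Cfsg Cfsg.Agent.Lib.Helper21 MulAction
open scoped Pointwise

theorem octad_eq_of_inter_card {O O' : Finset GolayPt} (hO : O ∈ octads) (hO' : O' ∈ octads)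
    (h : 4 < (O ∩ O').card) : O = O' := by
  have h8 : (O ∩ O').card = 8 := by
    rcases octad_inter_card hO hO' with h' | h' | h' | h' <;> omega
  have h1 : O ∩ O' = O :=
    Finset.eq_of_subset_of_card_le Finset.inter_subset_left (by rw [h8, hO.2])
  have h2 : O ⊆ O' := by
    intro i hi
    rw [← h1] at hi
    exact (Finset.mem_inter.1 hi).2
  exact Finset.eq_of_subset_of_card_le h2 (by rw [hO.2, hO'.2])

/-- an octad meeting `O` exactly in a given tetrad and avoiding a given outside point -/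
theorem exists_octad_inter {O S : Finset GolayPt} (hO : O ∈ octads) (hS : S ⊆ O)
    (hS4 : S.card = 4) {b : GolayPt} (hb : b ∉ O) :
    ∃ O' ∈ octads, O' ∩ O = S ∧ b ∉ O' := by
  classical
  have hc : (O ∪ tet S hS4 b).card < 24 := by
    have := Finset.card_union_le O (tet S hS4 b)
    rw [hO.2, tet_card] at this
    omega
  obtain ⟨z, hz⟩ := exists_notMem_of_card_lt hc
  rw [Finset.mem_union, not_or] at hz
  obtain ⟨hzO, hzb⟩ := hz
  obtain ⟨k, hk⟩ : S.Nonempty := by
    rw [← Finset.card_pos]; omega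
  have hzS : z ∉ S := fun h => hzO (hS h)
  have h1 : tet S hS4 k ≠ tet S hS4 z := by
    rw [tet_eq_T S hS4 hk]
    intro h
    exact hzS (h ▸ mem_tet S hS4 z)
  have h2 := tet_union_octad S hS4 h1
  rw [tet_eq_T S hS4 hk] at h2
  refine ⟨S ∪ tet S hS4 z, h2, ?_, ?_⟩
  · have hsub : S ⊆ (S ∪ tet S hS4 z) ∩ O := by
      intro i hi
      exact Finset.mem_inter.2 ⟨Finset.mem_union_left _ hi, hS hi⟩
    have hne : S ∪ tet S hS4 z ≠ O := by
      intro h
      apply hzO
      rw [← h]
      exact Finset.mem_union_right _ (mem_tet S hS4 z)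
    have hle := Finset.card_le_card hsub
    have hcard : ((S ∪ tet S hS4 z) ∩ O).card = 4 := by
      rcases octad_inter_card h2 hO with h | h | h | h
      · omega
      · omega
      · exact h
      · exfalso
        exact hne (octad_eq_of_inter_card h2 hO (by omega))
    exact (Finset.eq_of_subset_of_card_le hsub (by rw [hcard, hS4])).symm
  · rw [Finset.mem_union, not_or]
    refine ⟨fun h => hb (hS h), ?_⟩
    intro h
    exact hzb ((mem_tet_comm S hS4 z b).1 h)

theorem P44_zero_of {a b i : GolayPt} (h1 : i ≠ a) (h2 : i ≠ b) : P44 a b i = 0 := by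
  unfold P44; simp [h1, h2]

theorem D44_zero_of {a b i : GolayPt} (h1 : i ≠ a) (h2 : i ≠ b) : D44 a b i = 0 := by
  unfold D44; simp [h1, h2]

theorem P44_perm {σ : Equiv.Perm GolayPt} (hn : σ none = none) (h0 : σ (some 0) = some 0) :
    (fun i => P44 none (some 0) (σ⁻¹ i)) = P44 none (some 0) := by
  funext i
  unfold P44
  have e1 : σ⁻¹ i = none ↔ i = none := by rw [Equiv.Perm.inv_eq_iff_eq, hn]
  have e2 : σ⁻¹ i = some 0 ↔ i = some 0 := by rw [Equiv.Perm.inv_eq_iff_eq, h0]
  simp only [e1, e2]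

theorem D44_perm {σ : Equiv.Perm GolayPt} (hn : σ none = none) (h0 : σ (some 0) = some 0) :
    (fun i => D44 none (some 0) (σ⁻¹ i)) = D44 none (some 0) := by
  funext i
  unfold D44
  have e1 : σ⁻¹ i = none ↔ i = none := by rw [Equiv.Perm.inv_eq_iff_eq, hn]
  have e2 : σ⁻¹ i = some 0 ↔ i = some 0 := by rw [Equiv.Perm.inv_eq_iff_eq, h0]
  simp only [e1, e2]

theorem D44_mem' : D44 none (some 0) ∈ leechLattice := mS.2

/-- sign change on an octad meeting `O` in the tetrad `S` -/
theorem connT_flip {O T S : Finset GolayPt} (hO : O ∈ octads) (hT : T ⊆ O) (hev : Even T.card)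
    (hn : (none : GolayPt) ∈ T) (h0 : (some 0 : GolayPt) ∉ O) (hS : S ⊆ O) (hS4 : S.card = 4)
    (hnS : (none : GolayPt) ∉ S) :
    ConnT (P44 none (some 0)) (D44 none (some 0)) (sv 2 O T)
      (P44 none (some 0)) (D44 none (some 0)) (sv 2 O ((T \ S) ∪ (S \ T))) := by
  classical
  obtain ⟨O', hO', hint, h0'⟩ := exists_octad_inter hO hS hS4 h0
  have hnO' : (none : GolayPt) ∉ O' := by
    intro h
    apply hnS
    rw [← hint]
    exact Finset.mem_inter.2 ⟨h, hT hn⟩
  have h := connT_sgn (P44_mem hpq0) D44_mem' (sv2_mem hO hT hev) hO'.1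
  have e1 : sgnVec O' (P44 none (some 0)) = P44 none (some 0) := by
    apply sgnVec_eq_self
    intro i hi
    exact P44_zero_of (fun h => hnO' (h ▸ hi)) (fun h => h0' (h ▸ hi))
  have e2 : sgnVec O' (D44 none (some 0)) = D44 none (some 0) := by
    apply sgnVec_eq_self
    intro i hi
    exact D44_zero_of (fun h => hnO' (h ▸ hi)) (fun h => h0' (h ▸ hi))
  have e3 : sgnVec O' (sv 2 O T) = sv 2 O ((T \ S) ∪ (S \ T)) := by
    funext i
    have hiS : i ∈ S ↔ i ∈ O' ∧ i ∈ O := by rw [← hint, Finset.mem_inter]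
    unfold sgnVec sv
    by_cases h1 : i ∈ O' <;> by_cases h2 : i ∈ T <;> by_cases h3 : i ∈ O
    · have : i ∈ S := hiS.2 ⟨h1, h3⟩
      simp [h1, h2, h3, this]
    · exact absurd (hT h2) h3
    · have : i ∈ S := hiS.2 ⟨h1, h3⟩
      simp [h1, h2, h3, this]
    · have : i ∉ S := fun h => h3 (hiS.1 h).2
      simp [h1, h2, h3, this]
    · have : i ∉ S := fun h => h1 (hiS.1 h).1
      simp [h1, h2, h3, this]
    · exact absurd (hT h2) h3
    · have : i ∉ S := fun h => h1 (hiS.1 h).1
      simp [h1, h2, h3, this]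
    · have : i ∉ S := fun h => h1 (hiS.1 h).1
      simp [h1, h2, h3, this]
  rw [e1, e2, e3] at h
  exact h

theorem card_flip (T S : Finset GolayPt) :
    ((T \ S) ∪ (S \ T)).card + 2 * (T ∩ S).card = T.card + S.card := by
  classical
  have d : Disjoint (T \ S) (S \ T) := by
    rw [Finset.disjoint_left]
    intro i h1 h2
    exact (Finset.mem_sdiff.1 h1).2 (Finset.mem_sdiff.1 h2).1
  have h1 := Finset.card_union_of_disjoint d
  have h2 := Finset.card_sdiff_add_card_inter T S
  have h3 := Finset.card_sdiff_add_card_inter S T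
  rw [Finset.inter_comm S T] at h3
  omega

theorem exists_t0 : ∃ t ∈ O0, t ≠ (none : GolayPt) := by
  have h : 1 < O0.card := by rw [O0_spec.1.2]; norm_num
  obtain ⟨a, ha, b, hb, hab⟩ := Finset.one_lt_card.1 h
  by_cases h1 : a = none
  · exact ⟨b, hb, fun h2 => hab (h1.trans h2.symm)⟩
  · exact ⟨a, ha, h1⟩

/-- a fixed point of `O0` other than `none` -/
noncomputable def t0 : GolayPt := Classical.choose exists_t0

theorem t0_spec : t0 ∈ O0 ∧ t0 ≠ (none : GolayPt) := by
  obtain ⟨h1, h2⟩ := Classical.choose_spec exists_t0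
  exact ⟨h1, h2⟩

/-- the standard third vector for the class `0` -/
noncomputable def X0 : GolayPt → ℤ := sv 2 O0 {none, t0}

/-- the vectors `(-2 at none, 0 at some 0, ±2^7)` are connected by elements fixing the standard
orthogonal pair -/
theorem connT_cl0_sv {O T : Finset GolayPt} (hO : O ∈ octads) (hT : T ⊆ O) (hev : Even T.card)
    (hn : (none : GolayPt) ∈ T) (h0 : (some 0 : GolayPt) ∉ O) :
    ConnT (P44 none (some 0)) (D44 none (some 0)) (sv 2 O T)
      (P44 none (some 0)) (D44 none (some 0)) X0 := by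
  classical
  -- reductions of the size of `T`
  have r4 : ∀ T : Finset GolayPt, T ⊆ O → (none : GolayPt) ∈ T → T.card = 4 →
      ∃ T' : Finset GolayPt, T' ⊆ O ∧ (none : GolayPt) ∈ T' ∧ T'.card = 2 ∧
        ConnT (P44 none (some 0)) (D44 none (some 0)) (sv 2 O T)
          (P44 none (some 0)) (D44 none (some 0)) (sv 2 O T') := by
    intro T hT hn hc
    have hOT : 0 < (O \ T).card := by
      have := Finset.card_sdiff_add_card_inter O T
      have h2 : O ∩ T = T := Finset.inter_eq_right.2 hT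
      rw [h2, hO.2, hc] at this
      omega
    obtain ⟨p, hp⟩ := Finset.card_pos.1 hOT
    obtain ⟨hpO, hpT⟩ := Finset.mem_sdiff.1 hp
    set A := T.erase none with hA
    have hAc : A.card = 3 := by rw [hA, Finset.card_erase_of_mem hn, hc]
    have hpA : p ∉ A := fun h => hpT (Finset.mem_of_mem_erase h)
    set S := insert p A with hS
    have hSc : S.card = 4 := by rw [hS, Finset.card_insert_of_notMem hpA, hAc]
    have hSO : S ⊆ O := by
      intro i hi
      rw [hS, Finset.mem_insert] at hi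
      rcases hi with rfl | hi
      · exact hpO
      · exact hT (Finset.mem_of_mem_erase hi)
    have hnS : (none : GolayPt) ∉ S := by
      rw [hS, Finset.mem_insert, not_or]
      refine ⟨fun h => hpT (h ▸ hn), ?_⟩
      rw [hA]; exact Finset.notMem_erase _ _
    have hint : T ∩ S = A := by
      ext i
      rw [Finset.mem_inter, hS, Finset.mem_insert]
      constructor
      · rintro ⟨h1, rfl | h2⟩
        · exact absurd h1 hpT
        · exact h2
      · intro h
        exact ⟨Finset.mem_of_mem_erase h, Or.inr h⟩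
    refine ⟨(T \ S) ∪ (S \ T), ?_, ?_, ?_, connT_flip hO hT (by rw [hc]; decide) hn h0 hSO hSc hnS⟩
    · intro i hi
      rcases Finset.mem_union.1 hi with h | h
      · exact hT (Finset.mem_sdiff.1 h).1
      · exact hSO (Finset.mem_sdiff.1 h).1
    · exact Finset.mem_union_left _ (Finset.mem_sdiff.2 ⟨hn, hnS⟩)
    · have := card_flip T S
      rw [hint, hAc, hc, hSc] at this
      omega
  have r6 : ∀ T : Finset GolayPt, T ⊆ O → (none : GolayPt) ∈ T → T.card = 6 →
      ∃ T' : Finset GolayPt, T' ⊆ O ∧ (none : GolayPt) ∈ T' ∧ T'.card = 2 ∧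
        ConnT (P44 none (some 0)) (D44 none (some 0)) (sv 2 O T)
          (P44 none (some 0)) (D44 none (some 0)) (sv 2 O T') := by
    intro T hT hn hc
    have hAc : (T.erase none).card = 5 := by rw [Finset.card_erase_of_mem hn, hc]
    obtain ⟨S, hSA, hSc⟩ := Finset.exists_subset_card_eq (s := T.erase none) (n := 4) (by omega)
    have hST : S ⊆ T := fun i hi => Finset.mem_of_mem_erase (hSA hi)
    have hnS : (none : GolayPt) ∉ S := fun h => Finset.notMem_erase _ _ (hSA h)
    have hint : T ∩ S = S := Finset.inter_eq_right.2 hST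
    refine ⟨(T \ S) ∪ (S \ T), ?_, ?_, ?_,
      connT_flip hO hT (by rw [hc]; decide) hn h0 (hST.trans hT) hSc hnS⟩
    · intro i hi
      rcases Finset.mem_union.1 hi with h | h
      · exact hT (Finset.mem_sdiff.1 h).1
      · exact hT (hST (Finset.mem_sdiff.1 h).1)
    · exact Finset.mem_union_left _ (Finset.mem_sdiff.2 ⟨hn, hnS⟩)
    · have := card_flip T S
      rw [hint, hc, hSc] at this
      omega
  have r8 : ∀ T : Finset GolayPt, T ⊆ O → (none : GolayPt) ∈ T → T.card = 8 →
      ∃ T' : Finset GolayPt, T' ⊆ O ∧ (none : GolayPt) ∈ T' ∧ T'.card = 4 ∧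
        ConnT (P44 none (some 0)) (D44 none (some 0)) (sv 2 O T)
          (P44 none (some 0)) (D44 none (some 0)) (sv 2 O T') := by
    intro T hT hn hc
    have hAc : (T.erase none).card = 7 := by rw [Finset.card_erase_of_mem hn, hc]
    obtain ⟨S, hSA, hSc⟩ := Finset.exists_subset_card_eq (s := T.erase none) (n := 4) (by omega)
    have hST : S ⊆ T := fun i hi => Finset.mem_of_mem_erase (hSA hi)
    have hnS : (none : GolayPt) ∉ S := fun h => Finset.notMem_erase _ _ (hSA h)
    have hint : T ∩ S = S := Finset.inter_eq_right.2 hST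
    refine ⟨(T \ S) ∪ (S \ T), ?_, ?_, ?_,
      connT_flip hO hT (by rw [hc]; decide) hn h0 (hST.trans hT) hSc hnS⟩
    · intro i hi
      rcases Finset.mem_union.1 hi with h | h
      · exact hT (Finset.mem_sdiff.1 h).1
      · exact hT (hST (Finset.mem_sdiff.1 h).1)
    · exact Finset.mem_union_left _ (Finset.mem_sdiff.2 ⟨hn, hnS⟩)
    · have := card_flip T S
      rw [hint, hc, hSc] at this
      omega
  -- reach a pair
  have hle : T.card ≤ 8 := by rw [← hO.2]; exact Finset.card_le_card hT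
  have hpos : 0 < T.card := Finset.card_pos.2 ⟨none, hn⟩
  have step : ∃ T' : Finset GolayPt, T' ⊆ O ∧ (none : GolayPt) ∈ T' ∧ T'.card = 2 ∧
      ConnT (P44 none (some 0)) (D44 none (some 0)) (sv 2 O T)
        (P44 none (some 0)) (D44 none (some 0)) (sv 2 O T') := by
    obtain ⟨m, hm⟩ := hev
    have hcases : T.card = 2 ∨ T.card = 4 ∨ T.card = 6 ∨ T.card = 8 := by omega
    rcases hcases with h | h | h | h
    · exact ⟨T, hT, hn, h, connT_refl (P44_mem hpq0) D44_mem' (sv2_mem hO hT ⟨m, hm⟩)⟩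
    · exact r4 T hT hn h
    · exact r6 T hT hn h
    · obtain ⟨T1, a1, a2, a3, a4⟩ := r8 T hT hn h
      obtain ⟨T2, b1, b2, b3, b4⟩ := r4 T1 a1 a2 a3
      exact ⟨T2, b1, b2, b3, a4.trans b4⟩
  obtain ⟨T', hT', hn', hc', hconn⟩ := step
  obtain ⟨x, y, hxy, rfl⟩ := Finset.card_eq_two.1 hc'
  -- name the second point
  have hpair : ∃ t ∈ O, t ≠ (none : GolayPt) ∧ ({x, y} : Finset GolayPt) = {none, t} := by
    rw [Finset.mem_insert, Finset.mem_singleton] at hn'
    rcases hn' with h | h
    · refine ⟨y, hT' (by simp), fun h2 => hxy (h.symm.trans h2.symm ▸ rfl), by rw [← h]⟩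
    · refine ⟨x, hT' (by simp), fun h2 => hxy (h2.trans h), ?_⟩
      rw [← h, Finset.pair_comm]
  obtain ⟨t, htO, htn, hpe⟩ := hpair
  rw [hpe] at hconn
  obtain ⟨σ, hσ, e0, e1, e2, e3⟩ := flag_in_two_out hO O0_spec.1 (hT hn) htO (Ne.symm htn) h0
    O0_spec.2.1 t0_spec.1 (Ne.symm t0_spec.2) O0_spec.2.2
  have hp := connT_perm (P44_mem hpq0) D44_mem' hconn.mem_right3 (inv_mem hσ)
  rw [P44_perm e1 e3, D44_perm e1 e3, sv_perm, smul_pair, e0, e1, e2] at hp
  exact hconn.trans hp

/-- the class `0` triples are all connected to a standard one -/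
theorem connT_cl0 {w : leechLattice} (hw : w ∈ cl2 wS 0) :
    ConnT wS.1 w.1 xS.1 (P44 none (some 0)) (D44 none (some 0)) X0 := by
  classical
  obtain ⟨⟨hwn, hxw⟩, hd⟩ := hw
  obtain ⟨x1, hT⟩ := (connP_orth wS.2 wS_norm w.2 hwn hd).toT xS.2
  have hx1 := hT.mem_right3
  have hn1 : sqNorm x1 = 32 := by rw [hT.sqNorm_eq3]; exact xS_norm
  have hd1 := hT.dot_eq13
  have hd2 := hT.dot_eq23
  rw [dot_P44 hpq0, dotInt_comm, xS_wS] at hd1
  rw [dot_D44 hpq0, dotInt_comm, hxw] at hd2
  have ha : x1 none = -2 := by omega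
  have hb : x1 (some 0) = 0 := by omega
  rcases (leech_minimal_iff x1).1 ⟨hx1, hn1⟩ with ⟨s, T, hs, hTs, rfl⟩ | ⟨O, T, hO, hTO, hev, rfl⟩ |
    ⟨C, j, hC, rfl⟩
  · exfalso
    unfold sv at ha
    split_ifs at ha <;> omega
  · have hnT : (none : GolayPt) ∈ T := by
      by_contra h
      unfold sv at ha
      rw [if_neg h] at ha
      split_ifs at ha <;> omega
    have h0O : (some 0 : GolayPt) ∉ O := by
      intro h
      unfold sv at hb
      split_ifs at hb <;> omega
    exact hT.trans (connT_cl0_sv hO hTO hev hnT h0O)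
  · exfalso
    unfold ov at ha
    split_ifs at ha <;> omega

/-- transitivity on the class `0` -/
theorem cl2_trans_0 : ∀ w ∈ cl2 wS 0, ∀ w' ∈ cl2 wS 0,
    ∃ g : ↥Co0, g • xS = xS ∧ g • wS = wS ∧ g • w = w' := by
  intro w hw w' hw'
  obtain ⟨g, g1, g2, g3⟩ := ((connT_cl0 hw).trans (connT_cl0 hw').symm).exists_co0
    (v := wS) (w := w) (u := xS) (v' := wS) (w' := w') (u' := xS)
  exact ⟨g, g3, g1, g2⟩

end Cfsg.Agent.Lib.Helper3
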