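import Mathlib
import Cfsg.Agent.Lib.Helper3.Co2B
import Cfsg.Agent.Lib.Helper21.GolayM12Gen
import Cfsg.Agent.Lib.Helper21.GolayDodecads
import Cfsg.Agent.Lib.Helper21.GolayTransitive

/-!
Helper library (helper3): inner products of minimal vectors of the standard shapes, and the
elements of `M24` fixing two points used to move a vector of the `47104`-set to a vector whose
inner product with it is divisible by `16`.
-/

set_option autoImplicit false

namespace Cfsg.Agent.Lib.Helper3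

open Cfsg Cfsg.Agent.Lib.Helper21 MulAction
open scoped Pointwise

/-! ### inner products -/

theorem dot_sv2_same {O T T' : Finset GolayPt} (hT : T ⊆ O) (hT' : T' ⊆ O) :
    dotInt (sv 2 O T) (sv 2 O T') =
      4 * (O.card : ℤ) - 8 * (((T \ T') ∪ (T' \ T)).card : ℤ) := by
  classical
  unfold dotInt
  have h : ∀ i, sv 2 O T i * sv 2 O T' i =
      (if i ∈ O then 4 else 0) - (if i ∈ (T \ T') ∪ (T' \ T) then 8 else 0) := by
    intro i
    unfold sv
    by_cases h1 : i ∈ T <;> by_cases h2 : i ∈ T'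
    · simp [h1, h2, hT h1]
    · simp [h1, h2, hT h1]
    · simp [h1, h2, hT' h2]
    · by_cases h3 : i ∈ O <;> simp [h1, h2, h3]
  simp_rw [h]
  rw [Finset.sum_sub_distrib]
  simp only [Finset.sum_ite_mem, Finset.univ_inter, Finset.sum_const, nsmul_eq_mul]
  ring

theorem dvd_dot_sv {O T T' : Finset GolayPt} (hO : O ∈ octads) (hT : T ⊆ O) (hT' : T' ⊆ O)
    (hc : T.card = T'.card) : (16 : ℤ) ∣ dotInt (sv 2 O T) (sv 2 O T') := by
  rw [dot_sv2_same hT hT', hO.2]
  have h := card_flip T T'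
  rw [← hc] at h
  obtain ⟨m, hm⟩ : ∃ m, ((T \ T') ∪ (T' \ T)).card = 2 * m := ⟨T.card - (T ∩ T').card, by omega⟩
  rw [hm]
  push_cast
  exact ⟨2 - m, by ring⟩

theorem dot_sv2_full (O O' : Finset GolayPt) :
    dotInt (sv 2 O O) (sv 2 O' O') = 4 * ((O ∩ O').card : ℤ) := by
  classical
  unfold dotInt
  have h : ∀ i, sv 2 O O i * sv 2 O' O' i = (if i ∈ O ∩ O' then 4 else 0) := by
    intro i
    unfold sv
    by_cases h1 : i ∈ O <;> by_cases h2 : i ∈ O' <;> simp [h1, h2]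
  simp_rw [h]
  simp only [Finset.sum_ite_mem, Finset.univ_inter, Finset.sum_const, nsmul_eq_mul]
  ring

theorem dot_ov_move {C : Finset GolayPt} {j j' : GolayPt} (hjj : j ≠ j')
    (h : (j ∈ C ∧ j' ∈ C) ∨ (j ∉ C ∧ j' ∉ C)) : dotInt (ov C j) (ov C j') = 16 := by
  classical
  unfold dotInt
  have hk : ∀ i, ov C j i * ov C j' i =
      1 + ((if i = j then -4 else 0) + (if i = j' then -4 else 0)) := by
    intro i
    unfold ov
    by_cases h1 : i = j
    · subst h1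
      rcases h with ⟨a1, a2⟩ | ⟨a1, a2⟩ <;> simp [hjj, a1, a2]
    · by_cases h2 : i = j'
      · subst h2
        rcases h with ⟨a1, a2⟩ | ⟨a1, a2⟩ <;> simp [h1, a1, a2]
      · by_cases h3 : i ∈ C <;> simp [h1, h2, h3]
  simp_rw [hk]
  rw [Finset.sum_add_distrib, Finset.sum_add_distrib]
  simp only [Finset.sum_ite_eq', Finset.mem_univ, if_true, Finset.sum_const, Finset.card_univ,
    card_golayPt]
  norm_num

theorem dot_ov_same {C C' : Finset GolayPt} {j : GolayPt} (hj : j ∈ C) (hj' : j ∈ C') :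
    dotInt (ov C j) (ov C' j) = 32 - 2 * (((C \ C') ∪ (C' \ C)).card : ℤ) := by
  classical
  unfold dotInt
  have hk : ∀ i, ov C j i * ov C' j i =
      1 + (if i = j then 8 else 0) - (if i ∈ (C \ C') ∪ (C' \ C) then 2 else 0) := by
    intro i
    unfold ov
    by_cases h1 : i = j
    · subst h1
      simp [hj, hj']
    · by_cases h2 : i ∈ C <;> by_cases h3 : i ∈ C' <;> simp [h1, h2, h3]
  simp_rw [hk]
  rw [Finset.sum_sub_distrib, Finset.sum_add_distrib]
  simp only [Finset.sum_ite_mem, Finset.univ_inter, Finset.sum_ite_eq', Finset.mem_univ, if_true,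
    Finset.sum_const, Finset.card_univ, card_golayPt, nsmul_eq_mul]
  push_cast
  ring

/-! ### elements of `M24` -/

/-- an element fixing `u ∈ T`, `v ∉ O`, the octad `O`, and moving `T` -/
theorem act_sv {O T : Finset GolayPt} (hO : O ∈ octads) (hT : T ⊆ O) {u v : GolayPt} (hu : u ∈ T)
    (hv : v ∉ O) {t p : GolayPt} (ht : t ∈ T) (htu : t ≠ u) (hp : p ∈ O) (hpT : p ∉ T) :
    ∃ σ ∈ M24, σ u = u ∧ σ v = v ∧ σ • O = O ∧ σ • T ≠ T := by
  have hpu : u ≠ p := fun h => hpT (h ▸ hu)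
  obtain ⟨σ, hσ, e0, e1, e2, e3⟩ := flag_in_two_out hO hO (hT hu) (hT ht) (Ne.symm htu) hv
    (hT hu) hp hpu hv
  refine ⟨σ, hσ, e1, e3, e0, ?_⟩
  intro h
  apply hpT
  rw [← h, ← e2, apply_mem_smul_iff]
  exact ht

theorem smul_sdiff' (σ : Equiv.Perm GolayPt) (A B : Finset GolayPt) :
    σ • (A \ B) = σ • A \ σ • B := by
  ext i
  rw [← mem_smul_iff', Finset.mem_sdiff, Finset.mem_sdiff, mem_smul_iff', mem_smul_iff']

theorem smul_union' (σ : Equiv.Perm GolayPt) (A B : Finset GolayPt) :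
    σ • (A ∪ B) = σ • A ∪ σ • B := by
  ext i
  rw [← mem_smul_iff', Finset.mem_union, Finset.mem_union, mem_smul_iff', mem_smul_iff']

theorem smul_inter' (σ : Equiv.Perm GolayPt) (A B : Finset GolayPt) :
    σ • (A ∩ B) = σ • A ∩ σ • B := by
  ext i
  rw [← mem_smul_iff', Finset.mem_inter, Finset.mem_inter, mem_smul_iff', mem_smul_iff']

theorem octad_stab_move_aux {a b : GolayPt} (hab : a ≠ b) {R R2 : Finset GolayPt}
    (hR : R ∈ octads) (hR2 : R2 ∈ octads) (aR : a ∈ R) (bR : b ∈ R) (aR2 : a ∈ R2) (bR2 : b ∈ R2)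
    (hc : (R ∩ R2).card = 4) {j : GolayPt} (hj : j ∈ R \ R2) :
    ∃ σ ∈ M24, σ a = a ∧ σ b = b ∧ σ • R = R ∧ σ • R2 = R2 ∧ σ j ≠ j := by
  classical
  obtain ⟨hjR, hjR2⟩ := Finset.mem_sdiff.1 hj
  have c1 : (R \ R2).card = 4 := by
    have := Finset.card_sdiff_add_card_inter R R2
    rw [hc, hR.2] at this; omega
  have c2 : (R2 \ R).card = 4 := by
    have := Finset.card_sdiff_add_card_inter R2 R
    rw [Finset.inter_comm, hc, hR2.2] at this; omega
  obtain ⟨j', hj'⟩ : ((R \ R2).erase j).Nonempty := by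
    rw [← Finset.card_pos, Finset.card_erase_of_mem hj, c1]; norm_num
  obtain ⟨hj'j, hj'm⟩ := Finset.mem_erase.1 hj'
  obtain ⟨hj'R, hj'R2⟩ := Finset.mem_sdiff.1 hj'm
  obtain ⟨e, he⟩ : (R2 \ R).Nonempty := by
    rw [← Finset.card_pos, c2]; norm_num
  obtain ⟨heR2, heR⟩ := Finset.mem_sdiff.1 he
  have aS : a ∈ R ∩ R2 := Finset.mem_inter.2 ⟨aR, aR2⟩
  have bS : b ∈ (R ∩ R2).erase a := Finset.mem_erase.2 ⟨Ne.symm hab, Finset.mem_inter.2 ⟨bR, bR2⟩⟩
  have c3 : (((R ∩ R2).erase a).erase b).card = 2 := by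
    rw [Finset.card_erase_of_mem bS, Finset.card_erase_of_mem aS, hc]
  obtain ⟨c, d, hcd, hS⟩ := Finset.card_eq_two.1 c3
  have hcm : c ∈ ((R ∩ R2).erase a).erase b := by rw [hS]; simp
  have hdm : d ∈ ((R ∩ R2).erase a).erase b := by rw [hS]; simp
  obtain ⟨hcb, hcm'⟩ := Finset.mem_erase.1 hcm
  obtain ⟨hca, hcS⟩ := Finset.mem_erase.1 hcm'
  obtain ⟨hdb, hdm'⟩ := Finset.mem_erase.1 hdm
  obtain ⟨hda, hdS⟩ := Finset.mem_erase.1 hdm'
  obtain ⟨cR, cR2⟩ := Finset.mem_inter.1 hcS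
  obtain ⟨dR, dR2⟩ := Finset.mem_inter.1 hdS
  have haj : a ≠ j := fun h => hjR2 (h ▸ aR2)
  have hbj : b ≠ j := fun h => hjR2 (h ▸ bR2)
  have hcj : c ≠ j := fun h => hjR2 (h ▸ cR2)
  have hdj : d ≠ j := fun h => hjR2 (h ▸ dR2)
  have haj' : a ≠ j' := fun h => hj'R2 (h ▸ aR2)
  have hbj' : b ≠ j' := fun h => hj'R2 (h ▸ bR2)
  have hcj' : c ≠ j' := fun h => hj'R2 (h ▸ cR2)
  have hdj' : d ≠ j' := fun h => hj'R2 (h ▸ dR2)
  obtain ⟨σ1, hσ1, s1, s2⟩ := flag_list hR hR [a, b, c, d, j] [a, b, c, d, j']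
    (by simp [hab, Ne.symm hca, Ne.symm hda, haj, Ne.symm hcb, Ne.symm hdb, hbj, hcd, hcj, hdj])
    (by simp [hab, Ne.symm hca, Ne.symm hda, haj', Ne.symm hcb, Ne.symm hdb, hbj', hcd, hcj',
      hdj'])
    rfl (by simp) (by simp [aR, bR, cR, dR, hjR]) (by simp [aR, bR, cR, dR, hj'R])
  simp only [List.map_cons, List.map_nil, List.cons.injEq, and_true] at s2
  obtain ⟨sa, sb, sc, sd, sj⟩ := s2
  have he1 : σ1 e ∉ R := by
    rw [← s1, apply_mem_smul_iff]; exact heR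
  obtain ⟨τ, hτ, τR, τe⟩ := octad_fix_trans R hR (σ1 e) e he1 heR
  have τR' : τ • R = R := smul_eq_of_fixing τR
  refine ⟨τ * σ1, M24.mul_mem hτ hσ1, ?_, ?_, ?_, ?_, ?_⟩
  · rw [Equiv.Perm.mul_apply, sa, τR a aR]
  · rw [Equiv.Perm.mul_apply, sb, τR b bR]
  · rw [mul_smul, s1, τR']
  · -- the image of `R2` contains five points of `R2`
    have hoct : (τ * σ1) • R2 ∈ octads := smul_mem_octads (M24.mul_mem hτ hσ1) hR2
    symm
    apply octad_eq_of_inter_card hR2 hoct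
    have hsub : ({a, b, c, d, e} : Finset GolayPt) ⊆ R2 ∩ (τ * σ1) • R2 := by
      intro i hi
      simp only [Finset.mem_insert, Finset.mem_singleton] at hi
      have key : ∀ z ∈ R2, (τ * σ1) z = z → z ∈ R2 ∩ (τ * σ1) • R2 := by
        intro z hz hfix
        refine Finset.mem_inter.2 ⟨hz, ?_⟩
        rw [← hfix, apply_mem_smul_iff]; exact hz
      rcases hi with rfl | rfl | rfl | rfl | rfl
      · exact key _ aR2 (by rw [Equiv.Perm.mul_apply, sa, τR _ aR])
      · exact key _ bR2 (by rw [Equiv.Perm.mul_apply, sb, τR _ bR])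
      · exact key _ cR2 (by rw [Equiv.Perm.mul_apply, sc, τR _ cR])
      · exact key _ dR2 (by rw [Equiv.Perm.mul_apply, sd, τR _ dR])
      · exact key _ heR2 (by rw [Equiv.Perm.mul_apply, τe])
    have hcard5 : ({a, b, c, d, e} : Finset GolayPt).card = 5 := by
      have hae : a ≠ e := fun h => heR (h ▸ aR)
      have hbe : b ≠ e := fun h => heR (h ▸ bR)
      have hce : c ≠ e := fun h => heR (h ▸ cR)
      have hde : d ≠ e := fun h => heR (h ▸ dR)
      rw [Finset.card_insert_of_notMem, Finset.card_insert_of_notMem,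
        Finset.card_insert_of_notMem, Finset.card_insert_of_notMem, Finset.card_singleton]
      · simp [hde]
      · simp [hcd, hce]
      · simp [Ne.symm hcb, Ne.symm hdb, hbe]
      · simp [hab, Ne.symm hca, Ne.symm hda, hae]
    have := Finset.card_le_card hsub
    omega
  · rw [Equiv.Perm.mul_apply, sj, τR j' hj'R]
    exact hj'j

/-- the stabiliser of two points and of an octad avoiding them moves every point of the octad -/
theorem octad_stab_move {a b : GolayPt} (hab : a ≠ b) {C : Finset GolayPt} (hC : C ∈ octads)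
    (ha : a ∉ C) (hb : b ∉ C) {j : GolayPt} (hj : j ∈ C) :
    ∃ σ ∈ M24, σ a = a ∧ σ b = b ∧ σ • C = C ∧ σ j ≠ j := by
  classical
  obtain ⟨R, hR, R2, hR2, aR, bR, aR2, bR2, hc, rfl⟩ := octad_avoid_decomp hab hC ha hb
  rcases Finset.mem_union.1 hj with h | h
  · obtain ⟨σ, hσ, e1, e2, e3, e4, e5⟩ := octad_stab_move_aux hab hR hR2 aR bR aR2 bR2 hc h
    exact ⟨σ, hσ, e1, e2, by rw [smul_union', smul_sdiff', smul_sdiff', e3, e4], e5⟩
  · obtain ⟨σ, hσ, e1, e2, e3, e4, e5⟩ := octad_stab_move_aux hab hR2 hR aR2 bR2 aR bR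
      (by rw [Finset.inter_comm]; exact hc) h
    exact ⟨σ, hσ, e1, e2, by rw [smul_union', smul_sdiff', smul_sdiff', e3, e4], e5⟩

/-- an element fixing two points of a dodecad and moving it to a dodecad at distance `8` -/
theorem dodecad_move {a b : GolayPt} (hab : a ≠ b) {C : Finset GolayPt} (hC : C ∈ dodecads)
    (ha : a ∈ C) (hb : b ∈ C) :
    ∃ σ ∈ M24, σ a = a ∧ σ b = b ∧ ((C \ σ • C) ∪ (σ • C \ C)).card = 8 := by
  classical
  have hne : ((blocksFinset dodecads).filter (fun d' => (C ∩ d').card = 8)).Nonempty := by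
    rw [← Finset.card_pos, dodecad_count_eight hC]; norm_num
  obtain ⟨C2, hC2⟩ := hne
  obtain ⟨hC2d, hC2c⟩ := Finset.mem_filter.1 hC2
  rw [mem_blocksFinset] at hC2d
  -- two points of the intersection
  obtain ⟨y1, hy1, y2, hy2, hy12⟩ := Finset.one_lt_card.1 (by rw [hC2c]; norm_num :
    1 < (C ∩ C2).card)
  obtain ⟨y1C, y1C2⟩ := Finset.mem_inter.1 hy1
  obtain ⟨y2C, y2C2⟩ := Finset.mem_inter.1 hy2
  let x : Fin 2 ↪ GolayPt := ⟨![y1, y2], by
    intro i k hik
    fin_cases i <;> fin_cases k <;> simp_all⟩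
  let y : Fin 2 ↪ GolayPt := ⟨![a, b], by
    intro i k hik
    fin_cases i <;> fin_cases k <;> simp_all⟩
  obtain ⟨τ, hτ, τC, τx⟩ := dodecad_stab_trans (n := 2) (by norm_num) C hC x y
    (by intro i; fin_cases i; exact y1C; exact y2C) (by intro i; fin_cases i; exact ha; exact hb)
  have τ1 : τ y1 = a := τx 0
  have τ2 : τ y2 = b := τx 1
  -- the dodecad `C' = τ • C2` contains `a`, `b` and meets `C` in eight points
  have hC' : τ • C2 ∈ dodecads := smul_mem_dodecads hτ hC2d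
  have aC' : a ∈ τ • C2 := by rw [← τ1, apply_mem_smul_iff]; exact y1C2
  have bC' : b ∈ τ • C2 := by rw [← τ2, apply_mem_smul_iff]; exact y2C2
  have hint : (C ∩ τ • C2).card = 8 := by
    have : C ∩ τ • C2 = τ • (C ∩ C2) := by rw [smul_inter', τC]
    rw [this, Finset.card_smul_finset, hC2c]
  obtain ⟨σ0, hσ0⟩ := dodecads_transitive C (τ • C2) hC hC'
  have hσ0' : (σ0 : Equiv.Perm GolayPt) • C = τ • C2 := hσ0
  have a' : (σ0 : Equiv.Perm GolayPt) a ∈ τ • C2 := by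
    rw [← hσ0', apply_mem_smul_iff]; exact ha
  have b' : (σ0 : Equiv.Perm GolayPt) b ∈ τ • C2 := by
    rw [← hσ0', apply_mem_smul_iff]; exact hb
  have hinj2 : (σ0 : Equiv.Perm GolayPt) a ≠ (σ0 : Equiv.Perm GolayPt) b :=
    fun h => hab ((σ0 : Equiv.Perm GolayPt).injective h)
  let x2 : Fin 2 ↪ GolayPt := ⟨![(σ0 : Equiv.Perm GolayPt) a, (σ0 : Equiv.Perm GolayPt) b], by
    intro i k hik
    fin_cases i <;> fin_cases k
    · rfl
    · exact absurd (show (σ0 : Equiv.Perm GolayPt) a = (σ0 : Equiv.Perm GolayPt) b from hik) hinj2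
    · exact absurd (show (σ0 : Equiv.Perm GolayPt) b = (σ0 : Equiv.Perm GolayPt) a from hik)
        (Ne.symm hinj2)
    · rfl⟩
  obtain ⟨ρ, hρ, ρC, ρx⟩ := dodecad_stab_trans (n := 2) (by norm_num) (τ • C2) hC' x2 y
    (by intro i; fin_cases i; exact a'; exact b') (by intro i; fin_cases i; exact aC'; exact bC')
  have ρ1 : ρ ((σ0 : Equiv.Perm GolayPt) a) = a := ρx 0
  have ρ2 : ρ ((σ0 : Equiv.Perm GolayPt) b) = b := ρx 1
  refine ⟨ρ * σ0, M24.mul_mem hρ σ0.2, ?_, ?_, ?_⟩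
  · rw [Equiv.Perm.mul_apply, ρ1]
  · rw [Equiv.Perm.mul_apply, ρ2]
  · have e : (ρ * (σ0 : Equiv.Perm GolayPt)) • C = τ • C2 := by rw [mul_smul, hσ0', ρC]
    rw [e]
    have h := card_flip C (τ • C2)
    rw [hint, hC.2, hC'.2] at h
    omega

end Cfsg.Agent.Lib.Helper3
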