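import Mathlib
import Cfsg.Agent.Lib.Helper3.Co2C

/-!
Helper library (helper3): every vector of the `47104`-set whose inner product with the base point
`wS` is `±8` is moved by a coordinate permutation fixing `none`, `some 0` to a different vector
whose inner product with it is divisible by `16`.
-/

set_option autoImplicit false

namespace Cfsg.Agent.Lib.Helper3

open Cfsg Cfsg.Agent.Lib.Helper21 MulAction
open scoped Pointwise

theorem act_wrap {w1 : leechLattice} {σ : Equiv.Perm GolayPt} (hσ : σ ∈ M24) (hn : σ none = none)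
    (h0 : σ (some 0) = some 0) {y : GolayPt → ℤ} (hy : (fun i => w1.1 (σ⁻¹ i)) = y)
    (hne : y ≠ w1.1) (hdvd : (16 : ℤ) ∣ dotInt w1.1 y) :
    ∃ σ : ↥M24, σ.1 none = none ∧ σ.1 (some 0) = some 0 ∧ permHom σ • w1 ≠ w1 ∧
      (16 : ℤ) ∣ dotInt w1.1 (permHom σ • w1 : leechLattice).1 := by
  refine ⟨⟨σ, hσ⟩, hn, h0, ?_, ?_⟩
  · intro h
    apply hne
    rw [← hy]
    exact congrArg Subtype.val h
  · rw [permHom_val]
    show (16 : ℤ) ∣ dotInt w1.1 (fun i => w1.1 (σ⁻¹ i))
    rw [hy]; exact hdvd

theorem smul_subset' {σ : Equiv.Perm GolayPt} {T O : Finset GolayPt} (hT : T ⊆ O) :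
    σ • T ⊆ σ • O := by
  intro i hi
  rw [← mem_smul_iff'] at hi ⊢
  exact hT hi

theorem ov_at (C : Finset GolayPt) (j i : GolayPt) :
    ov C j i = if i = j then (if j ∈ C then -3 else 3) else if i ∈ C then 1 else -1 := rfl

theorem sv_at (c : ℤ) (s T : Finset GolayPt) (i : GolayPt) :
    sv c s T i = if i ∈ T then -c else if i ∈ s then c else 0 := rfl

/-- the case of a vector `(∓2^8)` with `u ∈ T`, `v ∉ O` -/
theorem act_case_sv {O T : Finset GolayPt} (hO : O ∈ octads) (hTO : T ⊆ O)
    (hx : sv 2 O T ∈ leechLattice) {u v : GolayPt}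
    (huv : (u = none ∧ v = some 0) ∨ (u = some 0 ∧ v = none)) (hu : u ∈ T) (hv : v ∉ O)
    (h2 : 2 ≤ T.card) (h6 : T.card ≤ 6) :
    ∃ σ : ↥M24, σ.1 none = none ∧ σ.1 (some 0) = some 0 ∧
      permHom σ • (⟨sv 2 O T, hx⟩ : leechLattice) ≠ ⟨sv 2 O T, hx⟩ ∧
      (16 : ℤ) ∣ dotInt (sv 2 O T) (permHom σ • (⟨sv 2 O T, hx⟩ : leechLattice) : leechLattice).1 := by
  classical
  obtain ⟨t, ht, htu⟩ := Finset.exists_mem_ne (by omega : 1 < T.card) u
  have hOT : 0 < (O \ T).card := by
    have := Finset.card_sdiff_add_card_inter O T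
    have h2 : O ∩ T = T := Finset.inter_eq_right.2 hTO
    rw [h2, hO.2] at this
    omega
  obtain ⟨p, hp⟩ := Finset.card_pos.1 hOT
  obtain ⟨hpO, hpT⟩ := Finset.mem_sdiff.1 hp
  obtain ⟨σ, hσ, eu, ev, eO, eT⟩ := act_sv hO hTO hu hv ht htu hpO hpT
  have hn : σ none = none := by
    rcases huv with ⟨h1, h2⟩ | ⟨h1, h2⟩
    · rw [← h1]; exact eu
    · rw [← h2]; exact ev
  have h0 : σ (some 0) = some 0 := by
    rcases huv with ⟨h1, h2⟩ | ⟨h1, h2⟩
    · rw [← h2]; exact ev
    · rw [← h1]; exact eu
  have hσT : σ • T ⊆ O := by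
    have := smul_subset' (σ := σ) hTO
    rwa [eO] at this
  refine act_wrap (w1 := ⟨sv 2 O T, hx⟩) hσ hn h0 (y := sv 2 O (σ • T)) ?_ ?_ ?_
  · show (fun i => sv 2 O T (σ⁻¹ i)) = _
    rw [sv_perm, eO]
  · intro h
    exact eT (sv_inj (by norm_num) hσT hTO h).2
  · exact dvd_dot_sv hO hTO hσT (Finset.card_smul_finset σ T).symm

theorem activation {w1 : leechLattice} (hw1 : w1 ∈ Om2)
    (hbad : dotInt wS.1 w1.1 = 8 ∨ dotInt wS.1 w1.1 = -8) :
    ∃ σ : ↥M24, σ.1 none = none ∧ σ.1 (some 0) = some 0 ∧ permHom σ • w1 ≠ w1 ∧
      (16 : ℤ) ∣ dotInt w1.1 (permHom σ • w1 : leechLattice).1 := by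
  classical
  obtain ⟨x, hx⟩ := w1
  obtain ⟨hn1, hx1⟩ := hw1
  simp only at hn1 hx1 hbad
  rw [dot_xS] at hx1
  rw [dot_wS] at hbad
  have hsum2 : x none + x (some 0) = -2 := by omega
  rcases (leech_minimal_iff x).1 ⟨hx, hn1⟩ with ⟨s, T, hs, hTs, rfl⟩ | ⟨O, T, hO, hTO, hev, rfl⟩ |
    ⟨C, j, hC, rfl⟩
  · exfalso
    rw [sv_at, sv_at] at hsum2
    split_ifs at hsum2 <;> omega
  · -- the shape `(±2^8)`
    rw [sum_sv 2 hTO, hO.2] at hbad
    have hle : T.card ≤ 8 := by rw [← hO.2]; exact Finset.card_le_card hTO
    by_cases hnT : (none : GolayPt) ∈ T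
    · have e1 : sv 2 O T none = -2 := by rw [sv_at, if_pos hnT]
      have e2 : sv 2 O T (some 0) = 0 := by omega
      have h0O : (some 0 : GolayPt) ∉ O := by
        intro h
        rw [sv_at] at e2
        split_ifs at e2 <;> omega
      rw [e2] at hbad
      push_cast at hbad
      have hc : T.card = 2 ∨ T.card = 6 := by omega
      exact act_case_sv hO hTO hx (Or.inl ⟨rfl, rfl⟩) hnT h0O (by omega) (by omega)
    · have h0T : (some 0 : GolayPt) ∈ T := by
        by_contra h
        rw [sv_at, sv_at, if_neg hnT, if_neg h] at hsum2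
        split_ifs at hsum2 <;> omega
      have e2 : sv 2 O T (some 0) = -2 := by rw [sv_at, if_pos h0T]
      have e1 : sv 2 O T none = 0 := by omega
      have hnO : (none : GolayPt) ∉ O := by
        intro h
        rw [sv_at, if_neg hnT, if_pos h] at e1
        omega
      rw [e2] at hbad
      push_cast at hbad
      have hc : T.card = 4 ∨ T.card = 8 := by omega
      rcases hc with hc | hc
      · exact act_case_sv hO hTO hx (Or.inr ⟨rfl, rfl⟩) h0T hnO (by omega) (by omega)
      · -- `T = O`
        have hTeq : T = O := Finset.eq_of_subset_of_card_le hTO (by rw [hc, hO.2])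
        subst hTeq
        have h0O : (some 0 : GolayPt) ∈ T := h0T
        obtain ⟨S3, hS3, hS3c⟩ := Finset.exists_subset_card_eq (s := T.erase (some 0)) (n := 3)
          (by rw [Finset.card_erase_of_mem h0O, hO.2]; norm_num)
        have h0S3 : (some 0 : GolayPt) ∉ S3 := fun h => Finset.notMem_erase _ _ (hS3 h)
        have hS4 : (insert (some 0) S3).card = 4 := by
          rw [Finset.card_insert_of_notMem h0S3, hS3c]
        have hS : insert (some 0) S3 ⊆ T := by
          intro i hi
          rcases Finset.mem_insert.1 hi with rfl | hi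
          · exact h0O
          · exact Finset.mem_of_mem_erase (hS3 hi)
        obtain ⟨O', hO', hint, hnO'⟩ := exists_octad_inter hO hS hS4 hnO
        obtain ⟨s, hs⟩ : S3.Nonempty := by rw [← Finset.card_pos, hS3c]; norm_num
        have hs0 : (some 0 : GolayPt) ≠ s := fun h => h0S3 (h ▸ hs)
        have hsT : s ∈ T := hS (Finset.mem_insert_of_mem hs)
        have hSO' : insert (some 0) S3 ⊆ O' := by
          rw [← hint]; exact Finset.inter_subset_left
        have hsO' : s ∈ O' := hSO' (Finset.mem_insert_of_mem hs)
        have h0O' : (some 0 : GolayPt) ∈ O' := hSO' (Finset.mem_insert_self _ _)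
        obtain ⟨σ, hσ, eO, e0, es, en⟩ := flag_in_two_out hO hO' h0O hsT hs0 hnO h0O' hsO' hs0 hnO'
        refine act_wrap (w1 := ⟨sv 2 T T, hx⟩) hσ en e0 (y := sv 2 O' O') ?_ ?_ ?_
        · show (fun i => sv 2 T T (σ⁻¹ i)) = _
          rw [sv_perm, eO]
        · intro h
          have h1 := (sv_inj (by norm_num) (Finset.Subset.refl _) (Finset.Subset.refl _) h).1
          rw [h1, Finset.inter_self] at hint
          rw [← hint, hO.2] at hS4
          omega
        · rw [dot_sv2_full, Finset.inter_comm, hint, hS4]
          norm_num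
  · -- the shape `(∓3, ±1^23)`
    rw [sum_ov] at hbad
    have hcc := supports_card_cases hC
    by_cases hjn : j = none
    · subst hjn
      have hmem : (none : GolayPt) ∈ C ∧ (some 0 : GolayPt) ∈ C := by
        have v1 : ov C none none = if (none : GolayPt) ∈ C then -3 else 3 := by
          rw [ov_at, if_pos rfl]
        have v2 : ov C none (some 0) = if (some 0 : GolayPt) ∈ C then 1 else -1 := by
          rw [ov_at, if_neg (show (some 0 : GolayPt) ≠ none by decide)]
        rw [v1, v2] at hsum2
        by_cases a1 : (none : GolayPt) ∈ C <;> by_cases a2 : (some 0 : GolayPt) ∈ C <;>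
          simp only [a1, a2, if_true, if_false] at hsum2 <;> first | omega | exact ⟨a1, a2⟩
      obtain ⟨hnC, h0C⟩ := hmem
      have v3 : ov C none (some 0) = 1 := by
        rw [ov_at, if_neg (show (some 0 : GolayPt) ≠ none by decide), if_pos h0C]
      rw [v3, if_pos hnC] at hbad
      have hc12 : C.card = 12 := by omega
      obtain ⟨σ, hσ, en, e0, ed⟩ := dodecad_move hpq0 (C := C) ⟨hC, hc12⟩ hnC h0C
      have hnσ : (none : GolayPt) ∈ σ • C := by rw [← en, apply_mem_smul_iff]; exact hnC
      refine act_wrap (w1 := ⟨ov C none, hx⟩) hσ en e0 (y := ov (σ • C) none) ?_ ?_ ?_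
      · show (fun i => ov C none (σ⁻¹ i)) = _
        rw [ov_perm, en]
      · intro h
        have h1 := (ov_inj h).1
        rw [h1] at ed
        simp at ed
      · rw [dot_ov_same hnC hnσ, ed]; norm_num
    · by_cases hj0 : j = some 0
      · subst hj0
        have hmem : (none : GolayPt) ∈ C ∧ (some 0 : GolayPt) ∈ C := by
          have v1 : ov C (some 0) none = if (none : GolayPt) ∈ C then 1 else -1 := by
            rw [ov_at, if_neg (show (none : GolayPt) ≠ some 0 by decide)]
          have v2 : ov C (some 0) (some 0) = if (some 0 : GolayPt) ∈ C then -3 else 3 := by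
            rw [ov_at, if_pos rfl]
          rw [v1, v2] at hsum2
          by_cases a1 : (none : GolayPt) ∈ C <;> by_cases a2 : (some 0 : GolayPt) ∈ C <;>
            simp only [a1, a2, if_true, if_false] at hsum2 <;> first | omega | exact ⟨a1, a2⟩
        obtain ⟨hnC, h0C⟩ := hmem
        have v3 : ov C (some 0) (some 0) = -3 := by
          rw [ov_at, if_pos rfl, if_pos h0C]
        rw [v3, if_pos h0C] at hbad
        have hc12 : C.card = 12 := by omega
        obtain ⟨σ, hσ, en, e0, ed⟩ := dodecad_move hpq0 (C := C) ⟨hC, hc12⟩ hnC h0C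
        have h0σ : (some 0 : GolayPt) ∈ σ • C := by rw [← e0, apply_mem_smul_iff]; exact h0C
        refine act_wrap (w1 := ⟨ov C (some 0), hx⟩) hσ en e0 (y := ov (σ • C) (some 0)) ?_ ?_ ?_
        · show (fun i => ov C (some 0) (σ⁻¹ i)) = _
          rw [ov_perm, e0]
        · intro h
          have h1 := (ov_inj h).1
          rw [h1] at ed
          simp at ed
        · rw [dot_ov_same h0C h0σ, ed]; norm_num
      · -- `j` is neither of the two special points
        have hmem : (none : GolayPt) ∉ C ∧ (some 0 : GolayPt) ∉ C := by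
          have v1 : ov C j none = if (none : GolayPt) ∈ C then 1 else -1 := by
            rw [ov_at, if_neg (Ne.symm hjn)]
          have v2 : ov C j (some 0) = if (some 0 : GolayPt) ∈ C then 1 else -1 := by
            rw [ov_at, if_neg (Ne.symm hj0)]
          rw [v1, v2] at hsum2
          by_cases a1 : (none : GolayPt) ∈ C <;> by_cases a2 : (some 0 : GolayPt) ∈ C <;>
            simp only [a1, a2, if_true, if_false] at hsum2 <;> first | omega | exact ⟨a1, a2⟩
        obtain ⟨hnC, h0C⟩ := hmem
        have v3 : ov C j (some 0) = -1 := by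
          rw [ov_at, if_neg (Ne.symm hj0), if_neg h0C]
        rw [v3] at hbad
        by_cases hjC : j ∈ C
        · rw [if_pos hjC] at hbad
          have hc : C.card = 8 ∨ C.card = 16 := by omega
          rcases hc with hc | hc
          · obtain ⟨σ, hσ, en, e0, eC, ej⟩ := octad_stab_move hpq0 (C := C) ⟨hC, hc⟩ hnC h0C hjC
            have hσj : σ j ∈ C := by rw [← eC, apply_mem_smul_iff]; exact hjC
            refine act_wrap (w1 := ⟨ov C j, hx⟩) hσ en e0 (y := ov C (σ j)) ?_ ?_ ?_
            · show (fun i => ov C j (σ⁻¹ i)) = _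
              rw [ov_perm, eC]
            · intro h
              exact ej (ov_inj h).2
            · rw [dot_ov_move (Ne.symm ej) (Or.inl ⟨hjC, hσj⟩)]
          · -- complement of an octad
            have hO : Cᶜ ∈ octads := by
              refine ⟨Cfsg.Agent.Lib.Helper21.supports_compl hC, ?_⟩
              rw [Finset.card_compl, hc, card_golayPt]
            obtain ⟨j', hj', hjj'⟩ := Finset.exists_mem_ne (by omega : 1 < C.card) j
            obtain ⟨t, ht, tO, tj⟩ := octad_fix_trans Cᶜ hO j j' (by simp [hjC]) (by simp [hj'])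
            have tO' : t • Cᶜ = Cᶜ := smul_eq_of_fixing tO
            have tC : t • C = C := by
              have := smul_compl' t Cᶜ
              rw [compl_compl, tO', compl_compl] at this
              exact this
            refine act_wrap (w1 := ⟨ov C j, hx⟩) ht (tO none (by simp [hnC])) (tO (some 0)
              (by simp [h0C])) (y := ov C j') ?_ ?_ ?_
            · show (fun i => ov C j (t⁻¹ i)) = _
              rw [ov_perm, tC, tj]
            · intro h
              exact hjj' (ov_inj h).2
            · rw [dot_ov_move (Ne.symm hjj') (Or.inl ⟨hjC, hj'⟩)]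
        · rw [if_neg hjC] at hbad
          have hc12 : C.card = 12 := by omega
          have hD : Cᶜ ∈ dodecads := dodecad_compl (d := C) ⟨hC, hc12⟩
          have hDc : (Cᶜ : Finset GolayPt).card = 12 := hD.2
          have hnD : (none : GolayPt) ∈ Cᶜ := by simp [hnC]
          have h0D : (some 0 : GolayPt) ∈ Cᶜ := by simp [h0C]
          have hjD : j ∈ Cᶜ := by simp [hjC]
          have c1 : (Cᶜ.erase none).card = 11 := by rw [Finset.card_erase_of_mem hnD, hDc]
          have m2 : (some 0 : GolayPt) ∈ Cᶜ.erase none :=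
            Finset.mem_erase.2 ⟨by decide, h0D⟩
          have c2 : ((Cᶜ.erase none).erase (some 0)).card = 10 := by
            rw [Finset.card_erase_of_mem m2, c1]
          have m3 : j ∈ (Cᶜ.erase none).erase (some 0) :=
            Finset.mem_erase.2 ⟨hj0, Finset.mem_erase.2 ⟨hjn, hjD⟩⟩
          have hpos : 0 < (((Cᶜ.erase none).erase (some 0)).erase j).card := by
            rw [Finset.card_erase_of_mem m3, c2]; norm_num
          obtain ⟨j', hj'⟩ := Finset.card_pos.1 hpos
          obtain ⟨hj'j, hj'2⟩ := Finset.mem_erase.1 hj'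
          obtain ⟨hj'0, hj'3⟩ := Finset.mem_erase.1 hj'2
          obtain ⟨hj'n, hj'D⟩ := Finset.mem_erase.1 hj'3
          let xe : Fin 3 ↪ GolayPt := ⟨![none, some 0, j], by
            intro i k hik
            fin_cases i <;> fin_cases k
            · rfl
            · exact absurd (show (none : GolayPt) = some 0 from hik) (by decide)
            · exact absurd (show (none : GolayPt) = j from hik) (Ne.symm hjn)
            · exact absurd (show (some 0 : GolayPt) = none from hik) (by decide)
            · rfl
            · exact absurd (show (some 0 : GolayPt) = j from hik) (Ne.symm hj0)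
            · exact absurd (show j = (none : GolayPt) from hik) hjn
            · exact absurd (show j = (some 0 : GolayPt) from hik) hj0
            · rfl⟩
          let ye : Fin 3 ↪ GolayPt := ⟨![none, some 0, j'], by
            intro i k hik
            fin_cases i <;> fin_cases k
            · rfl
            · exact absurd (show (none : GolayPt) = some 0 from hik) (by decide)
            · exact absurd (show (none : GolayPt) = j' from hik) (Ne.symm hj'n)
            · exact absurd (show (some 0 : GolayPt) = none from hik) (by decide)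
            · rfl
            · exact absurd (show (some 0 : GolayPt) = j' from hik) (Ne.symm hj'0)
            · exact absurd (show j' = (none : GolayPt) from hik) hj'n
            · exact absurd (show j' = (some 0 : GolayPt) from hik) hj'0
            · rfl⟩
          obtain ⟨g, hg, gD, gx⟩ := dodecad_stab_trans (n := 3) (by norm_num) Cᶜ hD xe ye
            (by intro i; fin_cases i; exact hnD; exact h0D; exact hjD)
            (by intro i; fin_cases i; exact hnD; exact h0D; exact hj'D)
          have g1 : g none = none := gx 0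
          have g2 : g (some 0) = some 0 := gx 1
          have g3 : g j = j' := gx 2
          have gC : g • C = C := by
            have := smul_compl' g Cᶜ
            rw [compl_compl, gD, compl_compl] at this
            exact this
          have hj'C : j' ∉ C := by simpa using hj'D
          refine act_wrap (w1 := ⟨ov C j, hx⟩) hg g1 g2 (y := ov C j') ?_ ?_ ?_
          · show (fun i => ov C j (g⁻¹ i)) = _
            rw [ov_perm, gC, g3]
          · intro h
            exact hj'j (ov_inj h).2
          · rw [dot_ov_move (Ne.symm hj'j) (Or.inr ⟨hjC, hj'C⟩)]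

end Cfsg.Agent.Lib.Helper3
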