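import Mathlib
import Cfsg.Agent.Lib.Helper3.Co2D
import Cfsg.Agent.Lib.Helper21.GolayFacts

/-!
Helper library (helper3): in the `47104`-set every vector is joined to the standard one by a path
of at most two steps with inner products divisible by `16`; a configuration of five vectors
with prescribed inner products.
-/

set_option autoImplicit false

namespace Cfsg.Agent.Lib.Helper3

open Cfsg Cfsg.Agent.Lib.Helper21 MulAction

theorem sum_P44 {i k : GolayPt} (hik : i ≠ k) : ∑ j, P44 i k j = 8 := by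
  have h := dot_P44 hik (fun _ => (1 : ℤ))
  unfold dotInt at h
  simp only [mul_one] at h
  rw [h]; norm_num

/-- a neighbour obtained by adding or subtracting a vector `(4,4,0^22)` -/
theorem path_P44 {w1 : leechLattice} (hw1 : w1 ∈ Om2)
    (hbad : dotInt wS.1 w1.1 = 8 ∨ dotInt wS.1 w1.1 = -8)
    {i k : GolayPt} (hik : i ≠ k) (hin : i ≠ none) (hi0 : i ≠ some 0) (hkn : k ≠ none)
    (hk0 : k ≠ some 0) (hs : w1.1 i + w1.1 k = 4 ∨ w1.1 i + w1.1 k = -4) :
    ∃ w' : leechLattice, w' ∈ Om2 ∧ (16 : ℤ) ∣ dotInt wS.1 w'.1 ∧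
      (16 : ℤ) ∣ dotInt w'.1 w1.1 := by
  have hP : P44 i k ∈ leechLattice := P44_mem hik
  have hPn := sqNorm_P44 hik
  have d1 : dotInt (P44 i k) w1.1 = 4 * (w1.1 i + w1.1 k) := dot_P44 hik _
  have d1' : dotInt w1.1 (P44 i k) = 4 * (w1.1 i + w1.1 k) := by rw [dotInt_comm, d1]
  have z1 : P44 i k none = 0 := P44_zero_of (Ne.symm hin) (Ne.symm hkn)
  have z2 : P44 i k (some 0) = 0 := P44_zero_of (Ne.symm hi0) (Ne.symm hk0)
  have d2 : dotInt xS.1 (P44 i k) = 0 := by
    rw [dot_xS, z1, z2]; norm_num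
  have d3 : dotInt wS.1 (P44 i k) = 8 := by
    rw [dot_wS, sum_P44 hik, z2]; norm_num
  have hn1 := hw1.1
  have hx1 := hw1.2
  rcases hs with hs | hs
  · refine ⟨w1 - ⟨P44 i k, hP⟩, ⟨?_, ?_⟩, ?_, ?_⟩
    · show sqNorm (w1.1 - P44 i k) = 32
      rw [sqNorm_sub, hn1, hPn, d1', hs]; norm_num
    · show dotInt xS.1 (w1.1 - P44 i k) = -8
      rw [dotInt_sub_right, hx1, d2]; norm_num
    · show (16 : ℤ) ∣ dotInt wS.1 (w1.1 - P44 i k)
      rw [dotInt_sub_right, d3]
      rcases hbad with h | h <;> rw [h] <;> norm_num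
    · show (16 : ℤ) ∣ dotInt (w1.1 - P44 i k) w1.1
      rw [dotInt_sub_left, dotInt_self, hn1, d1, hs]; norm_num
  · refine ⟨w1 + ⟨P44 i k, hP⟩, ⟨?_, ?_⟩, ?_, ?_⟩
    · show sqNorm (w1.1 + P44 i k) = 32
      rw [sqNorm_add, hn1, hPn, d1', hs]; norm_num
    · show dotInt xS.1 (w1.1 + P44 i k) = -8
      rw [dotInt_add_right, hx1, d2]; norm_num
    · show (16 : ℤ) ∣ dotInt wS.1 (w1.1 + P44 i k)
      rw [dotInt_add_right, d3]
      rcases hbad with h | h <;> rw [h] <;> norm_num
    · show (16 : ℤ) ∣ dotInt (w1.1 + P44 i k) w1.1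
      rw [dotInt_add_left, dotInt_self, hn1, d1, hs]; norm_num

/-- two coordinates of equal sign of a vector `(±2^8)` away from two given points -/
theorem two_pts_sv {O T : Finset GolayPt} (hO : O ∈ octads) (hTO : T ⊆ O) {sp sp' : GolayPt}
    (hsp : sp ∈ T) (hsp' : sp' ∉ O) :
    ∃ i k : GolayPt, i ≠ k ∧ i ≠ sp ∧ i ≠ sp' ∧ k ≠ sp ∧ k ≠ sp' ∧
      (sv 2 O T i + sv 2 O T k = 4 ∨ sv 2 O T i + sv 2 O T k = -4) := by
  classical
  have hle : T.card ≤ 8 := by rw [← hO.2]; exact Finset.card_le_card hTO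
  by_cases hc : T.card ≤ 6
  · have h1 : 1 < (O \ T).card := by
      rw [Finset.card_sdiff_of_subset hTO, hO.2]; omega
    obtain ⟨i, hi, k, hk, hik⟩ := Finset.one_lt_card.1 h1
    obtain ⟨hiO, hiT⟩ := Finset.mem_sdiff.1 hi
    obtain ⟨hkO, hkT⟩ := Finset.mem_sdiff.1 hk
    refine ⟨i, k, hik, fun h => hiT (by rw [h]; exact hsp), fun h => hsp' (by rw [← h]; exact hiO),
      fun h => hkT (by rw [h]; exact hsp), fun h => hsp' (by rw [← h]; exact hkO), Or.inl ?_⟩
    rw [sv_at, sv_at, if_neg hiT, if_pos hiO, if_neg hkT, if_pos hkO]; norm_num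
  · have h1 : 1 < (T.erase sp).card := by
      rw [Finset.card_erase_of_mem hsp]; omega
    obtain ⟨i, hi, k, hk, hik⟩ := Finset.one_lt_card.1 h1
    obtain ⟨hisp, hiT⟩ := Finset.mem_erase.1 hi
    obtain ⟨hksp, hkT⟩ := Finset.mem_erase.1 hk
    refine ⟨i, k, hik, hisp, fun h => hsp' (by rw [← h]; exact hTO hiT), hksp,
      fun h => hsp' (by rw [← h]; exact hTO hkT), Or.inr ?_⟩
    rw [sv_at, sv_at, if_pos hiT, if_pos hkT]; norm_num

/-- an octad through two points of a dodecad meeting it in six points -/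
theorem exists_octad_dodecad {C : Finset GolayPt}
    (hC : C ∈ supports (golayCode : Set (GolayPt → ZMod 2))) (hc12 : C.card = 12)
    {a b : GolayPt} (hab : a ≠ b) (ha : a ∈ C) (hb : b ∈ C) :
    ∃ C' ∈ octads, a ∈ C' ∧ b ∈ C' ∧ ((C' \ C) ∪ (C \ C')).card = 8 := by
  classical
  have hsub : ({a, b} : Finset GolayPt) ⊆ C := by
    intro i hi
    rcases Finset.mem_insert.1 hi with rfl | hi
    · exact ha
    · rw [Finset.mem_singleton.1 hi]; exact hb
  obtain ⟨s5, h1, h2, h3⟩ := Finset.exists_subsuperset_card_eq hsub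
    (by rw [Finset.card_pair hab]; norm_num : ({a, b} : Finset GolayPt).card ≤ 5)
    (by rw [hc12]; norm_num : 5 ≤ C.card)
  obtain ⟨C', ⟨hC'o, hsC'⟩, -⟩ := octads_steiner.2 s5 h3
  refine ⟨C', hC'o, hsC' (h1 (by simp)), hsC' (h1 (by simp)), ?_⟩
  have hS := supports_symmDiff hC'o.1 hC
  have hcases := supports_card_cases hS
  have hcf := card_flip C' C
  rw [hC'o.2, hc12] at hcf
  have hge : 5 ≤ (C' ∩ C).card := by
    rw [← h3]
    apply Finset.card_le_card
    intro i hi
    exact Finset.mem_inter.2 ⟨hsC' hi, h2 hi⟩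
  have hle : (C' ∩ C).card ≤ 8 := by
    rw [← hC'o.2]
    exact Finset.card_le_card Finset.inter_subset_left
  have hcases' : ((C' \ C) ∪ (C \ C')).card = 0 ∨ ((C' \ C) ∪ (C \ C')).card = 8 ∨
      ((C' \ C) ∪ (C \ C')).card = 12 ∨ ((C' \ C) ∪ (C \ C')).card = 16 ∨
      ((C' \ C) ∪ (C \ C')).card = 24 := hcases
  omega

theorem path_lemma {w1 : leechLattice} (hw1 : w1 ∈ Om2)
    (hbad : dotInt wS.1 w1.1 = 8 ∨ dotInt wS.1 w1.1 = -8) :
    ∃ w' : leechLattice, w' ∈ Om2 ∧ (16 : ℤ) ∣ dotInt wS.1 w'.1 ∧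
      (16 : ℤ) ∣ dotInt w'.1 w1.1 := by
  classical
  have hw1' := hw1
  have hbad0 := hbad
  obtain ⟨x, hx⟩ := w1
  obtain ⟨hn1, hx1⟩ := hw1
  simp only at hn1 hx1 hbad
  rw [dot_xS] at hx1
  rw [dot_wS] at hbad
  have hsum2 : x none + x (some 0) = -2 := by omega
  rcases (leech_minimal_iff x).1 ⟨hx, hn1⟩ with ⟨s, T, hs, hTs, rfl⟩ | ⟨O, T, hO, hTO, hev, rfl⟩ |
    ⟨C, j, hC, rfl⟩
  · exfalso
    rw [sv_at, sv_at] at hsum2
    split_ifs at hsum2 <;> omega
  · -- the shape `(±2^8)`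
    by_cases hnT : (none : GolayPt) ∈ T
    · have e1 : sv 2 O T none = -2 := by rw [sv_at, if_pos hnT]
      have e2 : sv 2 O T (some 0) = 0 := by omega
      have h0O : (some 0 : GolayPt) ∉ O := by
        intro h
        rw [sv_at] at e2
        split_ifs at e2 <;> omega
      obtain ⟨i, k, hik, h1, h2, h3, h4, hs⟩ := two_pts_sv hO hTO hnT h0O
      exact path_P44 hw1' hbad0 hik h1 h2 h3 h4 hs
    · have h0T : (some 0 : GolayPt) ∈ T := by
        by_contra h
        rw [sv_at, sv_at, if_neg hnT, if_neg h] at hsum2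
        split_ifs at hsum2 <;> omega
      have e2 : sv 2 O T (some 0) = -2 := by rw [sv_at, if_pos h0T]
      have e1 : sv 2 O T none = 0 := by omega
      have hnO : (none : GolayPt) ∉ O := by
        intro h
        rw [sv_at, if_neg hnT, if_pos h] at e1
        omega
      obtain ⟨i, k, hik, h1, h2, h3, h4, hs⟩ := two_pts_sv hO hTO h0T hnO
      exact path_P44 hw1' hbad0 hik h2 h1 h4 h3 hs
  · -- the shape `(∓3, ±1^23)`
    rw [sum_ov] at hbad
    have hcc := supports_card_cases hC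
    by_cases hjn : j = none
    · subst hjn
      have hmem : (none : GolayPt) ∈ C ∧ (some 0 : GolayPt) ∈ C := by
        have v1 : ov C none none = if (none : GolayPt) ∈ C then -3 else 3 := by
          rw [ov_at, if_pos rfl]
        have v2 : ov C none (some 0) = if (some 0 : GolayPt) ∈ C then 1 else -1 := by
          rw [ov_at, if_neg (show (some 0 : GolayPt) ≠ none by decide)]
        rw [v1, v2] at hsum2
        by_cases a1 : (none : GolayPt) ∈ C <;> by_cases a2 : (some 0 : GolayPt) ∈ C <;>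
          simp only [a1, a2, if_true, if_false] at hsum2 <;> first | omega | exact ⟨a1, a2⟩
      obtain ⟨hnC, h0C⟩ := hmem
      have v3 : ov C none (some 0) = 1 := by
        rw [ov_at, if_neg (show (some 0 : GolayPt) ≠ none by decide), if_pos h0C]
      rw [v3, if_pos hnC] at hbad
      have hc12 : C.card = 12 := by omega
      obtain ⟨C', hC', hnC', h0C', hsd⟩ := exists_octad_dodecad hC hc12 hpq0 hnC h0C
      refine ⟨⟨ov C' none, ov_mem hC'.1 none⟩, ⟨sqNorm_ov _ _, ?_⟩, ?_, ?_⟩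
      · show dotInt xS.1 (ov C' none) = -8
        rw [dot_xS, ov_at, ov_at, if_pos rfl, if_pos hnC',
          if_neg (show (some 0 : GolayPt) ≠ none by decide), if_pos h0C']
        norm_num
      · show (16 : ℤ) ∣ dotInt wS.1 (ov C' none)
        rw [dot_wS, sum_ov, if_pos hnC', hC'.2, ov_at,
          if_neg (show (some 0 : GolayPt) ≠ none by decide), if_pos h0C']
        norm_num
      · show (16 : ℤ) ∣ dotInt (ov C' none) (ov C none)
        rw [dot_ov_same hnC' hnC, hsd]; norm_num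
    · by_cases hj0 : j = some 0
      · subst hj0
        have hmem : (none : GolayPt) ∈ C ∧ (some 0 : GolayPt) ∈ C := by
          have v1 : ov C (some 0) none = if (none : GolayPt) ∈ C then 1 else -1 := by
            rw [ov_at, if_neg (show (none : GolayPt) ≠ some 0 by decide)]
          have v2 : ov C (some 0) (some 0) = if (some 0 : GolayPt) ∈ C then -3 else 3 := by
            rw [ov_at, if_pos rfl]
          rw [v1, v2] at hsum2
          by_cases a1 : (none : GolayPt) ∈ C <;> by_cases a2 : (some 0 : GolayPt) ∈ C <;>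
            simp only [a1, a2, if_true, if_false] at hsum2 <;> first | omega | exact ⟨a1, a2⟩
        obtain ⟨hnC, h0C⟩ := hmem
        have v3 : ov C (some 0) (some 0) = -3 := by
          rw [ov_at, if_pos rfl, if_pos h0C]
        rw [v3, if_pos h0C] at hbad
        have hc12 : C.card = 12 := by omega
        obtain ⟨C', hC', hnC', h0C', hsd⟩ := exists_octad_dodecad hC hc12 hpq0 hnC h0C
        refine ⟨⟨ov C' (some 0), ov_mem hC'.1 _⟩, ⟨sqNorm_ov _ _, ?_⟩, ?_, ?_⟩
        · show dotInt xS.1 (ov C' (some 0)) = -8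
          rw [dot_xS, ov_at, ov_at, if_neg (show (none : GolayPt) ≠ some 0 by decide),
            if_pos hnC', if_pos rfl, if_pos h0C']
          norm_num
        · show (16 : ℤ) ∣ dotInt wS.1 (ov C' (some 0))
          rw [dot_wS, sum_ov, if_pos h0C', hC'.2, ov_at, if_pos rfl, if_pos h0C']
          norm_num
        · show (16 : ℤ) ∣ dotInt (ov C' (some 0)) (ov C (some 0))
          rw [dot_ov_same h0C' h0C, hsd]; norm_num
      · -- `j` is neither of the two special points
        have hmem : (none : GolayPt) ∉ C ∧ (some 0 : GolayPt) ∉ C := by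
          have v1 : ov C j none = if (none : GolayPt) ∈ C then 1 else -1 := by
            rw [ov_at, if_neg (Ne.symm hjn)]
          have v2 : ov C j (some 0) = if (some 0 : GolayPt) ∈ C then 1 else -1 := by
            rw [ov_at, if_neg (Ne.symm hj0)]
          rw [v1, v2] at hsum2
          by_cases a1 : (none : GolayPt) ∈ C <;> by_cases a2 : (some 0 : GolayPt) ∈ C <;>
            simp only [a1, a2, if_true, if_false] at hsum2 <;> first | omega | exact ⟨a1, a2⟩
        obtain ⟨hnC, h0C⟩ := hmem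
        have v3 : ov C j (some 0) = -1 := by
          rw [ov_at, if_neg (Ne.symm hj0), if_neg h0C]
        rw [v3] at hbad
        by_cases hjC : j ∈ C
        · rw [if_pos hjC] at hbad
          have hc : C.card ≤ 16 := by omega
          have hlt : (insert none (insert (some 0) C)).card < 24 := by
            have h1 := Finset.card_insert_le (none : GolayPt) (insert (some 0) C)
            have h2 := Finset.card_insert_le (some 0 : GolayPt) C
            omega
          obtain ⟨k, hk⟩ := exists_notMem_of_card_lt hlt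
          have hkn : k ≠ none := fun h => hk (by rw [h]; exact Finset.mem_insert_self _ _)
          have hk0 : k ≠ some 0 := fun h => hk (by
            rw [h]; exact Finset.mem_insert_of_mem (Finset.mem_insert_self _ _))
          have hkC : k ∉ C := fun h => hk
            (Finset.mem_insert_of_mem (Finset.mem_insert_of_mem h))
          have hjk : j ≠ k := fun h => hkC (by rw [← h]; exact hjC)
          refine path_P44 hw1' hbad0 hjk hjn hj0 hkn hk0 (Or.inr ?_)
          show ov C j j + ov C j k = -4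
          rw [ov_at, ov_at, if_pos rfl, if_pos hjC, if_neg (Ne.symm hjk), if_neg hkC]
          norm_num
        · rw [if_neg hjC] at hbad
          have hc12 : C.card = 12 := by omega
          obtain ⟨k, hkC⟩ : C.Nonempty := by rw [← Finset.card_pos, hc12]; norm_num
          have hkn : k ≠ none := fun h => hnC (by rw [← h]; exact hkC)
          have hk0 : k ≠ some 0 := fun h => h0C (by rw [← h]; exact hkC)
          have hjk : j ≠ k := fun h => hjC (by rw [h]; exact hkC)
          refine path_P44 hw1' hbad0 hjk hjn hj0 hkn hk0 (Or.inl ?_)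
          show ov C j j + ov C j k = 4
          rw [ov_at, ov_at, if_pos rfl, if_neg hjC, if_neg (Ne.symm hjk), if_pos hkC]
          norm_num

/-! ### a configuration of five vectors -/

theorem svO_mem_Om2 {T : Finset GolayPt} (hT : T ⊆ O0) (hn : (none : GolayPt) ∈ T)
    (hev : Even T.card) :
    (⟨sv 2 O0 T, sv2_mem O0_spec.1 hT hev⟩ : leechLattice) ∈ Om2 := by
  refine ⟨?_, ?_⟩
  · show sqNorm (sv 2 O0 T) = 32
    rw [sqNorm_sv 2 hT, O0_spec.1.2]; norm_num
  · show dotInt xS.1 (sv 2 O0 T) = -8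
    rw [dot_xS, sv_at, sv_at, if_pos hn, if_neg (fun h => O0_spec.2.2 (hT h)),
      if_neg O0_spec.2.2]
    norm_num

theorem dot_sv_nested {O T T' : Finset GolayPt} (hTT : T ⊆ T') (hT' : T' ⊆ O) :
    dotInt (sv 2 O T) (sv 2 O T') =
      4 * (O.card : ℤ) - 8 * ((T'.card : ℤ) - (T.card : ℤ)) := by
  classical
  rw [dot_sv2_same (hTT.trans hT') hT']
  have : (T \ T') ∪ (T' \ T) = T' \ T := by
    rw [Finset.sdiff_eq_empty_iff_subset.2 hTT, Finset.empty_union]
  rw [this, Finset.card_sdiff_of_subset hTT, Nat.cast_sub (Finset.card_le_card hTT)]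

theorem chain_vectors : ∃ w1 w2 w3 w4 w6 : leechLattice,
    w1 ∈ Om2 ∧ w2 ∈ Om2 ∧ w3 ∈ Om2 ∧ w4 ∈ Om2 ∧ w6 ∈ Om2 ∧
    dotInt w1.1 w2.1 = 16 ∧ dotInt w2.1 w3.1 = 16 ∧ dotInt w3.1 w4.1 = 16 ∧
    dotInt w1.1 w3.1 = 0 ∧ dotInt w1.1 w4.1 = -16 ∧
    dotInt w3.1 w6.1 = 0 ∧ dotInt w4.1 w6.1 = -16 ∧ dotInt w1.1 w6.1 = 16 := by
  classical
  obtain ⟨hO, hnO, h0O⟩ := O0_spec
  have hO8 : O0.card = 8 := hO.2
  have c7 : 1 < (O0.erase none).card := by rw [Finset.card_erase_of_mem hnO, hO8]; norm_num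
  obtain ⟨p, hp, q, hq, hpq⟩ := Finset.one_lt_card.1 c7
  obtain ⟨hpn, hpO⟩ := Finset.mem_erase.1 hp
  obtain ⟨hqn, hqO⟩ := Finset.mem_erase.1 hq
  have hT1c : ({none, p} : Finset GolayPt).card = 2 := Finset.card_pair (Ne.symm hpn)
  have hT6c : ({none, q} : Finset GolayPt).card = 2 := Finset.card_pair (Ne.symm hqn)
  have hT1O : ({none, p} : Finset GolayPt) ⊆ O0 := by
    intro i hi
    rcases Finset.mem_insert.1 hi with rfl | hi
    · exact hnO
    · rw [Finset.mem_singleton.1 hi]; exact hpO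
  have hT6O : ({none, q} : Finset GolayPt) ⊆ O0 := by
    intro i hi
    rcases Finset.mem_insert.1 hi with rfl | hi
    · exact hnO
    · rw [Finset.mem_singleton.1 hi]; exact hqO
  have hn1 : (none : GolayPt) ∈ ({none, p} : Finset GolayPt) := Finset.mem_insert_self _ _
  have hn6 : (none : GolayPt) ∈ ({none, q} : Finset GolayPt) := Finset.mem_insert_self _ _
  have hU : ({none, p} : Finset GolayPt) ∪ {none, q} ⊆ O0 := Finset.union_subset hT1O hT6O
  have hUc : (({none, p} : Finset GolayPt) ∪ {none, q}).card ≤ 4 := by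
    have := Finset.card_union_le ({none, p} : Finset GolayPt) {none, q}
    rw [hT1c, hT6c] at this
    exact this
  obtain ⟨T2, hU2, h2O, hT2c⟩ := Finset.exists_subsuperset_card_eq hU hUc
    (by rw [hO8]; norm_num : 4 ≤ O0.card)
  obtain ⟨T3, h23, h3O, hT3c⟩ := Finset.exists_subsuperset_card_eq h2O
    (by rw [hT2c]; norm_num : T2.card ≤ 6) (by rw [hO8]; norm_num : 6 ≤ O0.card)
  have h12 : ({none, p} : Finset GolayPt) ⊆ T2 := Finset.subset_union_left.trans hU2
  have h62 : ({none, q} : Finset GolayPt) ⊆ T2 := Finset.subset_union_right.trans hU2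
  have h13 := h12.trans h23
  have h63 := h62.trans h23
  have hOO : O0 ⊆ O0 := Finset.Subset.refl _
  -- the non-nested pair
  have hsd : ((({none, p} : Finset GolayPt) \ {none, q}) ∪
      (({none, q} : Finset GolayPt) \ {none, p})).card = 2 := by
    have hcf := card_flip ({none, p} : Finset GolayPt) {none, q}
    rw [hT1c, hT6c] at hcf
    have hge : 1 ≤ (({none, p} : Finset GolayPt) ∩ {none, q}).card := by
      rw [Nat.succ_le_iff, Finset.card_pos]
      exact ⟨none, Finset.mem_inter.2 ⟨hn1, hn6⟩⟩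
    have hle : (({none, p} : Finset GolayPt) ∩ {none, q}).card ≤ 1 := by
      have hsub : (({none, p} : Finset GolayPt) ∩ {none, q}) ⊆
          ({none, p} : Finset GolayPt).erase p := by
        intro i hi
        obtain ⟨hi1, hi2⟩ := Finset.mem_inter.1 hi
        refine Finset.mem_erase.2 ⟨?_, hi1⟩
        rintro rfl
        rcases Finset.mem_insert.1 hi2 with h | h
        · exact hpn h
        · exact hpq (Finset.mem_singleton.1 h)
      have := Finset.card_le_card hsub
      rw [Finset.card_erase_of_mem (by simp), hT1c] at this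
      exact this
    omega
  refine ⟨⟨sv 2 O0 {none, p}, sv2_mem hO hT1O ⟨1, hT1c⟩⟩,
    ⟨sv 2 O0 T2, sv2_mem hO h2O ⟨2, hT2c⟩⟩,
    ⟨sv 2 O0 T3, sv2_mem hO h3O ⟨3, hT3c⟩⟩,
    ⟨sv 2 O0 O0, sv2_mem hO hOO ⟨4, hO8⟩⟩,
    ⟨sv 2 O0 {none, q}, sv2_mem hO hT6O ⟨1, hT6c⟩⟩,
    svO_mem_Om2 hT1O hn1 ⟨1, hT1c⟩, svO_mem_Om2 h2O (h12 hn1) ⟨2, hT2c⟩,
    svO_mem_Om2 h3O (h13 hn1) ⟨3, hT3c⟩,
    svO_mem_Om2 hOO hnO ⟨4, hO8⟩, svO_mem_Om2 hT6O hn6 ⟨1, hT6c⟩, ?_, ?_, ?_, ?_, ?_, ?_, ?_, ?_⟩
  · show dotInt (sv 2 O0 {none, p}) (sv 2 O0 T2) = 16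
    rw [dot_sv_nested h12 h2O, hO8, hT2c, hT1c]; norm_num
  · show dotInt (sv 2 O0 T2) (sv 2 O0 T3) = 16
    rw [dot_sv_nested h23 h3O, hO8, hT2c, hT3c]; norm_num
  · show dotInt (sv 2 O0 T3) (sv 2 O0 O0) = 16
    rw [dot_sv_nested h3O hOO, hO8, hT3c]; norm_num
  · show dotInt (sv 2 O0 {none, p}) (sv 2 O0 T3) = 0
    rw [dot_sv_nested h13 h3O, hO8, hT3c, hT1c]; norm_num
  · show dotInt (sv 2 O0 {none, p}) (sv 2 O0 O0) = -16
    rw [dot_sv_nested hT1O hOO, hO8, hT1c]; norm_num
  · show dotInt (sv 2 O0 T3) (sv 2 O0 {none, q}) = 0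
    rw [dotInt_comm, dot_sv_nested h63 h3O, hO8, hT3c, hT6c]; norm_num
  · show dotInt (sv 2 O0 O0) (sv 2 O0 {none, q}) = -16
    rw [dotInt_comm, dot_sv_nested hT6O hOO, hO8, hT6c]; norm_num
  · show dotInt (sv 2 O0 {none, p}) (sv 2 O0 {none, q}) = 16
    rw [dot_sv2_same hT1O hT6O, hO8, hsd]; norm_num

end Cfsg.Agent.Lib.Helper3
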