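import Mathlib
import Cfsg.Agent.Lib.Helper3.Co3A

/-!
Helper library (helper3): simplicity of the stabiliser of the standard vector `(5,1^23)` of sum
of squares `48`.
-/

set_option autoImplicit false

namespace Cfsg.Agent.Lib.Helper3

open Cfsg Cfsg.Agent.Lib.Helper21 MulAction
open scoped Pointwise

theorem vS_norm : sqNorm vS.1 = 48 := sqNorm_p5 none

theorem dot_vS (y : GolayPt → ℤ) : dotInt vS.1 y = (∑ i, y i) + 4 * y none := dot_p5 none y

/-- `4 e_∞ + 4 e_j`, or `0` for `j = ∞` -/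
noncomputable def A3 (j : GolayPt) : leechLattice :=
  if h : j = none then 0 else ⟨P44 none j, P44_mem (Ne.symm h)⟩

theorem A3_val {j : GolayPt} (h : j ≠ none) : (A3 j).1 = P44 none j := by
  unfold A3; rw [dif_neg h]

theorem sum_P44 {a b : GolayPt} (hab : a ≠ b) : ∑ i, P44 a b i = 8 := by
  rw [P44_eq_sv, sum_sv 4 (Finset.empty_subset _), Finset.card_pair hab]; norm_num

theorem A3_mem {j : GolayPt} (h : j ≠ none) : A3 j ∈ Om3 vS := by
  rw [mem_Om3_iff vS vS_norm, A3_val h]
  refine ⟨sqNorm_P44 (Ne.symm h), ?_⟩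
  rw [dot_vS, sum_P44 (Ne.symm h)]
  unfold P44; simp

theorem dot_A3 {j k : GolayPt} (hj : j ≠ none) (hk : k ≠ none) (hjk : j ≠ k) :
    dotInt (A3 j).1 (A3 k).1 = 16 := by
  rw [A3_val hj, A3_val hk, dot_P44 (Ne.symm hj)]
  unfold P44
  simp [hj, hjk]

theorem xS_eq_A3 : xS = A3 (some 0) := by
  apply Subtype.ext
  rw [A3_val (by decide)]; rfl

theorem xS_mem : xS ∈ Om3 vS := by rw [xS_eq_A3]; exact A3_mem (by decide)

theorem exists_O2 : ∃ O ∈ octads, (none : GolayPt) ∈ O ∧ (some 0 : GolayPt) ∈ O ∧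
    (some 1 : GolayPt) ∉ O := by
  classical
  by_contra hcon
  push Not at hcon
  have h77 := (lam_5_8_24 card_golayPt octads_steiner {(none : GolayPt), some 0}).2.2.1
    (Finset.card_pair hpq0)
  have h21 := (lam_5_8_24 card_golayPt octads_steiner {(none : GolayPt), some 0, some 1}).2.2.2.1
    (by decide)
  have hsub : (blocksFinset octads).filter ({(none : GolayPt), some 0} ⊆ ·) ⊆
      (blocksFinset octads).filter ({(none : GolayPt), some 0, some 1} ⊆ ·) := by
    intro O hO
    rw [Finset.mem_filter] at hO ⊢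
    refine ⟨hO.1, ?_⟩
    have h1 : (none : GolayPt) ∈ O := hO.2 (by simp)
    have h2 : (some 0 : GolayPt) ∈ O := hO.2 (by simp)
    have h3 := hcon O (mem_blocksFinset.1 hO.1) h1 h2
    intro z hz
    simp only [Finset.mem_insert, Finset.mem_singleton] at hz
    rcases hz with rfl | rfl | rfl <;> assumption
  have := Finset.card_le_card hsub
  omega

noncomputable def O2 : Finset GolayPt := Classical.choose exists_O2

theorem O2_spec : O2 ∈ octads ∧ (none : GolayPt) ∈ O2 ∧ (some 0 : GolayPt) ∈ O2 ∧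
    (some 1 : GolayPt) ∉ O2 := Classical.choose_spec exists_O2

/-- `2` on an octad through `∞`, `0` but not `1` -/
noncomputable def yO : leechLattice :=
  ⟨sv 2 O2 ∅, sv2_mem O2_spec.1 (Finset.empty_subset _) (by simp)⟩

theorem yO_apply (i : GolayPt) : yO.1 i = if i ∈ O2 then 2 else 0 := by
  show sv 2 O2 ∅ i = _
  unfold sv; simp

theorem yO_mem : yO ∈ Om3 vS := by
  rw [mem_Om3_iff vS vS_norm]
  refine ⟨?_, ?_⟩
  · show sqNorm (sv 2 O2 ∅) = 32
    rw [sqNorm_sv 2 (Finset.empty_subset _), O2_spec.1.2]; norm_num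
  · rw [dot_vS, yO_apply, if_pos O2_spec.2.1]
    show (∑ i, sv 2 O2 ∅ i) + 4 * 2 = 24
    rw [sum_sv 2 (Finset.empty_subset _), O2_spec.1.2]; norm_num

theorem dot_xS_yO : dotInt xS.1 yO.1 = 16 := by
  rw [dot_xS, yO_apply, yO_apply, if_pos O2_spec.2.1, if_pos O2_spec.2.2.1]; norm_num

theorem dot_A1_yO : dotInt (A3 (some 1)).1 yO.1 = 8 := by
  rw [A3_val (by decide), dot_P44 (by decide), yO_apply, yO_apply, if_pos O2_spec.2.1,
    if_neg O2_spec.2.2.2]; norm_num

theorem dot_xS_A3 {j : GolayPt} (hj : j ≠ none) (hj0 : j ≠ some 0) :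
    dotInt xS.1 (A3 j).1 = 16 := by
  rw [xS_eq_A3]; exact dot_A3 (by decide) hj (Ne.symm hj0)

theorem dot_sub_right3 {a : leechLattice} (b : leechLattice) (ha : a ∈ Om3 vS) :
    dotInt a.1 (vS - b).1 = 24 - dotInt a.1 b.1 := by
  show dotInt a.1 (vS.1 - b.1) = _
  rw [dotInt_sub_right, dotInt_comm a.1 vS.1, ((mem_Om3_iff vS vS_norm a).1 ha).2]

theorem dot_sub_sub3 {a b : leechLattice} (ha : a ∈ Om3 vS) (hb : b ∈ Om3 vS) :
    dotInt (vS - a).1 (vS - b).1 = dotInt a.1 b.1 := by
  show dotInt (vS.1 - a.1) (vS.1 - b.1) = _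
  rw [dotInt_sub_left, dotInt_sub_right, dotInt_sub_right, dotInt_self, vS_norm,
    dotInt_comm a.1 vS.1, ((mem_Om3_iff vS vS_norm a).1 ha).2,
    ((mem_Om3_iff vS vS_norm b).1 hb).2]
  ring

/-! ### the relation `9 (8 e_∞) + 4 u = Σ_j (4 e_∞ + 4 e_j)` -/

theorem rel9 : 9 • e8 none + 4 • vS = ∑ j ∈ Finset.univ.erase (none : GolayPt), A3 j := by
  apply Subtype.ext; funext i
  show coordHom i (9 • e8 none + 4 • vS) = coordHom i (∑ j ∈ Finset.univ.erase none, A3 j)
  rw [map_add, map_nsmul, map_nsmul, map_sum]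
  have h1 : ∀ j ∈ Finset.univ.erase (none : GolayPt), coordHom i (A3 j) =
      if i = none then 4 else if i = j then 4 else 0 := by
    intro j hj
    rw [coordHom_apply, A3_val (Finset.mem_erase.1 hj).1]
    unfold P44
    by_cases h : i = none
    · simp [h]
    · simp [h]
  rw [Finset.sum_congr rfl h1, coordHom_apply, coordHom_apply, e8_apply]
  have hv : vS.1 i = if i = none then 5 else 1 := rfl
  rw [hv]
  by_cases h : i = none
  · simp only [h, if_true]
    rw [Finset.sum_const, Finset.card_erase_of_mem (Finset.mem_univ _), Finset.card_univ,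
      card_golayPt]
    norm_num
  · simp only [h, if_false]
    rw [Finset.sum_ite_eq, if_pos (Finset.mem_erase.2 ⟨h, Finset.mem_univ _⟩)]
    norm_num

/-- no element of the stabiliser of `u` maps every point `x` of the `552`-set to `u - x` -/
theorem no_flip (k : ↥Co0) (ku : k • vS = vS) (hk : ∀ x ∈ Om3 vS, k • x = vS - x) : False := by
  have h1 := congrArg (fun t => coordHom none (co0Hom k.1 k.2 t)) rel9
  simp only [map_add, map_nsmul, map_sum] at h1
  have h2 : ∀ j ∈ Finset.univ.erase (none : GolayPt),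
      coordHom none (co0Hom k.1 k.2 (A3 j)) = 1 := by
    intro j hj
    have hj' := (Finset.mem_erase.1 hj).1
    have e : co0Hom k.1 k.2 (A3 j) = vS - A3 j := hk _ (A3_mem hj')
    rw [e, coordHom_apply]
    show vS.1 none - (A3 j).1 none = 1
    rw [A3_val hj']
    show p5 none none - P44 none j none = 1
    unfold p5 P44; simp
  have h3 : co0Hom k.1 k.2 vS = vS := ku
  rw [Finset.sum_congr rfl h2, h3, Finset.sum_const, Finset.card_erase_of_mem (Finset.mem_univ _),
    Finset.card_univ, card_golayPt, coordHom_apply, coordHom_apply] at h1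
  have hv : vS.1 none = 5 := rfl
  rw [hv] at h1
  simp only [smul_eq_mul, nsmul_eq_mul] at h1
  omega

end Cfsg.Agent.Lib.Helper3
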