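import Mathlib
import Cfsg.Agent.Lib.Helper3.Co3B

/-!
Helper library (helper3): normal subgroups of the stabiliser of `(5,1^23)`; simplicity.
-/

set_option autoImplicit false

namespace Cfsg.Agent.Lib.Helper3

open Cfsg Cfsg.Agent.Lib.Helper21 MulAction
open scoped Pointwise

section
variable (K : Subgroup ↥(stabilizer ↥Co0 vS)) [hK : K.Normal]

theorem dich3 (p : leechLattice) (hp : p ∈ Om3 vS) :
    (X3 vS p ⊆ orbit K p ∨ Disjoint (X3 vS p) (orbit K p)) ∧
      (X3' vS p ⊆ orbit K p ∨ Disjoint (X3' vS p) (orbit K p)) :=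
  ⟨subset_or_disjoint_of_trans (X3_trans vS vS_norm hp)
      (fun _ hh y hy => smul_mem_orbit_of_normal K hh hy),
    subset_or_disjoint_of_trans (X3'_trans vS vS_norm hp)
      (fun _ hh y hy => smul_mem_orbit_of_normal K hh hy)⟩

theorem A1_mem_X3 : A3 (some 1) ∈ X3 vS xS :=
  ⟨A3_mem (by decide), dot_xS_A3 (by decide) (by decide)⟩

theorem yO_mem_X3 : yO ∈ X3 vS xS := ⟨yO_mem, dot_xS_yO⟩

theorem claimA (h1 : X3 vS xS ⊆ orbit K xS) (h2 : Disjoint (X3' vS xS) (orbit K xS)) : False := by
  have hx := A1_mem_X3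
  have hy := yO_mem_X3
  have hzO : vS - A3 (some 3) ∈ Om3 vS := sub_mem_Om3 vS (A3_mem (by decide))
  have hz : vS - A3 (some 3) ∈ X3' vS xS := by
    refine ⟨hzO, ?_⟩
    rw [dot_sub_right3 _ xS_mem, dot_xS_A3 (by decide) (by decide)]; norm_num
  have hxz : dotInt (A3 (some 1)).1 (vS - A3 (some 3)).1 = 8 := by
    rw [dot_sub_right3 _ (A3_mem (by decide)), dot_A3 (by decide) (by decide) (by decide)]
    norm_num
  have e : orbit K (A3 (some 1)) = orbit K xS := orbit_eq_iff.2 (h1 hx)
  have hy' : yO ∈ X3' vS (A3 (some 1)) := ⟨hy.1, dot_A1_yO⟩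
  rcases (dich3 K (A3 (some 1)) (A3_mem (by decide))).2 with h | h
  · have hz' : vS - A3 (some 3) ∈ X3' vS (A3 (some 1)) := ⟨hzO, hxz⟩
    have := h hz'
    rw [e] at this
    exact Set.disjoint_left.1 h2 hz this
  · have : yO ∈ orbit K (A3 (some 1)) := by rw [e]; exact h1 hy
    exact Set.disjoint_left.1 h hy' this

theorem claimB (h1 : X3' vS xS ⊆ orbit K xS) (h2 : Disjoint (X3 vS xS) (orbit K xS)) : False := by
  have a1 : A3 (some 1) ∈ Om3 vS := A3_mem (by decide)
  have a2 : A3 (some 2) ∈ Om3 vS := A3_mem (by decide)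
  have hxO : vS - A3 (some 1) ∈ Om3 vS := sub_mem_Om3 vS a1
  have hyO : vS - A3 (some 2) ∈ Om3 vS := sub_mem_Om3 vS a2
  have hx : vS - A3 (some 1) ∈ X3' vS xS := by
    refine ⟨hxO, ?_⟩
    rw [dot_sub_right3 _ xS_mem, dot_xS_A3 (by decide) (by decide)]; norm_num
  have hy : vS - A3 (some 2) ∈ X3' vS xS := by
    refine ⟨hyO, ?_⟩
    rw [dot_sub_right3 _ xS_mem, dot_xS_A3 (by decide) (by decide)]; norm_num
  have hxy : dotInt (vS - A3 (some 1)).1 (vS - A3 (some 2)).1 = 16 := by
    rw [dot_sub_sub3 a1 a2, dot_A3 (by decide) (by decide) (by decide)]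
  have hxz : dotInt (vS - A3 (some 1)).1 yO.1 = 16 := by
    rw [dotInt_comm, dot_sub_right3 _ yO_mem, dotInt_comm, dot_A1_yO]; norm_num
  have e : orbit K (vS - A3 (some 1)) = orbit K xS := orbit_eq_iff.2 (h1 hx)
  have hy' : vS - A3 (some 2) ∈ X3 vS (vS - A3 (some 1)) := ⟨hyO, hxy⟩
  rcases (dich3 K (vS - A3 (some 1)) hxO).1 with h | h
  · have hz' : yO ∈ X3 vS (vS - A3 (some 1)) := ⟨yO_mem, hxz⟩
    have := h hz'
    rw [e] at this
    exact Set.disjoint_left.1 h2 yO_mem_X3 this
  · have : vS - A3 (some 2) ∈ orbit K (vS - A3 (some 1)) := by rw [e]; exact h1 hy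
    exact Set.disjoint_left.1 h hy' this

theorem xS_ne_sub : xS ≠ vS - xS := by
  intro h
  have := congrArg (fun t : leechLattice => t.1 none) h
  have e1 : xS.1 none = 4 := by show P44 none (some 0) none = 4; unfold P44; simp
  have e2 : (vS - xS).1 none = 1 := by
    show p5 none none - P44 none (some 0) none = 1
    unfold p5 P44; simp
  simp only [e1, e2] at this
  norm_num at this

theorem claimC (h1 : Disjoint (X3 vS xS) (orbit K xS)) (h2 : Disjoint (X3' vS xS) (orbit K xS))
    (h3 : vS - xS ∈ orbit K xS) : False := by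
  -- the orbit of `K` through `xS`
  have hB : orbit K xS = {xS, vS - xS} := by
    apply Set.Subset.antisymm
    · rintro y hy
      have hyO : y ∈ Om3 vS := by
        obtain ⟨k, rfl⟩ := hy
        exact smul_mem_Om3 vS vS_norm k.1.1 (mem_stabilizer_iff.1 k.1.2) xS_mem
      rcases Om3_cases vS vS_norm xS_mem hyO with h | h | h | h
      · left; exact h
      · right; exact h
      · exact absurd hy (Set.disjoint_left.1 h1 h)
      · exact absurd hy (Set.disjoint_left.1 h2 h)
    · rintro y (rfl | rfl)
      · exact mem_orbit_self _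
      · exact h3
  -- all orbits
  have hall : ∀ k : ↥K, ∀ x ∈ Om3 vS, k • x = x ∨ k • x = vS - x := by
    intro k x hx
    rw [← Om3_orbit vS vS_norm xS xS_mem] at hx
    obtain ⟨g, rfl⟩ := hx
    have hm : k • (g • xS) ∈ orbit K (g • xS) := ⟨k, rfl⟩
    rw [← smul_orbit_eq_orbit_smul K xS g, hB] at hm
    obtain ⟨z, hz, e⟩ := hm
    have e' : g • z = k • (g • xS) := e
    have gu : g.1 • vS = vS := mem_stabilizer_iff.1 g.2
    rcases hz with rfl | rfl
    · left; exact e'.symm
    · right
      rw [← e']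
      show g.1 • (vS - xS) = vS - g.1 • xS
      rw [co0_sub, gu]
  -- fix all or flip all
  have hflip : ∀ k : ↥K, k • xS = vS - xS → ∀ x ∈ Om3 vS, k • x = vS - x := by
    intro k hk x hx
    rcases hall k x hx with h | h
    · exfalso
      have hd := co0_dot k.1.1.2 xS x
      have a1 : k.1.1.1 xS = vS - xS := hk
      have a2 : k.1.1.1 x = x := h
      rw [a1, a2, dotInt_comm, dot_sub_right3 _ hx, dotInt_comm] at hd
      have := (dot_vals_min xS_mem.1 hx.1).1
      simp only [Finset.mem_insert, Finset.mem_singleton] at this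
      omega
    · exact h
  obtain ⟨k, hk⟩ := h3
  have hk' : k • xS = vS - xS := hk
  exact no_flip k.1.1 (mem_stabilizer_iff.1 k.1.2) (hflip k hk')

/-- the orbit of a normal subgroup through `xS` is a point or everything -/
theorem orbit_dich3 : orbit K xS = {xS} ∨ orbit K xS = orbit ↥(stabilizer ↥Co0 vS) xS := by
  have hsubO : orbit K xS ⊆ Om3 vS := by
    rintro y ⟨k, rfl⟩
    exact smul_mem_Om3 vS vS_norm k.1.1 (mem_stabilizer_iff.1 k.1.2) xS_mem
  rcases (dich3 K xS xS_mem).1 with a | a <;> rcases (dich3 K xS xS_mem).2 with b | b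
  · right
    rw [Om3_orbit vS vS_norm xS xS_mem]
    apply Set.Subset.antisymm hsubO
    intro y hy
    rcases Om3_cases vS vS_norm xS_mem hy with h | h | h | h
    · rw [h]; exact mem_orbit_self _
    · by_contra hcon
      rw [h] at hcon
      -- the orbit of `vS - xS` is a singleton
      have h1 : orbit K (vS - xS) = {vS - xS} := by
        apply Set.Subset.antisymm
        · rintro z hz
          have hzO : z ∈ Om3 vS := by
            obtain ⟨k, rfl⟩ := hz
            exact smul_mem_Om3 vS vS_norm k.1.1 (mem_stabilizer_iff.1 k.1.2)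
              (sub_mem_Om3 vS xS_mem)
          have hzB : z ∉ orbit K xS := by
            intro hzB
            have e1 : orbit K z = orbit K xS := orbit_eq_iff.2 hzB
            have e2 : orbit K z = orbit K (vS - xS) := orbit_eq_iff.2 hz
            apply hcon
            rw [← e1, e2]; exact mem_orbit_self _
          rcases Om3_cases vS vS_norm xS_mem hzO with h' | h' | h' | h'
          · exact absurd (by rw [h']; exact mem_orbit_self _) hzB
          · exact h'
          · exact absurd (a h') hzB
          · exact absurd (b h') hzB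
        · rintro z rfl
          exact mem_orbit_self _
      obtain ⟨g, hg⟩ : vS - xS ∈ orbit ↥(stabilizer ↥Co0 vS) xS := by
        rw [Om3_orbit vS vS_norm xS xS_mem]; exact sub_mem_Om3 vS xS_mem
      have hg' : g • xS = vS - xS := hg
      have h2 := ncard_orbit_normal_smul K xS g
      rw [hg', h1, Set.ncard_singleton] at h2
      obtain ⟨z, hz⟩ := Set.ncard_eq_one.1 h2.symm
      have m1 : xS ∈ orbit K xS := mem_orbit_self _
      have m2 : A3 (some 1) ∈ orbit K xS := a A1_mem_X3
      rw [hz] at m1 m2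
      have e : A3 (some 1) = xS := m2.trans m1.symm
      have := A1_mem_X3.2
      rw [e, dotInt_self, xS_norm] at this
      norm_num at this
    · exact a h
    · exact b h
  · exact (claimA K a b).elim
  · exact (claimB K b a).elim
  · by_cases h3 : vS - xS ∈ orbit K xS
    · exact (claimC K a b h3).elim
    · left
      apply Set.Subset.antisymm
      · intro y hy
        rcases Om3_cases vS vS_norm xS_mem (hsubO hy) with h | h | h | h
        · exact h
        · exact absurd (h ▸ hy) h3
        · exact absurd hy (Set.disjoint_left.1 a h)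
        · exact absurd hy (Set.disjoint_left.1 b h)
      · rintro y rfl
        exact mem_orbit_self _

end

end Cfsg.Agent.Lib.Helper3
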