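import Mathlib
import Cfsg.Agent.Lib.Helper3.Co3C

/-!
Helper library (helper3): a normal subgroup of order `552` contains a normal subgroup of the
whole group of order `23` or `24` (Sylow and Burnside's transfer theorem); simplicity of the
third Conway group.
-/

set_option autoImplicit false

namespace Cfsg.Agent.Lib.Helper3

open Cfsg Cfsg.Agent.Lib.Helper21 MulAction

theorem factorization_552_23 : (552 : ℕ).factorization 23 = 1 := by
  have : (552 : ℕ) = 23 ^ 1 * 24 := by norm_num
  rw [this, Nat.factorization_mul (by norm_num) (by norm_num),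
    Nat.Prime.factorization_pow (by norm_num : Nat.Prime 23), Finsupp.add_apply,
    Nat.factorization_eq_zero_of_not_dvd (by norm_num : ¬ 23 ∣ 24)]
  simp

theorem exists_normal_of_card_552 {G : Type*} [Group G] [Finite G] (K : Subgroup G)
    [hK : K.Normal] (h : Nat.card K = 552) :
    ∃ N : Subgroup G, N.Normal ∧ (Nat.card N = 23 ∨ Nat.card N = 24) := by
  have : Fact (Nat.Prime 23) := ⟨by norm_num⟩
  obtain P : Sylow 23 K := default
  have hPc : Nat.card P = 23 := by
    rw [P.card_eq_multiplicity, h, factorization_552_23]; norm_num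
  have hidx : (P : Subgroup K).index = 24 := by
    have := Subgroup.card_mul_index (P : Subgroup K)
    rw [hPc, h] at this
    omega
  have h1 := card_sylow_modEq_one 23 K
  have h2 := P.card_dvd_index
  rw [hidx] at h2
  have h3 : Nat.card (Sylow 23 K) = 1 ∨ Nat.card (Sylow 23 K) = 24 := by
    have hle := Nat.le_of_dvd (by norm_num) h2
    unfold Nat.ModEq at h1
    interval_cases hc : Nat.card (Sylow 23 K) <;> omega
  rcases h3 with h3 | h3
  · have : Subsingleton (Sylow 23 K) := (Nat.card_eq_one_iff_unique.1 h3).1
    have hchar : (P : Subgroup K).Characteristic := inferInstance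
    have hPn : ((P : Subgroup K).map K.subtype).Normal := inferInstance
    refine ⟨_, hPn, Or.inl ?_⟩
    rw [Subgroup.card_map_of_injective K.subtype_injective]
    exact hPc
  · have hNi : (Subgroup.normalizer ((P : Subgroup K) : Set K)).index = 24 := by
      have := P.card_eq_index_normalizer
      rw [h3] at this
      exact this.symm
    have hNc : Nat.card (Subgroup.normalizer ((P : Subgroup K) : Set K)) = 23 := by
      have := Subgroup.card_mul_index (Subgroup.normalizer ((P : Subgroup K) : Set K))
      rw [hNi, h] at this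
      omega
    have hNP : (P : Subgroup K) = Subgroup.normalizer ((P : Subgroup K) : Set K) := by
      apply Subgroup.eq_of_le_of_card_ge Subgroup.le_normalizer
      rw [hNc, hPc]
    have hcyc : IsCyclic (P : Subgroup K) := isCyclic_of_prime_card hPc
    have hcomm : IsMulCommutative (P : Subgroup K) := inferInstance
    have hP : Subgroup.normalizer ((P : Subgroup K) : Set K) ≤
        Subgroup.centralizer ((P : Subgroup K) : Set K) := by
      rw [← hNP]
      intro a ha b hb
      have := hcomm.is_comm.comm ⟨a, ha⟩ ⟨b, hb⟩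
      have h' : a * b = b * a := congrArg Subtype.val this
      exact h'.symm
    have hcompl := MonoidHom.ker_transferSylow_isComplement' P hP
    have hQc : Nat.card (MonoidHom.transferSylow P hP).ker = 24 := by
      have := hcompl.card_mul_card
      rw [hPc, h] at this
      omega
    -- the kernel is the set of elements of order dividing 24
    have hchar : ∀ k : ↥K, k ∈ (MonoidHom.transferSylow P hP).ker ↔ k ^ 24 = 1 := by
      intro k
      constructor
      · intro hk
        have := pow_card_eq_one' (G := ↥(MonoidHom.transferSylow P hP).ker) (x := ⟨k, hk⟩)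
        rw [hQc] at this
        exact congrArg Subtype.val this
      · intro hk
        rw [MonoidHom.mem_ker]
        have e1 : (MonoidHom.transferSylow P hP k) ^ 24 = 1 := by rw [← map_pow, hk, map_one]
        have e2 : (MonoidHom.transferSylow P hP k) ^ 23 = 1 := by
          have := pow_card_eq_one' (G := ↥(P : Subgroup K)) (x := MonoidHom.transferSylow P hP k)
          rwa [hPc] at this
        have e3 : (MonoidHom.transferSylow P hP k) ^ 24 =
            (MonoidHom.transferSylow P hP k) ^ 23 * MonoidHom.transferSylow P hP k := pow_succ _ 23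
        rw [e1, e2, one_mul] at e3
        exact e3.symm
    refine ⟨(MonoidHom.transferSylow P hP).ker.map K.subtype, ⟨?_⟩, Or.inr ?_⟩
    · rintro n ⟨k, hk, rfl⟩ g
      have hk24 := (hchar k).1 hk
      refine ⟨⟨g * k.1 * g⁻¹, hK.conj_mem k.1 k.2 g⟩, ?_, rfl⟩
      rw [SetLike.mem_coe, hchar]
      apply Subtype.ext
      show (g * k.1 * g⁻¹) ^ 24 = 1
      rw [conj_pow]
      have : k.1 ^ 24 = 1 := congrArg Subtype.val hk24
      rw [this, mul_one, mul_inv_cancel]
    · rw [Subgroup.card_map_of_injective K.subtype_injective]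
      exact hQc

/-- the stabiliser of `(5,1^23)` is simple -/
theorem simple_Co3_std : IsSimpleGroup ↥(stabilizer ↥Co0 vS) := by
  have := finite_Co0'
  have hH := pointStab3 vS vS_norm xS xS_mem
  have hn : (orbit ↥(stabilizer ↥Co0 vS) xS).ncard = 552 := by
    rw [Om3_orbit vS vS_norm xS xS_mem, Om3_ncard vS vS_norm]
  have hmove : ∃ h : ↥(stabilizer ↥Co0 vS), h • xS = xS ∧
      ∃ g : ↥(stabilizer ↥Co0 vS), h • (g • xS) ≠ g • xS := by
    obtain ⟨h, hh, hhy⟩ := X3_trans vS vS_norm xS_mem _ A1_mem_X3 _ yO_mem_X3
    obtain ⟨g, hg⟩ : A3 (some 1) ∈ orbit ↥(stabilizer ↥Co0 vS) xS := by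
      rw [Om3_orbit vS vS_norm xS xS_mem]; exact A3_mem (by decide)
    have hg' : g • xS = A3 (some 1) := hg
    refine ⟨h, hh, g, ?_⟩
    rw [hg', hhy]
    intro e
    have := dot_A1_yO
    rw [e, dotInt_self, (A3_mem (by decide : (some 1 : GolayPt) ≠ none)).1] at this
    norm_num at this
  have tri : ∀ K : Subgroup ↥(stabilizer ↥Co0 vS), K.Normal →
      K = ⊥ ∨ K = ⊤ ∨ Nat.card K = 552 := by
    intro K hK
    have := normal_trichotomy K xS hH hmove (orbit_dich3 K)
    rwa [hn] at this
  have hcard := card_Co3 vS vS_norm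
  have : Nontrivial ↥(stabilizer ↥Co0 vS) := by
    apply (Finite.one_lt_card_iff_nontrivial).1
    rw [hcard]; norm_num
  refine ⟨fun K hK => ?_⟩
  rcases tri K hK with h | h | h
  · exact Or.inl h
  · exact Or.inr h
  · exfalso
    obtain ⟨N, hN, hc⟩ := exists_normal_of_card_552 K h
    rcases tri N hN with h' | h' | h'
    · rw [h', Subgroup.card_bot] at hc
      omega
    · rw [h', Subgroup.card_top, hcard] at hc
      omega
    · omega

/-- the stabiliser of a vector of sum of squares `48` is simple of order `495766656000` -/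
theorem isCo3_stab (u : leechLattice) (hu : sqNorm u.1 = 48) :
    IsSimpleGroup ↥(stabilizer ↥Co0 u) ∧ Nat.card ↥(stabilizer ↥Co0 u) = 495766656000 := by
  refine ⟨?_, card_Co3 u hu⟩
  obtain ⟨g, hg⟩ := Cfsg.Agent.S0401.result u vS hu vS_norm
  have e : ↥(stabilizer ↥Co0 u) ≃* ↥(stabilizer ↥Co0 vS) := stabilizerEquivStabilizer hg.symm
  have := simple_Co3_std
  exact e.isSimpleGroup

end Cfsg.Agent.Lib.Helper3
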