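import Mathlib
import Cfsg.Agent.Lib.Helper3.Co2E
import Cfsg.Agent.Lib.Helper3.Co3D

/-!
Helper library (helper3): the orbit of a normal subgroup of the stabiliser of `xS = (4,4,0^22)`
through a point of the `47104`-set is a point or everything; simplicity of the second Conway
group.
-/

set_option autoImplicit false

namespace Cfsg.Agent.Lib.Helper3

open Cfsg Cfsg.Agent.Lib.Helper21 MulAction

theorem smul_mem_Om2' (g : ↥(stabilizer ↥Co0 xS)) {w : leechLattice} (hw : w ∈ Om2) :
    g • w ∈ Om2 :=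
  smul_mem_Om2 g.1 (mem_stabilizer_iff.1 g.2) hw

/-- transitivity on the pairs with inner product `16`, `0` or `-16` -/
theorem pair_trans2 {c : ℤ} (hc : c = 16 ∨ c = 0 ∨ c = -16) {p q p' q' : leechLattice}
    (hp : p ∈ Om2) (hq : q ∈ Om2) (hp' : p' ∈ Om2) (hq' : q' ∈ Om2)
    (h : dotInt p.1 q.1 = c) (h' : dotInt p'.1 q'.1 = c) :
    ∃ g : ↥(stabilizer ↥Co0 xS), g • p = p' ∧ g • q = q' := by
  obtain ⟨g1, g1x, g1p⟩ := Om2_to_std hp
  obtain ⟨g2, g2x, g2p⟩ := Om2_to_std hp'
  have m1 : g1 • q ∈ cl2 wS c := by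
    refine ⟨smul_mem_Om2 g1 g1x hq, ?_⟩
    rw [← g1p]
    exact (co0_dot g1.2 p q).trans h
  have m2 : g2 • q' ∈ cl2 wS c := by
    refine ⟨smul_mem_Om2 g2 g2x hq', ?_⟩
    rw [← g2p]
    exact (co0_dot g2.2 p' q').trans h'
  obtain ⟨g3, g3x, g3w, g3q⟩ : ∃ g : ↥Co0, g • xS = xS ∧ g • wS = wS ∧ g • (g1 • q) = g2 • q' := by
    rcases hc with rfl | rfl | rfl
    · exact cl2_trans_16 _ m1 _ m2
    · exact cl2_trans_0 _ m1 _ m2
    · exact cl2_trans_m16 _ m1 _ m2
  refine ⟨⟨g2⁻¹ * g3 * g1, mem_stabilizer_iff.2 ?_⟩, ?_, ?_⟩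
  · rw [mul_smul, mul_smul, g1x, g3x, inv_smul_eq_iff, g2x]
  · show (g2⁻¹ * g3 * g1) • p = p'
    rw [mul_smul, mul_smul, g1p, g3w, inv_smul_eq_iff, g2p]
  · show (g2⁻¹ * g3 * g1) • q = q'
    rw [mul_smul, mul_smul, g3q, inv_smul_smul]

section
variable (K : Subgroup ↥(stabilizer ↥Co0 xS)) [hK : K.Normal]

/-- the orbit relation of a normal subgroup -/
def Rel2 (p q : leechLattice) : Prop := q ∈ orbit K p

omit hK in
theorem rel2_refl (p : leechLattice) : Rel2 K p p := mem_orbit_self p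

omit hK in
theorem rel2_symm {p q : leechLattice} (h : Rel2 K p q) : Rel2 K q p := by
  obtain ⟨k, rfl⟩ := h
  exact ⟨k⁻¹, inv_smul_smul k p⟩

omit hK in
theorem rel2_trans {p q r : leechLattice} (h1 : Rel2 K p q) (h2 : Rel2 K q r) : Rel2 K p r := by
  obtain ⟨k, rfl⟩ := h1
  obtain ⟨k', rfl⟩ := h2
  exact ⟨k' * k, mul_smul k' k p⟩

theorem rel2_smul {p q : leechLattice} (g : ↥(stabilizer ↥Co0 xS)) (h : Rel2 K p q) :
    Rel2 K (g • p) (g • q) := by
  obtain ⟨k, rfl⟩ := h
  refine ⟨⟨g * k.1 * g⁻¹, hK.conj_mem k.1 k.2 g⟩, ?_⟩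
  show (g * k.1 * g⁻¹) • (g • p) = g • (k.1 • p)
  rw [mul_smul, mul_smul, inv_smul_smul]

/-- all pairs with inner product `c` are related -/
def RelAll2 (c : ℤ) : Prop :=
  ∀ p q : leechLattice, p ∈ Om2 → q ∈ Om2 → dotInt p.1 q.1 = c → Rel2 K p q

theorem relAll2_of_pair {c : ℤ} (hc : c = 16 ∨ c = 0 ∨ c = -16) {p q : leechLattice}
    (hp : p ∈ Om2) (hq : q ∈ Om2) (h : dotInt p.1 q.1 = c) (hr : Rel2 K p q) : RelAll2 K c := by
  intro p' q' hp' hq' h'
  obtain ⟨g, rfl, rfl⟩ := pair_trans2 hc hp hq hp' hq' h h'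
  exact rel2_smul K g hr

theorem relAll2_all {c : ℤ} (hc : c = 16 ∨ c = 0 ∨ c = -16) (h : RelAll2 K c) :
    RelAll2 K 16 ∧ RelAll2 K 0 ∧ RelAll2 K (-16) := by
  obtain ⟨w1, w2, w3, w4, w6, m1, m2, m3, m4, m6, d12, d23, d34, d13, d14, d36, d46, d16⟩ :=
    chain_vectors
  have from16 : RelAll2 K 16 → RelAll2 K 16 ∧ RelAll2 K 0 ∧ RelAll2 K (-16) := by
    intro h16
    have r12 := h16 w1 w2 m1 m2 d12
    have r23 := h16 w2 w3 m2 m3 d23
    have r34 := h16 w3 w4 m3 m4 d34
    have r13 := rel2_trans K r12 r23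
    exact ⟨h16, relAll2_of_pair K (Or.inr (Or.inl rfl)) m1 m3 d13 r13,
      relAll2_of_pair K (Or.inr (Or.inr rfl)) m1 m4 d14 (rel2_trans K r13 r34)⟩
  rcases hc with rfl | rfl | rfl
  · exact from16 h
  · have r13 := h w1 w3 m1 m3 d13
    have r36 := h w3 w6 m3 m6 d36
    exact from16 (relAll2_of_pair K (Or.inl rfl) m1 m6 d16 (rel2_trans K r13 r36))
  · have r14 := h w1 w4 m1 m4 d14
    have r46 := h w4 w6 m4 m6 d46
    exact from16 (relAll2_of_pair K (Or.inl rfl) m1 m6 d16 (rel2_trans K r14 r46))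

omit hK in
theorem rel2_of_dvd (hall : RelAll2 K 16 ∧ RelAll2 K 0 ∧ RelAll2 K (-16)) {p q : leechLattice}
    (hp : p ∈ Om2) (hq : q ∈ Om2) (hd : (16 : ℤ) ∣ dotInt p.1 q.1) : Rel2 K p q := by
  obtain ⟨hv, h32⟩ := dot_vals_Om2 hp hq
  simp only [Finset.mem_insert, Finset.mem_singleton] at hv
  rcases hv with h | h | h | h | h | h
  · exact hall.2.2 p q hp hq h
  · rw [h] at hd; omega
  · exact hall.2.1 p q hp hq h
  · rw [h] at hd; omega
  · exact hall.1 p q hp hq h
  · rw [h32 h]; exact rel2_refl K p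

/-- a related pair with inner product `±8` gives a related pair with inner product `16`, `0`
or `-16` -/
theorem rel2_activate {w1 : leechLattice} (hw1 : w1 ∈ Om2) (hr : Rel2 K wS w1)
    (hbad : dotInt wS.1 w1.1 = 8 ∨ dotInt wS.1 w1.1 = -8) :
    ∃ c : ℤ, (c = 16 ∨ c = 0 ∨ c = -16) ∧ RelAll2 K c := by
  obtain ⟨σ, hn, h0, hne, hdvd⟩ := activation hw1 hbad
  obtain ⟨fx, fw, -⟩ := permHom_fix' σ hn h0
  let hG : ↥(stabilizer ↥Co0 xS) := ⟨permHom σ, mem_stabilizer_iff.2 fx⟩
  have hGw : hG • wS = wS := fw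
  have r1 : Rel2 K wS (hG • w1) := by
    have := rel2_smul K hG hr
    rwa [hGw] at this
  have r2 : Rel2 K w1 (hG • w1) := rel2_trans K (rel2_symm K hr) r1
  have hm : hG • w1 ∈ Om2 := smul_mem_Om2' hG hw1
  have hd : (16 : ℤ) ∣ dotInt w1.1 (hG • w1 : leechLattice).1 := hdvd
  have hne' : hG • w1 ≠ w1 := hne
  obtain ⟨hv, h32⟩ := dot_vals_Om2 hw1 hm
  simp only [Finset.mem_insert, Finset.mem_singleton] at hv
  rcases hv with h | h | h | h | h | h
  · exact ⟨-16, Or.inr (Or.inr rfl), relAll2_of_pair K (Or.inr (Or.inr rfl)) hw1 hm h r2⟩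
  · rw [h] at hd; omega
  · exact ⟨0, Or.inr (Or.inl rfl), relAll2_of_pair K (Or.inr (Or.inl rfl)) hw1 hm h r2⟩
  · rw [h] at hd; omega
  · exact ⟨16, Or.inl rfl, relAll2_of_pair K (Or.inl rfl) hw1 hm h r2⟩
  · exact absurd (h32 h) hne'

/-- the orbit of a normal subgroup through `wS` is a point or everything -/
theorem orbit_dich2 : orbit K wS = {wS} ∨ orbit K wS = orbit ↥(stabilizer ↥Co0 xS) wS := by
  by_cases hsing : orbit K wS = {wS}
  · exact Or.inl hsing
  right
  have hex : ∃ w1 ∈ orbit K wS, w1 ≠ wS := by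
    by_contra hcon
    push Not at hcon
    apply hsing
    apply Set.Subset.antisymm
    · intro y hy; exact hcon y hy
    · rintro y rfl; exact mem_orbit_self _
  obtain ⟨w1, hw1, hne⟩ := hex
  have hw1O : w1 ∈ Om2 := by
    obtain ⟨k, rfl⟩ := hw1
    exact smul_mem_Om2' k.1 wS_mem_Om2
  have hr : Rel2 K wS w1 := hw1
  have hgood : ∃ c : ℤ, (c = 16 ∨ c = 0 ∨ c = -16) ∧ RelAll2 K c := by
    obtain ⟨hv, h32⟩ := dot_vals_Om2 wS_mem_Om2 hw1O
    simp only [Finset.mem_insert, Finset.mem_singleton] at hv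
    rcases hv with h | h | h | h | h | h
    · exact ⟨-16, Or.inr (Or.inr rfl),
        relAll2_of_pair K (Or.inr (Or.inr rfl)) wS_mem_Om2 hw1O h hr⟩
    · exact rel2_activate K hw1O hr (Or.inr h)
    · exact ⟨0, Or.inr (Or.inl rfl), relAll2_of_pair K (Or.inr (Or.inl rfl)) wS_mem_Om2 hw1O h hr⟩
    · exact rel2_activate K hw1O hr (Or.inl h)
    · exact ⟨16, Or.inl rfl, relAll2_of_pair K (Or.inl rfl) wS_mem_Om2 hw1O h hr⟩
    · exact absurd (h32 h) hne
  obtain ⟨c, hc, hrel⟩ := hgood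
  have hall := relAll2_all K hc hrel
  apply Set.Subset.antisymm
  · rintro y ⟨k, rfl⟩
    exact ⟨k.1, rfl⟩
  · intro y hy
    rw [Om2_orbit] at hy
    show Rel2 K wS y
    obtain ⟨hv, h32⟩ := dot_vals_Om2 wS_mem_Om2 hy
    by_cases hbad : dotInt wS.1 y.1 = 8 ∨ dotInt wS.1 y.1 = -8
    · obtain ⟨w', hw', hd1, hd2⟩ := path_lemma hy hbad
      exact rel2_trans K (rel2_of_dvd K hall wS_mem_Om2 hw' hd1) (rel2_of_dvd K hall hw' hy hd2)
    · apply rel2_of_dvd K hall wS_mem_Om2 hy
      simp only [Finset.mem_insert, Finset.mem_singleton] at hv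
      push Not at hbad
      rcases hv with h | h | h | h | h | h
      · rw [h]; norm_num
      · exact absurd h hbad.2
      · rw [h]; norm_num
      · exact absurd h hbad.1
      · rw [h]
      · rw [h]; norm_num

end

theorem factorization_47104_23 : (47104 : ℕ).factorization 23 = 1 := by
  have : (47104 : ℕ) = 23 ^ 1 * 2048 := by norm_num
  rw [this, Nat.factorization_mul (by norm_num) (by norm_num),
    Nat.Prime.factorization_pow (by norm_num : Nat.Prime 23), Finsupp.add_apply,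
    Nat.factorization_eq_zero_of_not_dvd (by norm_num : ¬ 23 ∣ 2048)]
  simp

theorem exists_normal_of_card_47104 {G : Type*} [Group G] [Finite G] (K : Subgroup G)
    [hK : K.Normal] (h : Nat.card K = 47104) :
    ∃ N : Subgroup G, N.Normal ∧ (Nat.card N = 23 ∨ Nat.card N = 2048) := by
  have : Fact (Nat.Prime 23) := ⟨by norm_num⟩
  obtain P : Sylow 23 K := default
  have hPc : Nat.card P = 23 := by
    rw [P.card_eq_multiplicity, h, factorization_47104_23]; norm_num
  have hidx : (P : Subgroup K).index = 2048 := by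
    have := Subgroup.card_mul_index (P : Subgroup K)
    rw [hPc, h] at this
    omega
  have h1 := card_sylow_modEq_one 23 K
  have h2 := P.card_dvd_index
  rw [hidx] at h2
  have h3 : Nat.card (Sylow 23 K) = 1 ∨ Nat.card (Sylow 23 K) = 2048 := by
    have e : (2048 : ℕ) = 2 ^ 11 := by norm_num
    rw [e] at h2
    obtain ⟨a, ha, hca⟩ := (Nat.dvd_prime_pow Nat.prime_two).1 h2
    unfold Nat.ModEq at h1
    rw [hca] at h1 ⊢
    interval_cases a <;> first | (norm_num at h1; done) | norm_num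
  rcases h3 with h3 | h3
  · have : Subsingleton (Sylow 23 K) := (Nat.card_eq_one_iff_unique.1 h3).1
    have hchar : (P : Subgroup K).Characteristic := inferInstance
    have hPn : ((P : Subgroup K).map K.subtype).Normal := inferInstance
    refine ⟨_, hPn, Or.inl ?_⟩
    rw [Subgroup.card_map_of_injective K.subtype_injective]
    exact hPc
  · have hNi : (Subgroup.normalizer ((P : Subgroup K) : Set K)).index = 2048 := by
      have := P.card_eq_index_normalizer
      rw [h3] at this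
      exact this.symm
    have hNc : Nat.card (Subgroup.normalizer ((P : Subgroup K) : Set K)) = 23 := by
      have := Subgroup.card_mul_index (Subgroup.normalizer ((P : Subgroup K) : Set K))
      rw [hNi, h] at this
      omega
    have hNP : (P : Subgroup K) = Subgroup.normalizer ((P : Subgroup K) : Set K) := by
      apply Subgroup.eq_of_le_of_card_ge Subgroup.le_normalizer
      rw [hNc, hPc]
    have hcyc : IsCyclic (P : Subgroup K) := isCyclic_of_prime_card hPc
    have hcomm : IsMulCommutative (P : Subgroup K) := inferInstance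
    have hP : Subgroup.normalizer ((P : Subgroup K) : Set K) ≤
        Subgroup.centralizer ((P : Subgroup K) : Set K) := by
      rw [← hNP]
      intro a ha b hb
      have := hcomm.is_comm.comm ⟨a, ha⟩ ⟨b, hb⟩
      have h' : a * b = b * a := congrArg Subtype.val this
      exact h'.symm
    have hcompl := MonoidHom.ker_transferSylow_isComplement' P hP
    have hQc : Nat.card (MonoidHom.transferSylow P hP).ker = 2048 := by
      have := hcompl.card_mul_card
      rw [hPc, h] at this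
      omega
    -- the kernel is the set of elements of order dividing 2048
    have hchar : ∀ k : ↥K, k ∈ (MonoidHom.transferSylow P hP).ker ↔ k ^ 2048 = 1 := by
      intro k
      constructor
      · intro hk
        have := pow_card_eq_one' (G := ↥(MonoidHom.transferSylow P hP).ker) (x := ⟨k, hk⟩)
        rw [hQc] at this
        exact congrArg Subtype.val this
      · intro hk
        rw [MonoidHom.mem_ker]
        have e1 : (MonoidHom.transferSylow P hP k) ^ 2048 = 1 := by rw [← map_pow, hk, map_one]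
        have e2 : (MonoidHom.transferSylow P hP k) ^ 23 = 1 := by
          have := pow_card_eq_one' (G := ↥(P : Subgroup K)) (x := MonoidHom.transferSylow P hP k)
          rwa [hPc] at this
        have e3 : (MonoidHom.transferSylow P hP k) ^ 2048 =
            ((MonoidHom.transferSylow P hP k) ^ 23) ^ 89 * MonoidHom.transferSylow P hP k := by
          rw [← pow_mul, ← pow_succ]
        rw [e1, e2, one_pow, one_mul] at e3
        exact e3.symm
    refine ⟨(MonoidHom.transferSylow P hP).ker.map K.subtype, ⟨?_⟩, Or.inr ?_⟩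
    · rintro n ⟨k, hk, rfl⟩ g
      have hk24 := (hchar k).1 hk
      refine ⟨⟨g * k.1 * g⁻¹, hK.conj_mem k.1 k.2 g⟩, ?_, rfl⟩
      rw [SetLike.mem_coe, hchar]
      apply Subtype.ext
      show (g * k.1 * g⁻¹) ^ 2048 = 1
      rw [conj_pow]
      have : k.1 ^ 2048 = 1 := congrArg Subtype.val hk24
      rw [this, mul_one, mul_inv_cancel]
    · rw [Subgroup.card_map_of_injective K.subtype_injective]
      exact hQc

/-- the stabiliser of `(4,4,0^22)` is simple -/
theorem simple_Co2_std : IsSimpleGroup ↥(stabilizer ↥Co0 xS) := by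
  classical
  have := finite_Co0'
  have hH := (pointStab2 wS_mem_Om2).1
  have hn : (orbit ↥(stabilizer ↥Co0 xS) wS).ncard = 47104 := by
    rw [Om2_orbit, Om2_ncard]
  have hmove : ∃ h : ↥(stabilizer ↥Co0 xS), h • wS = wS ∧
      ∃ g : ↥(stabilizer ↥Co0 xS), h • (g • wS) ≠ g • wS := by
    let xe : Fin 3 ↪ GolayPt := ⟨![none, some 0, some 1], by decide⟩
    let ye : Fin 3 ↪ GolayPt := ⟨![none, some 0, some 2], by decide⟩
    obtain ⟨σ, hσ, hσx⟩ := M24_tuples 3 (by norm_num) xe ye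
    have s1 : σ none = none := hσx 0
    have s2 : σ (some 0) = some 0 := hσx 1
    have s3 : σ (some 1) = some 2 := hσx 2
    obtain ⟨fx, fw, -⟩ := permHom_fix' ⟨σ, hσ⟩ s1 s2
    have hy : (⟨ov ∅ (some 1), ov_mem empty_mem_supports _⟩ : leechLattice) ∈ Om2 := by
      refine ⟨sqNorm_ov _ _, ?_⟩
      show dotInt xS.1 (ov ∅ (some 1)) = -8
      rw [dot_xS, ov_at, ov_at, if_neg (show (none : GolayPt) ≠ some 1 by decide),
        if_neg (show (some 0 : GolayPt) ≠ some 1 by decide),
        if_neg (Finset.notMem_empty _), if_neg (Finset.notMem_empty _)]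
      norm_num
    obtain ⟨g, hg⟩ : (⟨ov ∅ (some 1), ov_mem empty_mem_supports _⟩ : leechLattice) ∈
        orbit ↥(stabilizer ↥Co0 xS) wS := by
      rw [Om2_orbit]; exact hy
    have hg' : g • wS = ⟨ov ∅ (some 1), ov_mem empty_mem_supports _⟩ := hg
    refine ⟨⟨permHom ⟨σ, hσ⟩, mem_stabilizer_iff.2 fx⟩, fw, g, ?_⟩
    rw [hg']
    intro e
    have e1 : ((permHom ⟨σ, hσ⟩) •
        (⟨ov ∅ (some 1), ov_mem empty_mem_supports _⟩ : leechLattice) : leechLattice).1 =
        ov ∅ (some 1) := congrArg Subtype.val e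
    rw [permHom_val] at e1
    have e2 : (fun i => ov ∅ (some 1) (σ⁻¹ i)) = ov ∅ (some 1) := e1
    rw [ov_perm, s3] at e2
    exact absurd (ov_inj e2).2 (by decide)
  have tri : ∀ K : Subgroup ↥(stabilizer ↥Co0 xS), K.Normal →
      K = ⊥ ∨ K = ⊤ ∨ Nat.card K = 47104 := by
    intro K hK
    have := normal_trichotomy K wS hH hmove (orbit_dich2 K)
    rwa [hn] at this
  have hcard := card_Co2
  have : Nontrivial ↥(stabilizer ↥Co0 xS) := by
    apply (Finite.one_lt_card_iff_nontrivial).1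
    rw [hcard]; norm_num
  refine ⟨fun K hK => ?_⟩
  rcases tri K hK with h | h | h
  · exact Or.inl h
  · exact Or.inr h
  · exfalso
    obtain ⟨N, hN, hc⟩ := exists_normal_of_card_47104 K h
    rcases tri N hN with h' | h' | h'
    · rw [h', Subgroup.card_bot] at hc
      omega
    · rw [h', Subgroup.card_top, hcard] at hc
      omega
    · omega

/-- the stabiliser of a vector of sum of squares `32` is simple of order `42305421312000` -/
theorem isCo2_stab (u : leechLattice) (hu : sqNorm u.1 = 32) :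
    IsSimpleGroup ↥(stabilizer ↥Co0 u) ∧ Nat.card ↥(stabilizer ↥Co0 u) = 42305421312000 := by
  obtain ⟨g, hg⟩ := Cfsg.Agent.S0400.result u xS hu xS_norm
  have e : ↥(stabilizer ↥Co0 u) ≃* ↥(stabilizer ↥Co0 xS) := stabilizerEquivStabilizer hg.symm
  refine ⟨?_, ?_⟩
  · have := simple_Co2_std
    exact e.isSimpleGroup
  · rw [Nat.card_congr e.toEquiv]
    exact card_Co2

end Cfsg.Agent.Lib.Helper3
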