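import Mathlib
import Cfsg.Agent.Lib.Helper3.Co2F

/-!
Helper library (helper3): in the `47104`-set, the joint stabiliser of `xS`, `wS` and a vector `w`
with `wS · w = -16` is transitive on the vectors `w'` with `wS · w' = -16` and `w · w' = 16`
(the suborbit of length `162` of the McLaughlin group on `275` points).
-/

set_option autoImplicit false

namespace Cfsg.Agent.Lib.Helper3

open Cfsg Cfsg.Agent.Lib.Helper21 MulAction

/-- the vector `(-3, 1, 1^22)` -/
noncomputable def qS : leechLattice := wS - mS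

theorem qS_mem_Om2 : qS ∈ Om2 := by
  obtain ⟨h1, h2, h3⟩ := mS_mem_Om
  refine ⟨?_, ?_⟩
  · show sqNorm (wS.1 - mS.1) = 32
    rw [sqNorm_sub, wS_norm, h1, h3]; norm_num
  · show dotInt xS.1 (wS.1 - mS.1) = -8
    rw [dotInt_sub_right, xS_wS, h2]; norm_num

theorem wS_qS : dotInt wS.1 qS.1 = 16 := by
  obtain ⟨h1, h2, h3⟩ := mS_mem_Om
  show dotInt wS.1 (wS.1 - mS.1) = 16
  rw [dotInt_sub_right, dotInt_self, wS_norm, h3]; norm_num

/-- the vectors with inner product `-16` with both `wS` and `qS` -/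
theorem T_std {s : leechLattice} (hs : s ∈ Om2) (h1 : dotInt wS.1 s.1 = -16)
    (h2 : dotInt qS.1 s.1 = -16) : ∃ j : GolayPt, j ≠ none ∧ j ≠ some 0 ∧ s.1 = ov ∅ j := by
  classical
  obtain ⟨x, hx⟩ := s
  obtain ⟨hn, hx1⟩ := hs
  simp only at hn hx1 h1 h2
  have h3 : dotInt mS.1 x = 0 := by
    have : dotInt qS.1 x = dotInt wS.1 x - dotInt mS.1 x := dotInt_sub_left _ _ _
    omega
  have h3' : dotInt (D44 none (some 0)) x = 0 := h3
  rw [dot_D44 hpq0] at h3'
  rw [dot_xS] at hx1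
  rw [dot_wS] at h1
  have e1 : x none = -1 := by omega
  have e2 : x (some 0) = -1 := by omega
  have hsum : ∑ i, x i = -20 := by omega
  rcases (leech_minimal_iff x).1 ⟨hx, hn⟩ with ⟨s, T, hs, hTs, rfl⟩ | ⟨O, T, hO, hTO, hev, rfl⟩ |
    ⟨C, j, hC, rfl⟩
  · exfalso
    rw [sv_at] at e1
    split_ifs at e1 <;> omega
  · exfalso
    rw [sv_at] at e1
    split_ifs at e1 <;> omega
  · have hjn : j ≠ none := by
      rintro rfl
      rw [ov_at, if_pos rfl] at e1
      split_ifs at e1 <;> omega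
    have hj0 : j ≠ some 0 := by
      rintro rfl
      rw [ov_at, if_pos rfl] at e2
      split_ifs at e2 <;> omega
    refine ⟨j, hjn, hj0, ?_⟩
    show ov C j = ov ∅ j
    rw [sum_ov] at hsum
    have hcc := supports_card_cases hC
    have hC0 : C = ∅ := by
      rw [← Finset.card_eq_zero]
      by_cases hjC : j ∈ C
      · rw [if_pos hjC] at hsum
        omega
      · rw [if_neg hjC] at hsum
        omega
    rw [hC0]

theorem T_trans {j j' : GolayPt} (hjn : j ≠ none) (hj0 : j ≠ some 0) (hjn' : j' ≠ none)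
    (hj0' : j' ≠ some 0) :
    ∃ σ : ↥M24, σ.1 none = none ∧ σ.1 (some 0) = some 0 ∧ σ.1 j = j' := by
  let xe : Fin 3 ↪ GolayPt := ⟨![none, some 0, j], by
    intro i k hik
    fin_cases i <;> fin_cases k
    · rfl
    · exact absurd (show (none : GolayPt) = some 0 from hik) (by decide)
    · exact absurd (show (none : GolayPt) = j from hik) (Ne.symm hjn)
    · exact absurd (show (some 0 : GolayPt) = none from hik) (by decide)
    · rfl
    · exact absurd (show (some 0 : GolayPt) = j from hik) (Ne.symm hj0)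
    · exact absurd (show j = (none : GolayPt) from hik) hjn
    · exact absurd (show j = (some 0 : GolayPt) from hik) hj0
    · rfl⟩
  let ye : Fin 3 ↪ GolayPt := ⟨![none, some 0, j'], by
    intro i k hik
    fin_cases i <;> fin_cases k
    · rfl
    · exact absurd (show (none : GolayPt) = some 0 from hik) (by decide)
    · exact absurd (show (none : GolayPt) = j' from hik) (Ne.symm hjn')
    · exact absurd (show (some 0 : GolayPt) = none from hik) (by decide)
    · rfl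
    · exact absurd (show (some 0 : GolayPt) = j' from hik) (Ne.symm hj0')
    · exact absurd (show j' = (none : GolayPt) from hik) hjn'
    · exact absurd (show j' = (some 0 : GolayPt) from hik) hj0'
    · rfl⟩
  obtain ⟨σ, hσ, hσx⟩ := M24_tuples 3 (by norm_num) xe ye
  exact ⟨⟨σ, hσ⟩, hσx 0, hσx 1, hσx 2⟩

/-- transitivity of the stabiliser of `xS`, `wS`, `qS` on the `22` vectors -/
theorem T_std_trans {s s' : leechLattice} (hs : s ∈ Om2) (h1 : dotInt wS.1 s.1 = -16)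
    (h2 : dotInt qS.1 s.1 = -16) (hs' : s' ∈ Om2) (h1' : dotInt wS.1 s'.1 = -16)
    (h2' : dotInt qS.1 s'.1 = -16) :
    ∃ m : ↥Co0, m • xS = xS ∧ m • wS = wS ∧ m • qS = qS ∧ m • s = s' := by
  obtain ⟨j, hjn, hj0, ej⟩ := T_std hs h1 h2
  obtain ⟨j', hjn', hj0', ej'⟩ := T_std hs' h1' h2'
  obtain ⟨σ, s1, s2, s3⟩ := T_trans hjn hj0 hjn' hj0'
  obtain ⟨fx, fw, fm⟩ := permHom_fix' σ s1 s2
  refine ⟨permHom σ, fx, fw, ?_, ?_⟩
  · unfold qS
    rw [co0_sub, fw, fm]
  · apply Subtype.ext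
    rw [permHom_val, ej, ej']
    show (fun i => ov ∅ j (σ.1⁻¹ i)) = ov ∅ j'
    rw [ov_perm, s3, Finset.smul_finset_empty]

/-- the suborbit of length `162` -/
theorem trans_162 {w w' w'' : leechLattice} (hw : w ∈ cl2 wS (-16)) (hw' : w' ∈ cl2 wS (-16))
    (hw'' : w'' ∈ cl2 wS (-16)) (h1 : dotInt w.1 w'.1 = 16) (h2 : dotInt w.1 w''.1 = 16) :
    ∃ g : ↥Co0, g • xS = xS ∧ g • wS = wS ∧ g • w = w ∧ g • w' = w'' := by
  obtain ⟨g, gw, gw'⟩ := pair_trans2 (Or.inl rfl) hw.1 hw'.1 hw.1 hw''.1 h1 h2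
  have gx : g.1 • xS = xS := mem_stabilizer_iff.1 g.2
  have gw1 : g.1 • w = w := gw
  have gw1' : g.1 • w' = w'' := gw'
  obtain ⟨k, kw, kw''⟩ := pair_trans2 (Or.inl rfl) hw.1 hw''.1 wS_mem_Om2 qS_mem_Om2 h2 wS_qS
  have kx : k.1 • xS = xS := mem_stabilizer_iff.1 k.2
  have kw1 : k.1 • w = wS := kw
  have kw1'' : k.1 • w'' = qS := kw''
  -- the two vectors
  have m1 : k.1 • (g.1 • wS) ∈ Om2 := smul_mem_Om2 k.1 kx (smul_mem_Om2 g.1 gx wS_mem_Om2)
  have m2 : k.1 • wS ∈ Om2 := smul_mem_Om2 k.1 kx wS_mem_Om2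
  have d1 : dotInt wS.1 (k.1 • (g.1 • wS) : leechLattice).1 = -16 := by
    have e1 := co0_dot k.1.2 w (g.1 • wS)
    have e2 := co0_dot g.1.2 w wS
    have kw2 : k.1.1 w = wS := kw1
    have gw2 : g.1.1 w = w := gw1
    rw [kw2] at e1
    rw [gw2] at e2
    show dotInt wS.1 (k.1.1 (g.1.1 wS)).1 = -16
    have e3 : dotInt wS.1 (k.1.1 (g.1 • wS)).1 = dotInt w.1 (g.1 • wS : leechLattice).1 := e1
    have e4 : dotInt w.1 (g.1.1 wS).1 = dotInt w.1 wS.1 := e2
    have e5 : dotInt w.1 wS.1 = -16 := by rw [dotInt_comm]; exact hw.2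
    calc dotInt wS.1 (k.1.1 (g.1.1 wS)).1 = dotInt w.1 (g.1.1 wS).1 := e3
      _ = dotInt w.1 wS.1 := e4
      _ = -16 := e5
  have d2 : dotInt qS.1 (k.1 • (g.1 • wS) : leechLattice).1 = -16 := by
    have e1 := co0_dot k.1.2 w'' (g.1 • wS)
    have e2 := co0_dot g.1.2 w' wS
    have kw2 : k.1.1 w'' = qS := kw1''
    have gw2 : g.1.1 w' = w'' := gw1'
    rw [kw2] at e1
    rw [gw2] at e2
    have e3 : dotInt qS.1 (k.1.1 (g.1.1 wS)).1 = dotInt w''.1 (g.1.1 wS).1 := e1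
    have e5 : dotInt w'.1 wS.1 = -16 := by rw [dotInt_comm]; exact hw'.2
    calc dotInt qS.1 (k.1.1 (g.1.1 wS)).1 = dotInt w''.1 (g.1.1 wS).1 := e3
      _ = dotInt w'.1 wS.1 := e2
      _ = -16 := e5
  have d3 : dotInt wS.1 (k.1 • wS : leechLattice).1 = -16 := by
    have e1 := co0_dot k.1.2 w wS
    have kw2 : k.1.1 w = wS := kw1
    rw [kw2] at e1
    have e5 : dotInt w.1 wS.1 = -16 := by rw [dotInt_comm]; exact hw.2
    exact e1.trans e5
  have d4 : dotInt qS.1 (k.1 • wS : leechLattice).1 = -16 := by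
    have e1 := co0_dot k.1.2 w'' wS
    have kw2 : k.1.1 w'' = qS := kw1''
    rw [kw2] at e1
    have e5 : dotInt w''.1 wS.1 = -16 := by rw [dotInt_comm]; exact hw''.2
    exact e1.trans e5
  obtain ⟨m, mx, mw, mq, ms⟩ := T_std_trans m1 d1 d2 m2 d3 d4
  refine ⟨k.1⁻¹ * m * k.1 * g.1, ?_, ?_, ?_, ?_⟩
  · rw [mul_smul, mul_smul, mul_smul, gx, kx, mx, inv_smul_eq_iff, kx]
  · rw [mul_smul, mul_smul, mul_smul, ms, inv_smul_smul]
  · rw [mul_smul, mul_smul, mul_smul, gw1, kw1, mw, inv_smul_eq_iff, kw1]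
  · rw [mul_smul, mul_smul, mul_smul, gw1', kw1'', mq, inv_smul_eq_iff, kw1'']

end Cfsg.Agent.Lib.Helper3
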