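import Mathlib
import Cfsg.Prelude.Def_Transfer
import Cfsg.Agent.Lib.Lead.UniqueOrderP

set_option autoImplicit false

/-!
Helper library (helper3): elementary abelian 2-subgroups acting on a normal elementary abelian
2-subgroup `E` (fixed-point counting `|W| ≤ |C_W(x)|²`).

* `EA2`, `ea2_iff`              : elementwise form of `Cfsg.IsElementaryAbelian 2`
* `card_le_sq_fixed`            : `|W| ≤ |C_W(x)|²` for an involution `x` normalizing `W`
* `card_cent_le_sq`             : `|C_E(D₁)| ≤ |C_E(D)|²` if `|D : D₁| = 2`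
* `exists_index_two_between`    : in a 2-group `D₀ < D` there is `D₀ ≤ D₁ ≤ D` of index 2 in `D`
* `card_cent_le_pow`            : `|C_E(D₀)| ≤ |C_E(D)|^(2^n)` if `|D : D₀| = 2^n`
* `exists_mem_cent_not_mem`     : `|E| ≥ 32`, `|D| ∣ 8` ⇒ some `e ∈ C_E(D)` is not in `D`
* `ea2_sup_zpowers`             : `D × ⟨e⟩` is elementary abelian of order `2|D|`
-/

namespace Cfsg.Agent.Lib.Helper3

variable {X : Type*} [Group X]

/-- elementwise form of "elementary abelian 2-subgroup" -/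
def EA2 (A : Subgroup X) : Prop :=
  (∀ a ∈ A, ∀ b ∈ A, a * b = b * a) ∧ ∀ a ∈ A, a ^ 2 = 1

theorem ea2_iff (A : Subgroup X) : Cfsg.IsElementaryAbelian 2 A ↔ EA2 A := by
  constructor
  · rintro ⟨h1, h2⟩
    refine ⟨fun a ha b hb => ?_, h2⟩
    exact congrArg Subtype.val (h1.is_comm.comm (⟨a, ha⟩ : A) ⟨b, hb⟩)
  · rintro ⟨h1, h2⟩
    exact ⟨⟨⟨fun a b => Subtype.ext (h1 a.1 a.2 b.1 b.2)⟩⟩, h2⟩

theorem EA2.mono {A B : Subgroup X} (hB : EA2 B) (h : A ≤ B) : EA2 A :=
  ⟨fun a ha b hb => hB.1 a (h ha) b (h hb), fun a ha => hB.2 a (h ha)⟩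

theorem EA2.isPGroup {A : Subgroup X} (hA : EA2 A) : IsPGroup 2 A := by
  intro a
  refine ⟨1, ?_⟩
  apply Subtype.ext
  rw [pow_one, Subgroup.coe_pow, Subgroup.coe_one]
  exact hA.2 a a.2

theorem card_le_sq_fixed [Finite X] (W : Subgroup X) (hW : EA2 W) (x : X) (hx : x ^ 2 = 1)
    (hxW : ∀ w ∈ W, x * w * x⁻¹ ∈ W) :
    Nat.card W ≤ (Nat.card ↥(W ⊓ Subgroup.centralizer ({x} : Set X))) ^ 2 := by
  classical
  have hxx : x * x = 1 := by rw [← sq]; exact hx
  have hxinv : x⁻¹ = x := inv_eq_of_mul_eq_one_right hxx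
  let τ : ↥W →* ↥W := MonoidHom.mk'
    (fun w => ⟨w * (x * w * x⁻¹), W.mul_mem w.2 (hxW w w.2)⟩) (by
    intro a b
    apply Subtype.ext
    simp only [Subgroup.coe_mul]
    have h1 : x * ((a : X) * b) * x⁻¹ = (x * a * x⁻¹) * (x * b * x⁻¹) := by group
    have h2 : (b : X) * (x * a * x⁻¹) = (x * a * x⁻¹) * b := hW.1 _ b.2 _ (hxW a a.2)
    rw [h1]
    calc (a : X) * b * ((x * a * x⁻¹) * (x * b * x⁻¹))
        = a * (b * (x * a * x⁻¹)) * (x * b * x⁻¹) := by group
      _ = a * ((x * a * x⁻¹) * b) * (x * b * x⁻¹) := by rw [h2]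
      _ = a * (x * a * x⁻¹) * (b * (x * b * x⁻¹)) := by group)
  have hτ : ∀ w : ↥W, ((τ w : ↥W) : X) = w * (x * w * x⁻¹) := fun w => rfl
  set F : Subgroup ↥W := (W ⊓ Subgroup.centralizer ({x} : Set X)).subgroupOf W with hF
  have hker : τ.ker ≤ F := by
    intro w hw
    rw [MonoidHom.mem_ker] at hw
    have h1 : (w : X) * (x * w * x⁻¹) = 1 := by rw [← hτ, hw]; rfl
    have h2 : (w : X) * w = 1 := by rw [← sq]; exact hW.2 w w.2
    have h3 : x * (w : X) * x⁻¹ = w := by
      have h4 : x * (w : X) * x⁻¹ = (w : X)⁻¹ := (inv_eq_of_mul_eq_one_right h1).symm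
      rw [h4]; exact inv_eq_of_mul_eq_one_right h2
    rw [hF, Subgroup.mem_subgroupOf]
    refine Subgroup.mem_inf.mpr ⟨w.2, ?_⟩
    rw [Subgroup.mem_centralizer_iff]
    intro y hy; rw [Set.mem_singleton_iff] at hy; subst hy
    calc y * (w : X) = (y * w * y⁻¹) * y := by group
      _ = w * y := by rw [h3]
  have hrange : τ.range ≤ F := by
    rintro _ ⟨w, rfl⟩
    rw [hF, Subgroup.mem_subgroupOf]
    refine Subgroup.mem_inf.mpr ⟨(τ w).2, ?_⟩
    rw [Subgroup.mem_centralizer_iff]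
    intro y hy; rw [Set.mem_singleton_iff] at hy; subst hy
    rw [hτ]
    have hc : (w : X) * (y * w * y⁻¹) = (y * w * y⁻¹) * w := hW.1 _ w.2 _ (hxW w w.2)
    calc y * ((w : X) * (y * w * y⁻¹)) = (y * w * y⁻¹) * (y * y) * w * y⁻¹ := by group
      _ = (y * w * y⁻¹) * w * y⁻¹ := by rw [hxx, mul_one]
      _ = (w * (y * w * y⁻¹)) * y⁻¹ := by rw [hc]
      _ = w * (y * w * y⁻¹) * y := by rw [hxinv]
  have h1 : Nat.card τ.ker * Nat.card τ.range = Nat.card ↥W := by
    rw [← Subgroup.index_ker]; exact Subgroup.card_mul_index _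
  have h2 : Nat.card τ.ker ≤ Nat.card F := Subgroup.card_le_of_le hker
  have h3 : Nat.card τ.range ≤ Nat.card F := Subgroup.card_le_of_le hrange
  have h4 : Nat.card F = Nat.card ↥(W ⊓ Subgroup.centralizer ({x} : Set X)) :=
    Nat.card_congr (Subgroup.subgroupOfEquivOfLe inf_le_left).toEquiv
  calc Nat.card W = Nat.card τ.ker * Nat.card τ.range := h1.symm
    _ ≤ Nat.card F * Nat.card F := Nat.mul_le_mul h2 h3
    _ = _ := by rw [h4, sq]

theorem card_cent_le_sq [Finite X] (E : Subgroup X) [hEn : E.Normal] (hE : EA2 E)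
    (D₁ D : Subgroup X) (hD : EA2 D) (h1 : D₁ ≤ D) (hcard : Nat.card D = 2 * Nat.card D₁) :
    Nat.card ↥(E ⊓ Subgroup.centralizer (D₁ : Set X)) ≤
      (Nat.card ↥(E ⊓ Subgroup.centralizer (D : Set X))) ^ 2 := by
  have hne : ¬ D ≤ D₁ := by
    intro h
    have h2 := Subgroup.card_le_of_le h
    have h3 : 0 < Nat.card D₁ := Nat.card_pos
    omega
  obtain ⟨d, hdD, hdD₁⟩ := SetLike.not_le_iff_exists.mp hne
  have hsup : D₁ ⊔ Subgroup.zpowers d = D := by
    apply Subgroup.eq_of_le_of_card_ge (sup_le h1 (Subgroup.zpowers_le.mpr hdD))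
    have hdvd : Nat.card D₁ ∣ Nat.card ↥(D₁ ⊔ Subgroup.zpowers d) :=
      Subgroup.card_dvd_of_le le_sup_left
    have hne' : Nat.card ↥(D₁ ⊔ Subgroup.zpowers d) ≠ Nat.card D₁ := by
      intro h
      have h5 : D₁ = D₁ ⊔ Subgroup.zpowers d := Subgroup.eq_of_le_of_card_ge le_sup_left h.le
      apply hdD₁
      rw [h5]
      exact (le_sup_right : Subgroup.zpowers d ≤ D₁ ⊔ Subgroup.zpowers d)
        (Subgroup.mem_zpowers d)
    obtain ⟨k, hk⟩ := hdvd
    have hpos : 0 < Nat.card ↥(D₁ ⊔ Subgroup.zpowers d) := Nat.card_pos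
    have hk2 : 2 ≤ k := by
      by_contra hlt
      have h01 : k = 0 ∨ k = 1 := by omega
      rcases h01 with rfl | rfl
      · rw [mul_zero] at hk; omega
      · rw [mul_one] at hk; exact hne' hk
    rw [hcard, hk]
    nlinarith [Nat.card_pos (α := D₁)]
  have hW : EA2 (E ⊓ Subgroup.centralizer (D₁ : Set X)) := hE.mono inf_le_left
  have hd2 : d ^ 2 = 1 := hD.2 d hdD
  have hdW : ∀ w ∈ E ⊓ Subgroup.centralizer (D₁ : Set X),
      d * w * d⁻¹ ∈ E ⊓ Subgroup.centralizer (D₁ : Set X) := by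
    intro w hw
    obtain ⟨hwE, hwC⟩ := Subgroup.mem_inf.mp hw
    refine Subgroup.mem_inf.mpr ⟨hEn.conj_mem w hwE d, ?_⟩
    rw [Subgroup.mem_centralizer_iff]
    intro u hu
    have hdu : d * u = u * d := hD.1 d hdD u (h1 hu)
    have hwu : u * w = w * u := Subgroup.mem_centralizer_iff.mp hwC u hu
    have hdu' : u * d⁻¹ = d⁻¹ * u := by
      calc u * d⁻¹ = d⁻¹ * (d * u) * d⁻¹ := by group
        _ = d⁻¹ * (u * d) * d⁻¹ := by rw [hdu]
        _ = d⁻¹ * u := by group
    calc u * (d * w * d⁻¹) = (u * d) * w * d⁻¹ := by group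
      _ = (d * u) * w * d⁻¹ := by rw [hdu]
      _ = d * (u * w) * d⁻¹ := by group
      _ = d * (w * u) * d⁻¹ := by rw [hwu]
      _ = d * w * (u * d⁻¹) := by group
      _ = d * w * (d⁻¹ * u) := by rw [hdu']
      _ = d * w * d⁻¹ * u := by group
  have hL := card_le_sq_fixed (E ⊓ Subgroup.centralizer (D₁ : Set X)) hW d hd2 hdW
  have heq : (E ⊓ Subgroup.centralizer (D₁ : Set X)) ⊓ Subgroup.centralizer ({d} : Set X) =
      E ⊓ Subgroup.centralizer (D : Set X) := by
    apply le_antisymm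
    · intro c hc
      obtain ⟨hc', hcd⟩ := Subgroup.mem_inf.mp hc
      obtain ⟨hcE, hc1⟩ := Subgroup.mem_inf.mp hc'
      refine Subgroup.mem_inf.mpr ⟨hcE, ?_⟩
      have hDle : D ≤ Subgroup.centralizer ({c} : Set X) := by
        rw [← hsup]
        apply sup_le
        · intro u hu
          rw [Subgroup.mem_centralizer_iff]
          intro y hy; rw [Set.mem_singleton_iff] at hy; subst hy
          exact (Subgroup.mem_centralizer_iff.mp hc1 u hu).symm
        · rw [Subgroup.zpowers_le, Subgroup.mem_centralizer_iff]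
          intro y hy; rw [Set.mem_singleton_iff] at hy; subst hy
          exact (Subgroup.mem_centralizer_iff.mp hcd d rfl).symm
      rw [Subgroup.mem_centralizer_iff]
      intro u hu
      exact ((Subgroup.mem_centralizer_iff.mp (hDle hu)) c rfl).symm
    · intro c hc
      obtain ⟨hcE, hcD⟩ := Subgroup.mem_inf.mp hc
      refine Subgroup.mem_inf.mpr ⟨Subgroup.mem_inf.mpr ⟨hcE, ?_⟩, ?_⟩
      · rw [Subgroup.mem_centralizer_iff]
        intro u hu
        exact Subgroup.mem_centralizer_iff.mp hcD u (h1 hu)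
      · rw [Subgroup.mem_centralizer_iff]
        intro y hy; rw [Set.mem_singleton_iff] at hy; subst hy
        exact Subgroup.mem_centralizer_iff.mp hcD y hdD
  rw [heq] at hL
  exact hL

theorem exists_index_two_between [Finite X] (D₀ D : Subgroup X) (hD : IsPGroup 2 D)
    (h : D₀ < D) : ∃ D₁ : Subgroup X, D₀ ≤ D₁ ∧ D₁ ≤ D ∧ Nat.card D = 2 * Nat.card D₁ := by
  have : Fact (Nat.Prime 2) := ⟨Nat.prime_two⟩
  obtain ⟨s, hs⟩ := IsPGroup.iff_card.mp hD
  obtain ⟨t, ht⟩ := IsPGroup.iff_card.mp (hD.to_le h.le)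
  have hlt : Nat.card D₀ < Nat.card D := by
    by_contra hcon
    exact h.ne (Subgroup.eq_of_le_of_card_ge h.le (not_lt.mp hcon))
  rw [hs, ht] at hlt
  have hts : t < s := (Nat.pow_lt_pow_iff_right (by norm_num : 1 < 2)).mp hlt
  have hH : Nat.card (D₀.subgroupOf D) = 2 ^ t := by
    rw [Nat.card_congr (Subgroup.subgroupOfEquivOfLe h.le).toEquiv, ht]
  have hdvd : 2 ^ (s - 1) ∣ Nat.card ↥D := by rw [hs]; exact pow_dvd_pow 2 (Nat.sub_le s 1)
  obtain ⟨K, hK, hHK⟩ := Sylow.exists_subgroup_card_pow_prime_le 2 hdvd (D₀.subgroupOf D) hH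
    (by omega)
  refine ⟨K.map D.subtype, ?_, Subgroup.map_subtype_le K, ?_⟩
  · intro x hx
    exact ⟨⟨x, h.le hx⟩, hHK (Subgroup.mem_subgroupOf.mpr hx), rfl⟩
  · rw [Subgroup.card_map_of_injective (Subgroup.subtype_injective _), hK, hs]
    obtain ⟨s', rfl⟩ : ∃ s', s = s' + 1 := ⟨s - 1, by omega⟩
    rw [Nat.add_sub_cancel, pow_succ]; ring

theorem card_cent_le_pow [Finite X] (E : Subgroup X) [hEn : E.Normal] (hE : EA2 E) :
    ∀ (n : ℕ) (D₀ D : Subgroup X), EA2 D → D₀ ≤ D → Nat.card D = 2 ^ n * Nat.card D₀ →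
      Nat.card ↥(E ⊓ Subgroup.centralizer (D₀ : Set X)) ≤
        (Nat.card ↥(E ⊓ Subgroup.centralizer (D : Set X))) ^ (2 ^ n) := by
  intro n
  induction n with
  | zero =>
    intro D₀ D _ h01 hcard
    rw [pow_zero, one_mul] at hcard
    have : D₀ = D := Subgroup.eq_of_le_of_card_ge h01 hcard.le
    rw [this, pow_zero, pow_one]
  | succ n ih =>
    intro D₀ D hD h01 hcard
    have hlt : D₀ < D := by
      refine lt_of_le_of_ne h01 ?_
      rintro rfl
      have hpos : 0 < Nat.card D₀ := Nat.card_pos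
      have h2 : 2 ≤ 2 ^ (n + 1) := by
        calc 2 = 2 ^ 1 := by norm_num
          _ ≤ 2 ^ (n + 1) := Nat.pow_le_pow_right (by norm_num) (by omega)
      nlinarith
    obtain ⟨D₁, h0, h1, hc1⟩ := exists_index_two_between D₀ D hD.isPGroup hlt
    have hc0 : Nat.card D₁ = 2 ^ n * Nat.card D₀ := by
      rw [hc1, pow_succ] at hcard
      have : 2 * Nat.card D₁ = 2 * (2 ^ n * Nat.card D₀) := by rw [hcard]; ring
      exact Nat.eq_of_mul_eq_mul_left (by norm_num) this
    have hih := ih D₀ D₁ (hD.mono h1) h0 hc0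
    have hM := card_cent_le_sq E hE D₁ D hD h1 hc1
    calc Nat.card ↥(E ⊓ Subgroup.centralizer (D₀ : Set X))
        ≤ (Nat.card ↥(E ⊓ Subgroup.centralizer (D₁ : Set X))) ^ (2 ^ n) := hih
      _ ≤ ((Nat.card ↥(E ⊓ Subgroup.centralizer (D : Set X))) ^ 2) ^ (2 ^ n) :=
          Nat.pow_le_pow_left hM _
      _ = _ := by rw [← pow_mul, pow_succ, mul_comm]

theorem exists_mem_cent_not_mem [Finite X] (E : Subgroup X) [hEn : E.Normal] (hE : EA2 E)
    (hE32 : 32 ≤ Nat.card E) (D : Subgroup X) (hD : EA2 D) (hD8 : Nat.card D ∣ 8) :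
    ∃ e ∈ E, e ∈ Subgroup.centralizer (D : Set X) ∧ e ∉ D := by
  have : Fact (Nat.Prime 2) := ⟨Nat.prime_two⟩
  by_contra hcon
  push Not at hcon
  obtain ⟨s, hs⟩ := IsPGroup.iff_card.mp hD.isPGroup
  obtain ⟨t, ht⟩ := IsPGroup.iff_card.mp (hD.isPGroup.to_le (inf_le_left : D ⊓ E ≤ D))
  have hs3 : s ≤ 3 := by
    rw [hs] at hD8
    have : (8 : ℕ) = 2 ^ 3 := by norm_num
    rw [this] at hD8
    exact (Nat.pow_dvd_pow_iff_le_right (by norm_num : 1 < 2)).mp hD8
  have hts : t ≤ s := by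
    have := Subgroup.card_le_of_le (inf_le_left : D ⊓ E ≤ D)
    rw [hs, ht] at this
    exact (Nat.pow_le_pow_iff_right (by norm_num : 1 < 2)).mp this
  have hcard : Nat.card D = 2 ^ (s - t) * Nat.card ↥(D ⊓ E) := by
    rw [hs, ht, ← pow_add]; congr 1; omega
  have hN := card_cent_le_pow E hE (s - t) (D ⊓ E) D hD inf_le_left hcard
  have hEle : E ≤ E ⊓ Subgroup.centralizer ((D ⊓ E : Subgroup X) : Set X) := by
    intro x hx
    refine Subgroup.mem_inf.mpr ⟨hx, ?_⟩
    rw [Subgroup.mem_centralizer_iff]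
    intro u hu
    exact hE.1 u (Subgroup.mem_inf.mp hu).2 x hx
  have h32 : 32 ≤ (Nat.card ↥(E ⊓ Subgroup.centralizer (D : Set X))) ^ (2 ^ (s - t)) :=
    hE32.trans ((Subgroup.card_le_of_le hEle).trans hN)
  have hle : E ⊓ Subgroup.centralizer (D : Set X) ≤ D ⊓ E := by
    intro x hx
    obtain ⟨hxE, hxC⟩ := Subgroup.mem_inf.mp hx
    exact Subgroup.mem_inf.mpr ⟨hcon x hxE hxC, hxE⟩
  have hc : Nat.card ↥(E ⊓ Subgroup.centralizer (D : Set X)) ≤ 2 ^ t := by
    rw [← ht]; exact Subgroup.card_le_of_le hle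
  have h5 : (Nat.card ↥(E ⊓ Subgroup.centralizer (D : Set X))) ^ (2 ^ (s - t)) ≤
      (2 ^ t) ^ (2 ^ (s - t)) := Nat.pow_le_pow_left hc _
  have h6 : (2 ^ t) ^ (2 ^ (s - t)) ≤ 16 := by
    interval_cases s <;> interval_cases t <;> norm_num
  omega

theorem ea2_sup_zpowers [Finite X] (D : Subgroup X) (hD : EA2 D) (e : X) (he2 : e ^ 2 = 1)
    (heD : e ∉ D) (hec : e ∈ Subgroup.centralizer (D : Set X)) :
    EA2 (D ⊔ Subgroup.zpowers e) ∧ Nat.card ↥(D ⊔ Subgroup.zpowers e) = 2 * Nat.card D := by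
  have hcl : D ⊔ Subgroup.zpowers e = Subgroup.closure ((D : Set X) ∪ {e}) := by
    rw [Subgroup.closure_union, Subgroup.closure_eq, Subgroup.zpowers_eq_closure]
  have hcomm : ∀ x ∈ Subgroup.closure ((D : Set X) ∪ {e}),
      ∀ y ∈ Subgroup.closure ((D : Set X) ∪ {e}), x * y = y * x := by
    apply Cfsg.Agent.Lib.Lead.UniqueOrderP.closure_comm_of_comm
    intro x hx z hz
    rcases hx with hx | hx
    · rcases hz with hz | hz
      · exact hD.1 x hx z hz
      · rw [Set.mem_singleton_iff] at hz; subst hz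
        exact (Subgroup.mem_centralizer_iff.mp hec x hx)
    · rw [Set.mem_singleton_iff] at hx; subst hx
      rcases hz with hz | hz
      · exact (Subgroup.mem_centralizer_iff.mp hec z hz).symm
      · rw [Set.mem_singleton_iff] at hz; subst hz; rfl
  constructor
  · rw [hcl]
    refine ⟨hcomm, ?_⟩
    intro a ha
    induction ha using Subgroup.closure_induction with
    | mem x hx =>
      rcases hx with hx | hx
      · exact hD.2 x hx
      · rw [Set.mem_singleton_iff] at hx; subst hx; exact he2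
    | one => simp
    | mul a b ha hb iha ihb =>
      have := hcomm a ha b hb
      calc (a * b) ^ 2 = a * (b * a) * b := by rw [sq]; group
        _ = a * (a * b) * b := by rw [this]
        _ = a ^ 2 * b ^ 2 := by rw [sq, sq]; group
        _ = 1 := by rw [iha, ihb, one_mul]
    | inv a ha iha => rw [inv_pow, iha, inv_one]
  · have hcm : ∀ (m : D) (n : Subgroup.zpowers e), Commute (D.subtype m) ((Subgroup.zpowers e).subtype n) := by
      intro m n
      have h1 : Subgroup.zpowers e ≤ Subgroup.centralizer (D : Set X) :=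
        Subgroup.zpowers_le.mpr hec
      exact (Subgroup.mem_centralizer_iff.mp (h1 n.2) m m.2)
    have hinj : Function.Injective (D.subtype.noncommCoprod (Subgroup.zpowers e).subtype hcm) := by
      rw [MonoidHom.noncommCoprod_injective]
      refine ⟨Subgroup.subtype_injective _, Subgroup.subtype_injective _, ?_⟩
      rw [Subgroup.range_subtype, Subgroup.range_subtype, Subgroup.disjoint_def]
      intro x hxD hxe
      obtain ⟨k, rfl⟩ := Subgroup.mem_zpowers_iff.mp hxe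
      rcases Int.even_or_odd' k with ⟨m, rfl | rfl⟩
      · rw [zpow_mul, zpow_two, ← sq, he2, one_zpow]
      · exfalso
        apply heD
        have : e ^ (2 * m + 1) = e := by
          rw [zpow_add, zpow_mul, zpow_two, ← sq, he2, one_zpow, one_mul, zpow_one]
        rwa [this] at hxD
    have hrange : (D.subtype.noncommCoprod (Subgroup.zpowers e).subtype hcm).range =
        D ⊔ Subgroup.zpowers e := by
      rw [MonoidHom.noncommCoprod_range, Subgroup.range_subtype, Subgroup.range_subtype]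
    have he1 : e ≠ 1 := by rintro rfl; exact heD (Subgroup.one_mem D)
    have hoe : orderOf e = 2 := orderOf_eq_prime he2 he1
    rw [← hrange]
    rw [← Nat.card_congr (MonoidHom.ofInjective hinj).toEquiv, Nat.card_prod, Nat.card_zpowers,
      hoe, mul_comm]

end Cfsg.Agent.Lib.Helper3
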