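import Mathlib
import Cfsg.Agent.Lib.Helper21.GolayCoset
import Cfsg.Agent.Lib.Helper21.GolaySets
import Cfsg.Agent.Lib.Helper21.GolaySteiner

/-!
Helper library (helper3) for S5549: coordinate sums over subsets of the 24 points as functionals on
the Golay code, and the number of octads and 16-sets on which such a functional vanishes
(1518, 814, 750 for subsets of size 0, 2, 4).
-/

set_option autoImplicit false

namespace Cfsg.Agent.Lib.Helper3.Gx

open Cfsg Cfsg.Agent.Lib.Helper21
open scoped Pointwise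

/-- sum of the coordinates over a set -/
def ev (A : Finset GolayPt) (w : GolayPt → ZMod 2) : ZMod 2 := ∑ p ∈ A, w p

theorem ev_add (A : Finset GolayPt) (v w : GolayPt → ZMod 2) : ev A (v + w) = ev A v + ev A w := by
  unfold ev
  simp only [Pi.add_apply]
  exact Finset.sum_add_distrib

theorem ev_eq_sum (A : Finset GolayPt) (w : GolayPt → ZMod 2) :
    ev A w = ∑ p, if p ∈ A then w p else 0 := by
  unfold ev
  rw [Finset.sum_ite_mem, Finset.univ_inter]

theorem zadd_self (a : ZMod 2) : a + a = 0 := CharTwo.add_self_eq_zero a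

/-- symmetric difference -/
def sd (A B : Finset GolayPt) : Finset GolayPt := (A \ B) ∪ (B \ A)

theorem mem_sd (A B : Finset GolayPt) (p : GolayPt) :
    p ∈ sd A B ↔ (p ∈ A ∧ p ∉ B) ∨ (p ∈ B ∧ p ∉ A) := by
  unfold sd
  simp only [Finset.mem_union, Finset.mem_sdiff]

theorem ev_sd (A B : Finset GolayPt) (w : GolayPt → ZMod 2) :
    ev (sd A B) w = ev A w + ev B w := by
  rw [ev_eq_sum, ev_eq_sum, ev_eq_sum, ← Finset.sum_add_distrib]
  apply Finset.sum_congr rfl
  intro p _
  by_cases hA : p ∈ A <;> by_cases hB : p ∈ B <;> simp [mem_sd, hA, hB, zadd_self]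

theorem sd_self (A : Finset GolayPt) : sd A A = ∅ := by
  ext p; simp [mem_sd]

theorem sd_eq_empty {A B : Finset GolayPt} (h : sd A B = ∅) : A = B := by
  ext p
  have : p ∉ sd A B := by rw [h]; exact Finset.notMem_empty p
  rw [mem_sd] at this
  tauto

theorem card_sd (T S : Finset GolayPt) :
    (sd T S).card + 2 * (T ∩ S).card = T.card + S.card := by
  classical
  unfold sd
  have d : Disjoint (T \ S) (S \ T) := by
    rw [Finset.disjoint_left]
    intro i h1 h2
    exact (Finset.mem_sdiff.1 h1).2 (Finset.mem_sdiff.1 h2).1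
  have h1 := Finset.card_union_of_disjoint d
  have h2 := Finset.card_sdiff_add_card_inter T S
  have h3 := Finset.card_sdiff_add_card_inter S T
  rw [Finset.inter_comm S T] at h3
  omega

theorem ev_empty (w : GolayPt → ZMod 2) : ev ∅ w = 0 := by
  unfold ev; exact Finset.sum_empty

theorem ev_pair {p q : GolayPt} (h : p ≠ q) (w : GolayPt → ZMod 2) : ev {p, q} w = w p + w q := by
  unfold ev; exact Finset.sum_pair h

theorem ev_one (A : Finset GolayPt) : ev A (1 : GolayPt → ZMod 2) = (A.card : ZMod 2) := by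
  unfold ev
  simp

theorem ev_smul (g : Equiv.Perm GolayPt) (A : Finset GolayPt) (w : GolayPt → ZMod 2) :
    ev (g • A) w = ev A (precomp g w) := by
  unfold ev
  have : g • A = A.image (fun a => g a) := rfl
  rw [this, Finset.sum_image (fun a _ b _ h => g.injective h)]
  rfl

/-- the words of weight 8 or 16 -/
def isOct (w : GolayPt → ZMod 2) : Prop := hammingNorm w = 8 ∨ hammingNorm w = 16

theorem hammingNorm_precomp (g : Equiv.Perm GolayPt) (w : GolayPt → ZMod 2) :
    hammingNorm (precomp g w) = hammingNorm w := by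
  rw [← card_support₂, ← card_support₂, support₂_precomp, Finset.card_smul_finset]

theorem hammingNorm_add_one (w : GolayPt → ZMod 2) :
    hammingNorm (w + 1) = 24 - hammingNorm w := by
  rw [← card_support₂, ← card_support₂, add_comm, support₂_one_add, Finset.card_compl,
    card_golayPt]

theorem isOct_precomp (g : Equiv.Perm GolayPt) {w : GolayPt → ZMod 2} (h : isOct w) :
    isOct (precomp g w) := by
  unfold isOct at h ⊢
  rw [hammingNorm_precomp]; exact h

theorem isOct_add_one {w : GolayPt → ZMod 2} (h : isOct w) : isOct (w + 1) := by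
  unfold isOct at h ⊢
  rw [hammingNorm_add_one]
  omega

/-- the number of words of weight 8 or 16 on which the sum over `A` vanishes -/
noncomputable def NN (A : Finset GolayPt) : ℕ :=
  {c : ↥golayCode | isOct c.1 ∧ ev A c.1 = 0}.ncard

/-- precomposition as a map of the code -/
def pc (g : Equiv.Perm GolayPt) (hg : g ∈ M24) (c : ↥golayCode) : ↥golayCode :=
  ⟨precomp g c.1, precomp_mem_of_mem_M24 g hg c.1 c.2⟩

theorem precomp_precomp_inv (g : Equiv.Perm GolayPt) (w : GolayPt → ZMod 2) :
    precomp g (precomp g⁻¹ w) = w := by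
  funext p
  rw [precomp_apply, precomp_apply]
  simp

theorem precomp_inv_precomp (g : Equiv.Perm GolayPt) (w : GolayPt → ZMod 2) :
    precomp g⁻¹ (precomp g w) = w := by
  funext p
  rw [precomp_apply, precomp_apply]
  simp

theorem NN_smul (g : Equiv.Perm GolayPt) (hg : g ∈ M24) (A : Finset GolayPt) :
    NN (g • A) = NN A := by
  unfold NN
  have hinj : Function.Injective (pc g hg) := by
    intro c c' h
    have h' : precomp g c.1 = precomp g c'.1 := congrArg Subtype.val h
    apply Subtype.ext
    rw [← precomp_inv_precomp g c.1, h', precomp_inv_precomp]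
  rw [← Set.ncard_image_of_injective _ hinj]
  congr 1
  ext c'
  simp only [Set.mem_image, Set.mem_setOf_eq]
  constructor
  · rintro ⟨c, ⟨h1, h2⟩, rfl⟩
    refine ⟨isOct_precomp g h1, ?_⟩
    show ev A (precomp g c.1) = 0
    rw [← ev_smul]; exact h2
  · rintro ⟨h1, h2⟩
    refine ⟨pc g⁻¹ (M24.inv_mem hg) c', ⟨isOct_precomp g⁻¹ h1, ?_⟩, ?_⟩
    · show ev (g • A) (precomp g⁻¹ c'.1) = 0
      rw [ev_smul, precomp_precomp_inv]; exact h2
    · apply Subtype.ext
      exact precomp_precomp_inv g c'.1

/-! ### the three values -/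

theorem NN_eq_filter (A : Finset GolayPt) (Q : ℕ → Prop) [DecidablePred Q]
    (hQ : ∀ w : GolayPt → ZMod 2, ev A w = 0 ↔ Q (toMask w)) :
    NN A = ((Finset.range 4096).filter (fun c =>
      (popc 24 (encMask c) = 8 ∨ popc 24 (encMask c) = 16) ∧ Q (encMask c))).card := by
  rw [← ncard_code_filter (fun m => (popc 24 m = 8 ∨ popc 24 m = 16) ∧ Q m)]
  unfold NN
  rw [← Set.ncard_image_of_injective _ Subtype.val_injective]
  congr 1
  ext w
  simp only [Set.mem_image, Set.mem_setOf_eq]
  constructor
  · rintro ⟨c, ⟨h1, h2⟩, rfl⟩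
    refine ⟨c.2, ?_, (hQ _).1 h2⟩
    unfold isOct at h1
    rw [hammingNorm_eq_popc] at h1
    exact h1
  · rintro ⟨hw, h1, h2⟩
    refine ⟨⟨w, hw⟩, ⟨?_, (hQ _).2 h2⟩, rfl⟩
    unfold isOct
    rw [hammingNorm_eq_popc]
    exact h1

theorem val_eq (w : GolayPt → ZMod 2) (p : GolayPt) :
    w p = if (toMask w).testBit (gEquiv p) then 1 else 0 := by
  rw [testBit_toMask]
  rcases zmod2_cases (w p) with h | h <;> rw [h] <;> decide

theorem NN_empty : NN ∅ = 1518 := by
  rw [NN_eq_filter ∅ (fun _ => True) (fun w => by simp [ev_empty])]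
  decide +kernel

def P0 : GolayPt := some 0
def P1 : GolayPt := some 1
def P2 : GolayPt := some 2
def P3 : GolayPt := some 3

theorem bit2 (a b : Bool) :
    ((if a then (1 : ZMod 2) else 0) + (if b then 1 else 0) = 0) ↔ (a = b) := by
  cases a <;> cases b <;> decide

theorem bit4 (a b c d : Bool) :
    ((if a then (1 : ZMod 2) else 0) + ((if b then 1 else 0) + ((if c then 1 else 0) +
      (if d then 1 else 0))) = 0) ↔ (xor (xor a b) (xor c d) = false) := by
  cases a <;> cases b <;> cases c <;> cases d <;> decide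

theorem NN_two0 : NN {P0, P1} = 814 := by
  rw [NN_eq_filter {P0, P1} (fun m => m.testBit 0 = m.testBit 1) (fun w => by
    rw [ev_pair (by decide), val_eq w P0, val_eq w P1]
    exact bit2 _ _)]
  decide +kernel

theorem NN_four0 : NN {P0, P1, P2, P3} = 750 := by
  rw [NN_eq_filter {P0, P1, P2, P3}
    (fun m => xor (xor (m.testBit 0) (m.testBit 1)) (xor (m.testBit 2) (m.testBit 3)) = false)
    (fun w => by
      have e : ev {P0, P1, P2, P3} w = w P0 + (w P1 + (w P2 + w P3)) := by
        unfold ev
        rw [Finset.sum_insert (by decide), Finset.sum_insert (by decide),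
          Finset.sum_pair (by decide)]
      rw [e, val_eq w P0, val_eq w P1, val_eq w P2, val_eq w P3]
      exact bit4 _ _ _ _)]
  decide +kernel

theorem NN_zero {A : Finset GolayPt} (h : A.card = 0) : NN A = 1518 := by
  rw [Finset.card_eq_zero.1 h]; exact NN_empty

theorem NN_two {A : Finset GolayPt} (h : A.card = 2) : NN A = 814 := by
  obtain ⟨g, hg, rfl⟩ := M24_one_set {P0, P1} A (by decide) (by rw [h]; decide)
  rw [NN_smul g hg]; exact NN_two0

theorem NN_four {A : Finset GolayPt} (h : A.card = 4) : NN A = 750 := by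
  obtain ⟨g, hg, rfl⟩ := M24_one_set {P0, P1, P2, P3} A (by decide) (by rw [h]; decide)
  rw [NN_smul g hg]; exact NN_four0

/-- subsets of even size at most 4 with the same count have the same size -/
theorem card_eq_of_NN {A B : Finset GolayPt} (hA : A.card ≤ 4) (hA2 : Even A.card)
    (hB : B.card ≤ 4) (hB2 : Even B.card) (h : NN A = NN B) : A.card = B.card := by
  have cases : ∀ {S : Finset GolayPt}, S.card ≤ 4 → Even S.card →
      (S.card = 0 ∧ NN S = 1518) ∨ (S.card = 2 ∧ NN S = 814) ∨ (S.card = 4 ∧ NN S = 750) := by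
    intro S h1 h2
    obtain ⟨k, hk⟩ := h2
    have : S.card = 0 ∨ S.card = 2 ∨ S.card = 4 := by omega
    rcases this with h | h | h
    · exact Or.inl ⟨h, NN_zero h⟩
    · exact Or.inr (Or.inl ⟨h, NN_two h⟩)
    · exact Or.inr (Or.inr ⟨h, NN_four h⟩)
  rcases cases hA hA2 with ⟨a, a'⟩ | ⟨a, a'⟩ | ⟨a, a'⟩ <;>
    rcases cases hB hB2 with ⟨b, b'⟩ | ⟨b, b'⟩ | ⟨b, b'⟩ <;> omega

end Cfsg.Agent.Lib.Helper3.Gx
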