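import Mathlib
import Cfsg.Agent.Lib.Helper3.Gx5549A

/-!
Helper library (helper3) for S5549: a linear automorphism of the Golay code fixing the all-ones word
and preserving the words of weight 8 or 16 is, modulo the all-ones word, a coordinate permutation
in `M24`.
-/

set_option autoImplicit false

namespace Cfsg.Agent.Lib.Helper3.Gx

open Cfsg Cfsg.Agent.Lib.Helper21
open scoped Pointwise

/-- hypotheses on the linear automorphism -/
structure Good (x : ↥golayCode ≃ₗ[ZMod 2] ↥golayCode) : Prop where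
  one : ∀ e : ↥golayCode, (e : GolayPt → ZMod 2) = 1 → x e = e
  oct : ∀ c : ↥golayCode, isOct c.1 → isOct (x c).1
  oct' : ∀ c : ↥golayCode, isOct c.1 → isOct (x.symm c).1

variable {x : ↥golayCode ≃ₗ[ZMod 2] ↥golayCode}

/-- the sum over `A` is the sum over `A'` after applying `x` -/
def R (x : ↥golayCode ≃ₗ[ZMod 2] ↥golayCode) (A A' : Finset GolayPt) : Prop :=
  ∀ c : ↥golayCode, ev A c.1 = ev A' (x c).1

theorem R_sd {A A' B B' : Finset GolayPt} (h1 : R x A A') (h2 : R x B B') :
    R x (sd A B) (sd A' B') := by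
  intro c; rw [ev_sd, ev_sd, h1 c, h2 c]

theorem NN_eq_of_R (hx : Good x) {A A' : Finset GolayPt} (h : R x A A') : NN A = NN A' := by
  unfold NN
  rw [← Set.ncard_image_of_injective {c : ↥golayCode | isOct c.1 ∧ ev A c.1 = 0} x.injective]
  congr 1
  ext c'
  simp only [Set.mem_image, Set.mem_setOf_eq]
  constructor
  · rintro ⟨c, ⟨h1, h2⟩, rfl⟩
    exact ⟨hx.oct c h1, by rw [← h c]; exact h2⟩
  · rintro ⟨h1, h2⟩
    refine ⟨x.symm c', ⟨hx.oct' c' h1, ?_⟩, x.apply_symm_apply c'⟩
    rw [h (x.symm c'), x.apply_symm_apply]; exact h2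

/-- the all-ones word -/
def oneW : ↥golayCode := ⟨1, one_mem_golay⟩

theorem even_of_R (hx : Good x) {A A' : Finset GolayPt} (h : R x A A') (hA : Even A.card) :
    Even A'.card := by
  have h1 := h oneW
  rw [hx.one oneW rfl] at h1
  have h2 : ev A (1 : GolayPt → ZMod 2) = ev A' (1 : GolayPt → ZMod 2) := h1
  rw [ev_one, ev_one, ZMod.natCast_eq_natCast_iff'] at h2
  rw [Nat.even_iff] at hA ⊢
  omega

theorem card_eq_of_R (hx : Good x) {A A' : Finset GolayPt} (h : R x A A') (hA : A.card ≤ 4)
    (hA2 : Even A.card) (hA' : A'.card ≤ 4) : A.card = A'.card :=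
  card_eq_of_NN hA hA2 hA' (even_of_R hx h hA2) (NN_eq_of_R hx h)

theorem dot_eq_ev (v y : GolayPt → ZMod 2) : ∑ p, y p * v p = ev (support₂ v) y := by
  rw [ev_eq_sum]
  apply Finset.sum_congr rfl
  intro p _
  by_cases hp : p ∈ support₂ v
  · rw [if_pos hp]
    have hne : v p ≠ 0 := (mem_support₂ v p).1 hp
    rcases zmod2_cases (v p) with h | h
    · exact absurd h hne
    · rw [h, mul_one]
  · rw [if_neg hp]
    have h0 : v p = 0 := by
      by_contra h; exact hp ((mem_support₂ v p).2 h)
    rw [h0, mul_zero]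

/-- every coordinate sum, carried along `x`, is again a coordinate sum over a set of size ≤ 4 -/
theorem exists_R (A : Finset GolayPt) : ∃ A' : Finset GolayPt, A'.card ≤ 4 ∧ R x A A' := by
  let evL : (GolayPt → ZMod 2) →ₗ[ZMod 2] ZMod 2 :=
    { toFun := ev A
      map_add' := ev_add A
      map_smul' := by
        intro a w
        simp only [ev, Pi.smul_apply, smul_eq_mul, RingHom.id_apply]
        rw [Finset.mul_sum] }
  let φ : ↥golayCode →ₗ[ZMod 2] ZMod 2 :=
    evL.comp (golayCode.subtype.comp x.symm.toLinearMap)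
  obtain ⟨g, hg⟩ := LinearMap.exists_extend φ
  let e : GolayPt → ZMod 2 := fun p => g (fun j => if p = j then 1 else 0)
  have hge : ∀ w : GolayPt → ZMod 2, g w = ∑ p, w p * e p := by
    intro w
    rw [LinearMap.pi_apply_eq_sum_univ g w]
    rfl
  obtain ⟨v, hv4, hvC⟩ := exists_leader e
  refine ⟨support₂ v, by rw [card_support₂]; exact hv4, ?_⟩
  intro c
  have h1 : φ (x c) = ev A c.1 := by
    show ev A ((x.symm (x c)) : ↥golayCode).1 = _
    rw [x.symm_apply_apply]
  have h2 : φ (x c) = g (x c).1 := by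
    rw [← hg]; rfl
  rw [← h1, h2, hge, ← dot_eq_ev]
  have h3 := golay_selfOrth _ hvC _ (x c).2
  have h4 : ∑ p, (x c).1 p * e p - ∑ p, (x c).1 p * v p = 0 := by
    rw [← Finset.sum_sub_distrib]
    rw [← h3]
    unfold dotProduct
    apply Finset.sum_congr rfl
    intro p _
    simp only [Pi.sub_apply]
    ring
  exact sub_eq_zero.1 h4

theorem card_pair' {p q : GolayPt} (h : p ≠ q) : ({p, q} : Finset GolayPt).card = 2 :=
  Finset.card_pair h

theorem exists_pair (hx : Good x) {p q : GolayPt} (hpq : p ≠ q) :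
    ∃ B : Finset GolayPt, B.card = 2 ∧ R x {p, q} B := by
  obtain ⟨B, h4, hR⟩ := exists_R (x := x) {p, q}
  have h := card_eq_of_R hx hR (by rw [card_pair' hpq]; norm_num)
    (by rw [card_pair' hpq]; exact even_two) h4
  rw [card_pair' hpq] at h
  exact ⟨B, h.symm, hR⟩

theorem sd_card_le {B B' : Finset GolayPt} (hB : B.card = 2) (hB' : B'.card = 2) :
    (sd B B').card ≤ 4 ∧ Even (sd B B').card := by
  have := card_sd B B'
  rw [hB, hB'] at this
  constructor
  · omega
  · rw [Nat.even_iff]; omega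

theorem R_uniq (hx : Good x) {A B B' : Finset GolayPt} (hB : B.card = 2) (hB' : B'.card = 2)
    (h : R x A B) (h' : R x A B') : B = B' := by
  have h1 := R_sd h h'
  rw [sd_self] at h1
  have h2 := card_eq_of_R hx h1 (by simp) (by simp) (sd_card_le hB hB').1
  rw [Finset.card_empty] at h2
  exact sd_eq_empty (Finset.card_eq_zero.1 h2.symm)

theorem R_inj (hx : Good x) {A A' B : Finset GolayPt} (hA : A.card = 2) (hA' : A'.card = 2)
    (h : R x A B) (h' : R x A' B) : A = A' := by
  have h1 := R_sd h h'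
  rw [sd_self] at h1
  have h2 := card_eq_of_R hx h1 (sd_card_le hA hA').1 (sd_card_le hA hA').2 (by simp)
  rw [Finset.card_empty] at h2
  exact sd_eq_empty (Finset.card_eq_zero.1 h2)

/-- the images of two pairs with a common point have exactly one common point -/
theorem R_adj (hx : Good x) {p q r : GolayPt} (hpq : p ≠ q) (hpr : p ≠ r) (hqr : q ≠ r)
    {B B' : Finset GolayPt} (hB : B.card = 2) (hB' : B'.card = 2)
    (h : R x {p, q} B) (h' : R x {p, r} B') : (B ∩ B').card = 1 ∧ R x {q, r} (sd B B') := by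
  have h1 : R x {q, r} (sd B B') := by
    intro c
    rw [ev_pair hqr, ev_sd, ← h c, ← h' c, ev_pair hpq, ev_pair hpr]
    have := zadd_self (c.1 p)
    linear_combination (-1 : ZMod 2) * this
  have h2 := card_eq_of_R hx h1 (by rw [card_pair' hqr]; norm_num)
    (by rw [card_pair' hqr]; exact even_two) (sd_card_le hB hB').1
  rw [card_pair' hqr] at h2
  have h3 := card_sd B B'
  rw [hB, hB'] at h3
  exact ⟨by omega, h1⟩

theorem pair_of_mem {A : Finset GolayPt} (h : A.card = 2) {z : GolayPt} (hz : z ∈ A) :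
    ∃ y, y ≠ z ∧ A = {z, y} := by
  obtain ⟨u, v, huv, rfl⟩ := Finset.card_eq_two.1 h
  rw [Finset.mem_insert, Finset.mem_singleton] at hz
  rcases hz with rfl | rfl
  · exact ⟨v, huv.symm, rfl⟩
  · exact ⟨u, huv, Finset.pair_comm u z⟩

theorem exists_ne_two : ∀ p q : GolayPt, ∃ r, r ≠ p ∧ r ≠ q := by decide

/-- the images of the pairs through a point have a common point -/
theorem star (hx : Good x) (p : GolayPt) :
    ∃ z, ∀ q, q ≠ p → ∃ b, b ≠ z ∧ R x {p, q} {z, b} := by
  obtain ⟨q0, hq0, -⟩ := exists_ne_two p p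
  obtain ⟨r0, hr0, hr0q⟩ := exists_ne_two p q0
  obtain ⟨A0, hA0, hRA0⟩ := exists_pair hx (Ne.symm hq0)
  obtain ⟨A1, hA1, hRA1⟩ := exists_pair hx (Ne.symm hr0)
  obtain ⟨hint, hR01⟩ := R_adj hx (Ne.symm hq0) (Ne.symm hr0) (Ne.symm hr0q) hA0 hA1 hRA0 hRA1
  obtain ⟨z, hz⟩ := Finset.card_eq_one.1 hint
  have hz0 : z ∈ A0 := (Finset.mem_inter.1 (by rw [hz]; exact Finset.mem_singleton_self z)).1
  have hz1 : z ∈ A1 := (Finset.mem_inter.1 (by rw [hz]; exact Finset.mem_singleton_self z)).2
  obtain ⟨b0, hb0, rfl⟩ := pair_of_mem hA0 hz0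
  obtain ⟨c0, hc0, rfl⟩ := pair_of_mem hA1 hz1
  have hbc : b0 ≠ c0 := by
    rintro rfl
    rw [Finset.inter_self] at hint
    rw [hint] at hA0
    norm_num at hA0
  refine ⟨z, fun q hq => ?_⟩
  by_cases hqq0 : q = q0
  · subst hqq0; exact ⟨b0, hb0, hRA0⟩
  by_cases hqr0 : q = r0
  · subst hqr0; exact ⟨c0, hc0, hRA1⟩
  obtain ⟨A, hA, hRA⟩ := exists_pair hx (Ne.symm hq)
  by_cases hzA : z ∈ A
  · obtain ⟨b, hb, rfl⟩ := pair_of_mem hA hzA
    exact ⟨b, hb, hRA⟩
  · exfalso
    obtain ⟨hi0, -⟩ := R_adj hx (Ne.symm hq) (Ne.symm hq0) hqq0 hA hA0 hRA hRA0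
    obtain ⟨hi1, -⟩ := R_adj hx (Ne.symm hq) (Ne.symm hr0) hqr0 hA hA1 hRA hRA1
    have hb0A : b0 ∈ A := by
      obtain ⟨u, hu⟩ := Finset.card_eq_one.1 hi0
      have hu' : u ∈ A ∩ {z, b0} := by rw [hu]; exact Finset.mem_singleton_self u
      obtain ⟨hu1, hu2⟩ := Finset.mem_inter.1 hu'
      rw [Finset.mem_insert, Finset.mem_singleton] at hu2
      rcases hu2 with rfl | rfl
      · exact absurd hu1 hzA
      · exact hu1
    have hc0A : c0 ∈ A := by
      obtain ⟨u, hu⟩ := Finset.card_eq_one.1 hi1
      have hu' : u ∈ A ∩ {z, c0} := by rw [hu]; exact Finset.mem_singleton_self u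
      obtain ⟨hu1, hu2⟩ := Finset.mem_inter.1 hu'
      rw [Finset.mem_insert, Finset.mem_singleton] at hu2
      rcases hu2 with rfl | rfl
      · exact absurd hu1 hzA
      · exact hu1
    have hAeq : A = {b0, c0} := by
      symm
      apply Finset.eq_of_subset_of_card_le
      · intro u hu
        rw [Finset.mem_insert, Finset.mem_singleton] at hu
        rcases hu with rfl | rfl
        · exact hb0A
        · exact hc0A
      · rw [hA, card_pair' hbc]
    -- the pair `{q0, r0}` also goes to `{b0, c0}`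
    have hR2 : R x {q0, r0} {b0, c0} := by
      intro c
      rw [ev_pair (Ne.symm hr0q), ev_pair hbc]
      have e1 := hRA0 c
      have e2 := hRA1 c
      rw [ev_pair (Ne.symm hq0), ev_pair (Ne.symm hb0)] at e1
      rw [ev_pair (Ne.symm hr0), ev_pair (Ne.symm hc0)] at e2
      have e3 := zadd_self (c.1 p)
      have e4 := zadd_self ((x c).1 z)
      linear_combination e1 + e2 - e3 + e4
    rw [hAeq] at hRA
    have := R_inj hx (card_pair' (Ne.symm hq)) (card_pair' (Ne.symm hr0q)) hRA hR2
    have hp : p ∈ ({q0, r0} : Finset GolayPt) := by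
      rw [← this]; exact Finset.mem_insert_self _ _
    rw [Finset.mem_insert, Finset.mem_singleton] at hp
    rcases hp with rfl | rfl
    · exact hq0 rfl
    · exact hr0 rfl

theorem pair_eq_pair {a b c d : GolayPt} (h : ({a, b} : Finset GolayPt) = {c, d}) :
    (a = c ∧ b = d) ∨ (a = d ∧ b = c) := by
  have ha : a ∈ ({c, d} : Finset GolayPt) := by rw [← h]; exact Finset.mem_insert_self _ _
  have hb : b ∈ ({c, d} : Finset GolayPt) := by
    rw [← h]; exact Finset.mem_insert_of_mem (Finset.mem_singleton_self _)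
  have hc : c ∈ ({a, b} : Finset GolayPt) := by rw [h]; exact Finset.mem_insert_self _ _
  have hd : d ∈ ({a, b} : Finset GolayPt) := by
    rw [h]; exact Finset.mem_insert_of_mem (Finset.mem_singleton_self _)
  rw [Finset.mem_insert, Finset.mem_singleton] at ha hb hc hd
  rcases ha with ha | ha <;> rcases hb with hb | hb
  · rcases hd with hd | hd
    · exact Or.inl ⟨ha, by rw [hb, hd, ha]⟩
    · exact Or.inl ⟨ha, by rw [hd]⟩
  · exact Or.inl ⟨ha, hb⟩
  · exact Or.inr ⟨ha, hb⟩
  · rcases hc with hc | hc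
    · exact Or.inl ⟨hc.symm, hb⟩
    · exact Or.inr ⟨ha, hc.symm⟩

/-- the main theorem: `x` is a coordinate permutation modulo the all-ones word -/
theorem main (hx : Good x) :
    ∃ σ ∈ M24, ∀ c : ↥golayCode,
      ((x c : ↥golayCode) : GolayPt → ZMod 2) = (fun p => (c : GolayPt → ZMod 2) (σ.symm p)) ∨
      ((x c : ↥golayCode) : GolayPt → ZMod 2) =
        (fun p => (c : GolayPt → ZMod 2) (σ.symm p)) + fun _ => (1 : ZMod 2) := by
  choose s hs using star hx
  -- pairs go to pairs of images
  have key : ∀ p q, p ≠ q → s p ≠ s q ∧ R x {p, q} {s p, s q} := by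
    intro p q hpq
    obtain ⟨b, hb, hRb⟩ := hs p q (Ne.symm hpq)
    obtain ⟨b', hb', hRb'⟩ := hs q p hpq
    rw [Finset.pair_comm q p] at hRb'
    have heq := R_uniq hx (card_pair' (Ne.symm hb)) (card_pair' (Ne.symm hb')) hRb hRb'
    rcases pair_eq_pair heq with ⟨h1, h2⟩ | ⟨h1, h2⟩
    · exfalso
      obtain ⟨r, hrp, hrq⟩ := exists_ne_two p q
      obtain ⟨b1, hb1, hR1⟩ := hs p r hrp
      obtain ⟨b2, hb2, hR2⟩ := hs q r hrq
      rw [← h1] at hb2 hR2
      have hsum : ∀ c : ↥golayCode, c.1 p + c.1 q = (x c).1 b1 + (x c).1 b2 := by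
        intro c
        have e1 := hR1 c
        have e2 := hR2 c
        rw [ev_pair (Ne.symm hrp), ev_pair (Ne.symm hb1)] at e1
        rw [ev_pair (Ne.symm hrq), ev_pair (Ne.symm hb2)] at e2
        have e3 := zadd_self (c.1 r)
        have e4 := zadd_self ((x c).1 (s p))
        linear_combination e1 + e2 - e3 + e4
      by_cases hb12 : b1 = b2
      · -- then the pair sum vanishes on the code
        have hR0 : R x {p, q} ∅ := by
          intro c
          rw [ev_pair hpq, ev_empty, hsum c, hb12]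
          exact zadd_self _
        have := card_eq_of_R hx hR0 (by rw [card_pair' hpq]; norm_num)
          (by rw [card_pair' hpq]; exact even_two) (by simp)
        rw [card_pair' hpq] at this
        simp at this
      · have hR3 : R x {p, q} {b1, b2} := by
          intro c
          rw [ev_pair hpq, ev_pair hb12]
          exact hsum c
        have heq2 := R_uniq hx (card_pair' (Ne.symm hb)) (card_pair' hb12) hRb hR3
        have : s p ∈ ({b1, b2} : Finset GolayPt) := by
          rw [← heq2]; exact Finset.mem_insert_self _ _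
        rw [Finset.mem_insert, Finset.mem_singleton] at this
        rcases this with h | h
        · exact hb1 h.symm
        · exact hb2 h.symm
    · refine ⟨fun h => hb' (h1 ▸ h ▸ rfl), ?_⟩
      rw [h2] at hRb
      exact hRb
  have hinj : Function.Injective s := by
    intro p q h
    by_contra hpq
    exact (key p q hpq).1 h
  let σ : Equiv.Perm GolayPt := Equiv.ofBijective s (Finite.injective_iff_bijective.1 hinj)
  have hσ : ∀ p, σ p = s p := fun p => rfl
  -- the two alternatives
  have halt : ∀ c : ↥golayCode,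
      ((x c : ↥golayCode) : GolayPt → ZMod 2) = precomp σ.symm c.1 ∨
      ((x c : ↥golayCode) : GolayPt → ZMod 2) = precomp σ.symm c.1 + 1 := by
    intro c
    have hconst : ∀ p q, (x c).1 (σ p) + c.1 p = (x c).1 (σ q) + c.1 q := by
      intro p q
      by_cases hpq : p = q
      · rw [hpq]
      · have e1 := (key p q hpq).2 c
        rw [ev_pair hpq, ev_pair (key p q hpq).1] at e1
        rw [hσ, hσ]
        have e3 := zadd_self (c.1 p)
        have e4 := zadd_self ((x c).1 (s q))
        linear_combination (-1 : ZMod 2) * e1 + e3 - e4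
    rcases zmod2_cases ((x c).1 (σ none) + c.1 none) with h0 | h0
    · left
      funext p'
      rw [precomp_apply]
      have := hconst (σ.symm p') none
      rw [h0, Equiv.apply_symm_apply] at this
      have e := zadd_self (c.1 (σ.symm p'))
      linear_combination this - e
    · right
      funext p'
      rw [Pi.add_apply, precomp_apply, Pi.one_apply]
      have := hconst (σ.symm p') none
      rw [h0, Equiv.apply_symm_apply] at this
      have e := zadd_self (c.1 (σ.symm p'))
      linear_combination this - e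
  have hmem : σ ∈ M24 := by
    have h1 : σ⁻¹ ∈ M24 := by
      apply mem_M24_of_gens
      intro t
      have hc : qrWord t ∈ golayCode := qrWord_mem t
      rcases halt ⟨qrWord t, hc⟩ with h | h
      · have : precomp σ.symm (qrWord t) = (x ⟨qrWord t, hc⟩).1 := h.symm
        show precomp σ.symm (qrWord t) ∈ golayCode
        rw [this]; exact (x _).2
      · have : precomp σ.symm (qrWord t) = (x ⟨qrWord t, hc⟩).1 + 1 := by
          rw [h, add_assoc]
          have : (1 : GolayPt → ZMod 2) + 1 = 0 := by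
            funext p; exact zadd_self _
          rw [this, add_zero]
        show precomp σ.symm (qrWord t) ∈ golayCode
        rw [this]
        exact golayCode.add_mem (x _).2 one_mem_golay
    have := M24.inv_mem h1
    rwa [inv_inv] at this
  exact ⟨σ, hmem, halt⟩

end Cfsg.Agent.Lib.Helper3.Gx
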