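import Mathlib
import Cfsg.Agent.S1580

/-!
Helper library (helper3): in the standard McLaughlin configuration `(V0, -P44 none (some 0))` with
its `275` vectors, the vectors having inner product `8` resp. `16` with `-P44 none (some 1)`:
there are `112` resp. `162` of them, in two resp. three explicit families.
-/

set_option autoImplicit false

namespace Cfsg.Agent.Lib.Helper3

open Cfsg Cfsg.Agent.Lib.Helper21 Cfsg.Agent.S1578 Cfsg.Agent.S1580

/-- the standard third vector -/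
def x0f : GolayPt → ℤ := -P44 none (some 1)

theorem h01' : (none : GolayPt) ≠ some 1 := by decide

theorem dot_x0f (y : GolayPt → ℤ) : dotInt x0f y = -(4 * (y none + y (some 1))) := by
  unfold x0f; rw [dotInt_neg_left, dot_P44 h01']

/-! ### counting octads -/

theorem card_octFin_mem3 {a b c : GolayPt} (hab : a ≠ b) (hac : a ≠ c) (hbc : b ≠ c) :
    (octFin.filter (fun O => (a ∈ O ∧ b ∈ O) ∧ c ∈ O)).card = 21 := by
  classical
  have hc3 : ({a, b, c} : Finset GolayPt).card = 3 := by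
    rw [Finset.card_insert_of_notMem (by simp [hab, hac]), Finset.card_pair hbc]
  have h := (lam_5_8_24 card_golayPt octads_steiner {a, b, c}).2.2.2.1 hc3
  rw [← h]
  apply Finset.card_bij (fun O _ => O)
  · intro O hO
    obtain ⟨h1, ⟨h2, h3⟩, h4⟩ := Finset.mem_filter.1 hO
    refine Finset.mem_filter.2 ⟨mem_blocksFinset.2 (mem_octFin.1 h1), ?_⟩
    intro i hi
    rw [Finset.mem_insert, Finset.mem_insert, Finset.mem_singleton] at hi
    rcases hi with hi | hi | hi <;> rw [hi] <;> assumption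
  · intro O _ O' _ h
    exact h
  · intro O hO
    obtain ⟨h1, h2⟩ := Finset.mem_filter.1 hO
    refine ⟨O, Finset.mem_filter.2 ⟨mem_octFin.2 (mem_blocksFinset.1 h1), ⟨h2 (by simp),
      h2 (by simp)⟩, h2 (by simp)⟩, rfl⟩

theorem card_octFin_mem2_not {a b c : GolayPt} (hab : a ≠ b) (hac : a ≠ c) (hbc : b ≠ c) :
    (octFin.filter (fun O => (a ∈ O ∧ b ∈ O) ∧ c ∉ O)).card = 56 := by
  classical
  have h := Finset.card_filter_add_card_filter_not (s := octFin.filter (fun O => a ∈ O ∧ b ∈ O))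
    (fun O => c ∈ O)
  rw [Finset.filter_filter, Finset.filter_filter, card_octFin_mem2 hab,
    card_octFin_mem3 hab hac hbc] at h
  omega

theorem card_octFin_mem_not {a b : GolayPt} (hab : a ≠ b) :
    (octFin.filter (fun O => a ∈ O ∧ b ∉ O)).card = 176 := by
  classical
  have h := Finset.card_filter_add_card_filter_not (s := octFin.filter (a ∈ ·))
    (fun O => b ∈ O)
  rw [Finset.filter_filter, Finset.filter_filter, card_octFin_mem2 hab, card_octFin_mem] at h
  omega

theorem card_octFin_mem_not2 {a b c : GolayPt} (hab : a ≠ b) (hac : a ≠ c) (hbc : b ≠ c) :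
    (octFin.filter (fun O => (a ∈ O ∧ b ∉ O) ∧ c ∉ O)).card = 120 := by
  classical
  have h := Finset.card_filter_add_card_filter_not (s := octFin.filter (fun O => a ∈ O ∧ b ∉ O))
    (fun O => c ∈ O)
  rw [Finset.filter_filter, Finset.filter_filter, card_octFin_mem_not hab] at h
  have e : octFin.filter (fun O => (a ∈ O ∧ b ∉ O) ∧ c ∈ O) =
      octFin.filter (fun O => (a ∈ O ∧ c ∈ O) ∧ b ∉ O) := by
    apply Finset.filter_congr
    intro O _
    tauto
  rw [e, card_octFin_mem2_not hac hab (Ne.symm hbc)] at h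
  omega

/-! ### the families -/

def F1 : Set (GolayPt → ℤ) :=
  {x | ∃ j ∈ (((Finset.univ.erase (none : GolayPt)).erase (some 0)).erase (some 1)),
    x = sv 4 {none, j} {none, j}}
def F2 : Set (GolayPt → ℤ) :=
  {x | ∃ O ∈ octFin.filter (fun O => ((none : GolayPt) ∈ O ∧ (some 0 : GolayPt) ∈ O) ∧
    (some 1 : GolayPt) ∈ O), x = sv 2 O O}
def E2 : Set (GolayPt → ℤ) :=
  {x | ∃ O ∈ octFin.filter (fun O => ((none : GolayPt) ∈ O ∧ (some 0 : GolayPt) ∈ O) ∧
    (some 1 : GolayPt) ∉ O), x = sv 2 O O}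
def E3 : Set (GolayPt → ℤ) :=
  {x | ∃ O ∈ octFin.filter (fun O => ((none : GolayPt) ∈ O ∧ (some 1 : GolayPt) ∈ O) ∧
    (some 0 : GolayPt) ∉ O), x = ov O none}
def F3 : Set (GolayPt → ℤ) :=
  {x | ∃ O ∈ octFin.filter (fun O => ((none : GolayPt) ∈ O ∧ (some 0 : GolayPt) ∉ O) ∧
    (some 1 : GolayPt) ∉ O), x = ov O none}

theorem F1_sub {x : GolayPt → ℤ} (h : x ∈ F1) : x ∈ M1 := by
  obtain ⟨j, hj, rfl⟩ := h
  exact ⟨j, (Finset.mem_erase.1 hj).2, rfl⟩

theorem F2_sub {x : GolayPt → ℤ} (h : x ∈ F2) : x ∈ M2 := by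
  obtain ⟨O, hO, rfl⟩ := h
  obtain ⟨h1, ⟨h2, h3⟩, h4⟩ := Finset.mem_filter.1 hO
  exact ⟨O, Finset.mem_filter.2 ⟨h1, h2, h3⟩, rfl⟩

theorem E2_sub {x : GolayPt → ℤ} (h : x ∈ E2) : x ∈ M2 := by
  obtain ⟨O, hO, rfl⟩ := h
  obtain ⟨h1, ⟨h2, h3⟩, h4⟩ := Finset.mem_filter.1 hO
  exact ⟨O, Finset.mem_filter.2 ⟨h1, h2, h3⟩, rfl⟩

theorem E3_sub {x : GolayPt → ℤ} (h : x ∈ E3) : x ∈ M3 := by
  obtain ⟨O, hO, rfl⟩ := h
  obtain ⟨h1, ⟨h2, h3⟩, h4⟩ := Finset.mem_filter.1 hO
  exact ⟨O, Finset.mem_filter.2 ⟨h1, h2, h4⟩, rfl⟩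

theorem F3_sub {x : GolayPt → ℤ} (h : x ∈ F3) : x ∈ M3 := by
  obtain ⟨O, hO, rfl⟩ := h
  obtain ⟨h1, ⟨h2, h3⟩, h4⟩ := Finset.mem_filter.1 hO
  exact ⟨O, Finset.mem_filter.2 ⟨h1, h2, h3⟩, rfl⟩

theorem F1_one {x : GolayPt → ℤ} (h : x ∈ F1) : x (some 1) = 0 := by
  obtain ⟨j, hj, rfl⟩ := h
  have h1 := (Finset.mem_erase.1 hj).1
  have h3 : (some 1 : GolayPt) ∉ ({none, j} : Finset GolayPt) := by
    simp [Ne.symm h1]
  rw [sv_apply, if_neg h3, if_neg h3]

theorem F2_one {x : GolayPt → ℤ} (h : x ∈ F2) : x (some 1) = -2 := by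
  obtain ⟨O, hO, rfl⟩ := h
  obtain ⟨h1, ⟨h2, h3⟩, h4⟩ := Finset.mem_filter.1 hO
  rw [sv_apply, if_pos h4]

theorem E2_one {x : GolayPt → ℤ} (h : x ∈ E2) : x (some 1) = 0 := by
  obtain ⟨O, hO, rfl⟩ := h
  obtain ⟨h1, ⟨h2, h3⟩, h4⟩ := Finset.mem_filter.1 hO
  rw [sv_apply, if_neg h4, if_neg h4]

theorem E3_one {x : GolayPt → ℤ} (h : x ∈ E3) : x (some 1) = 1 := by
  obtain ⟨O, hO, rfl⟩ := h
  obtain ⟨h1, ⟨h2, h3⟩, h4⟩ := Finset.mem_filter.1 hO
  rw [ov_apply, if_neg (by decide), if_pos h3]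

theorem F3_one {x : GolayPt → ℤ} (h : x ∈ F3) : x (some 1) = -1 := by
  obtain ⟨O, hO, rfl⟩ := h
  obtain ⟨h1, ⟨h2, h3⟩, h4⟩ := Finset.mem_filter.1 hO
  rw [ov_apply, if_neg (by decide), if_neg h4]

theorem ncard_F1 : F1.ncard = 21 := by
  unfold F1
  rw [ncard_family]
  · rw [Finset.card_erase_of_mem, Finset.card_erase_of_mem,
      Finset.card_erase_of_mem (Finset.mem_univ _), Finset.card_univ, card_golayPt]
    · exact Finset.mem_erase.2 ⟨by decide, Finset.mem_univ _⟩
    · exact Finset.mem_erase.2 ⟨by decide, Finset.mem_erase.2 ⟨by decide, Finset.mem_univ _⟩⟩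
  · intro j hj j' hj' h
    have hj1 : j ≠ none :=
      (Finset.mem_erase.1 (Finset.mem_erase.1 (Finset.mem_erase.1 hj).2).2).1
    have h1 := (sv_inj (by norm_num) (Finset.Subset.refl _) (Finset.Subset.refl _) h).1
    have : j ∈ ({none, j'} : Finset GolayPt) := by rw [← h1]; simp
    rw [Finset.mem_insert, Finset.mem_singleton] at this
    rcases this with h2 | h2
    · exact absurd h2 hj1
    · exact h2

theorem ncard_F2 : F2.ncard = 21 := by
  unfold F2
  rw [ncard_family, card_octFin_mem3 (by decide) (by decide) (by decide)]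
  intro O hO O' hO' h
  exact (sv_inj (by norm_num) (Finset.Subset.refl _) (Finset.Subset.refl _) h).1

theorem ncard_E2 : E2.ncard = 56 := by
  unfold E2
  rw [ncard_family, card_octFin_mem2_not (by decide) (by decide) (by decide)]
  intro O hO O' hO' h
  exact (sv_inj (by norm_num) (Finset.Subset.refl _) (Finset.Subset.refl _) h).1

theorem ncard_E3 : E3.ncard = 56 := by
  unfold E3
  rw [ncard_family, card_octFin_mem2_not (by decide) (by decide) (by decide)]
  intro O hO O' hO' h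
  exact (ov_inj h).1

theorem ncard_F3 : F3.ncard = 120 := by
  unfold F3
  rw [ncard_family, card_octFin_mem_not2 (by decide) (by decide) (by decide)]
  intro O hO O' hO' h
  exact (ov_inj h).1

/-- the standard `275`-set -/
def Xstd : Set (GolayPt → ℤ) :=
  {x | x ∈ leechLattice ∧ (sqNorm x = 32 ∧ dotInt V0 x = 24 ∧ dotInt (-P44 none (some 0)) x = 16)}

theorem Xstd_eq : Xstd = M1 ∪ M2 ∪ M3 := set_eq2

theorem x0f_mem_M1 : x0f ∈ M1 := by
  refine ⟨some 1, Finset.mem_erase.2 ⟨by decide, Finset.mem_erase.2 ⟨by decide,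
    Finset.mem_univ _⟩⟩, ?_⟩
  unfold x0f
  rw [P44_eq_sv]
  funext i
  simp only [Pi.neg_apply, sv_apply]
  by_cases h : i ∈ ({none, some 1} : Finset GolayPt) <;> simp [h]

theorem x0f_mem : x0f ∈ Xstd := by rw [Xstd_eq]; exact Or.inl (Or.inl x0f_mem_M1)

theorem Zstd_eq : {x | x ∈ Xstd ∧ dotInt x0f x = 8} = E2 ∪ E3 := by
  ext x
  constructor
  · rintro ⟨hx, hd⟩
    rw [dot_x0f] at hd
    rw [Xstd_eq] at hx
    rcases hx with (h | h) | h
    · exfalso
      have hnone := G1_none (M1_sub h)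
      obtain ⟨j, hj, rfl⟩ := h
      rw [hnone, sv_apply] at hd
      split_ifs at hd <;> omega
    · have hnone := G2_none (M2_sub h)
      obtain ⟨O, hO, rfl⟩ := h
      obtain ⟨h1, h2, h3⟩ := Finset.mem_filter.1 hO
      left
      refine ⟨O, Finset.mem_filter.2 ⟨h1, ⟨h2, h3⟩, ?_⟩, rfl⟩
      intro h4
      rw [hnone, sv_apply, if_pos h4] at hd
      omega
    · have hnone := G3_none (M3_sub h)
      obtain ⟨O, hO, rfl⟩ := h
      obtain ⟨h1, h2, h3⟩ := Finset.mem_filter.1 hO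
      right
      refine ⟨O, Finset.mem_filter.2 ⟨h1, ⟨h2, ?_⟩, h3⟩, rfl⟩
      by_contra h4
      rw [hnone, ov_apply, if_neg (by decide), if_neg h4] at hd
      omega
  · rintro (h | h)
    · refine ⟨by rw [Xstd_eq]; exact Or.inl (Or.inr (E2_sub h)), ?_⟩
      rw [dot_x0f, G2_none (M2_sub (E2_sub h)), E2_one h]; norm_num
    · refine ⟨by rw [Xstd_eq]; exact Or.inr (E3_sub h), ?_⟩
      rw [dot_x0f, G3_none (M3_sub (E3_sub h)), E3_one h]; norm_num

theorem Ystd_eq : {x | x ∈ Xstd ∧ x ≠ x0f ∧ dotInt x0f x = 16} = F1 ∪ F2 ∪ F3 := by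
  ext x
  constructor
  · rintro ⟨hx, hne, hd⟩
    rw [dot_x0f] at hd
    rw [Xstd_eq] at hx
    rcases hx with (h | h) | h
    · have hnone := G1_none (M1_sub h)
      obtain ⟨j, hj, rfl⟩ := h
      left; left
      refine ⟨j, Finset.mem_erase.2 ⟨?_, hj⟩, rfl⟩
      rintro rfl
      apply hne
      unfold x0f
      rw [P44_eq_sv]
      funext i
      simp only [Pi.neg_apply, sv_apply]
      by_cases h : i ∈ ({none, some 1} : Finset GolayPt) <;> simp [h]
    · have hnone := G2_none (M2_sub h)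
      obtain ⟨O, hO, rfl⟩ := h
      obtain ⟨h1, h2, h3⟩ := Finset.mem_filter.1 hO
      left; right
      refine ⟨O, Finset.mem_filter.2 ⟨h1, ⟨h2, h3⟩, ?_⟩, rfl⟩
      by_contra h4
      rw [hnone, sv_apply, if_neg h4, if_neg h4] at hd
      omega
    · have hnone := G3_none (M3_sub h)
      obtain ⟨O, hO, rfl⟩ := h
      obtain ⟨h1, h2, h3⟩ := Finset.mem_filter.1 hO
      right
      refine ⟨O, Finset.mem_filter.2 ⟨h1, ⟨h2, h3⟩, ?_⟩, rfl⟩
      intro h4
      rw [hnone, ov_apply, if_neg (by decide), if_pos h4] at hd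
      omega
  · rintro ((h | h) | h)
    · refine ⟨by rw [Xstd_eq]; exact Or.inl (Or.inl (F1_sub h)), ?_, ?_⟩
      · intro he
        have h1 := F1_one h
        rw [he] at h1
        unfold x0f P44 at h1
        simp at h1
      · rw [dot_x0f, G1_none (M1_sub (F1_sub h)), F1_one h]; norm_num
    · refine ⟨by rw [Xstd_eq]; exact Or.inl (Or.inr (F2_sub h)), ?_, ?_⟩
      · intro he
        have h1 := F2_one h
        rw [he] at h1
        unfold x0f P44 at h1
        simp at h1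
      · rw [dot_x0f, G2_none (M2_sub (F2_sub h)), F2_one h]; norm_num
    · refine ⟨by rw [Xstd_eq]; exact Or.inr (F3_sub h), ?_, ?_⟩
      · intro he
        have h1 := F3_one h
        rw [he] at h1
        unfold x0f P44 at h1
        simp at h1
      · rw [dot_x0f, G3_none (M3_sub (F3_sub h)), F3_one h]; norm_num

theorem ncard_Zstd : {x | x ∈ Xstd ∧ dotInt x0f x = 8}.ncard = 112 := by
  rw [Zstd_eq]
  have f2 : E2.Finite := Set.finite_of_ncard_ne_zero (by rw [ncard_E2]; norm_num)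
  have f3 : E3.Finite := Set.finite_of_ncard_ne_zero (by rw [ncard_E3]; norm_num)
  have d : Disjoint E2 E3 := by
    rw [Set.disjoint_left]
    intro x h1 h2
    have := G2_none (M2_sub (E2_sub h1))
    have := G3_none (M3_sub (E3_sub h2))
    omega
  rw [Set.ncard_union_eq d f2 f3, ncard_E2, ncard_E3]

theorem ncard_Ystd : {x | x ∈ Xstd ∧ x ≠ x0f ∧ dotInt x0f x = 16}.ncard = 162 := by
  rw [Ystd_eq]
  have f1 : F1.Finite := Set.finite_of_ncard_ne_zero (by rw [ncard_F1]; norm_num)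
  have f2 : F2.Finite := Set.finite_of_ncard_ne_zero (by rw [ncard_F2]; norm_num)
  have f3 : F3.Finite := Set.finite_of_ncard_ne_zero (by rw [ncard_F3]; norm_num)
  have d12 : Disjoint F1 F2 := by
    rw [Set.disjoint_left]
    intro x h1 h2
    have := G1_none (M1_sub (F1_sub h1))
    have := G2_none (M2_sub (F2_sub h2))
    omega
  have d3 : Disjoint (F1 ∪ F2) F3 := by
    rw [Set.disjoint_left]
    rintro x (h1 | h1) h2
    · have := G1_none (M1_sub (F1_sub h1))
      have := G3_none (M3_sub (F3_sub h2))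
      omega
    · have := G2_none (M2_sub (F2_sub h1))
      have := G3_none (M3_sub (F3_sub h2))
      omega
  rw [Set.ncard_union_eq d3 (f1.union f2) f3, Set.ncard_union_eq d12 f1 f2, ncard_F1, ncard_F2,
    ncard_F3]

/-- the values of the inner product with the standard third vector on the `275`-set -/
theorem dot_x0f_cases {x : GolayPt → ℤ} (hx : x ∈ Xstd) (hne : x ≠ x0f) :
    dotInt x0f x = 8 ∨ dotInt x0f x = 16 := by
  rw [dot_x0f]
  rw [Xstd_eq] at hx
  rcases hx with (h | h) | h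
  · have hnone := G1_none (M1_sub h)
    obtain ⟨j, hj, rfl⟩ := h
    right
    have hj1 : j ≠ some 1 := by
      rintro rfl
      apply hne
      unfold x0f
      rw [P44_eq_sv]
      funext i
      simp only [Pi.neg_apply, sv_apply]
      by_cases h : i ∈ ({none, some 1} : Finset GolayPt) <;> simp [h]
    have h3 : (some 1 : GolayPt) ∉ ({none, j} : Finset GolayPt) := by
      simp [Ne.symm hj1]
    rw [hnone, sv_apply, if_neg h3, if_neg h3]; norm_num
  · have hnone := G2_none (M2_sub h)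
    obtain ⟨O, hO, rfl⟩ := h
    rw [hnone, sv_apply]
    split_ifs <;> norm_num
  · have hnone := G3_none (M3_sub h)
    obtain ⟨O, hO, rfl⟩ := h
    rw [hnone, ov_apply, if_neg (by decide)]
    split_ifs <;> norm_num

end Cfsg.Agent.Lib.Helper3
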