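import Mathlib
import Cfsg.Agent.S1640
import Cfsg.Agent.Lib.Helper3.McLCount
import Cfsg.Agent.Lib.Helper3.McL275A
import Cfsg.Agent.Lib.Helper3.M24Flags

/-!
Helper library (helper3): the `11178` minimal vectors `y` with `V0 · y = -16`, split according to
the value `y none - y (some 0)` (a quarter of the dot product with `mS = D44 none (some 0)`),
each class described by explicit families; family cardinalities.
-/

set_option autoImplicit false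

namespace Cfsg.Agent.Lib.Helper3

open Cfsg Cfsg.Agent.Lib.Helper21 MulAction
open Cfsg.Agent.S1640 (H1 H2 H3 H4 H5)
open scoped Pointwise

theorem svA (c : ℤ) (s T : Finset GolayPt) (i : GolayPt) :
    sv c s T i = if i ∈ T then -c else if i ∈ s then c else 0 := rfl

theorem ovA (C : Finset GolayPt) (j i : GolayPt) :
    ov C j i = if i = j then (if j ∈ C then -3 else 3) else if i ∈ C then 1 else -1 := rfl

/-- the standard set of `11178` vectors (function level) -/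
def XF : Set (GolayPt → ℤ) := {x | x ∈ leechLattice ∧ (sqNorm x = 32 ∧ dotInt V0 x = -16)}

theorem XF_eq : XF = H1 ∪ H2 ∪ H3 ∪ H4 ∪ H5 := Cfsg.Agent.S1640.set_eq

/-! ### the families -/

def F16a : Set (GolayPt → ℤ) :=
  {x | ∃ j ∈ ((Finset.univ.erase (none : GolayPt)).erase (some 0)), x = sv 4 {none, j} {j}}

def F16b : Set (GolayPt → ℤ) :=
  {x | ∃ p ∈ (octFin.filter (fun O => (none : GolayPt) ∈ O ∧ (some 0 : GolayPt) ∈ O)).sigma
      (fun O => (O.erase none).erase (some 0)),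
    x = (fun p : (Σ _ : Finset GolayPt, GolayPt) => sv 2 p.1 {some 0, p.2}) p}

def F16c : Set (GolayPt → ℤ) :=
  {x | ∃ C ∈ dodFin.filter (fun C => (none : GolayPt) ∉ C ∧ (some 0 : GolayPt) ∉ C), x = ov C none}

def F0a : Set (GolayPt → ℤ) :=
  {x | ∃ O ∈ octFin.filter (fun O => (none : GolayPt) ∉ O ∧ (some 0 : GolayPt) ∉ O), x = sv 2 O ∅}

def F0b : Set (GolayPt → ℤ) :=
  {x | ∃ p ∈ (octFin.filter (fun O => (none : GolayPt) ∈ O ∧ (some 0 : GolayPt) ∈ O)).sigma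
      (fun O => ((O.erase none).erase (some 0)).powersetCard 2),
    x = (fun p : (Σ _ : Finset GolayPt, Finset GolayPt) => sv 2 p.1 p.2) p}

def F0c : Set (GolayPt → ℤ) :=
  {x | ∃ p ∈ (sixtFin.filter (fun C => (none : GolayPt) ∈ C ∧ (some 0 : GolayPt) ∈ C)).sigma
      (fun C => Cᶜ),
    x = (fun p : (Σ _ : Finset GolayPt, GolayPt) => ov p.1 p.2) p}

def FA : Set (GolayPt → ℤ) :=
  {x | ∃ O ∈ octFin.filter (fun O => (none : GolayPt) ∉ O ∧ (some 0 : GolayPt) ∈ O), x = sv 2 O ∅}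

def FB : Set (GolayPt → ℤ) :=
  {x | ∃ C ∈ sixtFin.filter (fun C => (none : GolayPt) ∈ C ∧ (some 0 : GolayPt) ∉ C),
    x = ov C (some 0)}

def F8a (y : GolayPt → ℤ) : Prop :=
  ∃ O T : Finset GolayPt, O ∈ octads ∧ (none : GolayPt) ∈ O ∧ (some 0 : GolayPt) ∉ O ∧
    T ⊆ O.erase none ∧ T.card = 2 ∧ y = sv 2 O T

def F8b (y : GolayPt → ℤ) : Prop :=
  ∃ C : Finset GolayPt, C ∈ dodecads ∧ (none : GolayPt) ∉ C ∧ (some 0 : GolayPt) ∈ C ∧ y = ov C none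

def F8c (y : GolayPt → ℤ) : Prop :=
  ∃ O ∈ octads, ∃ j : GolayPt, (none : GolayPt) ∉ O ∧ (some 0 : GolayPt) ∈ O ∧ j ∈ O ∧
    j ≠ some 0 ∧ y = ov Oᶜ j

/-! ### inclusions in the `H`-families and values -/

theorem F16a_H1 : F16a ⊆ H1 := by
  rintro y ⟨j, hj, rfl⟩
  exact ⟨j, (Finset.mem_erase.1 hj).2, rfl⟩

theorem F16a_dif {y : GolayPt → ℤ} (h : y ∈ F16a) : y none - y (some 0) = 4 := by
  obtain ⟨j, hj, rfl⟩ := h
  have hj0 : j ≠ some 0 := (Finset.mem_erase.1 hj).1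
  have hj1 : j ≠ none := (Finset.mem_erase.1 (Finset.mem_erase.1 hj).2).1
  have e1 : (none : GolayPt) ∉ ({j} : Finset GolayPt) := by
    rw [Finset.mem_singleton]; exact fun h => hj1 h.symm
  have e2 : (some 0 : GolayPt) ∉ ({j} : Finset GolayPt) := by
    rw [Finset.mem_singleton]; exact fun h => hj0 h.symm
  have e3 : (none : GolayPt) ∈ ({none, j} : Finset GolayPt) := by simp
  have e4 : (some 0 : GolayPt) ∉ ({none, j} : Finset GolayPt) := by
    rw [Finset.mem_insert, Finset.mem_singleton]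
    rintro (h | h)
    · exact hpq0 h.symm
    · exact hj0 h.symm
  rw [svA, svA, if_neg e1, if_pos e3, if_neg e2, if_neg e4]
  norm_num

theorem F16b_H2 : F16b ⊆ H2 := by
  rintro y ⟨⟨O, k⟩, hp, rfl⟩
  obtain ⟨h1, h2⟩ := Finset.mem_sigma.1 hp
  obtain ⟨h3, h4, h5⟩ := Finset.mem_filter.1 h1
  have hk0 : k ≠ some 0 := (Finset.mem_erase.1 h2).1
  have hk1 : k ∈ O.erase none := (Finset.mem_erase.1 h2).2
  refine ⟨⟨O, {some 0, k}⟩, Finset.mem_sigma.2 ⟨Finset.mem_filter.2 ⟨h3, h4⟩,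
    Finset.mem_powersetCard.2 ⟨?_, Finset.card_pair (fun h => hk0 h.symm)⟩⟩, rfl⟩
  intro i hi
  rw [Finset.mem_insert, Finset.mem_singleton] at hi
  rcases hi with hi | hi
  · rw [hi]; exact Finset.mem_erase.2 ⟨fun h => hpq0 h.symm, h5⟩
  · rw [hi]; exact hk1

theorem F16b_dif {y : GolayPt → ℤ} (h : y ∈ F16b) : y none - y (some 0) = 4 := by
  obtain ⟨⟨O, k⟩, hp, rfl⟩ := h
  obtain ⟨h1, h2⟩ := Finset.mem_sigma.1 hp
  obtain ⟨h3, h4, h5⟩ := Finset.mem_filter.1 h1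
  have hk1 : k ≠ none := (Finset.mem_erase.1 (Finset.mem_erase.1 h2).2).1
  have e1 : (none : GolayPt) ∉ ({some 0, k} : Finset GolayPt) := by
    rw [Finset.mem_insert, Finset.mem_singleton]
    rintro (h | h)
    · exact hpq0 h
    · exact hk1 h.symm
  have e2 : (some 0 : GolayPt) ∈ ({some 0, k} : Finset GolayPt) := by simp
  beta_reduce
  rw [svA, svA, if_neg e1, if_pos h4, if_pos e2]
  norm_num

theorem F16c_H4 : F16c ⊆ H4 := by
  rintro y ⟨C, hC, rfl⟩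
  obtain ⟨h1, h2, h3⟩ := Finset.mem_filter.1 hC
  exact ⟨C, Finset.mem_filter.2 ⟨h1, h2⟩, rfl⟩

theorem F16c_dif {y : GolayPt → ℤ} (h : y ∈ F16c) : y none - y (some 0) = 4 := by
  obtain ⟨C, hC, rfl⟩ := h
  obtain ⟨h1, h2, h3⟩ := Finset.mem_filter.1 hC
  rw [ovA, ovA, if_pos rfl, if_neg h2, if_neg (fun h => hpq0 h.symm), if_neg h3]
  norm_num

theorem F0a_H3 : F0a ⊆ H3 := by
  rintro y ⟨O, hO, rfl⟩
  obtain ⟨h1, h2, h3⟩ := Finset.mem_filter.1 hO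
  exact ⟨O, Finset.mem_filter.2 ⟨h1, h2⟩, rfl⟩

theorem F0a_dif {y : GolayPt → ℤ} (h : y ∈ F0a) : y none - y (some 0) = 0 := by
  obtain ⟨O, hO, rfl⟩ := h
  obtain ⟨h1, h2, h3⟩ := Finset.mem_filter.1 hO
  rw [svA, svA, if_neg (Finset.notMem_empty _), if_neg h2, if_neg (Finset.notMem_empty _),
    if_neg h3]
  norm_num

theorem F0b_H2 : F0b ⊆ H2 := by
  rintro y ⟨⟨O, T⟩, hp, rfl⟩
  obtain ⟨h1, h2⟩ := Finset.mem_sigma.1 hp
  obtain ⟨h3, h4, h5⟩ := Finset.mem_filter.1 h1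
  obtain ⟨h6, h7⟩ := Finset.mem_powersetCard.1 h2
  exact ⟨⟨O, T⟩, Finset.mem_sigma.2 ⟨Finset.mem_filter.2 ⟨h3, h4⟩,
    Finset.mem_powersetCard.2 ⟨h6.trans (Finset.erase_subset _ _), h7⟩⟩, rfl⟩

theorem F0b_dif {y : GolayPt → ℤ} (h : y ∈ F0b) : y none - y (some 0) = 0 := by
  obtain ⟨⟨O, T⟩, hp, rfl⟩ := h
  obtain ⟨h1, h2⟩ := Finset.mem_sigma.1 hp
  obtain ⟨h3, h4, h5⟩ := Finset.mem_filter.1 h1
  obtain ⟨h6, h7⟩ := Finset.mem_powersetCard.1 h2
  have e1 : (none : GolayPt) ∉ T := fun h =>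
    (Finset.mem_erase.1 (Finset.mem_erase.1 (h6 h)).2).1 rfl
  have e2 : (some 0 : GolayPt) ∉ T := fun h => (Finset.mem_erase.1 (h6 h)).1 rfl
  beta_reduce
  rw [svA, svA, if_neg e1, if_pos h4, if_neg e2, if_pos h5]
  norm_num

theorem F0c_H5 : F0c ⊆ H5 := by
  rintro y ⟨⟨C, j⟩, hp, rfl⟩
  obtain ⟨h1, h2⟩ := Finset.mem_sigma.1 hp
  obtain ⟨h3, h4, h5⟩ := Finset.mem_filter.1 h1
  exact ⟨⟨C, j⟩, Finset.mem_sigma.2 ⟨Finset.mem_filter.2 ⟨h3, h4⟩, h2⟩, rfl⟩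

theorem F0c_dif {y : GolayPt → ℤ} (h : y ∈ F0c) : y none - y (some 0) = 0 := by
  obtain ⟨⟨C, j⟩, hp, rfl⟩ := h
  obtain ⟨h1, h2⟩ := Finset.mem_sigma.1 hp
  obtain ⟨h3, h4, h5⟩ := Finset.mem_filter.1 h1
  have hj : j ∉ C := Finset.mem_compl.1 h2
  have e1 : ¬ ((none : GolayPt) = j) := fun h => hj (h ▸ h4)
  have e2 : ¬ ((some 0 : GolayPt) = j) := fun h => hj (h ▸ h5)
  beta_reduce
  rw [ovA, ovA, if_neg e1, if_pos h4, if_neg e2, if_pos h5]
  norm_num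

theorem FA_H3 : FA ⊆ H3 := by
  rintro y ⟨O, hO, rfl⟩
  obtain ⟨h1, h2, h3⟩ := Finset.mem_filter.1 hO
  exact ⟨O, Finset.mem_filter.2 ⟨h1, h2⟩, rfl⟩

theorem FA_dif {y : GolayPt → ℤ} (h : y ∈ FA) : y none - y (some 0) = -2 := by
  obtain ⟨O, hO, rfl⟩ := h
  obtain ⟨h1, h2, h3⟩ := Finset.mem_filter.1 hO
  rw [svA, svA, if_neg (Finset.notMem_empty _), if_neg h2, if_neg (Finset.notMem_empty _),
    if_pos h3]
  norm_num

theorem FB_H5 : FB ⊆ H5 := by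
  rintro y ⟨C, hC, rfl⟩
  obtain ⟨h1, h2, h3⟩ := Finset.mem_filter.1 hC
  exact ⟨⟨C, some 0⟩, Finset.mem_sigma.2 ⟨Finset.mem_filter.2 ⟨h1, h2⟩, Finset.mem_compl.2 h3⟩, rfl⟩

theorem FB_dif {y : GolayPt → ℤ} (h : y ∈ FB) : y none - y (some 0) = -2 := by
  obtain ⟨C, hC, rfl⟩ := h
  obtain ⟨h1, h2, h3⟩ := Finset.mem_filter.1 hC
  rw [ovA, ovA, if_neg hpq0, if_pos h2, if_pos rfl, if_neg h3]
  norm_num

theorem H_sub_XF {y : GolayPt → ℤ} (h : y ∈ H1 ∪ H2 ∪ H3 ∪ H4 ∪ H5) : y ∈ XF := by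
  rw [XF_eq]; exact h


/-! ### the case analysis -/

theorem D44_dif : D44 none (some 0) none - D44 none (some 0) (some 0) = 8 := by
  unfold D44
  rw [if_pos rfl, if_neg (fun h => hpq0 h.symm), if_pos rfl]
  norm_num

theorem XF_cases {y : GolayPt → ℤ} (hy : y ∈ XF) :
    y = D44 none (some 0) ∨
    (y none - y (some 0) = 4 ∧ (y ∈ F16a ∨ y ∈ F16b ∨ y ∈ F16c)) ∨
    (y none - y (some 0) = 2 ∧ (F8a y ∨ F8b y ∨ F8c y)) ∨
    (y none - y (some 0) = 0 ∧ (y ∈ F0a ∨ y ∈ F0b ∨ y ∈ F0c)) ∨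
    (y none - y (some 0) = -2 ∧ (y ∈ FA ∨ y ∈ FB)) := by
  rw [XF_eq] at hy
  rcases hy with (((h | h) | h) | h) | h
  · obtain ⟨j, hj, rfl⟩ := h
    by_cases hj0 : j = some 0
    · left
      subst hj0
      funext i
      rw [svA]
      unfold D44
      by_cases h1 : i = none
      · subst h1
        rw [if_neg (by decide), if_pos (by decide), if_pos rfl]
      · by_cases h2 : i = some 0
        · subst h2
          rw [if_pos (by decide), if_neg (by decide), if_pos rfl]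
        · rw [if_neg (by simp [h2]), if_neg (by simp [h1, h2]), if_neg h1, if_neg h2]
    · right; left
      have hm : sv 4 {none, j} {j} ∈ F16a := ⟨j, Finset.mem_erase.2 ⟨hj0, hj⟩, rfl⟩
      exact ⟨F16a_dif hm, Or.inl hm⟩
  · obtain ⟨⟨O, T⟩, hp, rfl⟩ := h
    obtain ⟨h1, h2⟩ := Finset.mem_sigma.1 hp
    obtain ⟨h3, h4⟩ := Finset.mem_filter.1 h1
    obtain ⟨h6, h7⟩ := Finset.mem_powersetCard.1 h2
    by_cases h0 : (some 0 : GolayPt) ∈ O
    · by_cases hT : (some 0 : GolayPt) ∈ T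
      · right; left
        have hc : (T.erase (some 0)).card = 1 := by rw [Finset.card_erase_of_mem hT, h7]
        obtain ⟨k, hk⟩ := Finset.card_eq_one.1 hc
        have hkT : k ∈ T.erase (some 0) := by rw [hk]; exact Finset.mem_singleton_self k
        have hk0 : k ≠ some 0 := (Finset.mem_erase.1 hkT).1
        have hkT' : k ∈ T := (Finset.mem_erase.1 hkT).2
        have hTeq : T = {some 0, k} := by rw [← hk, Finset.insert_erase hT]
        have hm : sv 2 O T ∈ F16b := by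
          refine ⟨⟨O, k⟩, Finset.mem_sigma.2 ⟨Finset.mem_filter.2 ⟨h3, h4, h0⟩,
            Finset.mem_erase.2 ⟨hk0, h6 hkT'⟩⟩, ?_⟩
          rw [hTeq]
        exact ⟨F16b_dif hm, Or.inr (Or.inl hm)⟩
      · right; right; right; left
        have hm : sv 2 O T ∈ F0b := ⟨⟨O, T⟩, Finset.mem_sigma.2 ⟨Finset.mem_filter.2 ⟨h3, h4, h0⟩,
          Finset.mem_powersetCard.2 ⟨Finset.subset_erase.2 ⟨h6, hT⟩, h7⟩⟩, rfl⟩
        exact ⟨F0b_dif hm, Or.inr (Or.inl hm)⟩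
    · right; right; left
      have e1 : (none : GolayPt) ∉ T := fun h => (Finset.mem_erase.1 (h6 h)).1 rfl
      have e2 : (some 0 : GolayPt) ∉ T := fun h => h0 (Finset.mem_erase.1 (h6 h)).2
      refine ⟨?_, Or.inl ⟨O, T, mem_octFin.1 h3, h4, h0, h6, h7, rfl⟩⟩
      beta_reduce
      rw [svA, svA, if_neg e1, if_pos h4, if_neg e2, if_neg h0]
      norm_num
  · obtain ⟨O, hO, rfl⟩ := h
    obtain ⟨h3, h4⟩ := Finset.mem_filter.1 hO
    by_cases h0 : (some 0 : GolayPt) ∈ O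
    · right; right; right; right
      have hm : sv 2 O ∅ ∈ FA := ⟨O, Finset.mem_filter.2 ⟨h3, h4, h0⟩, rfl⟩
      exact ⟨FA_dif hm, Or.inl hm⟩
    · right; right; right; left
      have hm : sv 2 O ∅ ∈ F0a := ⟨O, Finset.mem_filter.2 ⟨h3, h4, h0⟩, rfl⟩
      exact ⟨F0a_dif hm, Or.inl hm⟩
  · obtain ⟨C, hC, rfl⟩ := h
    obtain ⟨h3, h4⟩ := Finset.mem_filter.1 hC
    by_cases h0 : (some 0 : GolayPt) ∈ C
    · right; right; left
      refine ⟨?_, Or.inr (Or.inl ⟨C, mem_dodFin.1 h3, h4, h0, rfl⟩)⟩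
      rw [ovA, ovA, if_pos rfl, if_neg h4, if_neg (fun h => hpq0 h.symm), if_pos h0]
      norm_num
    · right; left
      have hm : ov C none ∈ F16c := ⟨C, Finset.mem_filter.2 ⟨h3, h4, h0⟩, rfl⟩
      exact ⟨F16c_dif hm, Or.inr (Or.inr hm)⟩
  · obtain ⟨⟨C, j⟩, hp, rfl⟩ := h
    obtain ⟨h1, h2⟩ := Finset.mem_sigma.1 hp
    obtain ⟨h3, h4⟩ := Finset.mem_filter.1 h1
    have hj : j ∉ C := Finset.mem_compl.1 h2
    by_cases h0 : (some 0 : GolayPt) ∈ C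
    · right; right; right; left
      have hm : ov C j ∈ F0c :=
        ⟨⟨C, j⟩, Finset.mem_sigma.2 ⟨Finset.mem_filter.2 ⟨h3, h4, h0⟩, h2⟩, rfl⟩
      exact ⟨F0c_dif hm, Or.inr (Or.inr hm)⟩
    · by_cases hj0 : j = some 0
      · right; right; right; right
        subst hj0
        have hm : ov C (some 0) ∈ FB := ⟨C, Finset.mem_filter.2 ⟨h3, h4, h0⟩, rfl⟩
        exact ⟨FB_dif hm, Or.inr hm⟩
      · right; right; left
        have hO : Cᶜ ∈ octads := compl_mem_octads (mem_sixtFin.1 h3)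
        have e1 : ¬ ((none : GolayPt) = j) := fun h => hj (h ▸ h4)
        refine ⟨?_, Or.inr (Or.inr ⟨Cᶜ, hO, j, ?_, Finset.mem_compl.2 h0, h2, hj0,
          by rw [compl_compl]⟩)⟩
        · beta_reduce
          rw [ovA, ovA, if_neg e1, if_pos h4, if_neg (fun h => hj0 h.symm), if_neg h0]
          norm_num
        · rw [Finset.mem_compl, not_not]; exact h4

end Cfsg.Agent.Lib.Helper3
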