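import Mathlib
import Cfsg.Agent.Lib.Helper3.HS11178A

/-!
Helper library (helper3): cardinalities of the families and of the classes of the `11178` set.
-/

set_option autoImplicit false

namespace Cfsg.Agent.Lib.Helper3

open Cfsg Cfsg.Agent.Lib.Helper21 MulAction
open Cfsg.Agent.S1640 (H1 H2 H3 H4 H5)
open scoped Pointwise

theorem card_oct_A :
    (octFin.filter (fun O => (none : GolayPt) ∉ O ∧ (some 0 : GolayPt) ∈ O)).card = 176 := by
  rw [← card_octFin_mem_not (a := some 0) (b := none) (fun h => hpq0 h.symm)]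
  congr 1
  apply Finset.filter_congr
  intro O _
  tauto

theorem card_oct_0 :
    (octFin.filter (fun O => (none : GolayPt) ∉ O ∧ (some 0 : GolayPt) ∉ O)).card = 330 := by
  classical
  have h := Finset.card_filter_add_card_filter_not
    (s := octFin.filter (fun O => (none : GolayPt) ∉ O)) (fun O => (some 0 : GolayPt) ∈ O)
  rw [Finset.filter_filter, Finset.filter_filter, card_octFin_notMem, card_oct_A] at h
  omega

theorem card_sixtFin_filter (Q : Finset GolayPt → Prop) [DecidablePred Q] :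
    (sixtFin.filter Q).card = (octFin.filter (fun O => Q Oᶜ)).card := by
  apply Finset.card_bij (fun D _ => Dᶜ)
  · intro D hD
    rw [Finset.mem_filter] at hD ⊢
    refine ⟨mem_octFin.2 (compl_mem_octads (mem_sixtFin.1 hD.1)), ?_⟩
    rw [compl_compl]; exact hD.2
  · intro D _ D' _ h
    exact compl_injective h
  · intro D hD
    rw [Finset.mem_filter] at hD
    refine ⟨Dᶜ, ?_, compl_compl D⟩
    rw [Finset.mem_filter]
    exact ⟨mem_sixtFin.2 (compl_mem_sixteens (mem_octFin.1 hD.1)), hD.2⟩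

theorem card_sixt_B :
    (sixtFin.filter (fun C => (none : GolayPt) ∈ C ∧ (some 0 : GolayPt) ∉ C)).card = 176 := by
  rw [card_sixtFin_filter, ← card_oct_A]
  congr 1
  apply Finset.filter_congr
  intro O _
  simp only [Finset.mem_compl, not_not]

theorem card_sixt_0 :
    (sixtFin.filter (fun C => (none : GolayPt) ∈ C ∧ (some 0 : GolayPt) ∈ C)).card = 330 := by
  rw [card_sixtFin_filter, ← card_oct_0]
  congr 1
  apply Finset.filter_congr
  intro O _
  simp only [Finset.mem_compl]

theorem count_616 : ((Finset.range 4096).filter (fun c => popc 24 (encMask c) = 12 ∧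
    ((encMask c).testBit 0 = false ∧ (encMask c).testBit 5 = false))).card = 616 := by
  decide +kernel

/-- the dodecads avoiding two given points number `616` -/
theorem ncard_dod_avoid (p q : GolayPt) (hpq : p ≠ q) :
    {x : Finset GolayPt | x ∈ dodecads ∧ p ∉ x ∧ q ∉ x}.ncard = 616 := by
  have hne : ptN 0 ≠ ptN 5 := fun h => by
    have := ptN_injOn (by norm_num) (by norm_num) h
    omega
  obtain ⟨k, hk, hk2⟩ := M24_tuples 2 (by norm_num)
    ⟨![ptN 0, ptN 5], by
      intro i j h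
      fin_cases i <;> fin_cases j <;> simp at h ⊢
      · exact absurd h hne
      · exact absurd h.symm hne⟩
    ⟨![p, q], by
      intro i j h
      fin_cases i <;> fin_cases j <;> simp at h ⊢
      · exact absurd h hpq
      · exact absurd h.symm hpq⟩
  have hk0 : k (ptN 0) = p := hk2 0
  have hk5 : k (ptN 5) = q := hk2 1
  subst hk0 hk5
  refine ncard_flag (k := k) _ 12 (fun m => m.testBit 0 = false ∧ m.testBit 5 = false) 616
    (fun y => ?_) count_616
  rw [smul_mem_dodecads_iff hk, apply_mem_smul_iff, apply_mem_smul_iff,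
    ptN_mem_iff_testBit 0 (by norm_num), ptN_mem_iff_testBit 5 (by norm_num), Bool.not_eq_true,
    Bool.not_eq_true]
  rfl

theorem card_dod_16 :
    (dodFin.filter (fun C => (none : GolayPt) ∉ C ∧ (some 0 : GolayPt) ∉ C)).card = 616 := by
  rw [← ncard_dod_avoid none (some 0) hpq0, ← Set.ncard_coe_finset]
  congr 1
  ext s
  simp [mem_dodFin]

/-! ### family cardinalities -/

theorem ncard_F16a : F16a.ncard = 22 := by
  unfold F16a
  rw [ncard_family]
  · rw [Finset.card_erase_of_mem, Finset.card_erase_of_mem (Finset.mem_univ _), Finset.card_univ,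
      card_golayPt]
    exact Finset.mem_erase.2 ⟨fun h => hpq0 h.symm, Finset.mem_univ _⟩
  · intro j hj j' hj' h
    have h1 := (sv_inj (by norm_num) (by simp) (by simp) h).2
    exact Finset.singleton_injective h1

theorem ncard_F16b : F16b.ncard = 462 := by
  unfold F16b
  rw [ncard_family]
  · rw [Finset.card_sigma, Finset.sum_congr rfl (g := fun _ => 6)]
    · rw [Finset.sum_const, smul_eq_mul, card_octFin_mem2 hpq0]
    · intro O hO
      obtain ⟨h1, h2, h3⟩ := Finset.mem_filter.1 hO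
      rw [Finset.card_erase_of_mem (Finset.mem_erase.2 ⟨fun h => hpq0 h.symm, h3⟩),
        Finset.card_erase_of_mem h2, (mem_octFin.1 h1).2]
  · rintro ⟨O, k⟩ hp ⟨O', k'⟩ hp' h
    obtain ⟨h1, h2⟩ := Finset.mem_sigma.1 hp
    obtain ⟨h1', h2'⟩ := Finset.mem_sigma.1 hp'
    obtain ⟨h3, h4, h5⟩ := Finset.mem_filter.1 h1
    obtain ⟨h3', h4', h5'⟩ := Finset.mem_filter.1 h1'
    have hk : k ∈ O := (Finset.mem_erase.1 (Finset.mem_erase.1 h2).2).2
    have hk' : k' ∈ O' := (Finset.mem_erase.1 (Finset.mem_erase.1 h2').2).2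
    have hs : ({some 0, k} : Finset GolayPt) ⊆ O := by
      intro i hi
      rw [Finset.mem_insert, Finset.mem_singleton] at hi
      rcases hi with hi | hi
      · rw [hi]; exact h5
      · rw [hi]; exact hk
    have hs' : ({some 0, k'} : Finset GolayPt) ⊆ O' := by
      intro i hi
      rw [Finset.mem_insert, Finset.mem_singleton] at hi
      rcases hi with hi | hi
      · rw [hi]; exact h5'
      · rw [hi]; exact hk'
    obtain ⟨e1, e2⟩ := sv_inj (by norm_num) hs hs' h
    subst e1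
    have hm : k ∈ ({some 0, k'} : Finset GolayPt) := by rw [← e2]; simp
    rw [Finset.mem_insert, Finset.mem_singleton] at hm
    rcases hm with hm | hm
    · exact absurd hm (Finset.mem_erase.1 h2).1
    · subst hm; rfl

theorem ncard_F16c : F16c.ncard = 616 := by
  unfold F16c
  rw [ncard_family, card_dod_16]
  intro O hO O' hO' h
  exact (ov_inj h).1

theorem ncard_F0a : F0a.ncard = 330 := by
  unfold F0a
  rw [ncard_family, card_oct_0]
  intro O hO O' hO' h
  exact (sv_inj (by norm_num) (Finset.empty_subset _) (Finset.empty_subset _) h).1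

theorem ncard_F0b : F0b.ncard = 1155 := by
  unfold F0b
  rw [ncard_family]
  · rw [Finset.card_sigma, Finset.sum_congr rfl (g := fun _ => 15)]
    · rw [Finset.sum_const, smul_eq_mul, card_octFin_mem2 hpq0]
    · intro O hO
      obtain ⟨h1, h2, h3⟩ := Finset.mem_filter.1 hO
      rw [Finset.card_powersetCard,
        Finset.card_erase_of_mem (Finset.mem_erase.2 ⟨fun h => hpq0 h.symm, h3⟩),
        Finset.card_erase_of_mem h2, (mem_octFin.1 h1).2]
      decide
  · rintro ⟨O, T⟩ hp ⟨O', T'⟩ hp' h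
    obtain ⟨h1, h2⟩ := Finset.mem_sigma.1 hp
    obtain ⟨h3, h4⟩ := Finset.mem_powersetCard.1 h2
    obtain ⟨h1', h2'⟩ := Finset.mem_sigma.1 hp'
    obtain ⟨h3', h4'⟩ := Finset.mem_powersetCard.1 h2'
    obtain ⟨e1, e2⟩ := sv_inj (by norm_num)
      (h3.trans ((Finset.erase_subset _ _).trans (Finset.erase_subset _ _)))
      (h3'.trans ((Finset.erase_subset _ _).trans (Finset.erase_subset _ _))) h
    subst e1; subst e2; rfl

theorem ncard_F0c : F0c.ncard = 2640 := by
  unfold F0c
  rw [ncard_family]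
  · rw [Finset.card_sigma, Finset.sum_congr rfl (g := fun _ => 8)]
    · rw [Finset.sum_const, smul_eq_mul, card_sixt_0]
    · intro C hC
      obtain ⟨h1, h2⟩ := Finset.mem_filter.1 hC
      rw [Finset.card_compl, (mem_sixtFin.1 h1).2, card_golayPt]
  · rintro ⟨C, j⟩ hp ⟨C', j'⟩ hp' h
    obtain ⟨e1, e2⟩ := ov_inj h
    subst e1; subst e2; rfl

theorem ncard_FA : FA.ncard = 176 := by
  unfold FA
  rw [ncard_family, card_oct_A]
  intro O hO O' hO' h
  exact (sv_inj (by norm_num) (Finset.empty_subset _) (Finset.empty_subset _) h).1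

theorem ncard_FB : FB.ncard = 176 := by
  unfold FB
  rw [ncard_family, card_sixt_B]
  intro O hO O' hO' h
  exact (ov_inj h).1


/-! ### the classes -/

/-- the class of vectors of the standard `11178`-set with `y none - y (some 0) = d` -/
def ClF (d : ℤ) : Set (GolayPt → ℤ) := {y | y ∈ XF ∧ y none - y (some 0) = d}

theorem sv_eq_D44 : sv 4 {none, some 0} {some 0} = D44 none (some 0) := by
  funext i
  rw [svA]
  unfold D44
  by_cases h1 : i = none
  · subst h1
    rw [if_neg (by decide), if_pos (by decide), if_pos rfl]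
  · by_cases h2 : i = some 0
    · subst h2
      rw [if_pos (by decide), if_neg (by decide), if_pos rfl]
    · rw [if_neg (by simp [h2]), if_neg (by simp [h1, h2]), if_neg h1, if_neg h2]

theorem D44_mem_XF : D44 none (some 0) ∈ XF := by
  apply H_sub_XF
  left; left; left; left
  exact ⟨some 0, Finset.mem_erase.2 ⟨fun h => hpq0 h.symm, Finset.mem_univ _⟩, sv_eq_D44.symm⟩

theorem ClF_32 : ClF 8 = {D44 none (some 0)} := by
  ext y
  constructor
  · rintro ⟨hy, hd⟩
    rcases XF_cases hy with h | ⟨h, _⟩ | ⟨h, _⟩ | ⟨h, _⟩ | ⟨h, _⟩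
    · exact h
    all_goals omega
  · intro h
    rw [Set.mem_singleton_iff.1 h]
    exact ⟨D44_mem_XF, D44_dif⟩

theorem ClF_16 : ClF 4 = F16a ∪ F16b ∪ F16c := by
  ext y
  constructor
  · rintro ⟨hy, hd⟩
    rcases XF_cases hy with rfl | ⟨h, hm⟩ | ⟨h, _⟩ | ⟨h, _⟩ | ⟨h, _⟩
    · have := D44_dif; omega
    · rcases hm with hm | hm | hm
      · exact Or.inl (Or.inl hm)
      · exact Or.inl (Or.inr hm)
      · exact Or.inr hm
    all_goals omega
  · rintro ((hm | hm) | hm)
    · exact ⟨H_sub_XF (Or.inl (Or.inl (Or.inl (Or.inl (F16a_H1 hm))))), F16a_dif hm⟩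
    · exact ⟨H_sub_XF (Or.inl (Or.inl (Or.inl (Or.inr (F16b_H2 hm))))), F16b_dif hm⟩
    · exact ⟨H_sub_XF (Or.inl (Or.inr (F16c_H4 hm))), F16c_dif hm⟩

theorem ClF_0 : ClF 0 = F0a ∪ F0b ∪ F0c := by
  ext y
  constructor
  · rintro ⟨hy, hd⟩
    rcases XF_cases hy with rfl | ⟨h, _⟩ | ⟨h, _⟩ | ⟨h, hm⟩ | ⟨h, _⟩
    · have := D44_dif; omega
    · omega
    · omega
    · rcases hm with hm | hm | hm
      · exact Or.inl (Or.inl hm)
      · exact Or.inl (Or.inr hm)
      · exact Or.inr hm
    · omega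
  · rintro ((hm | hm) | hm)
    · exact ⟨H_sub_XF (Or.inl (Or.inl (Or.inr (F0a_H3 hm)))), F0a_dif hm⟩
    · exact ⟨H_sub_XF (Or.inl (Or.inl (Or.inl (Or.inr (F0b_H2 hm))))), F0b_dif hm⟩
    · exact ⟨H_sub_XF (Or.inr (F0c_H5 hm)), F0c_dif hm⟩

theorem ClF_m8 : ClF (-2) = FA ∪ FB := by
  ext y
  constructor
  · rintro ⟨hy, hd⟩
    rcases XF_cases hy with rfl | ⟨h, _⟩ | ⟨h, _⟩ | ⟨h, _⟩ | ⟨h, hm⟩
    · have := D44_dif; omega
    · omega
    · omega
    · omega
    · exact hm
  · rintro (hm | hm)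
    · exact ⟨H_sub_XF (Or.inl (Or.inl (Or.inr (FA_H3 hm)))), FA_dif hm⟩
    · exact ⟨H_sub_XF (Or.inr (FB_H5 hm)), FB_dif hm⟩

open Cfsg.Agent.S1640 (H1_none H2_none H3_none H4_none H5_none) in
theorem ncard_ClF_16 : (ClF 4).ncard = 1100 := by
  rw [ClF_16]
  have f1 : F16a.Finite := Set.finite_of_ncard_ne_zero (by rw [ncard_F16a]; norm_num)
  have f2 : F16b.Finite := Set.finite_of_ncard_ne_zero (by rw [ncard_F16b]; norm_num)
  have f3 : F16c.Finite := Set.finite_of_ncard_ne_zero (by rw [ncard_F16c]; norm_num)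
  have d12 : Disjoint F16a F16b := by
    rw [Set.disjoint_left]
    intro x h1 h2
    have := H1_none (F16a_H1 h1)
    have := H2_none (F16b_H2 h2)
    omega
  have d3 : Disjoint (F16a ∪ F16b) F16c := by
    rw [Set.disjoint_left]
    rintro x (h1 | h1) h2
    · have := H1_none (F16a_H1 h1)
      have := H4_none (F16c_H4 h2)
      omega
    · have := H2_none (F16b_H2 h1)
      have := H4_none (F16c_H4 h2)
      omega
  rw [Set.ncard_union_eq d3 (f1.union f2) f3, Set.ncard_union_eq d12 f1 f2, ncard_F16a,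
    ncard_F16b, ncard_F16c]

open Cfsg.Agent.S1640 (H1_none H2_none H3_none H4_none H5_none) in
theorem ncard_ClF_0 : (ClF 0).ncard = 4125 := by
  rw [ClF_0]
  have f1 : F0a.Finite := Set.finite_of_ncard_ne_zero (by rw [ncard_F0a]; norm_num)
  have f2 : F0b.Finite := Set.finite_of_ncard_ne_zero (by rw [ncard_F0b]; norm_num)
  have f3 : F0c.Finite := Set.finite_of_ncard_ne_zero (by rw [ncard_F0c]; norm_num)
  have d12 : Disjoint F0a F0b := by
    rw [Set.disjoint_left]
    intro x h1 h2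
    have := H3_none (F0a_H3 h1)
    have := H2_none (F0b_H2 h2)
    omega
  have d3 : Disjoint (F0a ∪ F0b) F0c := by
    rw [Set.disjoint_left]
    rintro x (h1 | h1) h2
    · have := H3_none (F0a_H3 h1)
      have := H5_none (F0c_H5 h2)
      omega
    · have := H2_none (F0b_H2 h1)
      have := H5_none (F0c_H5 h2)
      omega
  rw [Set.ncard_union_eq d3 (f1.union f2) f3, Set.ncard_union_eq d12 f1 f2, ncard_F0a,
    ncard_F0b, ncard_F0c]

open Cfsg.Agent.S1640 (H1_none H2_none H3_none H4_none H5_none) in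
theorem ncard_ClF_m8 : (ClF (-2)).ncard = 352 := by
  rw [ClF_m8]
  have f1 : FA.Finite := Set.finite_of_ncard_ne_zero (by rw [ncard_FA]; norm_num)
  have f2 : FB.Finite := Set.finite_of_ncard_ne_zero (by rw [ncard_FB]; norm_num)
  have d12 : Disjoint FA FB := by
    rw [Set.disjoint_left]
    intro x h1 h2
    have := H3_none (FA_H3 h1)
    have := H5_none (FB_H5 h2)
    omega
  rw [Set.ncard_union_eq d12 f1 f2, ncard_FA, ncard_FB]

theorem XF_split : XF = ClF 8 ∪ ClF 4 ∪ ClF 2 ∪ ClF 0 ∪ ClF (-2) := by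
  ext y
  constructor
  · intro hy
    rcases XF_cases hy with h | ⟨h, _⟩ | ⟨h, _⟩ | ⟨h, _⟩ | ⟨h, _⟩
    · left; left; left; left
      rw [ClF_32]; exact h
    · left; left; left; right; exact ⟨hy, h⟩
    · left; left; right; exact ⟨hy, h⟩
    · left; right; exact ⟨hy, h⟩
    · right; exact ⟨hy, h⟩
  · rintro ((((h | h) | h) | h) | h) <;> exact h.1

theorem ncard_ClF_8 : (ClF 2).ncard = 5600 := by
  have hX : XF.ncard = 11178 := Cfsg.Agent.S1640.count_V0
  have hfin : XF.Finite := Set.finite_of_ncard_ne_zero (by rw [hX]; norm_num)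
  have fin : ∀ d, (ClF d).Finite := fun d => hfin.subset (fun y hy => hy.1)
  have dj : ∀ a b : ℤ, a ≠ b → Disjoint (ClF a) (ClF b) := by
    intro a b hab
    rw [Set.disjoint_left]
    rintro y ⟨_, h1⟩ ⟨_, h2⟩
    exact hab (h1.symm.trans h2)
  have d1 : Disjoint (ClF 8) (ClF 4) := dj _ _ (by norm_num)
  have d2 : Disjoint (ClF 8 ∪ ClF 4) (ClF 2) := by
    rw [Set.disjoint_union_left]
    exact ⟨dj _ _ (by norm_num), dj _ _ (by norm_num)⟩
  have d3 : Disjoint (ClF 8 ∪ ClF 4 ∪ ClF 2) (ClF 0) := by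
    rw [Set.disjoint_union_left, Set.disjoint_union_left]
    exact ⟨⟨dj _ _ (by norm_num), dj _ _ (by norm_num)⟩, dj _ _ (by norm_num)⟩
  have d4 : Disjoint (ClF 8 ∪ ClF 4 ∪ ClF 2 ∪ ClF 0) (ClF (-2)) := by
    rw [Set.disjoint_union_left, Set.disjoint_union_left, Set.disjoint_union_left]
    exact ⟨⟨⟨dj _ _ (by norm_num), dj _ _ (by norm_num)⟩, dj _ _ (by norm_num)⟩,
      dj _ _ (by norm_num)⟩
  have hX2 : (ClF 8 ∪ ClF 4 ∪ ClF 2 ∪ ClF 0 ∪ ClF (-2)).ncard = 11178 := by
    rw [← XF_split]; exact hX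
  rw [Set.ncard_union_eq d4 ((((fin 8).union (fin 4)).union (fin 2)).union (fin 0)) (fin (-2)),
    Set.ncard_union_eq d3 (((fin 8).union (fin 4)).union (fin 2)) (fin 0),
    Set.ncard_union_eq d2 ((fin 8).union (fin 4)) (fin 2),
    Set.ncard_union_eq d1 (fin 8) (fin 4), ClF_32, Set.ncard_singleton, ncard_ClF_16,
    ncard_ClF_0, ncard_ClF_m8] at hX2
  clear hX hfin fin dj d1 d2 d3 d4
  generalize (ClF 2).ncard = n at hX2 ⊢
  omega

end Cfsg.Agent.Lib.Helper3
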