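import Mathlib
import Cfsg.Agent.Lib.Helper3.HS11178B
import Cfsg.Agent.Lib.Helper3.McLGroup
import Cfsg.Agent.S1583

/-!
Helper library (helper3): in the standard frame `u = -vS`, `x = mS`, the joint stabiliser of `u`
and `x` (a Higman–Sims group) is transitive on each class of the `11178`-set.  The argument uses
the transitivity of that group on its `100` points (`S1583`) and of `M22` on one convenient family
in each class.
-/

set_option autoImplicit false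

namespace Cfsg.Agent.Lib.Helper3

open Cfsg Cfsg.Agent.Lib.Helper21 MulAction
open scoped Pointwise

/-- the standard `u` -/
def uS : leechLattice := -vS

theorem uS_val : uS.1 = V0 := by
  funext i
  show -(p5 none i) = V0 i
  unfold p5 V0
  split_ifs <;> rfl

/-- the classes in the standard frame -/
def ClS (c : ℤ) : Set leechLattice :=
  {y | sqNorm y.1 = 32 ∧ dotInt uS.1 y.1 = -16 ∧ dotInt mS.1 y.1 = c}

theorem dot_mS (y : GolayPt → ℤ) : dotInt mS.1 y = 4 * (y none - y (some 0)) := dot_D44 hpq0 y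

theorem mem_ClS_iff (y : leechLattice) (c d : ℤ) (hc : c = 4 * d) : y ∈ ClS c ↔ y.1 ∈ ClF d := by
  subst hc
  constructor
  · rintro ⟨h1, h2, h3⟩
    rw [uS_val] at h2
    rw [dot_mS] at h3
    exact ⟨⟨y.2, h1, h2⟩, by omega⟩
  · rintro ⟨⟨_, h1, h2⟩, h3⟩
    refine ⟨h1, ?_, ?_⟩
    · rw [uS_val]; exact h2
    · rw [dot_mS, h3]

theorem ncard_ClS (c d : ℤ) (hc : c = 4 * d) : (ClS c).ncard = (ClF d).ncard := by
  have e1 : ClS c = {v : ↥leechLattice | v.1 ∈ ClF d} := by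
    ext y; exact mem_ClS_iff y c d hc
  have e2 : {x : GolayPt → ℤ | x ∈ leechLattice ∧ x ∈ ClF d} = ClF d := by
    ext x
    constructor
    · rintro ⟨_, h⟩; exact h
    · intro h; exact ⟨h.1.1, h⟩
  rw [e1, ncard_subtype (fun x => x ∈ ClF d), e2]

/-! ### the hundred points -/

def wHS : leechLattice := mS - vS

theorem vS_mS : dotInt vS.1 mS.1 = 16 := by
  show dotInt (p5 none) (D44 none (some 0)) = 16
  rw [dotInt_comm, dot_D44 hpq0]; unfold p5; simp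

theorem vS_norm' : sqNorm vS.1 = 48 := sqNorm_p5 none

theorem wHS_norm : sqNorm wHS.1 = 48 := by
  show sqNorm (mS.1 - vS.1) = 48
  rw [sqNorm_sub, mS_mem_Om.1, dotInt_comm, vS_mS, vS_norm']
  norm_num

theorem vS_wHS : dotInt vS.1 wHS.1 = -32 := by
  show dotInt vS.1 (mS.1 - vS.1) = -32
  rw [dotInt_sub_right, vS_mS, dotInt_self, vS_norm']
  norm_num

def P100 : Set leechLattice :=
  {t | sqNorm t.1 = 32 ∧ dotInt vS.1 t.1 = 24 ∧ dotInt wHS.1 t.1 = -24}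

theorem P100_trans : ∀ t ∈ P100, ∀ t' ∈ P100,
    ∃ g : ↥Co0, g • vS = vS ∧ g • mS = mS ∧ g • t = t' := by
  intro t ht t' ht'
  obtain ⟨g, h1, h2, h3⟩ :=
    (Cfsg.Agent.S1583.result vS wHS vS_norm' wHS_norm vS_wHS).2 t ht t' ht'
  refine ⟨g, h1, ?_, h3⟩
  have e : mS = wHS + vS := by unfold wHS; abel
  rw [e, co0_add, h2, h1]

theorem xS_mem_P100 : xS ∈ P100 := by
  have h : xS.1 ∈ {x : GolayPt → ℤ | x ∈ leechLattice ∧ (sqNorm x = 32 ∧
      dotInt (p5 none) x = 24 ∧ dotInt (D44 none (some 0) - p5 none) x = -24)} := by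
    rw [Cfsg.Agent.S1583.set_eq]
    exact Or.inl (Or.inl rfl)
  exact h.2

theorem ovU_mem (j : GolayPt) : ov Finset.univ j ∈ leechLattice := ov_mem univ_mem_supports j

def tJ (j : GolayPt) : leechLattice := ⟨ov Finset.univ j, ovU_mem j⟩

theorem tJ_mem_P100 {j : GolayPt} (hj1 : j ≠ none) (hj0 : j ≠ some 0) : tJ j ∈ P100 := by
  have hK : ov Finset.univ j ∈ Cfsg.Agent.S1583.K3 :=
    ⟨j, Finset.mem_erase.2 ⟨hj0, Finset.mem_erase.2 ⟨hj1, Finset.mem_univ _⟩⟩, rfl⟩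
  have h : ov Finset.univ j ∈ {x : GolayPt → ℤ | x ∈ leechLattice ∧ (sqNorm x = 32 ∧
      dotInt (p5 none) x = 24 ∧ dotInt (D44 none (some 0) - p5 none) x = -24)} := by
    rw [Cfsg.Agent.S1583.set_eq]
    exact Or.inr hK
  exact h.2

theorem dot_ovU (j : GolayPt) (y : GolayPt → ℤ) :
    dotInt (ov Finset.univ j) y = (∑ i, y i) - 4 * y j := by
  unfold dotInt
  have h : ∀ i, ov Finset.univ j i * y i = y i - (if i = j then 4 * y j else 0) := by
    intro i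
    rw [ovA]
    by_cases h : i = j
    · subst h
      rw [if_pos rfl, if_pos (Finset.mem_univ _), if_pos rfl]; ring
    · rw [if_neg h, if_pos (Finset.mem_univ _), if_neg h]; ring
  rw [Finset.sum_congr rfl (fun i _ => h i), Finset.sum_sub_distrib,
    Finset.sum_ite_eq' Finset.univ j, if_pos (Finset.mem_univ _)]

theorem dot_tJ (j : GolayPt) (y : GolayPt → ℤ) :
    dotInt (tJ j).1 y = (∑ i, y i) - 4 * y j := dot_ovU j y

/-! ### the merging argument -/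

theorem merge_trans (S F : Set leechLattice) (α : ℤ)
    (hSinv : ∀ g : ↥Co0, g • vS = vS → g • mS = mS → ∀ y ∈ S, g • y ∈ S)
    (hF : ∀ y ∈ S, dotInt xS.1 y.1 = α → y ∈ F)
    (hFt : ∀ y ∈ F, ∀ y' ∈ F, ∃ g : ↥Co0, g • vS = vS ∧ g • mS = mS ∧ g • y = y')
    (hex : ∀ y ∈ S, ∃ t ∈ P100, dotInt t.1 y.1 = α) :
    ∀ y ∈ S, ∀ y' ∈ S, ∃ g : ↥Co0, g • vS = vS ∧ g • mS = mS ∧ g • y = y' := by
  have key : ∀ y ∈ S, ∃ g : ↥Co0, g • vS = vS ∧ g • mS = mS ∧ g • y ∈ F := by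
    intro y hy
    obtain ⟨t, ht, hty⟩ := hex y hy
    obtain ⟨g, g1, g2, g3⟩ := P100_trans t ht xS xS_mem_P100
    refine ⟨g, g1, g2, hF _ (hSinv g g1 g2 y hy) ?_⟩
    have := co0_dot g.2 t y
    have g3' : g.1 t = xS := g3
    rw [g3'] at this
    show dotInt xS.1 (g.1 y).1 = α
    rw [this, hty]
  intro y hy y' hy'
  obtain ⟨g, g1, g2, g3⟩ := key y hy
  obtain ⟨g', g1', g2', g3'⟩ := key y' hy'
  obtain ⟨h, h1, h2, h3⟩ := hFt _ g3 _ g3'
  refine ⟨g'⁻¹ * h * g, ?_, ?_, ?_⟩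
  · rw [mul_smul, mul_smul, g1, h1, inv_smul_eq_iff, g1']
  · rw [mul_smul, mul_smul, g2, h2, inv_smul_eq_iff, g2']
  · rw [mul_smul, mul_smul, h3, inv_smul_eq_iff]

theorem ClS_inv (c : ℤ) (g : ↥Co0) (g1 : g • vS = vS) (g2 : g • mS = mS) :
    ∀ y ∈ ClS c, g • y ∈ ClS c := by
  rintro y ⟨h1, h2, h3⟩
  have gu : g.1 uS = uS := by
    show g • uS = uS
    unfold uS; rw [co0_neg, g1]
  have gm : g.1 mS = mS := g2
  refine ⟨?_, ?_, ?_⟩
  · show sqNorm (g.1 y).1 = 32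
    rw [g.2.2, h1]
  · have := co0_dot g.2 uS y
    rw [gu] at this
    show dotInt uS.1 (g.1 y).1 = -16
    rw [this, h2]
  · have := co0_dot g.2 mS y
    rw [gm] at this
    show dotInt mS.1 (g.1 y).1 = c
    rw [this, h3]

theorem Y_to_HS {Y : Set leechLattice} (hY : ∀ y ∈ Y, ∀ y' ∈ Y, ∃ σ : ↥M24, σ.1 none = none ∧
    σ.1 (some 0) = some 0 ∧ permHom σ • y = y') :
    ∀ y ∈ Y, ∀ y' ∈ Y, ∃ g : ↥Co0, g • vS = vS ∧ g • mS = mS ∧ g • y = y' := by
  intro y hy y' hy'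
  obtain ⟨σ, hn, h0, h⟩ := hY y hy y' hy'
  obtain ⟨e1, e2, _⟩ := permHom_fix σ hn h0
  exact ⟨permHom σ, e1, e2, h⟩

/-- the family of octads through `some 0` avoiding `none` -/
def YA : Set leechLattice :=
  {y | ∃ O ∈ octads, (none : GolayPt) ∉ O ∧ (some 0 : GolayPt) ∈ O ∧ y.1 = sv 2 O ∅}

theorem exists_ne_zero {O : Finset GolayPt} (hO : O ∈ octads) : ∃ j ∈ O, j ≠ some 0 := by
  have h1 : 1 < O.card := by rw [hO.2]; norm_num
  obtain ⟨a, ha, b, hb, hab⟩ := Finset.one_lt_card.1 h1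
  by_cases h : a = some 0
  · exact ⟨b, hb, fun hb0 => hab (h.trans hb0.symm)⟩
  · exact ⟨a, ha, h⟩

theorem YA_trans : ∀ y ∈ YA, ∀ y' ∈ YA, ∃ σ : ↥M24, σ.1 none = none ∧ σ.1 (some 0) = some 0 ∧
    permHom σ • y = y' := by
  rintro y ⟨O, hO, h1, h2, hy⟩ y' ⟨O', hO', h1', h2', hy'⟩
  obtain ⟨j, hj, hj0⟩ := exists_ne_zero hO
  obtain ⟨j', hj', hj0'⟩ := exists_ne_zero hO'
  obtain ⟨σ, hσ, e0, e1, e2, e3⟩ := flag_in_two_out hO hO' h2 hj (Ne.symm hj0) h1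
    h2' hj' (Ne.symm hj0') h1'
  refine ⟨⟨σ, hσ⟩, e3, e1, ?_⟩
  apply Subtype.ext
  rw [permHom_val, hy, hy', sv_perm, Finset.smul_finset_empty, e0]

theorem xS_val_of (y : GolayPt → ℤ) (a d : ℤ) (h1 : y none = a) (h2 : y none - y (some 0) = d) :
    dotInt xS.1 y = 4 * (2 * a - d) := by
  rw [dot_xS]
  have : y (some 0) = a - d := by omega
  rw [h1, this]; ring

end Cfsg.Agent.Lib.Helper3
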