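import Mathlib
import Cfsg.Agent.Lib.Helper3.HS11178C

/-!
Helper library (helper3): transitivity of the standard Higman–Sims group on the four classes of
the `11178`-set, and the class sizes `352`, `1100`, `4125`, `5600`.
-/

set_option autoImplicit false

namespace Cfsg.Agent.Lib.Helper3

open Cfsg Cfsg.Agent.Lib.Helper21 MulAction
open Cfsg.Agent.S1640 (H1_none H2_none H3_none H4_none H5_none)
open scoped Pointwise

theorem exists_third (j : GolayPt) : ∃ k : GolayPt, k ≠ none ∧ k ≠ some 0 ∧ k ≠ j := by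
  by_cases h : j = some 1
  · exact ⟨some 2, by decide, by decide, by rw [h]; decide⟩
  · exact ⟨some 1, by decide, by decide, fun h' => h h'.symm⟩

/-! ### class 16 -/

theorem hF_16 : ∀ y ∈ ClS 16, dotInt xS.1 y.1 = 0 → y ∈ Y2 := by
  intro y hy hv
  have hm := (mem_ClS_iff y 16 4 (by norm_num)).1 hy
  rw [ClF_16] at hm
  rcases hm with (hm | hm) | hm
  · exfalso
    have := xS_val_of y.1 4 4 (H1_none (F16a_H1 hm)) (F16a_dif hm)
    rw [this] at hv; norm_num at hv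
  · obtain ⟨⟨O, k⟩, hp, hy'⟩ := hm
    obtain ⟨h1, h2⟩ := Finset.mem_sigma.1 hp
    obtain ⟨h3, h4, h5⟩ := Finset.mem_filter.1 h1
    have hk0 : k ≠ some 0 := (Finset.mem_erase.1 h2).1
    have hk1 := Finset.mem_erase.1 (Finset.mem_erase.1 h2).2
    exact ⟨O, mem_octFin.1 h3, k, h4, h5, hk1.2, hk1.1, hk0, hy'⟩
  · exfalso
    have := xS_val_of y.1 3 4 (H4_none (F16c_H4 hm)) (F16c_dif hm)
    rw [this] at hv; norm_num at hv

theorem hex_16 : ∀ y ∈ ClS 16, ∃ t ∈ P100, dotInt t.1 y.1 = 0 := by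
  intro y hy
  have hm := (mem_ClS_iff y 16 4 (by norm_num)).1 hy
  rw [ClF_16] at hm
  rcases hm with (hm | hm) | hm
  · obtain ⟨j, hj, hy'⟩ := hm
    have hj0 : j ≠ some 0 := (Finset.mem_erase.1 hj).1
    have hj1 : j ≠ none := (Finset.mem_erase.1 (Finset.mem_erase.1 hj).2).1
    obtain ⟨k, hk1, hk0, hkj⟩ := exists_third j
    refine ⟨tJ k, tJ_mem_P100 hk1 hk0, ?_⟩
    have hsub : ({j} : Finset GolayPt) ⊆ {none, j} := by simp
    have e1 : k ∉ ({j} : Finset GolayPt) := by rw [Finset.mem_singleton]; exact hkj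
    have e2 : k ∉ ({none, j} : Finset GolayPt) := by
      rw [Finset.mem_insert, Finset.mem_singleton]
      rintro (h | h)
      · exact hk1 h
      · exact hkj h
    rw [dot_tJ, hy', sum_sv 4 hsub, Finset.card_pair (fun h => hj1 h.symm), Finset.card_singleton,
      svA, if_neg e1, if_neg e2]
    norm_num
  · refine ⟨xS, xS_mem_P100, ?_⟩
    rw [xS_val_of y.1 2 4 (H2_none (F16b_H2 hm)) (F16b_dif hm)]; norm_num
  · obtain ⟨C, hC, hy'⟩ := hm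
    obtain ⟨h1, h2, h3⟩ := Finset.mem_filter.1 hC
    have hCd := mem_dodFin.1 h1
    obtain ⟨j, hj⟩ : C.Nonempty := Finset.card_pos.1 (by rw [hCd.2]; norm_num)
    have hj1 : j ≠ none := fun h => h2 (h ▸ hj)
    have hj0 : j ≠ some 0 := fun h => h3 (h ▸ hj)
    refine ⟨tJ j, tJ_mem_P100 hj1 hj0, ?_⟩
    rw [dot_tJ, hy', sum_ov, hCd.2, if_neg h2, ovA, if_neg hj1, if_pos hj]
    norm_num

theorem ClS_trans_16 : ∀ y ∈ ClS 16, ∀ y' ∈ ClS 16,
    ∃ g : ↥Co0, g • vS = vS ∧ g • mS = mS ∧ g • y = y' :=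
  merge_trans (ClS 16) Y2 0 (ClS_inv 16) hF_16 (Y_to_HS Y2_trans) hex_16

/-! ### class 8 -/

theorem F8a_none {y : GolayPt → ℤ} (h : F8a y) : y none = 2 := by
  obtain ⟨O, T, hO, h1, h2, h3, h4, rfl⟩ := h
  have e1 : (none : GolayPt) ∉ T := fun h => (Finset.mem_erase.1 (h3 h)).1 rfl
  rw [svA, if_neg e1, if_pos h1]

theorem F8b_none {y : GolayPt → ℤ} (h : F8b y) : y none = 3 := by
  obtain ⟨C, hC, h1, h2, rfl⟩ := h
  rw [ovA, if_pos rfl, if_neg h1]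

theorem F8c_none {y : GolayPt → ℤ} (h : F8c y) : y none = 1 := by
  obtain ⟨O, hO, j, h1, h2, hj, hj0, rfl⟩ := h
  have e : ¬ ((none : GolayPt) = j) := fun h => h1 (h ▸ hj)
  rw [ovA, if_neg e, if_pos (Finset.mem_compl.2 h1)]

theorem ClF_8_cases {y : GolayPt → ℤ} (hy : y ∈ ClF 2) : F8a y ∨ F8b y ∨ F8c y := by
  obtain ⟨hy, hd⟩ := hy
  rcases XF_cases hy with rfl | ⟨h, _⟩ | ⟨h, hm⟩ | ⟨h, _⟩ | ⟨h, _⟩
  · have := D44_dif; omega
  · omega
  · exact hm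
  · omega
  · omega

theorem hF_8 : ∀ y ∈ ClS 8, dotInt xS.1 y.1 = 0 → y ∈ Y3 := by
  intro y hy hv
  have hm := (mem_ClS_iff y 8 2 (by norm_num)).1 hy
  rcases ClF_8_cases hm with h | h | h
  · exfalso
    have := xS_val_of y.1 2 2 (F8a_none h) hm.2
    rw [this] at hv; norm_num at hv
  · exfalso
    have := xS_val_of y.1 3 2 (F8b_none h) hm.2
    rw [this] at hv; norm_num at hv
  · exact h

theorem hex_8 : ∀ y ∈ ClS 8, ∃ t ∈ P100, dotInt t.1 y.1 = 0 := by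
  intro y hy
  have hm := (mem_ClS_iff y 8 2 (by norm_num)).1 hy
  rcases ClF_8_cases hm with h | h | h
  · obtain ⟨O, T, hO, h1, h2, h3, h4, hy'⟩ := h
    have hc : T.card < (O.erase none).card := by
      rw [h4, Finset.card_erase_of_mem h1, hO.2]; norm_num
    obtain ⟨j, hj, hjT⟩ := Finset.exists_mem_notMem_of_card_lt_card hc
    have hjO : j ∈ O := (Finset.mem_erase.1 hj).2
    have hj1 : j ≠ none := (Finset.mem_erase.1 hj).1
    have hj0 : j ≠ some 0 := fun h => h2 (h ▸ hjO)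
    refine ⟨tJ j, tJ_mem_P100 hj1 hj0, ?_⟩
    rw [dot_tJ, hy', sum_sv 2 (h3.trans (Finset.erase_subset _ _)), hO.2, h4, svA, if_neg hjT,
      if_pos hjO]
    norm_num
  · obtain ⟨C, hC, h1, h2, hy'⟩ := h
    have hc : 0 < (C.erase (some 0)).card := by
      rw [Finset.card_erase_of_mem h2, hC.2]; norm_num
    obtain ⟨j, hj⟩ := Finset.card_pos.1 hc
    have hjC : j ∈ C := (Finset.mem_erase.1 hj).2
    have hj0 : j ≠ some 0 := (Finset.mem_erase.1 hj).1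
    have hj1 : j ≠ none := fun h => h1 (h ▸ hjC)
    refine ⟨tJ j, tJ_mem_P100 hj1 hj0, ?_⟩
    rw [dot_tJ, hy', sum_ov, hC.2, if_neg h1, ovA, if_neg hj1, if_pos hjC]
    norm_num
  · refine ⟨xS, xS_mem_P100, ?_⟩
    rw [xS_val_of y.1 1 2 (F8c_none h) hm.2]; norm_num

theorem ClS_trans_8 : ∀ y ∈ ClS 8, ∀ y' ∈ ClS 8,
    ∃ g : ↥Co0, g • vS = vS ∧ g • mS = mS ∧ g • y = y' :=
  merge_trans (ClS 8) Y3 0 (ClS_inv 8) hF_8 (Y_to_HS Y3_trans) hex_8

/-! ### class 0 -/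

theorem hF_0 : ∀ y ∈ ClS 0, dotInt xS.1 y.1 = 0 → y ∈ Y1 := by
  intro y hy hv
  have hm := (mem_ClS_iff y 0 0 (by norm_num)).1 hy
  rw [ClF_0] at hm
  rcases hm with (hm | hm) | hm
  · obtain ⟨O, hO, hy'⟩ := hm
    obtain ⟨h1, h2, h3⟩ := Finset.mem_filter.1 hO
    exact ⟨O, mem_octFin.1 h1, h2, h3, hy'⟩
  · exfalso
    have := xS_val_of y.1 2 0 (H2_none (F0b_H2 hm)) (F0b_dif hm)
    rw [this] at hv; norm_num at hv
  · exfalso
    have := xS_val_of y.1 1 0 (H5_none (F0c_H5 hm)) (F0c_dif hm)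
    rw [this] at hv; norm_num at hv

theorem hex_0 : ∀ y ∈ ClS 0, ∃ t ∈ P100, dotInt t.1 y.1 = 0 := by
  intro y hy
  have hm := (mem_ClS_iff y 0 0 (by norm_num)).1 hy
  rw [ClF_0] at hm
  rcases hm with (hm | hm) | hm
  · refine ⟨xS, xS_mem_P100, ?_⟩
    rw [xS_val_of y.1 0 0 (H3_none (F0a_H3 hm)) (F0a_dif hm)]; norm_num
  · obtain ⟨⟨O, T⟩, hp, hy'⟩ := hm
    obtain ⟨h1, h2⟩ := Finset.mem_sigma.1 hp
    obtain ⟨h3, h4, h5⟩ := Finset.mem_filter.1 h1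
    obtain ⟨h6, h7⟩ := Finset.mem_powersetCard.1 h2
    have hO := mem_octFin.1 h3
    have hc : T.card < ((O.erase none).erase (some 0)).card := by
      rw [h7, Finset.card_erase_of_mem (Finset.mem_erase.2 ⟨fun h => hpq0 h.symm, h5⟩),
        Finset.card_erase_of_mem h4, hO.2]; norm_num
    obtain ⟨j, hj, hjT⟩ := Finset.exists_mem_notMem_of_card_lt_card hc
    have hj0 : j ≠ some 0 := (Finset.mem_erase.1 hj).1
    have hj' := Finset.mem_erase.1 (Finset.mem_erase.1 hj).2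
    refine ⟨tJ j, tJ_mem_P100 hj'.1 hj0, ?_⟩
    have hsub : T ⊆ O := h6.trans ((Finset.erase_subset _ _).trans (Finset.erase_subset _ _))
    rw [dot_tJ, hy']
    beta_reduce
    rw [sum_sv 2 hsub, hO.2, h7, svA, if_neg hjT, if_pos hj'.2]
    norm_num
  · obtain ⟨⟨C, j⟩, hp, hy'⟩ := hm
    obtain ⟨h1, h2⟩ := Finset.mem_sigma.1 hp
    obtain ⟨h3, h4, h5⟩ := Finset.mem_filter.1 h1
    have hj : j ∉ C := Finset.mem_compl.1 h2
    have hj1 : j ≠ none := fun h => hj (h ▸ h4)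
    have hj0 : j ≠ some 0 := fun h => hj (h ▸ h5)
    refine ⟨tJ j, tJ_mem_P100 hj1 hj0, ?_⟩
    rw [dot_tJ, hy']
    beta_reduce
    rw [sum_ov, (mem_sixtFin.1 h3).2, if_neg hj, ovA, if_pos rfl, if_neg hj]
    norm_num

theorem ClS_trans_0 : ∀ y ∈ ClS 0, ∀ y' ∈ ClS 0,
    ∃ g : ↥Co0, g • vS = vS ∧ g • mS = mS ∧ g • y = y' :=
  merge_trans (ClS 0) Y1 0 (ClS_inv 0) hF_0 (Y_to_HS Y1_trans) hex_0

/-! ### class -8 -/

theorem hF_m8 : ∀ y ∈ ClS (-8), dotInt xS.1 y.1 = 8 → y ∈ YA := by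
  intro y hy hv
  have hm := (mem_ClS_iff y (-8) (-2) (by norm_num)).1 hy
  rw [ClF_m8] at hm
  rcases hm with hm | hm
  · obtain ⟨O, hO, hy'⟩ := hm
    obtain ⟨h1, h2, h3⟩ := Finset.mem_filter.1 hO
    exact ⟨O, mem_octFin.1 h1, h2, h3, hy'⟩
  · exfalso
    have := xS_val_of y.1 1 (-2) (H5_none (FB_H5 hm)) (FB_dif hm)
    rw [this] at hv; norm_num at hv

theorem hex_m8 : ∀ y ∈ ClS (-8), ∃ t ∈ P100, dotInt t.1 y.1 = 8 := by
  intro y hy
  have hm := (mem_ClS_iff y (-8) (-2) (by norm_num)).1 hy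
  rw [ClF_m8] at hm
  rcases hm with hm | hm
  · refine ⟨xS, xS_mem_P100, ?_⟩
    rw [xS_val_of y.1 0 (-2) (H3_none (FA_H3 hm)) (FA_dif hm)]; norm_num
  · obtain ⟨C, hC, hy'⟩ := hm
    obtain ⟨h1, h2, h3⟩ := Finset.mem_filter.1 hC
    have hc : 0 < (C.erase none).card := by
      rw [Finset.card_erase_of_mem h2, (mem_sixtFin.1 h1).2]; norm_num
    obtain ⟨k, hk⟩ := Finset.card_pos.1 hc
    have hkC : k ∈ C := (Finset.mem_erase.1 hk).2
    have hk1 : k ≠ none := (Finset.mem_erase.1 hk).1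
    have hk0 : k ≠ some 0 := fun h => h3 (h ▸ hkC)
    refine ⟨tJ k, tJ_mem_P100 hk1 hk0, ?_⟩
    rw [dot_tJ, hy', sum_ov, (mem_sixtFin.1 h1).2, if_neg h3, ovA, if_neg hk0, if_pos hkC]
    norm_num

theorem ClS_trans_m8 : ∀ y ∈ ClS (-8), ∀ y' ∈ ClS (-8),
    ∃ g : ↥Co0, g • vS = vS ∧ g • mS = mS ∧ g • y = y' :=
  merge_trans (ClS (-8)) YA 8 (ClS_inv (-8)) hF_m8 (Y_to_HS YA_trans) hex_m8

/-! ### sizes and covering -/

theorem ncard_ClS_16 : (ClS 16).ncard = 1100 := by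
  rw [ncard_ClS 16 4 (by norm_num), ncard_ClF_16]

theorem ncard_ClS_8 : (ClS 8).ncard = 5600 := by
  rw [ncard_ClS 8 2 (by norm_num), ncard_ClF_8]

theorem ncard_ClS_0 : (ClS 0).ncard = 4125 := by
  rw [ncard_ClS 0 0 (by norm_num), ncard_ClF_0]

theorem ncard_ClS_m8 : (ClS (-8)).ncard = 352 := by
  rw [ncard_ClS (-8) (-2) (by norm_num), ncard_ClF_m8]

theorem ClS_cover (y : leechLattice) (h1 : sqNorm y.1 = 32) (h2 : dotInt uS.1 y.1 = -16) :
    y = mS ∨ y ∈ ClS (-8) ∨ y ∈ ClS 16 ∨ y ∈ ClS 0 ∨ y ∈ ClS 8 := by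
  have hy : y.1 ∈ XF := ⟨y.2, h1, by rw [← uS_val]; exact h2⟩
  rcases XF_cases hy with h | ⟨h, _⟩ | ⟨h, _⟩ | ⟨h, _⟩ | ⟨h, _⟩
  · left; exact Subtype.ext h
  · right; right; left
    exact ⟨h1, h2, by rw [dot_mS, h]; norm_num⟩
  · right; right; right; right
    exact ⟨h1, h2, by rw [dot_mS, h]; norm_num⟩
  · right; right; right; left
    exact ⟨h1, h2, by rw [dot_mS, h]; norm_num⟩
  · right; left
    exact ⟨h1, h2, by rw [dot_mS, h]; norm_num⟩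

end Cfsg.Agent.Lib.Helper3
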