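import Mathlib
import Cfsg.Prelude.Def_MonsterType
import Cfsg.Agent.S5427
import Cfsg.Agent.Lib.Helper5.ESF
import Cfsg.Agent.Lib.Helper5.ESX
import Cfsg.Agent.Lib.Helper5.ESD
import Cfsg.Agent.Lib.Helper3.ExtraspecialInv

set_option autoImplicit false
set_option maxHeartbeats 1000000

namespace Cfsg.Agent.Lib.Helper3.LargeQuot

open Cfsg.Agent.Lib.Helper5.ES

/-- a `Q`-invariant subgroup meeting `Q` nontrivially contains `ζ`. -/
theorem es_NC {X : Type*} [Group X] {Q : Subgroup X} {ζ : X} (h : ESData Q ζ) (W : Subgroup X)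
    (hW : ∀ q ∈ Q, ∀ w ∈ W, q * w * q⁻¹ ∈ W) (w : X) (hwW : w ∈ W) (hwQ : w ∈ Q) (hw1 : w ≠ 1) :
    ζ ∈ W := by
  by_cases hcen : ∀ q ∈ Q, w * q = q * w
  · rcases h.cen w hwQ hcen with h1 | h1
    · exact absurd h1 hw1
    · exact h1 ▸ hwW
  · push_neg at hcen
    obtain ⟨q, hq, hqw⟩ := hcen
    have hc : q * w * q⁻¹ * w⁻¹ ∈ W := W.mul_mem (hW q hq w hwW) (W.inv_mem hwW)
    rcases h.comm q hq w hwQ with h1 | h1
    · exfalso; apply hqw; exact (comm_eq_one_iff.mp h1).symm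
    · exact h1 ▸ hc

/-- a non-central element `x` of `Q` is `Q`-conjugate to `x ζ`. -/
theorem es_conj {X : Type*} [Group X] {Q : Subgroup X} {ζ : X} (h : ESData Q ζ) (x : X)
    (hx : x ∈ Q) (hx1 : x ≠ 1) (hxz : x ≠ ζ) : ∃ q ∈ Q, q * x * q⁻¹ = x * ζ := by
  by_cases hcen : ∀ q ∈ Q, x * q = q * x
  · rcases h.cen x hx hcen with h1 | h1
    · exact absurd h1 hx1
    · exact absurd h1 hxz
  · push_neg at hcen
    obtain ⟨q, hq, hqx⟩ := hcen
    refine ⟨q, hq, ?_⟩
    rcases h.comm q hq x hx with h1 | h1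
    · exfalso; apply hqx; exact (comm_eq_one_iff.mp h1).symm
    · calc q * x * q⁻¹ = (q * x * q⁻¹ * x⁻¹) * x := by group
        _ = ζ * x := by rw [h1]
        _ = x * ζ := h.zc x hx

/-- the killing lemma: no nontrivial `Q`-invariant subgroup on which `ζ` acts fixed-point-freely. -/
theorem es_kill {X : Type*} [Group X] [Finite X] {Q : Subgroup X} {ζ : X} (h : ESData Q ζ)
    (u : X) (huQ : u ∈ Q) (huu : u * u = 1) (huz : u ≠ ζ)
    (R : Subgroup X) (hR2 : IsPGroup 2 ↥R)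
    (hRn : ∀ c : X, u * c = c * u → ∀ r ∈ R, c * r * c⁻¹ ∈ R) (hzR : ζ ∈ R)
    (D : Subgroup X) (hDn : ∀ q ∈ Q, ∀ d ∈ D, q * d * q⁻¹ ∈ D)
    (hDfix : ∀ d ∈ D, ζ * d = d * ζ → d = 1) : D = ⊥ := by
  have hzz := h.zz
  have hzi : ζ⁻¹ = ζ := inv_eq_of_mul_eq_one_left hzz
  have hinvz := Cfsg.Agent.S5427.fpf_inverts_sub D ζ hzz (fun d hd => hDn ζ h.zQ d hd) hDfix
  have hno2 : ∀ n : ℕ, ∀ d ∈ D, d ^ (2 ^ n) = 1 → d = 1 := by
    intro n
    induction n with
    | zero => intro d _ h; simpa using h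
    | succ n ih =>
      intro d hd h
      apply ih d hd
      have he : d ^ (2 ^ n) ∈ D := D.pow_mem hd _
      apply hDfix _ he
      have h2 : d ^ (2 ^ n) * d ^ (2 ^ n) = 1 := by
        rw [← pow_add, ← two_mul, ← pow_succ']; exact h
      have h3 := hinvz _ he
      have h4 : (d ^ (2 ^ n))⁻¹ = d ^ (2 ^ n) := inv_eq_of_mul_eq_one_left h2
      rw [h4] at h3
      calc ζ * d ^ (2 ^ n) = ζ * d ^ (2 ^ n) * ζ⁻¹ * ζ := by group
        _ = d ^ (2 ^ n) * ζ := by rw [h3]
  have hufix : ∀ d ∈ D, u * d = d * u → d = 1 := by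
    intro d hd hud
    have h1 : d * ζ * d⁻¹ ∈ R := hRn d hud ζ hzR
    have h2 : d * ζ * d⁻¹ * ζ⁻¹ ∈ R := R.mul_mem h1 (R.inv_mem hzR)
    have h3 : d * ζ * d⁻¹ * ζ⁻¹ = d * d := by
      have := hinvz _ (D.inv_mem hd)
      rw [inv_inv] at this
      calc d * ζ * d⁻¹ * ζ⁻¹ = d * (ζ * d⁻¹ * ζ⁻¹) := by group
        _ = d * d := by rw [this]
    rw [h3] at h2
    obtain ⟨n, hn⟩ := hR2 ⟨d * d, h2⟩
    have hn' : (d * d) ^ (2 ^ n) = 1 := by
      have := congrArg Subtype.val hn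
      simpa using this
    apply hno2 (n + 1) d hd
    rw [pow_succ', pow_mul, pow_two]
    exact hn'
  have hinvu := Cfsg.Agent.S5427.fpf_inverts_sub D u huu (fun d hd => hDn u huQ d hd) hufix
  have hzu : ζ * u ∈ Subgroup.centralizer (D : Set X) := by
    rw [Subgroup.mem_centralizer_iff]
    intro d hd
    have h1 := hinvu d hd
    have h2 := hinvz _ (D.inv_mem hd)
    rw [inv_inv] at h2
    have h3 : (ζ * u) * d * (ζ * u)⁻¹ = d := by
      calc (ζ * u) * d * (ζ * u)⁻¹ = ζ * (u * d * u⁻¹) * ζ⁻¹ := by group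
        _ = ζ * d⁻¹ * ζ⁻¹ := by rw [h1]
        _ = d := h2
    calc d * (ζ * u) = ((ζ * u) * d * (ζ * u)⁻¹) * (ζ * u) := by rw [h3]
      _ = (ζ * u) * d := by group
  have hWn : ∀ q ∈ Q, ∀ w ∈ Subgroup.centralizer (D : Set X),
      q * w * q⁻¹ ∈ Subgroup.centralizer (D : Set X) := by
    intro q hq w hw
    rw [Subgroup.mem_centralizer_iff] at hw ⊢
    intro d hd
    have hd' : q⁻¹ * d * q ∈ D := by
      have := hDn q⁻¹ (Q.inv_mem hq) d hd
      simpa using this
    have := hw _ hd'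
    calc d * (q * w * q⁻¹) = q * ((q⁻¹ * d * q) * w) * q⁻¹ := by group
      _ = q * (w * (q⁻¹ * d * q)) * q⁻¹ := by rw [this]
      _ = (q * w * q⁻¹) * d := by group
  have hzu1 : ζ * u ≠ 1 := by
    intro h
    apply huz
    have := eq_inv_of_mul_eq_one_right h
    rw [this, hzi]
  have hzc := es_NC h _ hWn (ζ * u) hzu (Q.mul_mem h.zQ huQ) hzu1
  rw [eq_bot_iff]
  intro d hd
  rw [Subgroup.mem_bot]
  apply hDfix d hd
  exact (Subgroup.mem_centralizer_iff.mp hzc d hd).symm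


/-- Large extraspecial image in the quotient by a central subgroup `{1, τ}`. -/
theorem qle {X : Type*} [Group X] [Finite X] (τ : X) (hτ1 : τ ≠ 1)
    (N : Subgroup X) [hNn : N.Normal] (hN : ∀ x : X, x ∈ N ↔ x = 1 ∨ x = τ)
    (P : Subgroup X) (ζ : X) (hζP : ζ ∈ P) (hζ1 : ζ ≠ 1) (hζτ : ζ ≠ τ) (hζζ : ζ * ζ = 1)
    (hcomm : ∀ x ∈ P, ∀ y ∈ P, x * y * x⁻¹ * y⁻¹ = 1 ∨ x * y * x⁻¹ * y⁻¹ = ζ)
    (hsq : ∀ x ∈ P, x * x = 1 ∨ x * x = ζ)
    (hζc : ∀ x ∈ P, ζ * x = x * ζ)
    (hcen : ∀ x ∈ P, (∀ y ∈ P, x * y = y * x) → x = 1 ∨ x = ζ ∨ x = τ ∨ x = τ * ζ)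
    (hP2 : IsPGroup 2 ↥P) (hna : ∃ a ∈ P, ∃ b ∈ P, a * b * a⁻¹ * b⁻¹ = ζ)
    (hfus : ∀ c : X, (c * ζ * c⁻¹ = ζ ∨ c * ζ * c⁻¹ = ζ * τ) → c * ζ = ζ * c)
    (hnorm : ∀ c : X, c * ζ = ζ * c → ∀ p ∈ P, c * p * c⁻¹ ∈ P)
    (hself : ∀ c : X, c * ζ = ζ * c → (∀ p ∈ P, c * p * c⁻¹ = p ∨ c * p * c⁻¹ = p * τ) → c ∈ P)
    (u : X) (huP : u ∈ P) (huu : u * u = 1) (huζ : u ≠ ζ) (huζτ : u ≠ ζ * τ)
    (R : Subgroup X) (hR2 : IsPGroup 2 ↥R) (hζR : ζ ∈ R)
    (hufus : ∀ c : X, (c * u * c⁻¹ = u ∨ c * u * c⁻¹ = u * τ) → c * u = u * c)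
    (hRn : ∀ c : X, c * u = u * c → ∀ r ∈ R, c * r * c⁻¹ ∈ R) :
    Cfsg.IsLargeExtraspecial (P.map (QuotientGroup.mk' N)) := by
  classical
  have hτc : ∀ x : X, τ * x = x * τ := by
    intro x
    have hmem : x * τ * x⁻¹ ∈ N := hNn.conj_mem τ ((hN τ).mpr (Or.inr rfl)) x
    rcases (hN _).mp hmem with h | h
    · exfalso; apply hτ1
      calc τ = x⁻¹ * (x * τ * x⁻¹) * x := by group
        _ = 1 := by rw [h]; group
    · calc τ * x = (x * τ * x⁻¹) * x := by rw [h]
        _ = x * τ := by group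
  have hπ : ∀ a b : X, QuotientGroup.mk' N a = QuotientGroup.mk' N b ↔ (b = a ∨ b = a * τ) := by
    intro a b
    rw [QuotientGroup.mk'_apply, QuotientGroup.mk'_apply, QuotientGroup.eq, hN]
    constructor
    · rintro (h | h)
      · left
        calc b = a * (a⁻¹ * b) := by group
          _ = a := by rw [h, mul_one]
      · right
        calc b = a * (a⁻¹ * b) := by group
          _ = a * τ := by rw [h]
    · rintro (h | h)
      · left; rw [h]; group
      · right; rw [h]; group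
  have hπτ : QuotientGroup.mk' N τ = 1 := by
    rw [QuotientGroup.mk'_apply, QuotientGroup.eq_one_iff, hN]; exact Or.inr rfl
  have hsurj := QuotientGroup.mk'_surjective N
  -- ESData in the quotient
  have hESq : ESData (P.map (QuotientGroup.mk' N)) (QuotientGroup.mk' N ζ) :=
    { zQ := Subgroup.mem_map_of_mem _ hζP
      z1 := by
        intro hh
        rw [QuotientGroup.mk'_apply, QuotientGroup.eq_one_iff, hN] at hh
        rcases hh with h | h
        · exact hζ1 h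
        · exact hζτ h
      zz := by rw [← map_mul, hζζ, map_one]
      comm := by
        rintro _ ⟨x, hx, rfl⟩ _ ⟨y, hy, rfl⟩
        rcases hcomm x hx y hy with h1 | h1
        · left; rw [← map_inv, ← map_inv, ← map_mul, ← map_mul, ← map_mul, h1, map_one]
        · right; rw [← map_inv, ← map_inv, ← map_mul, ← map_mul, ← map_mul, h1]
      zc := by
        rintro _ ⟨x, hx, rfl⟩
        rw [← map_mul, ← map_mul, hζc x hx]
      cen := by
        rintro _ ⟨x, hx, rfl⟩ hh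
        have hxc : ∀ y ∈ P, x * y = y * x := by
          intro y hy
          have h1 := hh _ (Subgroup.mem_map_of_mem _ hy)
          rw [← map_mul, ← map_mul, hπ] at h1
          have h2 := hcomm y hy x hx
          rcases h1 with h1 | h1
          · exact h1.symm
          · exfalso
            have h3 : y * x * y⁻¹ * x⁻¹ = τ := by
              have e : y * x * y⁻¹ * x⁻¹ = (y * x) * (y⁻¹ * x⁻¹) := by group
              rw [e, h1]
              calc x * y * τ * (y⁻¹ * x⁻¹) = x * y * (τ * (y⁻¹ * x⁻¹)) := by group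
                _ = x * y * ((y⁻¹ * x⁻¹) * τ) := by rw [hτc]
                _ = τ := by group
            rcases h2 with h2 | h2
            · exact hτ1 (h3 ▸ h2)
            · exact hζτ (h2.symm.trans h3)
        rcases hcen x hx hxc with h1 | h1 | h1 | h1
        · left; rw [h1, map_one]
        · right; rw [h1]
        · left; rw [h1]; exact hπτ
        · right; rw [h1, map_mul, hπτ, one_mul]
      sq := by
        rintro _ ⟨x, hx, rfl⟩
        rcases hsq x hx with h1 | h1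
        · left; rw [← map_mul, h1, map_one]
        · right; rw [← map_mul, h1] }
  have hP2q : IsPGroup 2 ↥(P.map (QuotientGroup.mk' N)) := hP2.map _
  have hnaq : ∃ a ∈ P.map (QuotientGroup.mk' N), ∃ b ∈ P.map (QuotientGroup.mk' N),
      a * b * a⁻¹ * b⁻¹ = QuotientGroup.mk' N ζ := by
    obtain ⟨a, ha, b, hb, hab⟩ := hna
    refine ⟨_, Subgroup.mem_map_of_mem _ ha, _, Subgroup.mem_map_of_mem _ hb, ?_⟩
    rw [← map_inv, ← map_inv, ← map_mul, ← map_mul, ← map_mul, hab]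
  have h1 : Cfsg.IsExtraspecial 2 ↥(P.map (QuotientGroup.mk' N)) :=
    ESData.toExtraspecial _ _ hESq hP2q hnaq
  have hliftζ : ∀ c : X, QuotientGroup.mk' N ζ * QuotientGroup.mk' N c =
      QuotientGroup.mk' N c * QuotientGroup.mk' N ζ → c * ζ = ζ * c := by
    intro c hc
    apply hfus
    have : QuotientGroup.mk' N ζ = QuotientGroup.mk' N (c * ζ * c⁻¹) := by
      rw [map_mul, map_mul, map_inv, ← hc]; group
    exact (hπ _ _).mp this
  have hliftu : ∀ c : X, QuotientGroup.mk' N u * QuotientGroup.mk' N c =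
      QuotientGroup.mk' N c * QuotientGroup.mk' N u → c * u = u * c := by
    intro c hc
    apply hufus
    have : QuotientGroup.mk' N u = QuotientGroup.mk' N (c * u * c⁻¹) := by
      rw [map_mul, map_mul, map_inv, ← hc]; group
    exact (hπ _ _).mp this
  have h2 : Subgroup.centralizer ((P.map (QuotientGroup.mk' N) : Subgroup (X ⧸ N)) : Set (X ⧸ N)) =
      (Subgroup.center ↥(P.map (QuotientGroup.mk' N))).map (P.map (QuotientGroup.mk' N)).subtype := by
    ext xb
    rw [Cfsg.Agent.Lib.Helper3.mem_center_map_subtype]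
    constructor
    · intro hx
      have hx' : ∀ w ∈ P.map (QuotientGroup.mk' N), w * xb = xb * w :=
        fun w hw => Subgroup.mem_centralizer_iff.mp hx w hw
      refine ⟨?_, hx'⟩
      obtain ⟨c, rfl⟩ := hsurj xb
      have hcζ : c * ζ = ζ * c := hliftζ c (hx' _ hESq.zQ)
      apply Subgroup.mem_map_of_mem
      apply hself c hcζ
      intro p hp
      have := hx' _ (Subgroup.mem_map_of_mem _ hp)
      have e : QuotientGroup.mk' N p = QuotientGroup.mk' N (c * p * c⁻¹) := by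
        rw [map_mul, map_mul, map_inv, ← this]; group
      exact (hπ _ _).mp e
    · rintro ⟨_, hx⟩
      rw [Subgroup.mem_centralizer_iff]
      exact hx
  have hζcenter : QuotientGroup.mk' N ζ ∈
      (Subgroup.center ↥(P.map (QuotientGroup.mk' N))).map (P.map (QuotientGroup.mk' N)).subtype := by
    rw [Cfsg.Agent.Lib.Helper3.mem_center_map_subtype]
    exact ⟨hESq.zQ, fun w hw => (hESq.zc w hw).symm⟩
  have h3 : Subgroup.centralizer (((Subgroup.center ↥(P.map (QuotientGroup.mk' N))).map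
      (P.map (QuotientGroup.mk' N)).subtype : Subgroup (X ⧸ N)) : Set (X ⧸ N)) ≤
      Subgroup.normalizer ((P.map (QuotientGroup.mk' N) : Subgroup (X ⧸ N)) : Set (X ⧸ N)) := by
    intro xb hx
    obtain ⟨c, rfl⟩ := hsurj xb
    have hcζ : c * ζ = ζ * c := hliftζ c (Subgroup.mem_centralizer_iff.mp hx _ hζcenter)
    have hcζ' : c⁻¹ * ζ = ζ * c⁻¹ := by
      calc c⁻¹ * ζ = c⁻¹ * (ζ * c) * c⁻¹ := by group
        _ = c⁻¹ * (c * ζ) * c⁻¹ := by rw [hcζ]
        _ = ζ * c⁻¹ := by group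
    rw [Subgroup.mem_normalizer_iff]
    intro yb
    constructor
    · rintro ⟨p, hp, rfl⟩
      rw [← map_inv, ← map_mul, ← map_mul]
      exact Subgroup.mem_map_of_mem _ (hnorm c hcζ p hp)
    · rintro ⟨p, hp, hpe⟩
      have hmem : c⁻¹ * p * c ∈ P := by
        have := hnorm c⁻¹ hcζ' p hp
        rwa [inv_inv] at this
      have : yb = QuotientGroup.mk' N (c⁻¹ * p * c) := by
        rw [map_mul, map_mul, map_inv, hpe]; group
      rw [this]
      exact Subgroup.mem_map_of_mem _ hmem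
  have h4 : ∀ K : Subgroup (X ⧸ N), Odd (Nat.card K) →
      P.map (QuotientGroup.mk' N) ≤ Subgroup.normalizer (K : Set (X ⧸ N)) → K = ⊥ := by
    intro K hodd hPK
    have hKn : ∀ q ∈ P.map (QuotientGroup.mk' N), ∀ d ∈ K, q * d * q⁻¹ ∈ K :=
      fun q hq d hd => ((Subgroup.mem_normalizer_iff.mp (hPK hq)) d).mp hd
    have hno2 : ∀ d ∈ K, ∀ n : ℕ, d ^ (2 ^ n) = 1 → d = 1 := by
      intro d hd n h
      have e1 : orderOf d ∣ 2 ^ n := orderOf_dvd_of_pow_eq_one h
      have e2 : orderOf d ∣ Nat.card K := Subgroup.orderOf_dvd_natCard K hd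
      have e3 : Nat.Coprime (2 ^ n) (Nat.card K) :=
        Nat.Coprime.pow_left n (Nat.coprime_two_left.mpr hodd)
      have := Nat.eq_one_of_dvd_coprimes e3 e1 e2
      exact orderOf_eq_one_iff.mp this
    have hno2P : ∀ d ∈ K, d ∈ P.map (QuotientGroup.mk' N) → d = 1 := by
      intro d hdK hdP
      obtain ⟨n, hn⟩ := hP2q ⟨d, hdP⟩
      exact hno2 d hdK n (by simpa using congrArg Subtype.val hn)
    apply es_kill hESq (QuotientGroup.mk' N u) (Subgroup.mem_map_of_mem _ huP)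
      (by rw [← map_mul, huu, map_one]) ?_ (R.map (QuotientGroup.mk' N)) (hR2.map _) ?_
      (Subgroup.mem_map_of_mem _ hζR) K hKn ?_
    · intro hh
      rcases (hπ _ _).mp hh.symm with h | h
      · exact huζ h
      · exact huζτ h
    · intro cb hcb rb hrb
      obtain ⟨c, rfl⟩ := hsurj cb
      obtain ⟨r, hr, rfl⟩ := hrb
      have hcu : c * u = u * c := hliftu c hcb
      rw [← map_inv, ← map_mul, ← map_mul]
      exact Subgroup.mem_map_of_mem _ (hRn c hcu r hr)
    · intro d hd hdz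
      have hdcen : d ∈ Subgroup.centralizer (((Subgroup.center ↥(P.map (QuotientGroup.mk' N))).map
          (P.map (QuotientGroup.mk' N)).subtype : Subgroup (X ⧸ N)) : Set (X ⧸ N)) := by
        rw [Subgroup.mem_centralizer_iff]
        intro hh hhc
        rw [SetLike.mem_coe, Cfsg.Agent.Lib.Helper3.mem_center_map_subtype] at hhc
        rcases hESq.cen hh hhc.1 (fun y hy => (hhc.2 y hy).symm) with e | e
        · rw [e]; simp
        · rw [e]; exact hdz
      have hdn := h3 hdcen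
      have hdc : d ∈ Subgroup.centralizer
          ((P.map (QuotientGroup.mk' N) : Subgroup (X ⧸ N)) : Set (X ⧸ N)) := by
        rw [Subgroup.mem_centralizer_iff]
        intro p hp
        have e1 : d * p * d⁻¹ * p⁻¹ ∈ P.map (QuotientGroup.mk' N) :=
          Subgroup.mul_mem _ (((Subgroup.mem_normalizer_iff.mp hdn) p).mp hp) (Subgroup.inv_mem _ hp)
        have e2 : d * p * d⁻¹ * p⁻¹ ∈ K := by
          have : d * p * d⁻¹ * p⁻¹ = d * (p * d⁻¹ * p⁻¹) := by group
          rw [this]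
          exact K.mul_mem hd (hKn p hp _ (K.inv_mem hd))
        have e3 := hno2P _ e2 e1
        exact (comm_eq_one_iff.mp e3).symm
      rw [h2, Cfsg.Agent.Lib.Helper3.mem_center_map_subtype] at hdc
      exact hno2P d hd hdc.1
  exact ⟨h1, h2, h3, h4⟩

end Cfsg.Agent.Lib.Helper3.LargeQuot
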