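import Mathlib
import Cfsg.Prelude.Def_MonsterType
import Cfsg.Agent.Lib.Helper3.LargeQuot
import Cfsg.Agent.Lib.Helper5.LEF
import Cfsg.Agent.Lib.Helper13.Coprime

set_option autoImplicit false
set_option maxHeartbeats 1000000

namespace Cfsg.Agent.Lib.Helper3.LargeQuot

open Cfsg.Agent.Lib.Helper5.ES

/-- abstract criterion for a large extraspecial subgroup. -/
theorem le_of {X : Type*} [Group X] [Finite X] (P : Subgroup X) (ζ : X) (hES : ESData P ζ)
    (hP2 : IsPGroup 2 ↥P) (hna : ∃ a ∈ P, ∃ b ∈ P, a * b * a⁻¹ * b⁻¹ = ζ)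
    (hc2 : ∀ x : X, (∀ w ∈ P, w * x = x * w) → x ∈ P)
    (hc3 : ∀ x : X, ζ * x = x * ζ → ∀ y ∈ P, x * y * x⁻¹ ∈ P)
    (u : X) (huP : u ∈ P) (huu : u * u = 1) (huζ : u ≠ ζ)
    (R : Subgroup X) (hR2 : IsPGroup 2 ↥R) (hζR : ζ ∈ R)
    (hRn : ∀ c : X, u * c = c * u → ∀ r ∈ R, c * r * c⁻¹ ∈ R) :
    Cfsg.IsLargeExtraspecial P := by
  classical
  have h1 : Cfsg.IsExtraspecial 2 ↥P := ESData.toExtraspecial _ _ hES hP2 hna
  have h2 : Subgroup.centralizer (P : Set X) = (Subgroup.center ↥P).map P.subtype := by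
    ext x
    rw [Cfsg.Agent.Lib.Helper3.mem_center_map_subtype]
    constructor
    · intro hx
      have hx' : ∀ w ∈ P, w * x = x * w := fun w hw => Subgroup.mem_centralizer_iff.mp hx w hw
      exact ⟨hc2 x hx', hx'⟩
    · rintro ⟨_, hx⟩
      rw [Subgroup.mem_centralizer_iff]
      exact hx
  have hζcenter : ζ ∈ (Subgroup.center ↥P).map P.subtype := by
    rw [Cfsg.Agent.Lib.Helper3.mem_center_map_subtype]
    exact ⟨hES.zQ, fun w hw => (hES.zc w hw).symm⟩
  have h3 : Subgroup.centralizer (((Subgroup.center ↥P).map P.subtype : Subgroup X) : Set X) ≤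
      Subgroup.normalizer (P : Set X) := by
    intro x hx
    have hxζ : ζ * x = x * ζ := Subgroup.mem_centralizer_iff.mp hx _ hζcenter
    have hxζ' : ζ * x⁻¹ = x⁻¹ * ζ := by
      calc ζ * x⁻¹ = x⁻¹ * (x * ζ) * x⁻¹ := by group
        _ = x⁻¹ * (ζ * x) * x⁻¹ := by rw [hxζ]
        _ = x⁻¹ * ζ := by group
    rw [Subgroup.mem_normalizer_iff]
    intro y
    constructor
    · exact hc3 x hxζ y
    · intro hy
      have := hc3 x⁻¹ hxζ' _ hy
      have e : x⁻¹ * (x * y * x⁻¹) * x⁻¹⁻¹ = y := by group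
      rwa [e] at this
  have h4 : ∀ K : Subgroup X, Odd (Nat.card K) → P ≤ Subgroup.normalizer (K : Set X) → K = ⊥ := by
    intro K hodd hPK
    have hKn : ∀ q ∈ P, ∀ d ∈ K, q * d * q⁻¹ ∈ K :=
      fun q hq d hd => ((Subgroup.mem_normalizer_iff.mp (hPK hq)) d).mp hd
    have hno2 : ∀ d ∈ K, ∀ n : ℕ, d ^ (2 ^ n) = 1 → d = 1 := by
      intro d hd n h
      have e1 : orderOf d ∣ 2 ^ n := orderOf_dvd_of_pow_eq_one h
      have e2 : orderOf d ∣ Nat.card K := Subgroup.orderOf_dvd_natCard K hd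
      have e3 : Nat.Coprime (2 ^ n) (Nat.card K) :=
        Nat.Coprime.pow_left n (Nat.coprime_two_left.mpr hodd)
      have := Nat.eq_one_of_dvd_coprimes e3 e1 e2
      exact orderOf_eq_one_iff.mp this
    have hno2P : ∀ d ∈ K, d ∈ P → d = 1 := by
      intro d hdK hdP
      obtain ⟨n, hn⟩ := hP2 ⟨d, hdP⟩
      exact hno2 d hdK n (by simpa using congrArg Subtype.val hn)
    apply es_kill hES u huP huu huζ R hR2 hRn hζR K hKn
    intro d hd hdz
    have hdcen : d ∈ Subgroup.centralizer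
        (((Subgroup.center ↥P).map P.subtype : Subgroup X) : Set X) := by
      rw [Subgroup.mem_centralizer_iff]
      intro hh hhc
      rw [SetLike.mem_coe, Cfsg.Agent.Lib.Helper3.mem_center_map_subtype] at hhc
      rcases hES.cen hh hhc.1 (fun y hy => (hhc.2 y hy).symm) with e | e
      · rw [e]; simp
      · rw [e]; exact hdz
    have hdn := h3 hdcen
    have hdc : d ∈ Subgroup.centralizer (P : Set X) := by
      rw [Subgroup.mem_centralizer_iff]
      intro p hp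
      have e1 : d * p * d⁻¹ * p⁻¹ ∈ P :=
        Subgroup.mul_mem _ (((Subgroup.mem_normalizer_iff.mp hdn) p).mp hp) (Subgroup.inv_mem _ hp)
      have e2 : d * p * d⁻¹ * p⁻¹ ∈ K := by
        have : d * p * d⁻¹ * p⁻¹ = d * (p * d⁻¹ * p⁻¹) := by group
        rw [this]
        exact K.mul_mem hd (hKn p hp _ (K.inv_mem hd))
      have e3 := hno2P _ e2 e1
      exact (comm_eq_one_iff.mp e3).symm
    rw [h2, Cfsg.Agent.Lib.Helper3.mem_center_map_subtype] at hdc
    exact hno2P d hd hdc.1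
  exact ⟨h1, h2, h3, h4⟩

/-- an element of an odd-order subgroup commuting with a 2-element `x`, such that `e x` has the same
2-power exponent, is trivial. -/
theorem odd_trick {G : Type*} [Group G] (A : Subgroup G) (hodd : Odd (Nat.card ↥A)) (e x : G)
    (he : e ∈ A) (hex : e * x = x * e) (n : ℕ) (hx : x ^ (2 ^ n) = 1) (h : (e * x) ^ (2 ^ n) = 1) :
    e = 1 := by
  have hc : Commute e x := hex
  rw [hc.mul_pow, hx, mul_one] at h
  have e1 : orderOf e ∣ 2 ^ n := orderOf_dvd_of_pow_eq_one h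
  have e2 : orderOf e ∣ Nat.card A := Subgroup.orderOf_dvd_natCard A he
  have e3 : Nat.Coprime (2 ^ n) (Nat.card A) :=
    Nat.Coprime.pow_left n (Nat.coprime_two_left.mpr hodd)
  have := Nat.eq_one_of_dvd_coprimes e3 e1 e2
  exact orderOf_eq_one_iff.mp this

/-- coprime decomposition: a non-central element of `C_Q(A)` has a partner in `C_Q(A)`. -/
theorem dec {G : Type*} [Group G] [Finite G] {Q : Subgroup G} {ζ : G} (h : ESData Q ζ)
    (hQ2 : IsPGroup 2 ↥Q) (A : Subgroup G) (hA : A ≤ Subgroup.normalizer (Q : Set G))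
    (hAodd : Odd (Nat.card ↥A)) (x : G) (hx : x ∈ Q ⊓ Subgroup.centralizer (A : Set G))
    (hx1 : x ≠ 1) (hxζ : x ≠ ζ) :
    ∃ q ∈ Q ⊓ Subgroup.centralizer (A : Set G), q * x * q⁻¹ * x⁻¹ = ζ := by
  classical
  have h2 : Fact (Nat.Prime 2) := ⟨Nat.prime_two⟩
  have hAn : ∀ a ∈ A, ∀ q, q ∈ Q ↔ a * q * a⁻¹ ∈ Q := fun a ha =>
    Subgroup.mem_normalizer_iff.mp (hA ha)
  obtain ⟨n, hn⟩ := hQ2.exists_card_eq
  have hcop : (Nat.card ↥A).Coprime (Nat.card ↥Q) := by
    rw [hn]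
    exact Nat.Coprime.pow_right _ (Nat.coprime_two_right.mpr hAodd)
  have hsolv : Group.IsSolvable ↥Q := by
    have := hQ2.isNilpotent
    infer_instance
  have H1 := Cfsg.Agent.Lib.Helper13.coprime_commutator_sup_centralizer A Q hA hcop (Or.inr hsolv)
  have hDQ : ⁅Q, A⁆ ≤ Q := Cfsg.Agent.Lib.Helper13.commutator_le_of_le_normalizer Q A hA
  have hDn : Q ≤ Subgroup.normalizer ((⁅Q, A⁆ : Subgroup G) : Set G) :=
    le_sup_left.trans (Cfsg.Agent.Lib.Helper13.le_normalizer_commutator Q A)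
  have hCD : ∀ c ∈ Q ⊓ Subgroup.centralizer (A : Set G), ∀ y ∈ ⁅Q, A⁆, c * y = y * c := by
    intro c hc
    have hcQ : c ∈ Q := hc.1
    have hcA : ∀ a ∈ A, a * c = c * a := fun a ha => (Subgroup.mem_centralizer_iff.mp hc.2 a ha)
    have hle : ⁅Q, A⁆ ≤ Subgroup.centralizer ({c} : Set G) := by
      rw [Subgroup.commutator_le]
      intro q hq a ha
      rw [Subgroup.mem_centralizer_singleton_iff, commutatorElement_def]
      have hq' : a * q⁻¹ * a⁻¹ ∈ Q := (hAn a ha _).mp (Q.inv_mem hq)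
      have e : q * a * q⁻¹ * a⁻¹ = q * (a * q⁻¹ * a⁻¹) := by group
      rw [e, h.commute_mul_iff hq hq' hcQ]
      have h1 : (a * q⁻¹ * a⁻¹) * c = c * (a * q⁻¹ * a⁻¹) ↔ q⁻¹ * c = c * q⁻¹ :=
        Cfsg.Agent.Lib.Helper5.ES.conj_commute_iff (hcA a ha)
      have h2' : q⁻¹ * c = c * q⁻¹ ↔ q * c = c * q := h.commute_inv_iff
      constructor
      · intro hh; exact h1.mpr (h2'.mpr hh)
      · intro hh; exact h2'.mp (h1.mp hh)
    intro y hy
    exact (Subgroup.mem_centralizer_singleton_iff.mp (hle hy)).symm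
  have hprod : ∀ q ∈ Q, ∃ c ∈ Q ⊓ Subgroup.centralizer (A : Set G), ∃ d ∈ ⁅Q, A⁆, c * d = q := by
    intro q hq
    have hle : Q ⊓ Subgroup.centralizer (A : Set G)
        ≤ Subgroup.normalizer ((⁅Q, A⁆ : Subgroup G) : Set G) := inf_le_left.trans hDn
    have hcoe := Subgroup.coe_mul_of_left_le_normalizer_right _ _ hle
    have hq' : q ∈ (((Q ⊓ Subgroup.centralizer (A : Set G)) ⊔ ⁅Q, A⁆ : Subgroup G) : Set G) := by
      rw [SetLike.mem_coe, sup_comm, H1]; exact hq
    rw [hcoe] at hq'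
    obtain ⟨c, hc, d, hd, hcd⟩ := hq'
    exact ⟨c, hc, d, hd, hcd⟩
  have hnc : ¬ ∀ y ∈ Q, x * y = y * x := by
    intro hh
    rcases h.cen x hx.1 hh with e | e
    · exact hx1 e
    · exact hxζ e
  push_neg at hnc
  obtain ⟨y, hy, hxy⟩ := hnc
  obtain ⟨c, hc, d, hd, rfl⟩ := hprod y hy
  refine ⟨c, hc, ?_⟩
  rcases h.comm c hc.1 x hx.1 with e | e
  · exfalso; apply hxy
    have h3 : c * x = x * c := comm_eq_one_iff.mp e
    have h4 := hCD x hx d hd
    calc x * (c * d) = (x * c) * d := by group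
      _ = (c * x) * d := by rw [h3]
      _ = c * (x * d) := by group
      _ = c * (d * x) := by rw [h4]
      _ = c * d * x := by group
  · exact e


/-- a finite group of order not divisible by 4 containing an involution `z` is `O(Y) ∪ O(Y) z`. -/
theorem two_odd {Y : Type*} [Group Y] [Finite Y] (z : Y) (hzz : z * z = 1) (hz1 : z ≠ 1)
    (h4 : ¬ 4 ∣ Nat.card Y) : ∀ y : Y, y ∈ Cfsg.oddCore Y ∨ y * z ∈ Cfsg.oddCore Y := by
  classical
  haveI : Fact (Nat.Prime 2) := ⟨Nat.prime_two⟩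
  have hoz : orderOf z = 2 := orderOf_eq_prime (by rw [pow_two]; exact hzz) hz1
  have h2 : 2 ∣ Nat.card Y := hoz ▸ orderOf_dvd_natCard z
  have hp : (Nat.card Y).minFac = 2 := (Nat.minFac_eq_two_iff _).mpr h2
  have hz2 : IsPGroup 2 (Subgroup.zpowers z) :=
    IsPGroup.of_card (n := 1) (by rw [Nat.card_zpowers, hoz, pow_one])
  obtain ⟨T, hT⟩ := hz2.exists_le_sylow
  have hzT : z ∈ (T : Subgroup Y) := hT (Subgroup.mem_zpowers z)
  obtain ⟨k, hk⟩ := T.2.exists_card_eq
  have hTdvd : Nat.card (T : Subgroup Y) ∣ Nat.card Y := Subgroup.card_subgroup_dvd_card _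
  have hk1 : k = 1 := by
    have hk0 : k ≠ 0 := by
      intro h0
      rw [h0, pow_zero] at hk
      have hbot : (T : Subgroup Y) = ⊥ := Subgroup.card_eq_one.mp hk
      rw [hbot, Subgroup.mem_bot] at hzT
      exact hz1 hzT
    have hk2 : k < 2 := by
      by_contra hge
      push_neg at hge
      apply h4
      have : (4 : ℕ) = 2 ^ 2 := by norm_num
      rw [this]
      exact dvd_trans (pow_dvd_pow 2 hge) (hk ▸ hTdvd)
    omega
  have hTcard : Nat.card (T : Subgroup Y) = 2 := by rw [hk, hk1, pow_one]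
  have hTcyc : IsCyclic (T : Subgroup Y) := isCyclic_of_prime_card hTcard
  have hcompl := IsCyclic.isComplement' hp hTcyc
  obtain ⟨K, hKdef⟩ : ∃ K : Subgroup Y,
      K = (MonoidHom.transferSylow T (hTcyc.normalizer_le_centralizer hp)).ker := ⟨_, rfl⟩
  rw [← hKdef] at hcompl
  have hKn : K.Normal := by rw [hKdef]; infer_instance
  have hcard : Nat.card K * Nat.card (T : Subgroup Y) = Nat.card Y := hcompl.card_mul_card
  have hKodd : Odd (Nat.card K) := by
    rw [hTcard] at hcard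
    by_contra hne
    rw [Nat.not_odd_iff_even] at hne
    obtain ⟨m, hm⟩ := hne
    apply h4
    rw [← hcard, hm]
    exact ⟨m, by ring⟩
  have hKle : K ≤ Cfsg.oddCore Y := le_sSup ⟨hKn, Nat.coprime_two_right.mpr hKodd⟩
  have hTmem : ∀ s ∈ (T : Subgroup Y), s = 1 ∨ s = z := by
    intro s hs
    obtain ⟨y, _, hy⟩ := (Nat.card_eq_two_iff' (1 : (T : Subgroup Y))).mp hTcard
    by_cases h1 : s = 1
    · left; exact h1
    right
    have e1 : (⟨s, hs⟩ : (T : Subgroup Y)) = y := hy _ (fun e => h1 (congrArg Subtype.val e))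
    have e2 : (⟨z, hzT⟩ : (T : Subgroup Y)) = y := hy _ (fun e => hz1 (congrArg Subtype.val e))
    exact congrArg Subtype.val (e1.trans e2.symm)
  intro y
  obtain ⟨⟨⟨k', hk'⟩, ⟨s, hs⟩⟩, hks, _⟩ := Subgroup.IsComplement.existsUnique hcompl y
  have hks' : k' * s = y := hks
  rcases hTmem s hs with rfl | rfl
  · left; rw [← hks', mul_one]; exact hKle hk'
  · right; rw [← hks', mul_assoc, hzz, mul_one]; exact hKle hk'

end Cfsg.Agent.Lib.Helper3.LargeQuot
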