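import Mathlib
import Cfsg.Agent.Lib.Helper24.IndexTwo
import Cfsg.Agent.Lib.Helper20.LayerComm
import Cfsg.Agent.Lib.Helper20.Layer

/-!
General lemmas for the structure theorem on large extraspecial subgroups (helper3).
-/

set_option autoImplicit false
open Cfsg

namespace Cfsg.Agent.Lib.Helper3.LargeStruct

/-- A nonabelian finite simple group has no involution `t` with `C(t) = {1, t}`. -/
theorem simple_cent {L : Type*} [Group L] [Finite L] (hs : IsSimpleGroup L)
    (hna : ∃ a b : L, a * b ≠ b * a) (t : L) (ht1 : t ≠ 1) (htt : t * t = 1)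
    (hC : ∀ x : L, x * t = t * x → x = 1 ∨ x = t) : False := by
  classical
  haveI : Fact (Nat.Prime 2) := ⟨Nat.prime_two⟩
  have hT2 : IsPGroup 2 ↥(Subgroup.zpowers t) := by
    intro x
    refine ⟨1, ?_⟩
    obtain ⟨x, hx⟩ := x
    obtain ⟨k, rfl⟩ := Subgroup.mem_zpowers_iff.mp hx
    apply Subtype.ext
    simp only [pow_one, Subgroup.coe_pow, Subgroup.coe_one]
    rw [← zpow_natCast, ← zpow_mul, mul_comm, zpow_mul, zpow_natCast, pow_two, htt, one_zpow]
  obtain ⟨S, hS⟩ := hT2.exists_le_sylow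
  have htS : t ∈ (S : Subgroup L) := hS (Subgroup.mem_zpowers t)
  haveI : Nontrivial ↥(S : Subgroup L) := ⟨⟨⟨t, htS⟩, 1, fun h => ht1 (congrArg Subtype.val h)⟩⟩
  have hSnil : Group.IsNilpotent ↥(S : Subgroup L) := S.isPGroup'.isNilpotent
  have hcen := Group.IsNilpotent.center_ne_bot (G := ↥(S : Subgroup L))
  obtain ⟨⟨c, hc⟩, hc1'⟩ := (Subgroup.ne_bot_iff_exists_ne_one).mp hcen
  have hc1 : c ≠ 1 := fun h => hc1' (Subtype.ext h)
  have hct : (c : L) * t = t * c := by
    have := Subgroup.mem_center_iff.mp hc ⟨t, htS⟩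
    exact (congrArg Subtype.val this).symm
  have hceq : (c : L) = t := by
    rcases hC _ hct with h | h
    · exfalso; apply hc1; apply Subtype.ext; simpa using h
    · exact h
  have hSall : ∀ s ∈ (S : Subgroup L), s = 1 ∨ s = t := by
    intro s hs'
    apply hC
    have := Subgroup.mem_center_iff.mp hc ⟨s, hs'⟩
    have h2 : s * (c : L) = (c : L) * s := congrArg Subtype.val this
    rw [hceq] at h2
    exact h2
  have hSeq : (S : Subgroup L) = Subgroup.zpowers t := by
    apply le_antisymm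
    · intro s hs'
      rcases hSall s hs' with rfl | rfl
      · exact Subgroup.one_mem _
      · exact Subgroup.mem_zpowers _
    · exact hS
  have hcyc : IsCyclic ↥(S : Subgroup L) := by
    rw [hSeq]; infer_instance
  have hord : orderOf t = 2 := orderOf_eq_prime (by rw [pow_two]; exact htt) ht1
  have heven : Even (Nat.card L) := by
    rw [even_iff_two_dvd, ← hord]
    exact orderOf_dvd_natCard t
  obtain ⟨N, hN⟩ := Cfsg.Agent.Lib.Helper24.exists_index_two_of_cyclic_sylow heven S hcyc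
  have hNn : N.Normal := Subgroup.normal_of_index_eq_two hN
  rcases hs.eq_bot_or_eq_top_of_normal N hNn with h | h
  · -- card L = 2
    rw [h, Subgroup.index_bot] at hN
    obtain ⟨a, b, hab⟩ := hna
    haveI : Fact (Nat.Prime 2) := ⟨Nat.prime_two⟩
    have hcyc2 : IsCyclic L := isCyclic_of_prime_card hN
    exact hab (isMulCommutative_iff.mp hcyc2.commutative a b)
  · rw [h, Subgroup.index_top] at hN
    norm_num at hN

/-- Subgroup version of `simple_cent`. -/
theorem simple_cent_sub {G : Type*} [Group G] [Finite G] (L : Subgroup G) (hs : IsSimpleGroup ↥L)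
    (hna : ∃ a ∈ L, ∃ b ∈ L, a * b ≠ b * a) (t : G) (htL : t ∈ L) (ht1 : t ≠ 1) (htt : t * t = 1)
    (hC : ∀ x ∈ L, x * t = t * x → x = 1 ∨ x = t) : False := by
  obtain ⟨a, ha, b, hb, hab⟩ := hna
  refine simple_cent hs ⟨⟨a, ha⟩, ⟨b, hb⟩, fun h => hab (congrArg Subtype.val h)⟩ ⟨t, htL⟩
    (fun h => ht1 (congrArg Subtype.val h)) (Subtype.ext htt) ?_
  rintro ⟨x, hx⟩ hxt
  rcases hC x hx (congrArg Subtype.val hxt) with h | h
  · left; exact Subtype.ext h
  · right; exact Subtype.ext h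

/-- Decomposition in a join of two elementwise commuting subgroups. -/
theorem mem_sup_of_commute {G : Type*} [Group G] (A B : Subgroup G)
    (hAB : ∀ a ∈ A, ∀ b ∈ B, a * b = b * a) (x : G) (hx : x ∈ A ⊔ B) :
    ∃ a ∈ A, ∃ b ∈ B, x = a * b := by
  rw [Subgroup.sup_eq_closure] at hx
  induction hx using Subgroup.closure_induction with
  | mem y hy =>
    rcases hy with hy | hy
    · exact ⟨y, hy, 1, B.one_mem, by simp⟩
    · exact ⟨1, A.one_mem, y, hy, by simp⟩
  | one => exact ⟨1, A.one_mem, 1, B.one_mem, by simp⟩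
  | mul x y _ _ ihx ihy =>
    obtain ⟨a, ha, b, hb, rfl⟩ := ihx
    obtain ⟨a', ha', b', hb', rfl⟩ := ihy
    refine ⟨a * a', A.mul_mem ha ha', b * b', B.mul_mem hb hb', ?_⟩
    calc a * b * (a' * b') = a * (b * a') * b' := by group
      _ = a * (a' * b) * b' := by rw [hAB a' ha' b hb]
      _ = a * a' * (b * b') := by group
  | inv x _ ihx =>
    obtain ⟨a, ha, b, hb, rfl⟩ := ihx
    refine ⟨a⁻¹, A.inv_mem ha, b⁻¹, B.inv_mem hb, ?_⟩
    rw [mul_inv_rev, hAB a⁻¹ (A.inv_mem ha) b⁻¹ (B.inv_mem hb)]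

end Cfsg.Agent.Lib.Helper3.LargeStruct
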