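import Mathlib
import Cfsg.Agent.Lib.Helper3.LargeStructA
import Cfsg.Agent.Lib.Helper20.LayerComm
import Cfsg.Agent.Lib.Helper20.Layer
import Cfsg.Agent.Lib.Helper20.Components

/-!
Components of a group with trivial Fitting subgroup (helper3).
-/

set_option autoImplicit false
open Cfsg

namespace Cfsg.Agent.Lib.Helper3.LargeStruct

variable {G : Type*} [Group G]

theorem comp_conj (K : Subgroup G) (hK : IsComponent K) (g : G) :
    IsComponent (K.map (MulAut.conj g).toMonoidHom) :=
  Cfsg.Agent.Lib.Helper20.isComponent_map_mulEquiv (MulAut.conj g) K hK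

theorem mem_conj_iff (K : Subgroup G) (g x : G) :
    x ∈ K.map (MulAut.conj g).toMonoidHom ↔ g⁻¹ * x * g ∈ K := by
  constructor
  · rintro ⟨y, hy, rfl⟩
    have : g⁻¹ * ((MulAut.conj g).toMonoidHom y) * g = y := by
      simp [MulAut.conj_apply]; group
    rw [this]; exact hy
  · intro h
    refine ⟨g⁻¹ * x * g, h, ?_⟩
    simp [MulAut.conj_apply]; group

theorem conj_mem_conj (K : Subgroup G) (g x : G) (hx : x ∈ K) :
    g * x * g⁻¹ ∈ K.map (MulAut.conj g).toMonoidHom := by
  rw [mem_conj_iff]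
  have : g⁻¹ * (g * x * g⁻¹) * g = x := by group
  rw [this]; exact hx

theorem conj_mul (K : Subgroup G) (a b : G) :
    K.map (MulAut.conj (a * b)).toMonoidHom =
      (K.map (MulAut.conj b).toMonoidHom).map (MulAut.conj a).toMonoidHom := by
  ext x
  rw [mem_conj_iff, mem_conj_iff, mem_conj_iff]
  have : (a * b)⁻¹ * x * (a * b) = b⁻¹ * (a⁻¹ * x * a) * b := by group
  rw [this]

theorem conj_one (K : Subgroup G) : K.map (MulAut.conj (1 : G)).toMonoidHom = K := by
  ext x
  rw [mem_conj_iff]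
  simp

theorem conj_inj (K K' : Subgroup G) (g : G)
    (h : K.map (MulAut.conj g).toMonoidHom = K'.map (MulAut.conj g).toMonoidHom) : K = K' := by
  have := congrArg (fun H : Subgroup G => H.map (MulAut.conj g⁻¹).toMonoidHom) h
  simp only [← conj_mul, inv_mul_cancel, conj_one] at this
  exact this

variable [Finite G]

theorem comp_commute (L K : Subgroup G) (hL : IsComponent L) (hK : IsComponent K) (hne : L ≠ K) :
    ∀ a ∈ L, ∀ b ∈ K, a * b = b * a := by
  intro a ha b hb
  exact Cfsg.Agent.Lib.Helper20.commutes_of_commutator_eq_bot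
    (Cfsg.Agent.Lib.Helper20.components_commute L K hL hK hne) ha hb

theorem comp_center (hF : fittingSubgroup G = ⊥) (L : Subgroup G) (hL : IsComponent L) (x : G)
    (hx : x ∈ L) (hc : ∀ y ∈ L, x * y = y * x) : x = 1 := by
  have hxZ : x ∈ (Subgroup.center ↥L).map L.subtype := by
    refine ⟨⟨x, hx⟩, Subgroup.mem_center_iff.mpr ?_, rfl⟩
    rintro ⟨y, hy⟩
    exact Subtype.ext (hc y hy).symm
  have h1 := Cfsg.Agent.Lib.Helper20.center_component_le_centralizer_layer L hL x hxZ
  have hxE : x ∈ Cfsg.layer G := Cfsg.Agent.Lib.Helper20.component_le_layer L hL hx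
  have h2 : x ∈ (Subgroup.center ↥(Cfsg.layer G)).map (Cfsg.layer G).subtype := by
    refine ⟨⟨x, hxE⟩, Subgroup.mem_center_iff.mpr ?_, rfl⟩
    rintro ⟨y, hy⟩
    have := h1 hy
    rw [Subgroup.mem_centralizer_singleton_iff] at this
    exact Subtype.ext this
  rw [Cfsg.Agent.Lib.Helper20.center_layer_eq_fitting_inf_layer, hF, bot_inf_eq] at h2
  exact Subgroup.mem_bot.mp h2

theorem comp_simple (hF : fittingSubgroup G = ⊥) (L : Subgroup G) (hL : IsComponent L) :
    IsSimpleGroup ↥L := by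
  have hcen : Subgroup.center ↥L = ⊥ := by
    rw [eq_bot_iff]
    rintro ⟨x, hx⟩ hxc
    rw [Subgroup.mem_bot]
    apply Subtype.ext
    apply comp_center hF L hL x hx
    intro y hy
    have := Subgroup.mem_center_iff.mp hxc ⟨y, hy⟩
    exact (congrArg Subtype.val this).symm
  have hq := hL.2
  haveI : IsSimpleGroup (↥L ⧸ Subgroup.center ↥L) := hq.2
  haveI : Nontrivial ↥L := Cfsg.Agent.Lib.Helper20.isQuasisimple_nontrivial hq
  let e : (↥L ⧸ Subgroup.center ↥L) ≃* ↥L :=
    (QuotientGroup.quotientMulEquivOfEq hcen).trans QuotientGroup.quotientBot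
  exact IsSimpleGroup.isSimpleGroup_of_surjective e.toMonoidHom e.surjective

theorem comp_nonabelian (L : Subgroup G) (hL : IsComponent L) :
    ∃ a ∈ L, ∃ b ∈ L, a * b ≠ b * a := by
  by_contra hcon
  push_neg at hcon
  apply Cfsg.Agent.Lib.Helper20.isQuasisimple_not_isSolvable hL.2
  exact Group.isSolvable_of_comm (fun a b => Subtype.ext (hcon a a.2 b b.2))

theorem layer_decomp (K : Subgroup G) (hK : IsComponent K) (x : G) (hx : x ∈ Cfsg.layer G) :
    ∃ c ∈ Subgroup.centralizer (K : Set G), ∃ l ∈ K, x = c * l := by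
  have h1 := Cfsg.Agent.Lib.Helper20.layer_eq_centralizer_sup_commutator (X := G) K
  have hnorm := Cfsg.Agent.Lib.Helper20.layer_le_normalizer_subnormal K hK.1
  have h2 : ⁅Cfsg.layer G, K⁆ ≤ K := by
    rw [Subgroup.commutator_le]
    intro g₁ hg₁ g₂ hg₂
    rw [commutatorElement_def]
    have := (Subgroup.mem_normalizer_iff.mp (hnorm hg₁) g₂).mp hg₂
    exact K.mul_mem this (K.inv_mem hg₂)
  have h3 : x ∈ Subgroup.centralizer (K : Set G) ⊔ K := by
    rw [h1] at hx
    exact (sup_le_sup inf_le_right h2) hx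
  apply mem_sup_of_commute _ _ _ x h3
  intro a ha b hb
  exact (Subgroup.mem_centralizer_iff.mp ha b hb).symm

theorem decomp_unique (hF : fittingSubgroup G = ⊥) (K : Subgroup G) (hK : IsComponent K)
    (c c' l l' : G) (hc : c ∈ Subgroup.centralizer (K : Set G))
    (hc' : c' ∈ Subgroup.centralizer (K : Set G)) (hl : l ∈ K) (hl' : l' ∈ K)
    (h : c * l = c' * l') : l = l' := by
  have hw : c'⁻¹ * c = l' * l⁻¹ := by
    calc c'⁻¹ * c = c'⁻¹ * (c * l) * l⁻¹ := by group
      _ = c'⁻¹ * (c' * l') * l⁻¹ := by rw [h]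
      _ = l' * l⁻¹ := by group
  have hwK : l' * l⁻¹ ∈ K := K.mul_mem hl' (K.inv_mem hl)
  have hwC : l' * l⁻¹ ∈ Subgroup.centralizer (K : Set G) := by
    rw [← hw]; exact Subgroup.mul_mem _ (Subgroup.inv_mem _ hc') hc
  have := comp_center hF K hK _ hwK (fun y hy => (Subgroup.mem_centralizer_iff.mp hwC y hy).symm)
  calc l = (l' * l⁻¹)⁻¹ * l' := by group
    _ = l' := by rw [this]; simp

end Cfsg.Agent.Lib.Helper3.LargeStruct
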