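import Mathlib
import Cfsg.Agent.Lib.Helper3.LargeStructB
import Cfsg.Agent.Lib.Helper3.LargeQuot
import Cfsg.Agent.Lib.Helper20.Bender
import Cfsg.Agent.Lib.Helper16.PCore
import Cfsg.Agent.Lib.Helper2.NilpotentBasic
import Cfsg.Agent.S5427

/-!
Structure theorem for large extraspecial subgroups: the setup and the first cases (helper3).
-/

set_option autoImplicit false
open Cfsg
open Cfsg.Agent.Lib.Helper5.ES Cfsg.Agent.Lib.Helper3.LargeQuot

namespace Cfsg.Agent.Lib.Helper3.LargeStruct

structure LSetup {G : Type*} [Group G] (Q : Subgroup G) (z : G) : Prop where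
  es : ESData Q z
  cgq : ∀ x : G, (∀ q ∈ Q, x * q = q * x) → x = 1 ∨ x = z
  nrm : ∀ c : G, z * c = c * z → ∀ q ∈ Q, c * q * c⁻¹ ∈ Q
  odd : ∀ K : Subgroup G, Odd (Nat.card K) → Q ≤ Subgroup.normalizer (K : Set G) → K = ⊥
  pg : IsPGroup 2 ↥Q

variable {G : Type*} [Group G] [Finite G] {Q : Subgroup G} {z : G}

/-- no component of `G` centralizes `z`. -/
theorem LSetup.no_comp (S : LSetup Q z) (L : Subgroup G) (hL : IsComponent L)
    (hc : ∀ x ∈ L, z * x = x * z) : False := by
  have hinv : L ≤ Subgroup.normalizer (Q : Set G) := by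
    intro x hx
    rw [Subgroup.mem_normalizer_iff]
    intro q
    constructor
    · exact S.nrm x (hc x hx) q
    · intro hq
      have := S.nrm x⁻¹ (hc x⁻¹ (L.inv_mem hx)) _ hq
      have e : x⁻¹ * (x * q * x⁻¹) * x⁻¹⁻¹ = q := by group
      rwa [e] at this
  have hsolv : Group.IsSolvable ↥Q := by
    have : Group.IsNilpotent ↥Q := S.pg.isNilpotent
    infer_instance
  have h := Cfsg.Agent.Lib.Helper20.component_commutator_solvable_eq_bot L Q hL hsolv hinv
  apply Cfsg.Agent.Lib.Helper20.isQuasisimple_not_isSolvable hL.2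
  apply Group.isSolvable_of_comm
  have hcom : ∀ x ∈ L, x = 1 ∨ x = z := fun x hx =>
    S.cgq x (fun q hq => Cfsg.Agent.Lib.Helper20.commutes_of_commutator_eq_bot h hx hq)
  rintro ⟨a, ha⟩ ⟨b, hb⟩
  apply Subtype.ext
  show a * b = b * a
  rcases hcom a ha with rfl | rfl <;> rcases hcom b hb with rfl | rfl <;> simp

theorem LSetup.fit (S : LSetup Q z) : fittingSubgroup G = pCore 2 G := by
  rw [Cfsg.Agent.Lib.Helper20.fittingSubgroup_eq_iSup_pCore']
  apply le_antisymm
  · apply iSup_le
    intro p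
    by_cases hp2 : (p : ℕ) = 2
    · rw [hp2]
    · have hpf : Fact (p : ℕ).Prime := ⟨p.2⟩
      have hpg := Cfsg.Agent.Lib.Helper16.pCore_isPGroup (p : ℕ) G
      have hbot : pCore (p : ℕ) G = ⊥ := by
        apply S.odd
        · obtain ⟨k, hk⟩ := IsPGroup.iff_card.mp hpg
          rw [hk]
          exact Odd.pow (p.2.odd_of_ne_two hp2)
        · have hn : (pCore (p : ℕ) G).Normal := Cfsg.Agent.Lib.Helper16.pCore_normal _ _
          rw [Subgroup.normalizer_eq_top]; exact le_top
      rw [hbot]; exact bot_le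
  · exact le_iSup_of_le (⟨2, Nat.prime_two⟩ : Nat.Primes) le_rfl

theorem LSetup.case2 (S : LSetup Q z) (hO : pCore 2 G ≠ ⊥) :
    IsMulCommutative ↥(Subgroup.normalClosure ({z} : Set G)) ∧
      generalizedFittingSubgroup G = pCore 2 G := by
  haveI : Fact (Nat.Prime 2) := ⟨Nat.prime_two⟩
  have hPn : (pCore 2 G).Normal := Cfsg.Agent.Lib.Helper16.pCore_normal 2 G
  have hP2 : IsPGroup 2 ↥(pCore 2 G) := Cfsg.Agent.Lib.Helper16.pCore_isPGroup 2 G
  have hT2 : IsPGroup 2 ↥(Q ⊔ pCore 2 G) := IsPGroup.to_sup_of_normal_right S.pg hP2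
  haveI hTnil : Group.IsNilpotent ↥(Q ⊔ pCore 2 G) := hT2.isNilpotent
  have hPT : pCore 2 G ≤ Q ⊔ pCore 2 G := le_sup_right
  have hQT : Q ≤ Q ⊔ pCore 2 G := le_sup_left
  have hne : (pCore 2 G).subgroupOf (Q ⊔ pCore 2 G) ≠ ⊥ := by
    intro h
    apply hO
    rw [Subgroup.subgroupOf_eq_bot, disjoint_iff, inf_eq_left.mpr hPT] at h
    exact h
  have hmeet := Cfsg.Agent.Lib.Helper2.normal_inf_center_ne_bot
    ((pCore 2 G).subgroupOf (Q ⊔ pCore 2 G)) hne
  obtain ⟨⟨⟨x, hxT⟩, hx⟩, hx1'⟩ := (Subgroup.ne_bot_iff_exists_ne_one).mp hmeet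
  have hx1 : x ≠ 1 := fun h => hx1' (Subtype.ext (Subtype.ext h))
  obtain ⟨hxP, hxZ⟩ := Subgroup.mem_inf.mp hx
  have hxP' : x ∈ pCore 2 G := Subgroup.mem_subgroupOf.mp hxP
  have hxcomm : ∀ t ∈ Q ⊔ pCore 2 G, x * t = t * x := by
    intro t ht
    have := Subgroup.mem_center_iff.mp hxZ ⟨t, ht⟩
    exact (congrArg Subtype.val this).symm
  have hxz : x = z := by
    rcases S.cgq x (fun q hq => hxcomm q (hQT hq)) with h | h
    · exact absurd h hx1
    · exact h
  subst hxz
  have hzP : ∀ t ∈ pCore 2 G, x * t = t * x := fun t ht => hxcomm t (hPT ht)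
  have hM : Subgroup.normalClosure ({x} : Set G) ≤
      pCore 2 G ⊓ Subgroup.centralizer ((pCore 2 G : Subgroup G) : Set G) := by
    apply Subgroup.normalClosure_le_normal
    intro y hy
    rw [Set.mem_singleton_iff] at hy
    subst hy
    refine Subgroup.mem_inf.mpr ⟨hxP', ?_⟩
    rw [Subgroup.mem_centralizer_iff]
    intro t ht
    exact (hzP t ht).symm
  constructor
  · rw [isMulCommutative_iff]
    rintro ⟨a, ha⟩ ⟨b, hb⟩
    apply Subtype.ext
    have ha' := (Subgroup.mem_inf.mp (hM ha)).2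
    have hb' := (Subgroup.mem_inf.mp (hM hb)).1
    exact (Subgroup.mem_centralizer_iff.mp ha' b hb').symm
  · have hlayer : layer G = ⊥ := by
      unfold layer
      rw [sSup_eq_bot]
      intro L hL
      exfalso
      have hsolv : Group.IsSolvable ↥(pCore 2 G) := by
        have : Group.IsNilpotent ↥(pCore 2 G) := hP2.isNilpotent
        infer_instance
      have h := Cfsg.Agent.Lib.Helper20.component_commutator_solvable_eq_bot L (pCore 2 G) hL hsolv
        (by rw [Subgroup.normalizer_eq_top]; exact le_top)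
      apply S.no_comp L hL
      intro y hy
      exact (Cfsg.Agent.Lib.Helper20.commutes_of_commutator_eq_bot h hy hxP').symm
    unfold generalizedFittingSubgroup
    rw [hlayer, S.fit, bot_sup_eq]

theorem LSetup.layer_facts (S : LSetup Q z) (hO : pCore 2 G = ⊥) :
    fittingSubgroup G = ⊥ ∧ generalizedFittingSubgroup G = layer G ∧
      Subgroup.normalClosure ({z} : Set G) = layer G ∧ z ∈ layer G := by
  have hF : fittingSubgroup G = ⊥ := by rw [S.fit, hO]
  have hFs : generalizedFittingSubgroup G = layer G := by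
    unfold generalizedFittingSubgroup
    rw [hF, sup_bot_eq]
  have hz1 := S.es.z1
  have hzz := S.es.zz
  have hE1 : layer G ≠ ⊥ := by
    intro h
    have hle := Cfsg.Agent.Lib.Helper20.centralizer_genFitting_le (G := G)
    rw [hFs, h] at hle
    apply hz1
    have : z ∈ Subgroup.centralizer (((⊥ : Subgroup G)) : Set G) := by
      rw [Subgroup.mem_centralizer_iff]
      intro y hy
      rw [SetLike.mem_coe, Subgroup.mem_bot] at hy
      rw [hy]; simp
    exact Subgroup.mem_bot.mp (hle this)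
  obtain ⟨L₀, hL₀⟩ : ∃ L : Subgroup G, IsComponent L := by
    by_contra hcon
    push_neg at hcon
    apply hE1
    unfold layer
    rw [sSup_eq_bot]
    intro K hK
    exact absurd hK (hcon K)
  have hEn : (layer G).Normal := Cfsg.Agent.Lib.Helper20.layer_normal
  have hzE : z ∈ layer G := by
    by_contra hzE
    have hQE : ∀ w ∈ Q, w ∈ layer G → w = 1 := by
      intro w hwQ hwE
      by_contra hw1
      exact hzE (es_NC S.es (layer G) (fun q _ w hw => hEn.conj_mem w hw q) w hwE hwQ hw1)
    have hfix : ∀ n ∈ layer G, z * n = n * z → n = 1 := by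
      intro n hn hzn
      have hcen : ∀ q ∈ Q, n * q = q * n := by
        intro q hq
        have h1 : n * q * n⁻¹ * q⁻¹ ∈ Q := Q.mul_mem (S.nrm n hzn q hq) (Q.inv_mem hq)
        have h2 : n * q * n⁻¹ * q⁻¹ ∈ layer G := by
          have : n * q * n⁻¹ * q⁻¹ = n * (q * n⁻¹ * q⁻¹) := by group
          rw [this]
          exact Subgroup.mul_mem _ hn (hEn.conj_mem _ (Subgroup.inv_mem _ hn) q)
        exact comm_eq_one_iff.mp (hQE _ h1 h2)
      rcases S.cgq n hcen with h | h
      · exact h
      · exfalso; exact hzE (h ▸ hn)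
    have hinv := Cfsg.Agent.S5427.fpf_inverts_sub (layer G) z hzz
      (fun n hn => hEn.conj_mem n hn z) hfix
    obtain ⟨a, ha, b, hb, hab⟩ := comp_nonabelian L₀ hL₀
    apply hab
    have haE := Cfsg.Agent.Lib.Helper20.component_le_layer L₀ hL₀ ha
    have hbE := Cfsg.Agent.Lib.Helper20.component_le_layer L₀ hL₀ hb
    have h1 := hinv a haE
    have h2 := hinv b hbE
    have h3 := hinv (a * b) (Subgroup.mul_mem _ haE hbE)
    have h4 : (a * b)⁻¹ = a⁻¹ * b⁻¹ := by
      rw [← h3, ← h1, ← h2]; group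
    have h5 : a * b = ((a * b)⁻¹)⁻¹ := by group
    rw [h5, h4]; group
  refine ⟨hF, hFs, ?_, hzE⟩
  apply le_antisymm
  · apply Subgroup.normalClosure_le_normal
    intro y hy
    rw [Set.mem_singleton_iff] at hy
    rw [hy]; exact hzE
  · unfold layer
    apply sSup_le
    intro K hK
    have hMn : (Subgroup.normalClosure ({z} : Set G)).Normal := Subgroup.normalClosure_normal
    rcases Cfsg.Agent.Lib.Helper20.component_le_or_commutes K _ hK hMn.isSubnormal with h | h
    · exact h
    · exfalso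
      apply S.no_comp K hK
      intro y hy
      have hzM : z ∈ Subgroup.normalClosure ({z} : Set G) :=
        Subgroup.subset_normalClosure (Set.mem_singleton z)
      exact (Cfsg.Agent.Lib.Helper20.commutes_of_commutator_eq_bot h hy hzM).symm

theorem LSetup.caseA (S : LSetup Q z) (hF : fittingSubgroup G = ⊥) (hzE : z ∈ layer G)
    (L : Subgroup G) (hL : IsComponent L)
    (hQL : ∀ u ∈ Q, L.map (MulAut.conj u).toMonoidHom = L) : layer G = L := by
  obtain ⟨c, hc, l, hl, hzcl⟩ := layer_decomp L hL z hzE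
  have hlQ : ∀ u ∈ Q, l * u = u * l := by
    intro u hu
    have hzu : z * u = u * z := S.es.zc u hu
    have h1 : u * l * u⁻¹ ∈ L := by
      have := conj_mem_conj L u l hl
      rwa [hQL u hu] at this
    have h2 : u * c * u⁻¹ ∈ Subgroup.centralizer (L : Set G) := by
      rw [Subgroup.mem_centralizer_iff]
      intro y hy
      have hy' : u⁻¹ * y * u ∈ L := by
        rw [← mem_conj_iff, hQL u hu]; exact hy
      have := Subgroup.mem_centralizer_iff.mp hc _ hy'
      calc y * (u * c * u⁻¹) = u * ((u⁻¹ * y * u) * c) * u⁻¹ := by group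
        _ = u * (c * (u⁻¹ * y * u)) * u⁻¹ := by rw [this]
        _ = u * c * u⁻¹ * y := by group
    have h3 : c * l = (u * c * u⁻¹) * (u * l * u⁻¹) := by
      rw [← hzcl]
      calc z = u * z * u⁻¹ := by rw [← hzu]; group
        _ = u * (c * l) * u⁻¹ := by rw [hzcl]
        _ = (u * c * u⁻¹) * (u * l * u⁻¹) := by group
    have h4 := decomp_unique hF L hL _ _ _ _ hc h2 hl h1 h3
    calc l * u = (u * l * u⁻¹) * u := by rw [← h4]
      _ = u * l := by group
  rcases S.cgq l hlQ with h | h
  · exfalso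
    rw [h, mul_one] at hzcl
    apply S.no_comp L hL
    intro y hy
    rw [hzcl]
    exact (Subgroup.mem_centralizer_iff.mp hc y hy).symm
  · have hzL : z ∈ L := h ▸ hl
    apply le_antisymm
    · unfold layer
      apply sSup_le
      intro K hK
      by_cases hKL : K = L
      · rw [hKL]
      · exfalso
        apply S.no_comp K hK
        intro y hy
        exact (comp_commute K L hK hL hKL y hy z hzL).symm
    · exact Cfsg.Agent.Lib.Helper20.component_le_layer L hL

end Cfsg.Agent.Lib.Helper3.LargeStruct
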