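import Mathlib
import Cfsg.Agent.Lib.Helper3.LargeStructC

/-!
Structure theorem for large extraspecial subgroups: the two-component case, part 1 (helper3).
-/

set_option autoImplicit false
set_option maxHeartbeats 1000000
open Cfsg
open Cfsg.Agent.Lib.Helper5.ES Cfsg.Agent.Lib.Helper3.LargeQuot

namespace Cfsg.Agent.Lib.Helper3.LargeStruct

structure BData {G : Type*} [Group G] (Q : Subgroup G) (z : G) (L : Subgroup G) (u z₁ : G) :
    Prop where
  uQ : u ∈ Q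
  z₁L : z₁ ∈ L
  z₁1 : z₁ ≠ 1
  z₁z₁ : z₁ * z₁ = 1
  zeq : z = z₁ * (u * z₁ * u⁻¹)
  disj : ∀ x ∈ L, x ∈ L.map (MulAut.conj u).toMonoidHom → x = 1
  comm : ∀ x ∈ L, ∀ y ∈ L.map (MulAut.conj u).toMonoidHom, x * y = y * x
  comps : ∀ K : Subgroup G, IsComponent K → K = L ∨ K = L.map (MulAut.conj u).toMonoidHom
  ne : L.map (MulAut.conj u).toMonoidHom ≠ L

theorem prod_comm {G : Type*} [Group G] (A B : Subgroup G)
    (h : ∀ a ∈ A, ∀ b ∈ B, a * b = b * a)
    {x y x' y' : G} (hx : x ∈ A) (hy : y ∈ A) (hx' : x' ∈ B) (hy' : y' ∈ B) :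
    (x * x') * (y * y') * (x * x')⁻¹ * (y * y')⁻¹ =
      (x * y * x⁻¹ * y⁻¹) * (x' * y' * x'⁻¹ * y'⁻¹) := by
  have e1 : x' * y = y * x' := (h y hy x' hx').symm
  have e2 : (x' * y' * x'⁻¹) * x⁻¹ = x⁻¹ * (x' * y' * x'⁻¹) :=
    (h x⁻¹ (A.inv_mem hx) _ (B.mul_mem (B.mul_mem hx' hy') (B.inv_mem hx'))).symm
  have e3 : (x' * y' * x'⁻¹ * y'⁻¹) * y⁻¹ = y⁻¹ * (x' * y' * x'⁻¹ * y'⁻¹) :=
    (h y⁻¹ (A.inv_mem hy) _
      (B.mul_mem (B.mul_mem (B.mul_mem hx' hy') (B.inv_mem hx')) (B.inv_mem hy'))).symm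
  calc (x * x') * (y * y') * (x * x')⁻¹ * (y * y')⁻¹
      = x * (x' * y) * y' * x'⁻¹ * x⁻¹ * y'⁻¹ * y⁻¹ := by group
    _ = x * (y * x') * y' * x'⁻¹ * x⁻¹ * y'⁻¹ * y⁻¹ := by rw [e1]
    _ = x * y * ((x' * y' * x'⁻¹) * x⁻¹) * y'⁻¹ * y⁻¹ := by group
    _ = x * y * (x⁻¹ * (x' * y' * x'⁻¹)) * y'⁻¹ * y⁻¹ := by rw [e2]
    _ = x * y * x⁻¹ * ((x' * y' * x'⁻¹ * y'⁻¹) * y⁻¹) := by group
    _ = x * y * x⁻¹ * (y⁻¹ * (x' * y' * x'⁻¹ * y'⁻¹)) := by rw [e3]
    _ = (x * y * x⁻¹ * y⁻¹) * (x' * y' * x'⁻¹ * y'⁻¹) := by group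

variable {G : Type*} [Group G] [Finite G] {Q : Subgroup G} {z : G}

theorem LSetup.caseB1 (S : LSetup Q z) (hF : fittingSubgroup G = ⊥) (hzE : z ∈ layer G)
    (L : Subgroup G) (hL : IsComponent L) (u : G) (hu : u ∈ Q)
    (hLu : L.map (MulAut.conj u).toMonoidHom ≠ L) : ∃ z₁ : G, BData Q z L u z₁ := by
  obtain ⟨L', hL'def⟩ : ∃ L' : Subgroup G, L' = L.map (MulAut.conj u).toMonoidHom := ⟨_, rfl⟩
  rw [← hL'def] at hLu
  have hL' : IsComponent L' := hL'def ▸ comp_conj L hL u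
  have hcomm : ∀ x ∈ L, ∀ y ∈ L', x * y = y * x := comp_commute L L' hL hL' (Ne.symm hLu)
  have hdisj : ∀ x ∈ L, x ∈ L' → x = 1 := by
    intro x hx hx'
    apply comp_center hF L hL x hx
    intro y hy
    exact (hcomm y hy x hx').symm
  obtain ⟨c, hc, z₁, hz₁L, hzc⟩ := layer_decomp L hL z hzE
  have hcent : ∀ K : Subgroup G, IsComponent K → K ≠ L →
      ∀ k ∈ K, k ∈ Subgroup.centralizer (L : Set G) := by
    intro K hK hKL k hk
    rw [Subgroup.mem_centralizer_iff]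
    intro y hy
    exact comp_commute L K hL hK (Ne.symm hKL) y hy k hk
  have hz₁1 : z₁ ≠ 1 := by
    intro h
    rw [h, mul_one] at hzc
    apply S.no_comp L hL
    intro y hy
    rw [hzc]
    exact (Subgroup.mem_centralizer_iff.mp hc y hy).symm
  have hcz₁ : c * z₁ = z₁ * c := (Subgroup.mem_centralizer_iff.mp hc z₁ hz₁L).symm
  have hz₁z₁ : z₁ * z₁ = 1 := by
    have h1 : (c * c) * (z₁ * z₁) = 1 * 1 := by
      calc (c * c) * (z₁ * z₁) = c * (c * z₁) * z₁ := by group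
        _ = c * (z₁ * c) * z₁ := by rw [hcz₁]
        _ = (c * z₁) * (c * z₁) := by group
        _ = z * z := by rw [hzc]
        _ = 1 * 1 := by rw [S.es.zz]; simp
    exact decomp_unique hF L hL _ _ _ _ (Subgroup.mul_mem _ hc hc) (Subgroup.one_mem _)
      (L.mul_mem hz₁L hz₁L) L.one_mem h1
  have hf2 : ∀ x ∈ L, x * z₁ = z₁ * x → z * x = x * z := by
    intro x hx hxz
    have hcx : x * c = c * x := Subgroup.mem_centralizer_iff.mp hc x hx
    rw [hzc]
    calc c * z₁ * x = c * (z₁ * x) := by group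
      _ = c * (x * z₁) := by rw [hxz]
      _ = (c * x) * z₁ := by group
      _ = (x * c) * z₁ := by rw [hcx]
      _ = x * (c * z₁) := by group
  have hf3 : ∀ x ∈ L, x * z₁ = z₁ * x → x * (u * x⁻¹ * u⁻¹) ∈ Q := by
    intro x hx hxz
    have := Q.mul_mem (S.nrm x (hf2 x hx hxz) u hu) (Q.inv_mem hu)
    have e : x * u * x⁻¹ * u⁻¹ = x * (u * x⁻¹ * u⁻¹) := by group
    rwa [e] at this
  have hf4 : ∀ v ∈ Q, L.map (MulAut.conj v).toMonoidHom = L ∨
      L.map (MulAut.conj (v * u)).toMonoidHom = L := by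
    intro v hv
    by_contra hcon
    push_neg at hcon
    obtain ⟨hv1, hv2⟩ := hcon
    apply simple_cent_sub L (comp_simple hF L hL) (comp_nonabelian L hL) z₁ hz₁L hz₁1 hz₁z₁
    intro x hx hxz
    have ha := hf3 x hx hxz
    have hcomp1 : u * x⁻¹ * u⁻¹ ∈ Subgroup.centralizer (L : Set G) :=
      hcent L' hL' hLu _ (hL'def ▸ conj_mem_conj L u _ (L.inv_mem hx))
    have hcomp2 : (v * u) * x * (v * u)⁻¹ ∈ Subgroup.centralizer (L : Set G) :=
      hcent _ (comp_conj L hL (v * u)) hv2 _ (conj_mem_conj L (v * u) _ hx)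
    have hcomp3 : v * x⁻¹ * v⁻¹ ∈ Subgroup.centralizer (L : Set G) :=
      hcent _ (comp_conj L hL v) hv1 _ (conj_mem_conj L v _ (L.inv_mem hx))
    obtain ⟨c', hc'def⟩ : ∃ c' : G,
      c' = (u * x⁻¹ * u⁻¹) * ((v * u) * x * (v * u)⁻¹) * (v * x⁻¹ * v⁻¹) := ⟨_, rfl⟩
    have hc' : c' ∈ Subgroup.centralizer (L : Set G) := by
      rw [hc'def]
      exact Subgroup.mul_mem _ (Subgroup.mul_mem _ hcomp1 hcomp2) hcomp3
    have hcx : x * c' = c' * x := Subgroup.mem_centralizer_iff.mp hc' x hx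
    have hw : (x * (u * x⁻¹ * u⁻¹)) * v * (x * (u * x⁻¹ * u⁻¹))⁻¹ * v⁻¹ = c' * x := by
      rw [← hcx, hc'def]; group
    rcases S.es.comm _ ha v hv with h | h
    · left
      rw [hw] at h
      have h' : c' * x = 1 * 1 := by rw [h]; simp
      exact decomp_unique hF L hL _ _ _ _ hc' (Subgroup.one_mem _) hx L.one_mem h'
    · right
      rw [hw, hzc] at h
      exact decomp_unique hF L hL _ _ _ _ hc' hc hx hz₁L h
  have hf5 : ∀ v ∈ Q, L.map (MulAut.conj v).toMonoidHom = L ∨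
      L.map (MulAut.conj v).toMonoidHom = L' := by
    intro v hv
    rcases hf4 v⁻¹ (Q.inv_mem hv) with h | h
    · left
      have := conj_mul L v v⁻¹
      rw [h, mul_inv_cancel, conj_one] at this
      exact this.symm
    · right
      have := conj_mul L v (v⁻¹ * u)
      rw [h] at this
      have e : v * (v⁻¹ * u) = u := by group
      rw [e, ← hL'def] at this
      exact this.symm
  have hproj_unique : ∀ K : Subgroup G, IsComponent K → ∀ l l' : G, l ∈ K → l' ∈ K →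
      (∃ d ∈ Subgroup.centralizer (K : Set G), z = d * l) →
      (∃ d ∈ Subgroup.centralizer (K : Set G), z = d * l') → l = l' := by
    intro K hK l l' hl hl' ⟨d, hd, h1⟩ ⟨d', hd', h2⟩
    exact decomp_unique hF K hK d d' l l' hd hd' hl hl' (h1.symm.trans h2)
  have hproj_conj : ∀ K : Subgroup G, ∀ l : G, ∀ v ∈ Q,
      (∃ d ∈ Subgroup.centralizer (K : Set G), z = d * l) →
      ∃ d ∈ Subgroup.centralizer ((K.map (MulAut.conj v).toMonoidHom : Subgroup G) : Set G),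
        z = d * (v * l * v⁻¹) := by
    intro K l v hv ⟨d, hd, h1⟩
    refine ⟨v * d * v⁻¹, ?_, ?_⟩
    · rw [Subgroup.mem_centralizer_iff]
      intro y hy
      have hy' : v⁻¹ * y * v ∈ K := (mem_conj_iff K v y).mp hy
      have := Subgroup.mem_centralizer_iff.mp hd _ hy'
      calc y * (v * d * v⁻¹) = v * ((v⁻¹ * y * v) * d) * v⁻¹ := by group
        _ = v * (d * (v⁻¹ * y * v)) * v⁻¹ := by rw [this]
        _ = v * d * v⁻¹ * y := by group
    · have hzv : z * v = v * z := S.es.zc v hv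
      calc z = v * z * v⁻¹ := by rw [← hzv]; group
        _ = v * (d * l) * v⁻¹ := by rw [← h1]
        _ = (v * d * v⁻¹) * (v * l * v⁻¹) := by group
  obtain ⟨z₂, hz₂def⟩ : ∃ z₂ : G, z₂ = u * z₁ * u⁻¹ := ⟨_, rfl⟩
  have hz₂L' : z₂ ∈ L' := by
    rw [hz₂def, hL'def]; exact conj_mem_conj L u z₁ hz₁L
  have hP1 : ∃ d ∈ Subgroup.centralizer (L : Set G), z = d * z₁ := ⟨c, hc, hzc⟩
  have hP2 : ∃ d ∈ Subgroup.centralizer (L' : Set G), z = d * z₂ := by
    rw [hz₂def, hL'def]; exact hproj_conj L z₁ u hu hP1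
  have hz₁z₂ : z₁ * z₂ = z₂ * z₁ := hcomm z₁ hz₁L z₂ hz₂L'
  have hd : ∀ v ∈ Q, (z₁ * z₂) * v = v * (z₁ * z₂) := by
    intro v hv
    have hPv1 := hproj_conj L z₁ v hv hP1
    have hPv2 := hproj_conj L' z₂ v hv hP2
    have hLv' : L'.map (MulAut.conj v).toMonoidHom = L.map (MulAut.conj (v * u)).toMonoidHom := by
      rw [hL'def]; exact (conj_mul L v u).symm
    have hne : L'.map (MulAut.conj v).toMonoidHom ≠ L.map (MulAut.conj v).toMonoidHom :=
      fun h => hLu (conj_inj _ _ v h)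
    have hvu := hf5 (v * u) (Q.mul_mem hv hu)
    rw [← hLv'] at hvu
    have hm1 := conj_mem_conj L v z₁ hz₁L
    have hm2 := conj_mem_conj L' v z₂ hz₂L'
    have key : v * (z₁ * z₂) * v⁻¹ = z₁ * z₂ := by
      rcases hf5 v hv with h | h
      · have h' : L'.map (MulAut.conj v).toMonoidHom = L' := by
          rcases hvu with h2 | h2
          · exact absurd (h2.trans h.symm) hne
          · exact h2
        rw [h] at hPv1 hm1
        rw [h'] at hPv2 hm2
        have e1 := hproj_unique L hL _ _ hm1 hz₁L hPv1 hP1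
        have e2 := hproj_unique L' hL' _ _ hm2 hz₂L' hPv2 hP2
        calc v * (z₁ * z₂) * v⁻¹ = (v * z₁ * v⁻¹) * (v * z₂ * v⁻¹) := by group
          _ = z₁ * z₂ := by rw [e1, e2]
      · have h' : L'.map (MulAut.conj v).toMonoidHom = L := by
          rcases hvu with h2 | h2
          · exact h2
          · exact absurd (h2.trans h.symm) hne
        rw [h] at hPv1 hm1
        rw [h'] at hPv2 hm2
        have e1 := hproj_unique L' hL' _ _ hm1 hz₂L' hPv1 hP2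
        have e2 := hproj_unique L hL _ _ hm2 hz₁L hPv2 hP1
        calc v * (z₁ * z₂) * v⁻¹ = (v * z₁ * v⁻¹) * (v * z₂ * v⁻¹) := by group
          _ = z₂ * z₁ := by rw [e1, e2]
          _ = z₁ * z₂ := hz₁z₂.symm
    calc (z₁ * z₂) * v = (v * (z₁ * z₂) * v⁻¹) * v := by rw [key]
      _ = v * (z₁ * z₂) := by group
  have hzeq : z = z₁ * z₂ := by
    rcases S.cgq (z₁ * z₂) hd with h | h
    · exfalso
      apply hz₁1
      apply hdisj z₁ hz₁L
      have : z₁ = z₂⁻¹ := eq_inv_of_mul_eq_one_left h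
      rw [this]; exact L'.inv_mem hz₂L'
    · exact h.symm
  have hcomps : ∀ K : Subgroup G, IsComponent K → K = L ∨ K = L' := by
    intro K hK
    by_contra hcon
    push_neg at hcon
    apply S.no_comp K hK
    intro y hy
    have h1 := comp_commute K L hK hL hcon.1 y hy z₁ hz₁L
    have h2 := comp_commute K L' hK hL' hcon.2 y hy z₂ hz₂L'
    rw [hzeq]
    calc z₁ * z₂ * y = z₁ * (z₂ * y) := by group
      _ = z₁ * (y * z₂) := by rw [h2]
      _ = (z₁ * y) * z₂ := by group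
      _ = (y * z₁) * z₂ := by rw [h1]
      _ = y * (z₁ * z₂) := by group
  subst hL'def
  subst hz₂def
  exact ⟨z₁, ⟨hu, hz₁L, hz₁1, hz₁z₁, hzeq, hdisj, hcomm, hcomps, hLu⟩⟩

end Cfsg.Agent.Lib.Helper3.LargeStruct
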