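import Mathlib
import Cfsg.Agent.Lib.Helper3.LargeStructD
import Cfsg.Agent.Lib.Helper16.Frattini2

/-!
Structure theorem for large extraspecial subgroups: the two-component case, part 2 (helper3).
-/

set_option autoImplicit false
set_option maxHeartbeats 1000000
open Cfsg
open Cfsg.Agent.Lib.Helper5.ES Cfsg.Agent.Lib.Helper3.LargeQuot
open scoped commutatorElement

namespace Cfsg.Agent.Lib.Helper3.LargeStruct

variable {G : Type*} [Group G] {Q : Subgroup G} {z : G} {L : Subgroup G} {u z₁ : G}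

theorem BData.z₂mem (B : BData Q z L u z₁) :
    u * z₁ * u⁻¹ ∈ L.map (MulAut.conj u).toMonoidHom := conj_mem_conj L u z₁ B.z₁L

theorem BData.split (B : BData Q z L u z₁) {l l' : G} (hl : l ∈ L)
    (hl' : l' ∈ L.map (MulAut.conj u).toMonoidHom) :
    (l * l' = 1 → l = 1) ∧ (l * l' = z → l = z₁) := by
  constructor
  · intro h
    apply B.disj l hl
    have : l = l'⁻¹ := eq_inv_of_mul_eq_one_left h
    rw [this]; exact Subgroup.inv_mem _ hl'
  · intro h
    rw [B.zeq] at h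
    have h1 : z₁⁻¹ * l = (u * z₁ * u⁻¹) * l'⁻¹ := by
      calc z₁⁻¹ * l = z₁⁻¹ * (l * l') * l'⁻¹ := by group
        _ = z₁⁻¹ * (z₁ * (u * z₁ * u⁻¹)) * l'⁻¹ := by rw [h]
        _ = (u * z₁ * u⁻¹) * l'⁻¹ := by group
    have h2 : z₁⁻¹ * l = 1 := by
      apply B.disj _ (L.mul_mem (L.inv_mem B.z₁L) hl)
      rw [h1]
      exact Subgroup.mul_mem _ B.z₂mem (Subgroup.inv_mem _ hl')
    calc l = z₁ * (z₁⁻¹ * l) := by group
      _ = z₁ := by rw [h2, mul_one]

/-- elements of `L` centralizing `z₁` centralize `z`, and conversely. -/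
theorem BData.cent_iff (B : BData Q z L u z₁) (x : G) (hx : x ∈ L) :
    x * z₁ = z₁ * x ↔ z * x = x * z := by
  have h2 : x * (u * z₁ * u⁻¹) = (u * z₁ * u⁻¹) * x := B.comm x hx _ B.z₂mem
  constructor
  · intro h
    rw [B.zeq]
    calc z₁ * (u * z₁ * u⁻¹) * x = z₁ * ((u * z₁ * u⁻¹) * x) := by group
      _ = z₁ * (x * (u * z₁ * u⁻¹)) := by rw [h2]
      _ = (z₁ * x) * (u * z₁ * u⁻¹) := by group
      _ = (x * z₁) * (u * z₁ * u⁻¹) := by rw [h]
      _ = x * (z₁ * (u * z₁ * u⁻¹)) := by group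
  · intro h
    rw [B.zeq] at h
    have : (x * z₁) * (u * z₁ * u⁻¹) = (z₁ * x) * (u * z₁ * u⁻¹) := by
      calc (x * z₁) * (u * z₁ * u⁻¹) = x * (z₁ * (u * z₁ * u⁻¹)) := by group
        _ = z₁ * (u * z₁ * u⁻¹) * x := h.symm
        _ = z₁ * ((u * z₁ * u⁻¹) * x) := by group
        _ = z₁ * (x * (u * z₁ * u⁻¹)) := by rw [h2]
        _ = (z₁ * x) * (u * z₁ * u⁻¹) := by group
    exact mul_right_cancel this

variable [Finite G]

theorem BData.amem (S : LSetup Q z) (B : BData Q z L u z₁) (x : G) (hx : x ∈ L)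
    (hxz : x * z₁ = z₁ * x) : x * (u * x⁻¹ * u⁻¹) ∈ Q := by
  have := Q.mul_mem (S.nrm x ((B.cent_iff x hx).mp hxz) u B.uQ) (Q.inv_mem B.uQ)
  have e : x * u * x⁻¹ * u⁻¹ = x * (u * x⁻¹ * u⁻¹) := by group
  rwa [e] at this

theorem BData.key_sq (S : LSetup Q z) (B : BData Q z L u z₁) (x : G) (hx : x ∈ L)
    (hxz : x * z₁ = z₁ * x) : x * x = 1 ∨ x * x = z₁ := by
  have ha := B.amem S x hx hxz
  have hx' : u * x⁻¹ * u⁻¹ ∈ L.map (MulAut.conj u).toMonoidHom :=
    conj_mem_conj L u _ (L.inv_mem hx)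
  have hc := B.comm x hx _ hx'
  have e : (x * (u * x⁻¹ * u⁻¹)) * (x * (u * x⁻¹ * u⁻¹)) =
      (x * x) * ((u * x⁻¹ * u⁻¹) * (u * x⁻¹ * u⁻¹)) := by
    calc (x * (u * x⁻¹ * u⁻¹)) * (x * (u * x⁻¹ * u⁻¹))
        = x * ((u * x⁻¹ * u⁻¹) * x) * (u * x⁻¹ * u⁻¹) := by group
      _ = x * (x * (u * x⁻¹ * u⁻¹)) * (u * x⁻¹ * u⁻¹) := by rw [hc]
      _ = _ := by group
  have hsp := B.split (L.mul_mem hx hx) (Subgroup.mul_mem _ hx' hx')
  rcases S.es.sq _ ha with h | h
  · left; rw [e] at h; exact hsp.1 h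
  · right; rw [e] at h; exact hsp.2 h

theorem BData.key_comm (S : LSetup Q z) (B : BData Q z L u z₁) (x y : G) (hx : x ∈ L)
    (hxz : x * z₁ = z₁ * x) (hy : y ∈ L) (hyz : y * z₁ = z₁ * y) :
    x * y * x⁻¹ * y⁻¹ = 1 ∨ x * y * x⁻¹ * y⁻¹ = z₁ := by
  have ha := B.amem S x hx hxz
  have hb := B.amem S y hy hyz
  have hx' : u * x⁻¹ * u⁻¹ ∈ L.map (MulAut.conj u).toMonoidHom :=
    conj_mem_conj L u _ (L.inv_mem hx)
  have hy' : u * y⁻¹ * u⁻¹ ∈ L.map (MulAut.conj u).toMonoidHom :=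
    conj_mem_conj L u _ (L.inv_mem hy)
  have e := prod_comm L (L.map (MulAut.conj u).toMonoidHom) B.comm hx hy hx' hy'
  have hsp := B.split (L.mul_mem (L.mul_mem (L.mul_mem hx hy) (L.inv_mem hx)) (L.inv_mem hy))
    (Subgroup.mul_mem _ (Subgroup.mul_mem _ (Subgroup.mul_mem _ hx' hy') (Subgroup.inv_mem _ hx'))
      (Subgroup.inv_mem _ hy'))
  rcases S.es.comm _ ha _ hb with h | h
  · left; rw [e] at h; exact hsp.1 h
  · right; rw [e] at h; exact hsp.2 h

theorem BData.pow_four (S : LSetup Q z) (B : BData Q z L u z₁) (x : G) (hx : x ∈ L)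
    (hxz : x * z₁ = z₁ * x) : x ^ 4 = 1 := by
  have e : x ^ 4 = (x * x) * (x * x) := by
    simp only [pow_succ, pow_zero, one_mul, mul_assoc]
  rw [e]
  rcases B.key_sq S x hx hxz with h | h
  · rw [h]; simp
  · rw [h]; exact B.z₁z₁

/-- the "centralizer" subgroup is a 2-group with Frattini subgroup inside `⟨z₁⟩`. -/
theorem BData.frat (S : LSetup Q z) (B : BData Q z L u z₁) :
    IsPGroup 2 ↥((Subgroup.centralizer ({z₁} : Set G)).subgroupOf L) ∧
    (frattini ↥((Subgroup.centralizer ({z₁} : Set G)).subgroupOf L)).map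
      ((L.subtype).comp ((Subgroup.centralizer ({z₁} : Set G)).subgroupOf L).subtype)
        ≤ Subgroup.zpowers z₁ := by
  haveI : Fact (Nat.Prime 2) := ⟨Nat.prime_two⟩
  have hmem : ∀ r : ↥((Subgroup.centralizer ({z₁} : Set G)).subgroupOf L),
      ((r : ↥L) : G) ∈ L ∧ ((r : ↥L) : G) * z₁ = z₁ * ((r : ↥L) : G) := by
    intro r
    refine ⟨(r : ↥L).2, ?_⟩
    have := r.2
    rw [Subgroup.mem_subgroupOf, Subgroup.mem_centralizer_singleton_iff] at this
    exact this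
  constructor
  · intro r
    refine ⟨2, ?_⟩
    apply Subtype.ext
    apply Subtype.ext
    have := B.pow_four S _ (hmem r).1 (hmem r).2
    simpa using this
  · rw [Subgroup.map_le_iff_le_comap]
    apply Cfsg.Agent.Lib.Helper16.frattini_le_of_forall (p := 2)
    · intro x y
      rw [Subgroup.mem_comap]
      have e : ((L.subtype).comp ((Subgroup.centralizer ({z₁} : Set G)).subgroupOf L).subtype) ⁅x, y⁆
          = ((x : ↥L) : G) * ((y : ↥L) : G) * ((x : ↥L) : G)⁻¹ * ((y : ↥L) : G)⁻¹ := by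
        rw [commutatorElement_def]; simp
      rw [e]
      rcases B.key_comm S _ _ (hmem x).1 (hmem x).2 (hmem y).1 (hmem y).2 with h | h
      · rw [h]; exact Subgroup.one_mem _
      · rw [h]; exact Subgroup.mem_zpowers _
    · intro x
      rw [Subgroup.mem_comap]
      have e : ((L.subtype).comp ((Subgroup.centralizer ({z₁} : Set G)).subgroupOf L).subtype) (x ^ 2)
          = ((x : ↥L) : G) * ((x : ↥L) : G) := by
        rw [pow_two]; simp
      rw [e]
      rcases B.key_sq S _ (hmem x).1 (hmem x).2 with h | h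
      · rw [h]; exact Subgroup.one_mem _
      · rw [h]; exact Subgroup.mem_zpowers _

end Cfsg.Agent.Lib.Helper3.LargeStruct
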