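import Mathlib
import Cfsg.Agent.Lib.Helper3.LargeStructE

/-!
Structure theorem for large extraspecial subgroups: the two-component case, part 3 (helper3).
-/

set_option autoImplicit false
set_option maxHeartbeats 1000000
open Cfsg
open Cfsg.Agent.Lib.Helper5.ES Cfsg.Agent.Lib.Helper3.LargeQuot
open scoped commutatorElement

namespace Cfsg.Agent.Lib.Helper3.LargeStruct

variable {G : Type*} [Group G] [Finite G] {Q : Subgroup G} {z : G} {L : Subgroup G} {u z₁ : G}

theorem BData.layer_eq (hL : IsComponent L) (B : BData Q z L u z₁) :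
    L ⊔ L.map (MulAut.conj u).toMonoidHom = layer G := by
  apply le_antisymm
  · apply sup_le
    · exact Cfsg.Agent.Lib.Helper20.component_le_layer L hL
    · exact Cfsg.Agent.Lib.Helper20.component_le_layer _ (comp_conj L hL u)
  · unfold layer
    apply sSup_le
    intro K hK
    rcases B.comps K hK with h | h
    · rw [h]; exact le_sup_left
    · rw [h]; exact le_sup_right

theorem BData.max (S : LSetup Q z) (hL : IsComponent L) (B : BData Q z L u z₁)
    (S' : Subgroup ↥L) (hS' : IsPGroup 2 ↥S')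
    (hle : (Subgroup.centralizer ({z₁} : Set G)).subgroupOf L ≤ S') :
    S' = (Subgroup.centralizer ({z₁} : Set G)).subgroupOf L := by
  classical
  haveI : Fact (Nat.Prime 2) := ⟨Nat.prime_two⟩
  obtain ⟨T₀, hQT⟩ := S.pg.exists_le_sylow
  have hzT : z ∈ (T₀ : Subgroup G) := hQT S.es.zQ
  haveI : Nontrivial ↥(T₀ : Subgroup G) :=
    ⟨⟨⟨z, hzT⟩, 1, fun h => S.es.z1 (congrArg Subtype.val h)⟩⟩
  haveI hTnil : Group.IsNilpotent ↥(T₀ : Subgroup G) := T₀.isPGroup'.isNilpotent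
  have hcen := Group.IsNilpotent.center_ne_bot (G := ↥(T₀ : Subgroup G))
  obtain ⟨⟨⟨c, hcT⟩, hc⟩, hc1'⟩ := (Subgroup.ne_bot_iff_exists_ne_one).mp hcen
  have hc1 : c ≠ 1 := fun h => hc1' (Subtype.ext (Subtype.ext h))
  have hccomm : ∀ t ∈ (T₀ : Subgroup G), c * t = t * c := by
    intro t ht
    have := Subgroup.mem_center_iff.mp hc ⟨t, ht⟩
    exact (congrArg Subtype.val this).symm
  have hcz : c = z := by
    rcases S.cgq c (fun q hq => hccomm q (hQT hq)) with h | h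
    · exact absurd h hc1
    · exact h
  subst hcz
  -- conjugate S' into T₀
  obtain ⟨P, hP⟩ := (hS'.map L.subtype).exists_le_sylow
  obtain ⟨g, hg⟩ := MulAction.exists_smul_eq G P T₀
  have hgS : ∀ s ∈ S'.map L.subtype, g * s * g⁻¹ ∈ (T₀ : Subgroup G) := by
    intro s hs
    rw [← hg, Sylow.coe_subgroup_smul, Subgroup.mem_pointwise_smul_iff_inv_smul_mem]
    have e : (MulAut.conj g)⁻¹ • (g * s * g⁻¹) = s := by
      simp only [MulAut.smul_def, MulAut.conj_inv_apply]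
      group
    rw [e]
    exact hP hs
  have hex : ∃ g' : G, L.map (MulAut.conj g').toMonoidHom = L ∧
      ∀ s ∈ S'.map L.subtype, c * (g' * s * g'⁻¹) = (g' * s * g'⁻¹) * c := by
    rcases B.comps _ (comp_conj L hL g) with h | h
    · exact ⟨g, h, fun s hs => hccomm _ (hgS s hs)⟩
    · refine ⟨u⁻¹ * g, ?_, ?_⟩
      · rw [conj_mul, h, ← conj_mul, inv_mul_cancel, conj_one]
      · intro s hs
        have h1 := hccomm _ (hgS s hs)
        have h2 : c * u⁻¹ = u⁻¹ * c := S.es.zc u⁻¹ (Q.inv_mem B.uQ)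
        have h3 : c * u = u * c := S.es.zc u B.uQ
        calc c * (u⁻¹ * g * s * (u⁻¹ * g)⁻¹) = (c * u⁻¹) * (g * s * g⁻¹) * u := by group
          _ = (u⁻¹ * c) * (g * s * g⁻¹) * u := by rw [h2]
          _ = u⁻¹ * (c * (g * s * g⁻¹)) * u := by group
          _ = u⁻¹ * ((g * s * g⁻¹) * c) * u := by rw [h1]
          _ = u⁻¹ * (g * s * g⁻¹) * (c * u) := by group
          _ = u⁻¹ * (g * s * g⁻¹) * (u * c) := by rw [h3]
          _ = (u⁻¹ * g * s * (u⁻¹ * g)⁻¹) * c := by group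
  obtain ⟨g', hg'L, hg'c⟩ := hex
  have hxL : ∀ s : ↥L, g' * (s : G) * g'⁻¹ ∈ L := by
    intro s
    have := conj_mem_conj L g' s s.2
    rwa [hg'L] at this
  have hxR : ∀ s : ↥S', (⟨g' * ((s : ↥L) : G) * g'⁻¹, hxL (s : ↥L)⟩ : ↥L) ∈
      (Subgroup.centralizer ({z₁} : Set G)).subgroupOf L := by
    intro s
    rw [Subgroup.mem_subgroupOf, Subgroup.mem_centralizer_singleton_iff]
    apply (B.cent_iff _ (hxL (s : ↥L))).mpr
    exact hg'c _ (Subgroup.mem_map.mpr ⟨(s : ↥L), s.2, rfl⟩)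
  let f : ↥S' → ↥((Subgroup.centralizer ({z₁} : Set G)).subgroupOf L) :=
    fun s => ⟨⟨g' * ((s : ↥L) : G) * g'⁻¹, hxL (s : ↥L)⟩, hxR s⟩
  have hf : Function.Injective f := by
    intro s t hst
    have h1 : g' * ((s : ↥L) : G) * g'⁻¹ = g' * ((t : ↥L) : G) * g'⁻¹ :=
      congrArg (fun r : ↥((Subgroup.centralizer ({z₁} : Set G)).subgroupOf L) => ((r : ↥L) : G)) hst
    have h2 : ((s : ↥L) : G) = ((t : ↥L) : G) := by
      have := mul_left_cancel (mul_right_cancel h1)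
      exact this
    exact Subtype.ext (Subtype.ext h2)
  have hcard : Nat.card ↥S' ≤ Nat.card ↥((Subgroup.centralizer ({z₁} : Set G)).subgroupOf L) :=
    Nat.card_le_card_of_injective f hf
  exact (Subgroup.eq_of_le_of_card_ge hle hcard).symm

theorem BData.ne_core (S : LSetup Q z) (hF : fittingSubgroup G = ⊥) (hL : IsComponent L)
    (B : BData Q z L u z₁) :
    Q ≠ (Cfsg.pCore 2 ↥(Subgroup.centralizer ({z} : Set G))).map
      (Subgroup.centralizer ({z} : Set G)).subtype := by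
  intro hQeq
  have hmemH : ∀ h : G, h ∈ Subgroup.centralizer ({z} : Set G) ↔ z * h = h * z := by
    intro h
    rw [Subgroup.mem_centralizer_singleton_iff]
    exact eq_comm
  have hEn : (layer G).Normal := Cfsg.Agent.Lib.Helper20.layer_normal
  have hDn : ((layer G).subgroupOf (Subgroup.centralizer ({z} : Set G))).Normal := inferInstance
  have hz₂ := B.z₂mem
  have hpow : ∀ m ∈ layer G, z * m = m * z → m ^ 4 = 1 := by
    intro m hm hzm
    rw [← B.layer_eq hL] at hm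
    obtain ⟨l, hl, l', hl', rfl⟩ := mem_sup_of_commute L _ B.comm m hm
    have hll' : l * l' = l' * l := B.comm l hl l' hl'
    -- l z₁ l⁻¹ = z₁
    have e1 : l' * z₁ = z₁ * l' := (B.comm z₁ B.z₁L l' hl').symm
    have ht' : l' * (u * z₁ * u⁻¹) * l'⁻¹ ∈ L.map (MulAut.conj u).toMonoidHom :=
      Subgroup.mul_mem _ (Subgroup.mul_mem _ hl' hz₂) (Subgroup.inv_mem _ hl')
    have e2 : (l' * (u * z₁ * u⁻¹) * l'⁻¹) * l⁻¹ = l⁻¹ * (l' * (u * z₁ * u⁻¹) * l'⁻¹) :=
      (B.comm l⁻¹ (L.inv_mem hl) _ ht').symm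
    have hconj : (l * z₁ * l⁻¹) * (l' * (u * z₁ * u⁻¹) * l'⁻¹) = z := by
      have h0 : (l * l') * z * (l * l')⁻¹ = z := by
        rw [← hzm]; group
      calc (l * z₁ * l⁻¹) * (l' * (u * z₁ * u⁻¹) * l'⁻¹)
          = l * z₁ * (l⁻¹ * (l' * (u * z₁ * u⁻¹) * l'⁻¹)) := by group
        _ = l * z₁ * ((l' * (u * z₁ * u⁻¹) * l'⁻¹) * l⁻¹) := by rw [e2]
        _ = l * (z₁ * l') * (u * z₁ * u⁻¹) * l'⁻¹ * l⁻¹ := by group
        _ = l * (l' * z₁) * (u * z₁ * u⁻¹) * l'⁻¹ * l⁻¹ := by rw [e1]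
        _ = (l * l') * (z₁ * (u * z₁ * u⁻¹)) * (l * l')⁻¹ := by group
        _ = (l * l') * z * (l * l')⁻¹ := by rw [← B.zeq]
        _ = z := h0
    have hlz : l * z₁ * l⁻¹ = z₁ :=
      (B.split (L.mul_mem (L.mul_mem hl B.z₁L) (L.inv_mem hl)) ht').2 hconj
    have hlz₁ : l * z₁ = z₁ * l := by
      calc l * z₁ = (l * z₁ * l⁻¹) * l := by group
        _ = z₁ * l := by rw [hlz]
    have hl4 : l ^ 4 = 1 := B.pow_four S l hl hlz₁
    have hzl : z * l = l * z := (B.cent_iff l hl).mp hlz₁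
    have hzl' : z * l' = l' * z := by
      have : l' = l⁻¹ * (l * l') := by group
      rw [this]
      have hzli : z * l⁻¹ = l⁻¹ * z := by
        calc z * l⁻¹ = l⁻¹ * (l * z) * l⁻¹ := by group
          _ = l⁻¹ * (z * l) * l⁻¹ := by rw [hzl]
          _ = l⁻¹ * z := by group
      calc z * (l⁻¹ * (l * l')) = (z * l⁻¹) * (l * l') := by group
        _ = (l⁻¹ * z) * (l * l') := by rw [hzli]
        _ = l⁻¹ * (z * (l * l')) := by group
        _ = l⁻¹ * ((l * l') * z) := by rw [hzm]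
        _ = l⁻¹ * (l * l') * z := by group
    have hy : u⁻¹ * l' * u ∈ L := (mem_conj_iff L u l').mp hl'
    have hzu : z * u = u * z := S.es.zc u B.uQ
    have hzui : z * u⁻¹ = u⁻¹ * z := S.es.zc u⁻¹ (Q.inv_mem B.uQ)
    have hzy : z * (u⁻¹ * l' * u) = (u⁻¹ * l' * u) * z := by
      calc z * (u⁻¹ * l' * u) = (z * u⁻¹) * l' * u := by group
        _ = (u⁻¹ * z) * l' * u := by rw [hzui]
        _ = u⁻¹ * (z * l') * u := by group
        _ = u⁻¹ * (l' * z) * u := by rw [hzl']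
        _ = u⁻¹ * l' * (z * u) := by group
        _ = u⁻¹ * l' * (u * z) := by rw [hzu]
        _ = (u⁻¹ * l' * u) * z := by group
    have hy4 : (u⁻¹ * l' * u) ^ 4 = 1 := B.pow_four S _ hy ((B.cent_iff _ hy).mpr hzy)
    have hl'4 : l' ^ 4 = 1 := by
      have e : (u⁻¹ * l' * u) ^ 4 = u⁻¹ * l' ^ 4 * u := by
        simp only [pow_succ, pow_zero, one_mul]; group
      rw [e] at hy4
      calc l' ^ 4 = u * (u⁻¹ * l' ^ 4 * u) * u⁻¹ := by group
        _ = 1 := by rw [hy4]; group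
    have hc : Commute l l' := hll'
    rw [hc.mul_pow, hl4, hl'4, one_mul]
  have hD2 : IsPGroup 2 ↥((layer G).subgroupOf (Subgroup.centralizer ({z} : Set G))) := by
    intro d
    refine ⟨2, ?_⟩
    apply Subtype.ext
    apply Subtype.ext
    have hm : ((d : ↥(Subgroup.centralizer ({z} : Set G))) : G) ∈ layer G :=
      Subgroup.mem_subgroupOf.mp d.2
    have := hpow _ hm ((hmemH _).mp (d : ↥(Subgroup.centralizer ({z} : Set G))).2)
    simpa using this
  have hDle := Cfsg.Agent.Lib.Helper16.le_pCore hDn hD2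
  apply simple_cent_sub L (comp_simple hF L hL) (comp_nonabelian L hL) z₁ B.z₁L B.z₁1 B.z₁z₁
  intro x hx hxz
  have hzx : z * x = x * z := (B.cent_iff x hx).mp hxz
  have hxQ : x ∈ Q := by
    rw [hQeq]
    refine Subgroup.mem_map.mpr ⟨⟨x, (hmemH x).mpr hzx⟩, hDle ?_, rfl⟩
    rw [Subgroup.mem_subgroupOf]
    exact Cfsg.Agent.Lib.Helper20.component_le_layer L hL hx
  have hx' : u * x⁻¹ * u⁻¹ ∈ L.map (MulAut.conj u).toMonoidHom :=
    conj_mem_conj L u _ (L.inv_mem hx)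
  have e : x * u * x⁻¹ * u⁻¹ = x * (u * x⁻¹ * u⁻¹) := by group
  have hsp := B.split hx hx'
  rcases S.es.comm x hxQ u B.uQ with h | h
  · left; rw [e] at h; exact hsp.1 h
  · right; rw [e] at h; exact hsp.2 h

end Cfsg.Agent.Lib.Helper3.LargeStruct
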