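import Mathlib

/-!
Helper library (helper3) for S0406 (Conway's characterisation of the rank-24 lattice):
the abstract even lattice without vectors of norm 2, and its classes modulo 2.
-/

set_option autoImplicit false

namespace Cfsg.Agent.Lib.Helper3.Lx

open Matrix

/-- an even positive definite integral form of rank 24 without vectors of norm 2 -/
structure Lat where
  B : Matrix (Fin 24) (Fin 24) ℤ
  hsymm : B.IsSymm
  hpos : ∀ x : Fin 24 → ℤ, x ≠ 0 → 0 < x ⬝ᵥ (B *ᵥ x)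
  heven : ∀ x : Fin 24 → ℤ, (2 : ℤ) ∣ x ⬝ᵥ (B *ᵥ x)
  h2 : ∀ x : Fin 24 → ℤ, x ⬝ᵥ (B *ᵥ x) ≠ 2

variable (Λ : Lat)

/-- the bilinear form -/
noncomputable def Lat.bf : LinearMap.BilinForm ℤ (Fin 24 → ℤ) := Matrix.toBilin' Λ.B

/-- the norm -/
noncomputable def Lat.N (x : Fin 24 → ℤ) : ℤ := Λ.bf x x

theorem bf_apply (x y : Fin 24 → ℤ) : Λ.bf x y = x ⬝ᵥ (Λ.B *ᵥ y) :=
  Matrix.toBilin'_apply' _ _ _

theorem N_apply (x : Fin 24 → ℤ) : Λ.N x = x ⬝ᵥ (Λ.B *ᵥ x) := bf_apply Λ x x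

theorem bf_comm (x y : Fin 24 → ℤ) : Λ.bf x y = Λ.bf y x := by
  rw [bf_apply, bf_apply, Matrix.dotProduct_mulVec, ← Matrix.mulVec_transpose, Λ.hsymm.eq,
    dotProduct_comm]

theorem bf_add_left (x y z : Fin 24 → ℤ) : Λ.bf (x + y) z = Λ.bf x z + Λ.bf y z := by
  rw [map_add, LinearMap.add_apply]

theorem bf_add_right (x y z : Fin 24 → ℤ) : Λ.bf x (y + z) = Λ.bf x y + Λ.bf x z := map_add _ _ _

theorem bf_sub_left (x y z : Fin 24 → ℤ) : Λ.bf (x - y) z = Λ.bf x z - Λ.bf y z := by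
  rw [map_sub, LinearMap.sub_apply]

theorem bf_sub_right (x y z : Fin 24 → ℤ) : Λ.bf x (y - z) = Λ.bf x y - Λ.bf x z := map_sub _ _ _

theorem bf_neg_left (x z : Fin 24 → ℤ) : Λ.bf (-x) z = -Λ.bf x z := by
  rw [map_neg, LinearMap.neg_apply]

theorem bf_neg_right (x z : Fin 24 → ℤ) : Λ.bf x (-z) = -Λ.bf x z := map_neg _ _

theorem bf_smul_left (k : ℤ) (x z : Fin 24 → ℤ) : Λ.bf (k • x) z = k * Λ.bf x z := by
  rw [map_smul, LinearMap.smul_apply, smul_eq_mul]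

theorem bf_smul_right (k : ℤ) (x z : Fin 24 → ℤ) : Λ.bf x (k • z) = k * Λ.bf x z := by
  rw [map_smul, smul_eq_mul]

theorem bf_zero_left (z : Fin 24 → ℤ) : Λ.bf 0 z = 0 := by
  rw [map_zero, LinearMap.zero_apply]

theorem bf_zero_right (z : Fin 24 → ℤ) : Λ.bf z 0 = 0 := map_zero _

theorem bf_sum_left {ι : Type*} (s : Finset ι) (c : ι → ℤ) (v : ι → Fin 24 → ℤ)
    (z : Fin 24 → ℤ) : Λ.bf (∑ i ∈ s, c i • v i) z = ∑ i ∈ s, c i * Λ.bf (v i) z := by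
  rw [map_sum, LinearMap.sum_apply]
  apply Finset.sum_congr rfl
  intro i _
  exact bf_smul_left Λ _ _ _

theorem N_add (x y : Fin 24 → ℤ) : Λ.N (x + y) = Λ.N x + Λ.N y + 2 * Λ.bf x y := by
  unfold Lat.N
  rw [bf_add_left, bf_add_right, bf_add_right, bf_comm Λ y x]
  ring

theorem N_sub (x y : Fin 24 → ℤ) : Λ.N (x - y) = Λ.N x + Λ.N y - 2 * Λ.bf x y := by
  unfold Lat.N
  rw [bf_sub_left, bf_sub_right, bf_sub_right, bf_comm Λ y x]
  ring

theorem N_smul (k : ℤ) (x : Fin 24 → ℤ) : Λ.N (k • x) = k ^ 2 * Λ.N x := by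
  unfold Lat.N
  rw [bf_smul_left, bf_smul_right]
  ring

theorem N_neg (x : Fin 24 → ℤ) : Λ.N (-x) = Λ.N x := by
  unfold Lat.N
  rw [bf_neg_left, bf_neg_right, neg_neg]

theorem N_zero : Λ.N 0 = 0 := bf_zero_left Λ 0

theorem N_ge {x : Fin 24 → ℤ} (hx : x ≠ 0) : 4 ≤ Λ.N x := by
  have h1 := Λ.hpos x hx
  have h2 := Λ.heven x
  have h3 := Λ.h2 x
  rw [← N_apply] at h1 h2 h3
  omega

theorem N_even (x : Fin 24 → ℤ) : (2 : ℤ) ∣ Λ.N x := by
  rw [N_apply]; exact Λ.heven x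

theorem N_nonneg (x : Fin 24 → ℤ) : 0 ≤ Λ.N x := by
  by_cases hx : x = 0
  · rw [hx, N_zero]
  · have := N_ge Λ hx; omega

theorem eq_zero_of_N {x : Fin 24 → ℤ} (h : Λ.N x = 0) : x = 0 := by
  by_contra hx
  have := N_ge Λ hx
  omega

/-! ### reduction modulo 2 -/

/-- reduction of the coordinates modulo 2 -/
def red2 {ι : Type*} : (ι → ℤ) →+ (ι → ZMod 2) :=
  AddMonoidHom.compLeft (Int.castAddHom (ZMod 2)) ι

theorem red2_apply {ι : Type*} (x : ι → ℤ) (i : ι) : red2 x i = ((x i : ℤ) : ZMod 2) := rfl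

theorem red2_eq_iff {ι : Type*} (x y : ι → ℤ) : red2 x = red2 y ↔ ∃ u : ι → ℤ, x - y = (2 : ℤ) • u := by
  constructor
  · intro h
    have h1 : ∀ i, (2 : ℤ) ∣ x i - y i := by
      intro i
      have := congrFun h i
      rw [red2_apply, red2_apply, ZMod.intCast_eq_intCast_iff_dvd_sub] at this
      have h2 : (2 : ℤ) ∣ y i - x i := by exact_mod_cast this
      omega
    refine ⟨fun i => (x i - y i) / 2, ?_⟩
    funext i
    have := h1 i
    simp only [Pi.sub_apply, Pi.smul_apply, smul_eq_mul]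
    omega
  · rintro ⟨u, hu⟩
    funext i
    have := congrFun hu i
    simp only [Pi.sub_apply, Pi.smul_apply, smul_eq_mul] at this
    rw [red2_apply, red2_apply, ZMod.intCast_eq_intCast_iff_dvd_sub]
    exact ⟨-u i, by push_cast; omega⟩

theorem red2_neg {ι : Type*} (x : ι → ℤ) : red2 (-x) = red2 x := by
  rw [red2_eq_iff]
  refine ⟨-x, ?_⟩
  funext i
  simp only [Pi.sub_apply, Pi.neg_apply, Pi.smul_apply, smul_eq_mul]
  ring

/-- two distinct short vectors in one class are orthogonal of norm 8 -/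
theorem short_class {x y : Fin 24 → ℤ} (hx : Λ.N x ≤ 8) (hy : Λ.N y ≤ 8) (h : red2 x = red2 y)
    (h1 : x ≠ y) (h2 : x ≠ -y) : Λ.N x = 8 ∧ Λ.N y = 8 ∧ Λ.bf x y = 0 := by
  obtain ⟨u, hu⟩ := (red2_eq_iff x y).1 h
  have h' : red2 x = red2 (-y) := by rw [red2_neg]; exact h
  obtain ⟨u', hu'⟩ := (red2_eq_iff x (-y)).1 h'
  rw [sub_neg_eq_add] at hu'
  have hune : u ≠ 0 := by
    rintro rfl
    rw [smul_zero, sub_eq_zero] at hu
    exact h1 hu
  have hune' : u' ≠ 0 := by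
    rintro rfl
    rw [smul_zero] at hu'
    exact h2 (eq_neg_of_add_eq_zero_left hu')
  have e1 := N_ge Λ hune
  have e2 := N_ge Λ hune'
  have e3 := N_sub Λ x y
  have e4 := N_add Λ x y
  rw [hu, N_smul] at e3
  rw [hu', N_smul] at e4
  refine ⟨?_, ?_, ?_⟩ <;> omega

end Cfsg.Agent.Lib.Helper3.Lx
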