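import Mathlib
import Cfsg.Agent.Lib.Helper3.Lx0406A

/-!
Helper library (helper3) for S0406: counting the classes modulo 2 represented by short vectors,
to find a class with at least 48 vectors of norm 8.
-/

set_option autoImplicit false

namespace Cfsg.Agent.Lib.Helper3.Lx

open Matrix

variable (Λ : Lat)

theorem class_norm_eq {x y : Fin 24 → ℤ} (hx : Λ.N x ≤ 8) (hy : Λ.N y ≤ 8)
    (h : red2 x = red2 y) : Λ.N x = Λ.N y := by
  by_contra hne
  have h1 : x ≠ y := by rintro rfl; exact hne rfl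
  have h2 : x ≠ -y := by rintro rfl; exact hne (N_neg Λ y)
  obtain ⟨e1, e2, -⟩ := short_class Λ hx hy h h1 h2
  exact hne (e1.trans e2.symm)

theorem class_pm {x y : Fin 24 → ℤ} (hx : Λ.N x ≤ 8) (hy : Λ.N y ≤ 8)
    (h : red2 x = red2 y) (hn : Λ.N x ≠ 8) : y = x ∨ y = -x := by
  by_contra hcon
  push Not at hcon
  have h1 : x ≠ y := fun h => hcon.1 h.symm
  have h2 : x ≠ -y := fun h => hcon.2 (by rw [h, neg_neg])
  exact hn (short_class Λ hx hy h h1 h2).1

theorem card_classes : Fintype.card (Fin 24 → ZMod 2) = 16777216 := by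
  rw [Fintype.card_fun, ZMod.card, Fintype.card_fin]
  norm_num

/-- a class modulo 2 containing at least 48 vectors of norm 8 -/
theorem exists_big_fibre (h4 : {x : Fin 24 → ℤ | Λ.N x = 4}.ncard = 196560)
    (h6 : {x : Fin 24 → ℤ | Λ.N x = 6}.ncard = 16773120)
    (h8 : {x : Fin 24 → ℤ | Λ.N x = 8}.ncard = 398034000) :
    ∃ F : Finset (Fin 24 → ℤ), 48 ≤ F.card ∧ (∀ x ∈ F, Λ.N x = 8) ∧
      (∀ x ∈ F, ∀ y ∈ F, red2 x = red2 y) := by
  classical
  have f4 : {x : Fin 24 → ℤ | Λ.N x = 4}.Finite :=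
    Set.finite_of_ncard_ne_zero (by rw [h4]; norm_num)
  have f6 : {x : Fin 24 → ℤ | Λ.N x = 6}.Finite :=
    Set.finite_of_ncard_ne_zero (by rw [h6]; norm_num)
  have f8 : {x : Fin 24 → ℤ | Λ.N x = 8}.Finite :=
    Set.finite_of_ncard_ne_zero (by rw [h8]; norm_num)
  obtain ⟨S4, hS4⟩ : ∃ S : Finset (Fin 24 → ℤ), ∀ x, x ∈ S ↔ Λ.N x = 4 :=
    ⟨f4.toFinset, fun x => by simp⟩
  obtain ⟨S6, hS6⟩ : ∃ S : Finset (Fin 24 → ℤ), ∀ x, x ∈ S ↔ Λ.N x = 6 :=
    ⟨f6.toFinset, fun x => by simp⟩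
  obtain ⟨S8, hS8⟩ : ∃ S : Finset (Fin 24 → ℤ), ∀ x, x ∈ S ↔ Λ.N x = 8 :=
    ⟨f8.toFinset, fun x => by simp⟩
  have c4 : S4.card = 196560 := by
    rw [← h4, ← Set.ncard_coe_finset]; congr 1; ext x; simp [hS4]
  have c6 : S6.card = 16773120 := by
    rw [← h6, ← Set.ncard_coe_finset]; congr 1; ext x; simp [hS6]
  have c8 : S8.card = 398034000 := by
    rw [← h8, ← Set.ncard_coe_finset]; congr 1; ext x; simp [hS8]
  -- fibres over the classes of norm 4 and 6 have at most two elements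
  have fib : ∀ (S : Finset (Fin 24 → ℤ)) (k : ℤ), k ≤ 8 → k ≠ 8 → (∀ x, x ∈ S ↔ Λ.N x = k) →
      S.card ≤ 2 * (S.image red2).card := by
    intro S k hk hk8 hS
    apply Finset.card_le_mul_card_image
    intro a ha
    obtain ⟨x0, hx0, rfl⟩ := Finset.mem_image.1 ha
    have hsub : S.filter (fun x => red2 x = red2 x0) ⊆ {x0, -x0} := by
      intro y hy
      obtain ⟨hy1, hy2⟩ := Finset.mem_filter.1 hy
      have e0 := (hS x0).1 hx0
      have e1 := (hS y).1 hy1
      rw [Finset.mem_insert, Finset.mem_singleton]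
      exact class_pm Λ (by omega) (by omega) hy2.symm (by omega)
    exact (Finset.card_le_card hsub).trans Finset.card_le_two
  have p4 := fib S4 4 (by norm_num) (by norm_num) hS4
  have p6 := fib S6 6 (by norm_num) (by norm_num) hS6
  -- disjointness of the images
  have dis : ∀ (S S' : Finset (Fin 24 → ℤ)) (k k' : ℤ), k ≤ 8 → k' ≤ 8 → k ≠ k' →
      (∀ x, x ∈ S ↔ Λ.N x = k) → (∀ x, x ∈ S' ↔ Λ.N x = k') →
      Disjoint (S.image red2) (S'.image red2) := by
    intro S S' k k' hk hk' hne hS hS'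
    rw [Finset.disjoint_left]
    intro a ha ha'
    obtain ⟨x, hx, rfl⟩ := Finset.mem_image.1 ha
    obtain ⟨y, hy, hxy⟩ := Finset.mem_image.1 ha'
    have e0 := (hS x).1 hx
    have e1 := (hS' y).1 hy
    have := class_norm_eq Λ (x := x) (y := y) (by omega) (by omega) hxy.symm
    omega
  have d46 := dis S4 S6 4 6 (by norm_num) (by norm_num) (by norm_num) hS4 hS6
  have d48 := dis S4 S8 4 8 (by norm_num) (by norm_num) (by norm_num) hS4 hS8
  have d68 := dis S6 S8 6 8 (by norm_num) (by norm_num) (by norm_num) hS6 hS8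
  have z : ∀ (S : Finset (Fin 24 → ℤ)) (k : ℤ), k ≤ 8 → k ≠ 0 → (∀ x, x ∈ S ↔ Λ.N x = k) →
      (0 : Fin 24 → ZMod 2) ∉ S.image red2 := by
    intro S k hk hk0 hS h0
    obtain ⟨x, hx, hx0⟩ := Finset.mem_image.1 h0
    have e0 := (hS x).1 hx
    have := class_norm_eq Λ (x := x) (y := 0) (by omega) (by rw [N_zero]; norm_num)
      (by rw [hx0, map_zero])
    rw [N_zero] at this
    omega
  have z4 := z S4 4 (by norm_num) (by norm_num) hS4
  have z6 := z S6 6 (by norm_num) (by norm_num) hS6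
  have z8 := z S8 8 (by norm_num) (by norm_num) hS8
  -- the union
  have hU : (insert (0 : Fin 24 → ZMod 2) (S4.image red2 ∪ (S6.image red2 ∪ S8.image red2))).card =
      1 + ((S4.image red2).card + ((S6.image red2).card + (S8.image red2).card)) := by
    rw [Finset.card_insert_of_notMem, Finset.card_union_of_disjoint,
      Finset.card_union_of_disjoint d68]
    · ring
    · rw [Finset.disjoint_union_right]; exact ⟨d46, d48⟩
    · rw [Finset.mem_union, Finset.mem_union]
      tauto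
  have hle := Finset.card_le_univ
    (insert (0 : Fin 24 → ZMod 2) (S4.image red2 ∪ (S6.image red2 ∪ S8.image red2)))
  rw [hU, card_classes] at hle
  have p8 : (S8.image red2).card ≤ 8292375 := by omega
  -- a big fibre
  by_contra hcon
  push Not at hcon
  have : S8.card ≤ 47 * (S8.image red2).card := by
    apply Finset.card_le_mul_card_image
    intro a ha
    by_contra hlt
    push Not at hlt
    obtain ⟨x, hx, y, hy, hxy⟩ := hcon (S8.filter (fun x => red2 x = a)) (by omega)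
      (fun x hx => (hS8 x).1 (Finset.mem_filter.1 hx).1)
    apply hxy
    rw [(Finset.mem_filter.1 hx).2, (Finset.mem_filter.1 hy).2]
  omega

end Cfsg.Agent.Lib.Helper3.Lx
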