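import Mathlib

/-!
Helper library (helper3) for S1572: generic lemmas on orbits of a subgroup.
-/

set_option autoImplicit false

namespace Cfsg.Agent.Lib.Helper3.Mx

/-- orbit–stabiliser for a subgroup `L` of `G` acting through `G` -/
theorem card_eq_orbit_mul {G X : Type*} [Group G] [MulAction G X] (L : Subgroup G) (x : X) :
    Nat.card L = (MulAction.orbit L x).ncard * Nat.card ↥(L ⊓ MulAction.stabilizer G x) := by
  have h1 := Subgroup.card_mul_index (MulAction.stabilizer L x)
  rw [MulAction.index_stabilizer] at h1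
  have h2 : MulAction.stabilizer L x = (MulAction.stabilizer G x).subgroupOf L := by
    ext h
    rw [Subgroup.mem_subgroupOf, MulAction.mem_stabilizer_iff, MulAction.mem_stabilizer_iff]
    rfl
  have h3 : Nat.card (MulAction.stabilizer L x) = Nat.card ↥(L ⊓ MulAction.stabilizer G x) := by
    rw [h2, ← Subgroup.inf_subgroupOf_left]
    exact Nat.card_congr (Subgroup.subgroupOfEquivOfLe inf_le_left).toEquiv
  rw [← h1, h3, mul_comm]

theorem mem_orbit_sub {G X : Type*} [Group G] [MulAction G X] (L : Subgroup G) (x y : X) :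
    y ∈ MulAction.orbit L x ↔ ∃ g ∈ L, g • x = y := by
  constructor
  · rintro ⟨g, rfl⟩
    exact ⟨g.1, g.2, rfl⟩
  · rintro ⟨g, hg, rfl⟩
    exact ⟨⟨g, hg⟩, rfl⟩

/-- an orbit of `L` meets a set on which `L` is transitive in nothing or everything -/
theorem orbit_inter_family {G X : Type*} [Group G] [MulAction G X] (L : Subgroup G) (x : X)
    (F : Set X) (htr : ∀ y ∈ F, ∀ y' ∈ F, ∃ m ∈ L, m • y = y') :
    MulAction.orbit L x ∩ F = ∅ ∨ MulAction.orbit L x ∩ F = F := by
  by_cases h : MulAction.orbit L x ∩ F = ∅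
  · exact Or.inl h
  · right
    obtain ⟨y, hy1, hy2⟩ := Set.nonempty_iff_ne_empty.2 h
    apply Set.eq_of_subset_of_subset Set.inter_subset_right
    intro y' hy'
    refine ⟨?_, hy'⟩
    obtain ⟨m, hm, rfl⟩ := htr y hy2 y' hy'
    obtain ⟨g, hg, rfl⟩ := (mem_orbit_sub L x y).1 hy1
    rw [mem_orbit_sub]
    exact ⟨m * g, L.mul_mem hm hg, mul_smul m g x⟩

theorem ncard_inter_family {G X : Type*} [Group G] [MulAction G X] (L : Subgroup G) (x : X)
    (F : Set X) (htr : ∀ y ∈ F, ∀ y' ∈ F, ∃ m ∈ L, m • y = y') :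
    (MulAction.orbit L x ∩ F).ncard = 0 ∨ (MulAction.orbit L x ∩ F).ncard = F.ncard := by
  rcases orbit_inter_family L x F htr with h | h
  · left; rw [h, Set.ncard_empty]
  · right; rw [h]

/-- splitting a count along a disjoint cover -/
theorem ncard_split {X : Type*} (S F R : Set X) (hfin : S.Finite) (hS : S ⊆ F ∪ R)
    (hd : Disjoint F R) : S.ncard = (S ∩ F).ncard + (S ∩ R).ncard := by
  have h1 : S = (S ∩ F) ∪ (S ∩ R) := by
    rw [← Set.inter_union_distrib_left]
    exact (Set.inter_eq_left.2 hS).symm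
  have h2 : Disjoint (S ∩ F) (S ∩ R) :=
    Set.disjoint_of_subset Set.inter_subset_right Set.inter_subset_right hd
  conv_lhs => rw [h1]
  exact Set.ncard_union_eq h2 (hfin.subset Set.inter_subset_left) (hfin.subset Set.inter_subset_left)

end Cfsg.Agent.Lib.Helper3.Mx
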