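import Mathlib
import Cfsg.Agent.S0397
import Cfsg.Agent.Lib.Helper3.McLFam
import Cfsg.Agent.Lib.Helper3.Co2B
import Cfsg.Agent.Lib.Helper3.M24Trans5
import Cfsg.Agent.Lib.Helper3.HS11178A

/-!
Helper library (helper3) for S1572: codewords with prescribed intersections, and the effect of
sign changes on the standard shapes; monomial elements of the cross stabiliser.
-/

set_option autoImplicit false

namespace Cfsg.Agent.Lib.Helper3.Mx

open Cfsg Cfsg.Agent.Lib.Helper21 Cfsg.Agent.Lib.Helper3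
open scoped Pointwise

/-- an octad meeting `O` exactly in a given tetrad and avoiding two given outside points -/
theorem exists_octad_inter2 {O S : Finset GolayPt} (hO : O ∈ octads) (hS : S ⊆ O)
    (hS4 : S.card = 4) {a b : GolayPt} (ha : a ∉ O) (hb : b ∉ O) :
    ∃ O' ∈ octads, O' ∩ O = S ∧ a ∉ O' ∧ b ∉ O' := by
  classical
  have hc : (O ∪ tet S hS4 a ∪ tet S hS4 b).card < 24 := by
    have h1 := Finset.card_union_le (O ∪ tet S hS4 a) (tet S hS4 b)
    have h2 := Finset.card_union_le O (tet S hS4 a)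
    rw [hO.2, tet_card] at h2
    rw [tet_card] at h1
    omega
  obtain ⟨z, hz⟩ := exists_notMem_of_card_lt hc
  rw [Finset.mem_union, Finset.mem_union, not_or, not_or] at hz
  obtain ⟨⟨hzO, hza⟩, hzb⟩ := hz
  obtain ⟨k, hk⟩ : S.Nonempty := by
    rw [← Finset.card_pos]; omega
  have hzS : z ∉ S := fun h => hzO (hS h)
  have h1 : tet S hS4 k ≠ tet S hS4 z := by
    rw [tet_eq_T S hS4 hk]
    intro h
    exact hzS (h ▸ mem_tet S hS4 z)
  have h2 := tet_union_octad S hS4 h1
  rw [tet_eq_T S hS4 hk] at h2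
  refine ⟨S ∪ tet S hS4 z, h2, ?_, ?_, ?_⟩
  · have hsub : S ⊆ (S ∪ tet S hS4 z) ∩ O := by
      intro i hi
      exact Finset.mem_inter.2 ⟨Finset.mem_union_left _ hi, hS hi⟩
    have hne : S ∪ tet S hS4 z ≠ O := by
      intro h
      apply hzO
      rw [← h]
      exact Finset.mem_union_right _ (mem_tet S hS4 z)
    have hle := Finset.card_le_card hsub
    have hcard : ((S ∪ tet S hS4 z) ∩ O).card = 4 := by
      rcases octad_inter_card h2 hO with h | h | h | h
      · omega
      · omega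
      · exact h
      · exfalso
        exact hne (octad_eq_of_inter_card h2 hO (by omega))
    exact (Finset.eq_of_subset_of_card_le hsub (by rw [hcard, hS4])).symm
  · rw [Finset.mem_union, not_or]
    refine ⟨fun h => ha (hS h), ?_⟩
    intro h
    exact hza ((mem_tet_comm S hS4 z a).1 h)
  · rw [Finset.mem_union, not_or]
    refine ⟨fun h => hb (hS h), ?_⟩
    intro h
    exact hzb ((mem_tet_comm S hS4 z b).1 h)

/-- a codeword meeting the octad `O` exactly in a given pair and avoiding two outside points -/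
theorem exists_code_pair {O : Finset GolayPt} (hO : O ∈ octads) {a b : GolayPt} (ha : a ∉ O)
    (hb : b ∉ O) {p q : GolayPt} (hp : p ∈ O) (hq : q ∈ O) (hpq : p ≠ q) :
    ∃ C ∈ supports (golayCode : Set (GolayPt → ZMod 2)), C ∩ O = {p, q} ∧ a ∉ C ∧ b ∉ C := by
  classical
  have hcard : 3 ≤ ((O.erase p).erase q).card := by
    rw [Finset.card_erase_of_mem (Finset.mem_erase.2 ⟨hpq.symm, hq⟩),
      Finset.card_erase_of_mem hp, hO.2]
    norm_num
  obtain ⟨R, hR, hR3⟩ := Finset.exists_subset_card_eq hcard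
  have hR' : ∀ i ∈ R, i ≠ q ∧ i ≠ p ∧ i ∈ O := by
    intro i hi
    have := hR hi
    rw [Finset.mem_erase, Finset.mem_erase] at this
    exact this
  have hpR : p ∉ R := fun h => (hR' p h).2.1 rfl
  have hqR : q ∉ R := fun h => (hR' q h).1 rfl
  have hS1 : insert p R ⊆ O := by
    intro i hi
    rcases Finset.mem_insert.1 hi with h | h
    · rw [h]; exact hp
    · exact (hR' i h).2.2
  have hS2 : insert q R ⊆ O := by
    intro i hi
    rcases Finset.mem_insert.1 hi with h | h
    · rw [h]; exact hq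
    · exact (hR' i h).2.2
  have hc1 : (insert p R).card = 4 := by rw [Finset.card_insert_of_notMem hpR, hR3]
  have hc2 : (insert q R).card = 4 := by rw [Finset.card_insert_of_notMem hqR, hR3]
  obtain ⟨O1, hO1, h1, a1, b1⟩ := exists_octad_inter2 hO hS1 hc1 ha hb
  obtain ⟨O2, hO2, h2, a2, b2⟩ := exists_octad_inter2 hO hS2 hc2 ha hb
  refine ⟨(O1 \ O2) ∪ (O2 \ O1), supports_symmDiff hO1.1 hO2.1, ?_, ?_, ?_⟩
  · ext i
    have e1 : i ∈ O1 ∧ i ∈ O ↔ i = p ∨ i ∈ R := by
      rw [← Finset.mem_inter, h1, Finset.mem_insert]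
    have e2 : i ∈ O2 ∧ i ∈ O ↔ i = q ∨ i ∈ R := by
      rw [← Finset.mem_inter, h2, Finset.mem_insert]
    simp only [Finset.mem_inter, Finset.mem_union, Finset.mem_sdiff, Finset.mem_insert,
      Finset.mem_singleton]
    constructor
    · rintro ⟨⟨h3, h4⟩ | ⟨h3, h4⟩, h5⟩
      · rcases e1.1 ⟨h3, h5⟩ with h | h
        · exact Or.inl h
        · exact absurd (e2.2 (Or.inr h)).1 h4
      · rcases e2.1 ⟨h3, h5⟩ with h | h
        · exact Or.inr h
        · exact absurd (e1.2 (Or.inr h)).1 h4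
    · rintro (h | h)
      · subst h
        refine ⟨Or.inl ⟨(e1.2 (Or.inl rfl)).1, fun h4 => ?_⟩, hp⟩
        rcases e2.1 ⟨h4, hp⟩ with h | h
        · exact hpq h
        · exact hpR h
      · subst h
        refine ⟨Or.inr ⟨(e2.2 (Or.inl rfl)).1, fun h4 => ?_⟩, hq⟩
        rcases e1.1 ⟨h4, hq⟩ with h | h
        · exact hpq h.symm
        · exact hqR h
  · simp only [Finset.mem_union, Finset.mem_sdiff]
    tauto
  · simp only [Finset.mem_union, Finset.mem_sdiff]
    tauto

/-- a codeword meeting the octad `O` exactly in a given even set and avoiding two outside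
points -/
theorem exists_code_inter {O : Finset GolayPt} (hO : O ∈ octads) {a b : GolayPt} (ha : a ∉ O)
    (hb : b ∉ O) : ∀ (n : ℕ) (E : Finset GolayPt), E.card = 2 * n → E ⊆ O →
      ∃ C ∈ supports (golayCode : Set (GolayPt → ZMod 2)), C ∩ O = E ∧ a ∉ C ∧ b ∉ C := by
  classical
  intro n
  induction n with
  | zero =>
    intro E hE _
    have : E = ∅ := Finset.card_eq_zero.1 (by omega)
    subst this
    exact ⟨∅, empty_mem_supports, Finset.empty_inter _, Finset.notMem_empty _,
      Finset.notMem_empty _⟩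
  | succ n ih =>
    intro E hE hEO
    obtain ⟨p, hp, q, hq, hpq⟩ := Finset.one_lt_card.1 (by omega : 1 < E.card)
    obtain ⟨C0, hC0, h0, a0, b0⟩ := exists_code_pair hO ha hb (hEO hp) (hEO hq) hpq
    have hcard : ((E.erase p).erase q).card = 2 * n := by
      rw [Finset.card_erase_of_mem (Finset.mem_erase.2 ⟨hpq.symm, hq⟩),
        Finset.card_erase_of_mem hp, hE]
      omega
    have hsub : (E.erase p).erase q ⊆ O :=
      ((Finset.erase_subset _ _).trans (Finset.erase_subset _ _)).trans hEO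
    obtain ⟨C1, hC1, h1, a1, b1⟩ := ih _ hcard hsub
    refine ⟨(C1 \ C0) ∪ (C0 \ C1), supports_symmDiff hC1 hC0, ?_, ?_, ?_⟩
    · ext i
      have e0 : i ∈ C0 ∧ i ∈ O ↔ i = p ∨ i = q := by
        rw [← Finset.mem_inter, h0, Finset.mem_insert, Finset.mem_singleton]
      have e1 : i ∈ C1 ∧ i ∈ O ↔ i ≠ q ∧ i ≠ p ∧ i ∈ E := by
        rw [← Finset.mem_inter, h1, Finset.mem_erase, Finset.mem_erase]
      simp only [Finset.mem_inter, Finset.mem_union, Finset.mem_sdiff]
      constructor
      · rintro ⟨⟨h3, h4⟩ | ⟨h3, h4⟩, h5⟩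
        · exact (e1.1 ⟨h3, h5⟩).2.2
        · rcases e0.1 ⟨h3, h5⟩ with h | h
          · rw [h]; exact hp
          · rw [h]; exact hq
      · intro hi
        have hiO : i ∈ O := hEO hi
        refine ⟨?_, hiO⟩
        by_cases hpi : i = p
        · right
          refine ⟨(e0.2 (Or.inl hpi)).1, fun h => ?_⟩
          exact (e1.1 ⟨h, hiO⟩).2.1 hpi
        · by_cases hqi : i = q
          · right
            refine ⟨(e0.2 (Or.inr hqi)).1, fun h => ?_⟩
            exact (e1.1 ⟨h, hiO⟩).1 hqi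
          · left
            refine ⟨(e1.2 ⟨hqi, hpi, hi⟩).1, fun h => ?_⟩
            rcases e0.1 ⟨h, hiO⟩ with h' | h'
            · exact hpi h'
            · exact hqi h'
    · simp only [Finset.mem_union, Finset.mem_sdiff]
      tauto
    · simp only [Finset.mem_union, Finset.mem_sdiff]
      tauto

/-- codewords with a prescribed symmetric difference inside an octad -/
theorem exists_code_flip {O : Finset GolayPt} (hO : O ∈ octads) {a b : GolayPt} (ha : a ∉ O)
    (hb : b ∉ O) {T T' : Finset GolayPt} (hT : T ⊆ O) (hT' : T' ⊆ O) (hev : Even T.card)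
    (hev' : Even T'.card) :
    ∃ C ∈ supports (golayCode : Set (GolayPt → ZMod 2)),
      C ∩ O = (T \ T') ∪ (T' \ T) ∧ a ∉ C ∧ b ∉ C := by
  classical
  have h1 := card_flip T T'
  obtain ⟨k, hk⟩ := hev
  obtain ⟨k', hk'⟩ := hev'
  have hsub : (T \ T') ∪ (T' \ T) ⊆ O := by
    intro i hi
    rcases Finset.mem_union.1 hi with h | h
    · exact hT (Finset.mem_sdiff.1 h).1
    · exact hT' (Finset.mem_sdiff.1 h).1
  exact exists_code_inter hO ha hb (k + k' - (T ∩ T').card) _ (by omega) hsub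

/-- two points outside an octad -/
theorem exists_outside {O : Finset GolayPt} (hO : O ∈ octads) : ∃ a : GolayPt, a ∉ O :=
  exists_notMem_of_card_lt (by rw [hO.2]; norm_num)

/-- the effect of a sign change on a signed vector -/
theorem sgnVec_sv (c : ℤ) {O T T' C : Finset GolayPt} (hT : T ⊆ O) (hT' : T' ⊆ O)
    (hC : C ∩ O = (T \ T') ∪ (T' \ T)) : sgnVec C (sv c O T) = sv c O T' := by
  classical
  funext i
  have e : i ∈ C ∧ i ∈ O ↔ (i ∈ T ∧ i ∉ T') ∨ (i ∈ T' ∧ i ∉ T) := by
    rw [← Finset.mem_inter, hC, Finset.mem_union, Finset.mem_sdiff, Finset.mem_sdiff]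
  have hTO : i ∈ T → i ∈ O := fun h => hT h
  have hTO' : i ∈ T' → i ∈ O := fun h => hT' h
  unfold sgnVec sv
  by_cases h1 : i ∈ C <;> by_cases h2 : i ∈ T <;> by_cases h3 : i ∈ T' <;> by_cases h4 : i ∈ O <;>
    first
    | (exfalso; tauto)
    | simp [h1, h2, h3, h4]

/-- the effect of a sign change on an odd vector -/
theorem sgnVec_ov (C D : Finset GolayPt) (j : GolayPt) :
    sgnVec D (ov C j) = ov ((C \ D) ∪ (D \ C)) j := by
  classical
  funext i
  unfold sgnVec ov
  by_cases hij : i = j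
  · subst hij
    by_cases h1 : i ∈ C <;> by_cases h2 : i ∈ D <;>
      simp [h1, h2, Finset.mem_union, Finset.mem_sdiff]
  · by_cases h1 : i ∈ C <;> by_cases h2 : i ∈ D <;> by_cases h3 : j ∈ C <;> by_cases h4 : j ∈ D <;>
      simp [hij, h1, h2, h3, h4, Finset.mem_union, Finset.mem_sdiff]

/-- `C = (C' Δ D)` when `D = C Δ C'` -/
theorem symm_symm (C C' : Finset GolayPt) :
    (C \ ((C \ C') ∪ (C' \ C))) ∪ (((C \ C') ∪ (C' \ C)) \ C) = C' := by
  classical
  ext i
  simp only [Finset.mem_union, Finset.mem_sdiff]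
  tauto

end Cfsg.Agent.Lib.Helper3.Mx
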