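import Mathlib
import Cfsg.Agent.Lib.Helper3.Mx1572A
import Cfsg.Agent.Lib.Helper3.Mx1572B
import Cfsg.Agent.S0394
import Cfsg.Agent.S1573

/-!
Helper library (helper3) for S1572: the monomial elements of the cross stabiliser `NN`, and its
three orbits on the minimal vectors.
-/

set_option autoImplicit false

namespace Cfsg.Agent.Lib.Helper3.Mx

open Cfsg Cfsg.Agent.Lib.Helper21 Cfsg.Agent.Lib.Helper3
open scoped Pointwise

/-- the cross stabiliser -/
abbrev NN : Subgroup ↥Co0 := Cfsg.Agent.S0397.stabH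

theorem mem_NN (g : ↥Co0) : g ∈ NN ↔ ∀ v : ↥leechLattice, (v : GolayPt → ℤ) ∈ stdCross →
    ((g • v : ↥leechLattice) : GolayPt → ℤ) ∈ stdCross := Iff.rfl

/-- sign change on a codeword, as an element of `Co0` -/
def sgnE (C : Finset GolayPt) (hC : C ∈ supports (golayCode : Set (GolayPt → ZMod 2))) : ↥Co0 :=
  ⟨sgnL C hC, sgnL_mem C hC⟩

theorem sgnE_val (C : Finset GolayPt) (hC : C ∈ supports (golayCode : Set (GolayPt → ZMod 2)))
    (v : leechLattice) : (sgnE C hC • v).1 = sgnVec C v.1 := rfl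

theorem sgnVec_single (C : Finset GolayPt) (i : GolayPt) (s : ℤ) :
    sgnVec C (Pi.single i s) = Pi.single i (if i ∈ C then -s else s) := by
  funext k
  unfold sgnVec
  by_cases hk : k = i
  · subst hk; simp
  · simp [Pi.single_apply, hk]

theorem sgnE_mem (C : Finset GolayPt) (hC : C ∈ supports (golayCode : Set (GolayPt → ZMod 2))) :
    sgnE C hC ∈ NN := by
  rw [mem_NN]
  intro v hv
  obtain ⟨i, s, hs, hvi⟩ := hv
  rw [sgnE_val, hvi, sgnVec_single]
  refine ⟨i, _, ?_, rfl⟩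
  split_ifs
  · rcases hs with h | h <;> rw [h] <;> simp
  · exact hs

theorem perm_single (σ : Equiv.Perm GolayPt) (i : GolayPt) (s : ℤ) :
    (fun k => (Pi.single i s : GolayPt → ℤ) (σ⁻¹ k)) = Pi.single (σ i) s := by
  funext k
  by_cases hk : k = σ i
  · subst hk; simp
  · have : σ⁻¹ k ≠ i := by
      intro h; apply hk; rw [← h]; simp
    simp only [Pi.single_apply, if_neg hk]
    rw [if_neg this]

theorem permHom_mem (σ : ↥M24) : permHom σ ∈ NN := by
  rw [mem_NN]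
  intro v hv
  obtain ⟨i, s, hs, hvi⟩ := hv
  rw [permHom_val, hvi, perm_single]
  exact ⟨σ.1 i, s, hs, rfl⟩

/-- the stabiliser of `xS` in the cross stabiliser -/
def N1 : Subgroup ↥Co0 := NN ⊓ MulAction.stabilizer ↥Co0 xS

theorem sgnE_mem_N1 (C : Finset GolayPt) (hC : C ∈ supports (golayCode : Set (GolayPt → ZMod 2)))
    (ha : (none : GolayPt) ∉ C) (hb : (some 0 : GolayPt) ∉ C) : sgnE C hC ∈ N1 := by
  refine Subgroup.mem_inf.2 ⟨sgnE_mem C hC, ?_⟩
  rw [MulAction.mem_stabilizer_iff]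
  apply Subtype.ext
  rw [sgnE_val]
  apply sgnVec_eq_self
  intro i hi
  exact P44_zero_of (fun h => ha (h ▸ hi)) (fun h => hb (h ▸ hi))

theorem permHom_mem_N1 (σ : ↥M24) (hn : σ.1 none = none) (h0 : σ.1 (some 0) = some 0) :
    permHom σ ∈ N1 := by
  refine Subgroup.mem_inf.2 ⟨permHom_mem σ, ?_⟩
  rw [MulAction.mem_stabilizer_iff]
  exact (permHom_fix σ hn h0).2.2

/-! ### lifting sets of vectors to the lattice -/

/-- the lattice vectors whose coordinate vector lies in `F` -/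
def lift (F : Set (GolayPt → ℤ)) : Set leechLattice := {v | v.1 ∈ F}

theorem ncard_lift {F : Set (GolayPt → ℤ)} (hF : ∀ x ∈ F, x ∈ leechLattice) :
    (lift F).ncard = F.ncard := by
  unfold lift
  rw [ncard_subtype (fun x => x ∈ F)]
  congr 1
  ext x
  exact ⟨fun h => h.2, fun h => ⟨hF x h, h⟩⟩

theorem lift_disjoint {F F' : Set (GolayPt → ℤ)} (h : Disjoint F F') :
    Disjoint (lift F) (lift F') := by
  rw [Set.disjoint_left] at h ⊢
  intro v hv hv'
  exact h hv hv'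

theorem lift_union (F F' : Set (GolayPt → ℤ)) : lift (F ∪ F') = lift F ∪ lift F' := rfl

/-! ### the three shapes -/

/-- the pairs of points -/
def pairFin : Finset (Finset GolayPt) := Finset.powersetCard 2 Finset.univ

theorem mem_pairFin {s : Finset GolayPt} : s ∈ pairFin ↔ s.card = 2 := by
  unfold pairFin
  rw [Finset.mem_powersetCard]
  exact ⟨fun h => h.2, fun h => ⟨Finset.subset_univ _, h⟩⟩

theorem card_pairFin : pairFin.card = 276 := by
  unfold pairFin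
  rw [Finset.card_powersetCard, Finset.card_univ, card_golayPt]
  norm_num [Nat.choose]

attribute [irreducible] pairFin

def LA : Set (GolayPt → ℤ) :=
  {x | ∃ p ∈ pairFin.sigma (fun s => s.powerset), x = sv 4 p.1 p.2}

noncomputable def LB : Set (GolayPt → ℤ) :=
  {x | ∃ p ∈ octFin.sigma (fun s => s.powerset.filter (fun T => Even T.card)), x = sv 2 p.1 p.2}

noncomputable def LC : Set (GolayPt → ℤ) :=
  {x | ∃ p ∈ Cfsg.Agent.S1573.codeFin ×ˢ (Finset.univ : Finset GolayPt), x = ov p.1 p.2}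

theorem mem_LA {x : GolayPt → ℤ} : x ∈ LA ↔ ∃ s T : Finset GolayPt, s.card = 2 ∧ T ⊆ s ∧
    x = sv 4 s T := by
  constructor
  · rintro ⟨⟨s, T⟩, hp, rfl⟩
    rw [Finset.mem_sigma, Finset.mem_powerset, mem_pairFin] at hp
    exact ⟨s, T, hp.1, hp.2, rfl⟩
  · rintro ⟨s, T, hs, hT, rfl⟩
    exact ⟨⟨s, T⟩, Finset.mem_sigma.2 ⟨mem_pairFin.2 hs, Finset.mem_powerset.2 hT⟩, rfl⟩

theorem mem_LB {x : GolayPt → ℤ} : x ∈ LB ↔ ∃ s T : Finset GolayPt, s ∈ octads ∧ T ⊆ s ∧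
    Even T.card ∧ x = sv 2 s T := by
  constructor
  · rintro ⟨⟨s, T⟩, hp, rfl⟩
    rw [Finset.mem_sigma, Finset.mem_filter, Finset.mem_powerset, mem_octFin] at hp
    exact ⟨s, T, hp.1, hp.2.1, hp.2.2, rfl⟩
  · rintro ⟨s, T, hs, hT, hev, rfl⟩
    exact ⟨⟨s, T⟩, Finset.mem_sigma.2 ⟨mem_octFin.2 hs,
      Finset.mem_filter.2 ⟨Finset.mem_powerset.2 hT, hev⟩⟩, rfl⟩

theorem mem_LC {x : GolayPt → ℤ} : x ∈ LC ↔ ∃ (C : Finset GolayPt) (j : GolayPt),
    C ∈ supports (golayCode : Set (GolayPt → ZMod 2)) ∧ x = ov C j := by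
  constructor
  · rintro ⟨⟨C, j⟩, hp, rfl⟩
    rw [Finset.mem_product, Cfsg.Agent.S1573.mem_codeFin] at hp
    exact ⟨C, j, hp.1, rfl⟩
  · rintro ⟨C, j, hC, rfl⟩
    exact ⟨⟨C, j⟩, Finset.mem_product.2 ⟨Cfsg.Agent.S1573.mem_codeFin.2 hC, Finset.mem_univ _⟩,
      rfl⟩

theorem LA_sub : ∀ x ∈ LA, x ∈ leechLattice := by
  intro x hx
  obtain ⟨s, T, hs, hT, rfl⟩ := mem_LA.1 hx
  exact sv4_mem hs hT

theorem LB_sub : ∀ x ∈ LB, x ∈ leechLattice := by
  intro x hx
  obtain ⟨s, T, hs, hT, hev, rfl⟩ := mem_LB.1 hx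
  exact sv2_mem hs hT hev

theorem LC_sub : ∀ x ∈ LC, x ∈ leechLattice := by
  intro x hx
  obtain ⟨C, j, hC, rfl⟩ := mem_LC.1 hx
  exact ov_mem hC j

theorem ncard_LA : LA.ncard = 1104 := by
  unfold LA
  rw [ncard_family]
  · rw [Finset.card_sigma, Finset.sum_congr rfl (g := fun _ => 4)]
    · rw [Finset.sum_const, smul_eq_mul, card_pairFin]
    · intro s hs
      rw [Finset.card_powerset, mem_pairFin.1 hs]
      rfl
  · rintro ⟨s, T⟩ hp ⟨s', T'⟩ hp' h
    have hp1 : T ⊆ s := Finset.mem_powerset.1 (Finset.mem_sigma.1 hp).2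
    have hp2 : T' ⊆ s' := Finset.mem_powerset.1 (Finset.mem_sigma.1 hp').2
    obtain ⟨h1, h2⟩ := sv_inj (by norm_num : (0 : ℤ) < 4) hp1 hp2 h
    subst h1; subst h2; rfl

theorem ncard_LB : LB.ncard = 97152 := by
  unfold LB
  rw [ncard_family]
  · rw [Finset.card_sigma, Finset.sum_congr rfl (g := fun _ => 128)]
    · rw [Finset.sum_const, smul_eq_mul, card_octFin]
    · intro s hs
      exact Cfsg.Agent.S0394.even_subsets_card s (mem_octFin.1 hs).2
  · rintro ⟨s, T⟩ hp ⟨s', T'⟩ hp' h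
    have hp1 : T ⊆ s :=
      Finset.mem_powerset.1 (Finset.mem_filter.1 (Finset.mem_sigma.1 hp).2).1
    have hp2 : T' ⊆ s' :=
      Finset.mem_powerset.1 (Finset.mem_filter.1 (Finset.mem_sigma.1 hp').2).1
    obtain ⟨h1, h2⟩ := sv_inj (by norm_num : (0 : ℤ) < 2) hp1 hp2 h
    subst h1; subst h2; rfl

theorem ncard_LC : LC.ncard = 98304 := by
  unfold LC
  rw [ncard_family]
  · rw [Finset.card_product, Cfsg.Agent.S1573.card_codeFin, Finset.card_univ, card_golayPt]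
  · rintro ⟨C, j⟩ _ ⟨C', j'⟩ _ h
    obtain ⟨h1, h2⟩ := ov_inj h
    subst h1; subst h2; rfl

/-! ### invariants and disjointness -/

theorem sv_vals (c : ℤ) (s T : Finset GolayPt) (i : GolayPt) :
    sv c s T i = 0 ∨ sv c s T i = c ∨ sv c s T i = -c := by
  unfold sv
  split_ifs <;> simp

theorem LA_LB : Disjoint LA LB := by
  rw [Set.disjoint_left]
  intro x hA hB
  obtain ⟨s, T, hs, hT, rfl⟩ := mem_LA.1 hA
  obtain ⟨s', T', hs', hT', hev, h⟩ := mem_LB.1 hB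
  obtain ⟨i, hi⟩ : s.Nonempty := by
    rw [← Finset.card_pos, hs]; norm_num
  have h1 := congrFun h i
  have h2 := sv_vals 2 s' T' i
  rw [← h1] at h2
  unfold sv at h2
  by_cases h3 : i ∈ T
  · simp [h3] at h2
  · simp [h3, hi] at h2

theorem LAB_LC : Disjoint (LA ∪ LB) LC := by
  rw [Set.disjoint_left]
  intro x hAB hC
  obtain ⟨C, j, hC, rfl⟩ := mem_LC.1 hC
  have hodd := ov_odd C j none
  rcases hAB with hA | hB
  · obtain ⟨s, T, hs, hT, h⟩ := mem_LA.1 hA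
    have := sv_even 4 (by norm_num) s T none
    rw [← h] at this
    omega
  · obtain ⟨s, T, hs, hT, hev, h⟩ := mem_LB.1 hB
    have := sv_even 2 (by norm_num) s T none
    rw [← h] at this
    omega

/-- the minimal vectors of the lattice -/
def L2s : Set leechLattice := {v | sqNorm v.1 = 32}

theorem L2s_eq : L2s = lift LA ∪ (lift LB ∪ lift LC) := by
  ext v
  have h := leech_minimal_iff v.1
  show sqNorm v.1 = 32 ↔ v.1 ∈ LA ∨ (v.1 ∈ LB ∨ v.1 ∈ LC)
  rw [mem_LA, mem_LB, mem_LC, ← h]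
  exact ⟨fun h => ⟨v.2, h⟩, fun h => h.2⟩

/-! ### transitivity of `NN` on the three shapes -/

theorem inter_pair_eq {C E : Finset GolayPt} {i j : GolayPt} (hE : E ⊆ {i, j})
    (hi : i ∈ C ↔ i ∈ E) (hj : j ∈ C ↔ j ∈ E) : C ∩ {i, j} = E := by
  ext k
  rw [Finset.mem_inter, Finset.mem_insert, Finset.mem_singleton]
  constructor
  · rintro ⟨h, rfl | rfl⟩
    · exact hi.1 h
    · exact hj.1 h
  · intro hk
    have := hE hk
    rw [Finset.mem_insert, Finset.mem_singleton] at this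
    rcases this with rfl | rfl
    · exact ⟨hi.2 hk, Or.inl rfl⟩
    · exact ⟨hj.2 hk, Or.inr rfl⟩

/-- a codeword meeting a pair in a prescribed subset and avoiding a small set -/
theorem exists_code_two {i j : GolayPt} (hij : i ≠ j) (A : Finset GolayPt) (hA : A.card ≤ 2)
    (hiA : i ∉ A) (hjA : j ∉ A) {E : Finset GolayPt} (hE : E ⊆ {i, j}) :
    ∃ C ∈ supports (golayCode : Set (GolayPt → ZMod 2)), C ∩ {i, j} = E ∧ ∀ a ∈ A, a ∉ C := by
  classical
  have hc1 : (insert j A).card ≤ 4 := by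
    rw [Finset.card_insert_of_notMem hjA]; omega
  have hc2 : (insert i A).card ≤ 4 := by
    rw [Finset.card_insert_of_notMem hiA]; omega
  obtain ⟨Oi, hOi, hi1, hi2⟩ := exists_octad_avoid (k := i) (A := insert j A)
    (by rw [Finset.mem_insert, not_or]; exact ⟨hij, hiA⟩) hc1
  obtain ⟨Oj, hOj, hj1, hj2⟩ := exists_octad_avoid (k := j) (A := insert i A)
    (by rw [Finset.mem_insert, not_or]; exact ⟨hij.symm, hjA⟩) hc2
  have hjOi : j ∉ Oi := hi2 j (Finset.mem_insert_self _ _)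
  have hiOj : i ∉ Oj := hj2 i (Finset.mem_insert_self _ _)
  have hAOi : ∀ a ∈ A, a ∉ Oi := fun a ha => hi2 a (Finset.mem_insert_of_mem ha)
  have hAOj : ∀ a ∈ A, a ∉ Oj := fun a ha => hj2 a (Finset.mem_insert_of_mem ha)
  by_cases h1 : i ∈ E <;> by_cases h2 : j ∈ E
  · refine ⟨(Oi \ Oj) ∪ (Oj \ Oi), supports_symmDiff hOi.1 hOj.1, inter_pair_eq hE ?_ ?_, ?_⟩
    · simp only [Finset.mem_union, Finset.mem_sdiff]; tauto
    · simp only [Finset.mem_union, Finset.mem_sdiff]; tauto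
    · intro a ha
      have := hAOi a ha
      have := hAOj a ha
      simp only [Finset.mem_union, Finset.mem_sdiff]; tauto
  · exact ⟨Oi, hOi.1, inter_pair_eq hE (by tauto) (by tauto), hAOi⟩
  · exact ⟨Oj, hOj.1, inter_pair_eq hE (by tauto) (by tauto), hAOj⟩
  · refine ⟨∅, empty_mem_supports, inter_pair_eq hE ?_ ?_, fun a _ => Finset.notMem_empty a⟩
    · simp [h1]
    · simp [h2]

theorem flip_sub {T T' s : Finset GolayPt} (hT : T ⊆ s) (hT' : T' ⊆ s) :
    (T \ T') ∪ (T' \ T) ⊆ s := by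
  classical
  intro i hi
  rcases Finset.mem_union.1 hi with h | h
  · exact hT (Finset.mem_sdiff.1 h).1
  · exact hT' (Finset.mem_sdiff.1 h).1

theorem LA_trans : ∀ y ∈ lift LA, ∀ y' ∈ lift LA, ∃ m ∈ NN, m • y = y' := by
  classical
  intro y hy y' hy'
  obtain ⟨s, T, hs, hT, hy⟩ := mem_LA.1 hy
  obtain ⟨s', T', hs', hT', hy'⟩ := mem_LA.1 hy'
  obtain ⟨i, j, hij, rfl⟩ := Finset.card_eq_two.1 hs
  obtain ⟨i', j', hij', rfl⟩ := Finset.card_eq_two.1 hs'
  obtain ⟨σ, hσ, e1, e2⟩ := M24_two_trans hij hij'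
  have hσs : σ • ({i, j} : Finset GolayPt) = {i', j'} := by rw [smul_pair, e1, e2]
  have hσT : σ • T ⊆ {i', j'} := by
    rw [← hσs]; exact Finset.smul_finset_subset_smul_finset hT
  obtain ⟨C, hC, hCs, -⟩ := exists_code_two hij' ∅ (by simp) (Finset.notMem_empty _)
    (Finset.notMem_empty _) (flip_sub hσT hT')
  refine ⟨sgnE C hC * permHom ⟨σ, hσ⟩, NN.mul_mem (sgnE_mem C hC) (permHom_mem _), ?_⟩
  apply Subtype.ext
  rw [mul_smul, sgnE_val, permHom_val, hy, hy', sv_perm, hσs]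
  exact sgnVec_sv 4 hσT hT' hCs

theorem LB_trans : ∀ y ∈ lift LB, ∀ y' ∈ lift LB, ∃ m ∈ NN, m • y = y' := by
  classical
  intro y hy y' hy'
  obtain ⟨O, T, hO, hT, hev, hy⟩ := mem_LB.1 hy
  obtain ⟨O', T', hO', hT', hev', hy'⟩ := mem_LB.1 hy'
  obtain ⟨σ, hσ⟩ := octads_transitive O O' hO hO'
  have hσ' : σ.1 • O = O' := hσ
  obtain ⟨a, ha⟩ := exists_outside hO'
  have hσT : σ.1 • T ⊆ O' := by
    rw [← hσ']; exact Finset.smul_finset_subset_smul_finset hT
  have hevσ : Even (σ.1 • T).card := by rw [Finset.card_smul_finset]; exact hev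
  obtain ⟨C, hC, hCO, -, -⟩ := exists_code_flip hO' ha ha hσT hT' hevσ hev'
  refine ⟨sgnE C hC * permHom σ, NN.mul_mem (sgnE_mem C hC) (permHom_mem _), ?_⟩
  apply Subtype.ext
  rw [mul_smul, sgnE_val, permHom_val, hy, hy', sv_perm, hσ']
  exact sgnVec_sv 2 hσT hT' hCO

theorem LC_trans : ∀ y ∈ lift LC, ∀ y' ∈ lift LC, ∃ m ∈ NN, m • y = y' := by
  classical
  intro y hy y' hy'
  obtain ⟨C, j, hC, hy⟩ := mem_LC.1 hy
  obtain ⟨C', j', hC', hy'⟩ := mem_LC.1 hy'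
  obtain ⟨σ, hσ, e⟩ := M24_trans j j'
  have hD := supports_symmDiff (smul_mem_supports hσ hC) hC'
  refine ⟨sgnE _ hD * permHom ⟨σ, hσ⟩, NN.mul_mem (sgnE_mem _ hD) (permHom_mem _), ?_⟩
  apply Subtype.ext
  rw [mul_smul, sgnE_val, permHom_val, hy, hy', ov_perm, e, sgnVec_ov, symm_symm]

end Cfsg.Agent.Lib.Helper3.Mx
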