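import Mathlib
import Cfsg.Agent.Lib.Helper3.Mx1572C
import Cfsg.Agent.Lib.Helper3.HS11178B

/-!
Helper library (helper3) for S1572: the minimal vectors orthogonal to `xS = (4,4,0,…)`, split into
the orbits of the monomial stabiliser `N1` of `xS`.
-/

set_option autoImplicit false

namespace Cfsg.Agent.Lib.Helper3.Mx

open Cfsg Cfsg.Agent.Lib.Helper21 Cfsg.Agent.Lib.Helper3
open scoped Pointwise

theorem M24_four_trans {a b c d a' b' c' d' : GolayPt} (h : [a, b, c, d].Nodup)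
    (h' : [a', b', c', d'].Nodup) :
    ∃ σ ∈ M24, σ a = a' ∧ σ b = b' ∧ σ c = c' ∧ σ d = d' := by
  have H := Cfsg.Agent.Lib.Helper21.M24_pretransitive_of_le (n := 4) (by norm_num)
  rw [MulAction.isMultiplyPretransitive_iff] at H
  simp only [List.nodup_cons, List.mem_cons, List.not_mem_nil, or_false, not_or,
    List.nodup_nil, and_true, not_false_eq_true] at h h'
  let x : Fin 4 ↪ GolayPt := ⟨![a, b, c, d], by
    intro i j hij
    fin_cases i <;> fin_cases j <;> simp_all⟩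
  let y : Fin 4 ↪ GolayPt := ⟨![a', b', c', d'], by
    intro i j hij
    fin_cases i <;> fin_cases j <;> simp_all⟩
  obtain ⟨g, hg⟩ := H x y
  refine ⟨g.1, g.2, ?_, ?_, ?_, ?_⟩
  · exact congrArg (fun e : Fin 4 ↪ GolayPt => e 0) hg
  · exact congrArg (fun e : Fin 4 ↪ GolayPt => e 1) hg
  · exact congrArg (fun e : Fin 4 ↪ GolayPt => e 2) hg
  · exact congrArg (fun e : Fin 4 ↪ GolayPt => e 3) hg

/-- the points other than `none`, `some 0` -/
def rest : Finset GolayPt := (Finset.univ.erase (none : GolayPt)).erase (some 0)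

theorem mem_rest {i : GolayPt} : i ∈ rest ↔ i ≠ some 0 ∧ i ≠ none := by
  unfold rest
  rw [Finset.mem_erase, Finset.mem_erase]
  exact ⟨fun h => ⟨h.1, h.2.1⟩, fun h => ⟨h.1, h.2, Finset.mem_univ _⟩⟩

theorem card_rest : rest.card = 22 := Cfsg.Agent.S1573.card_22

/-- the pairs of points avoiding `none`, `some 0` -/
def pairFin' : Finset (Finset GolayPt) := Finset.powersetCard 2 rest

theorem mem_pairFin' {s : Finset GolayPt} :
    s ∈ pairFin' ↔ s.card = 2 ∧ (none : GolayPt) ∉ s ∧ (some 0 : GolayPt) ∉ s := by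
  unfold pairFin'
  rw [Finset.mem_powersetCard]
  constructor
  · rintro ⟨h1, h2⟩
    exact ⟨h2, fun h => (mem_rest.1 (h1 h)).2 rfl, fun h => (mem_rest.1 (h1 h)).1 rfl⟩
  · rintro ⟨h1, h2, h3⟩
    refine ⟨fun i hi => mem_rest.2 ⟨fun h => h3 (h ▸ hi), fun h => h2 (h ▸ hi)⟩, h1⟩

theorem card_pairFin' : pairFin'.card = 231 := by
  unfold pairFin'
  rw [Finset.card_powersetCard, card_rest]
  norm_num [Nat.choose]

attribute [irreducible] rest pairFin'

/-! ### the families -/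

def T0 : Set (GolayPt → ℤ) := {D44 none (some 0), -D44 none (some 0)}

def T1 : Set (GolayPt → ℤ) :=
  {x | ∃ p ∈ pairFin'.sigma (fun s => s.powerset), x = sv 4 p.1 p.2}

noncomputable def T2 : Set (GolayPt → ℤ) :=
  {x | ∃ p ∈ (octFin.filter (fun O => (none : GolayPt) ∉ O ∧ (some 0 : GolayPt) ∉ O)).sigma
    (fun s => s.powerset.filter (fun T => Even T.card)), x = sv 2 p.1 p.2}

noncomputable def T3a : Set (GolayPt → ℤ) :=
  {x | ∃ p ∈ (octFin.filter (fun O => (none : GolayPt) ∈ O ∧ (some 0 : GolayPt) ∈ O)).sigma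
    (fun s => ((s.erase (none : GolayPt)).erase (some 0)).powerset.filter (fun U => Odd U.card)),
    x = sv 2 p.1 (insert none p.2)}

noncomputable def T3b : Set (GolayPt → ℤ) :=
  {x | ∃ p ∈ (octFin.filter (fun O => (none : GolayPt) ∈ O ∧ (some 0 : GolayPt) ∈ O)).sigma
    (fun s => ((s.erase (none : GolayPt)).erase (some 0)).powerset.filter (fun U => Odd U.card)),
    x = sv 2 p.1 (insert (some 0) p.2)}

noncomputable def T4a : Set (GolayPt → ℤ) :=
  {x | ∃ p ∈ (Cfsg.Agent.S1573.codeFin.filter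
      (fun C => (none : GolayPt) ∈ C ∧ (some 0 : GolayPt) ∉ C)) ×ˢ rest, x = ov p.1 p.2}

noncomputable def T4b : Set (GolayPt → ℤ) :=
  {x | ∃ p ∈ (Cfsg.Agent.S1573.codeFin.filter
      (fun C => (none : GolayPt) ∉ C ∧ (some 0 : GolayPt) ∈ C)) ×ˢ rest, x = ov p.1 p.2}

theorem mem_T1 {x : GolayPt → ℤ} : x ∈ T1 ↔ ∃ s T : Finset GolayPt, s.card = 2 ∧
    (none : GolayPt) ∉ s ∧ (some 0 : GolayPt) ∉ s ∧ T ⊆ s ∧ x = sv 4 s T := by
  constructor
  · rintro ⟨⟨s, T⟩, hp, rfl⟩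
    obtain ⟨h1, h2⟩ := Finset.mem_sigma.1 hp
    obtain ⟨h3, h4, h5⟩ := mem_pairFin'.1 h1
    exact ⟨s, T, h3, h4, h5, Finset.mem_powerset.1 h2, rfl⟩
  · rintro ⟨s, T, hs, h1, h2, hT, rfl⟩
    exact ⟨⟨s, T⟩, Finset.mem_sigma.2 ⟨mem_pairFin'.2 ⟨hs, h1, h2⟩, Finset.mem_powerset.2 hT⟩,
      rfl⟩

theorem mem_T2 {x : GolayPt → ℤ} : x ∈ T2 ↔ ∃ s T : Finset GolayPt, s ∈ octads ∧
    (none : GolayPt) ∉ s ∧ (some 0 : GolayPt) ∉ s ∧ T ⊆ s ∧ Even T.card ∧ x = sv 2 s T := by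
  constructor
  · rintro ⟨⟨s, T⟩, hp, rfl⟩
    obtain ⟨h1, h2⟩ := Finset.mem_sigma.1 hp
    obtain ⟨h3, h4, h5⟩ := Finset.mem_filter.1 h1
    obtain ⟨h6, h7⟩ := Finset.mem_filter.1 h2
    exact ⟨s, T, mem_octFin.1 h3, h4, h5, Finset.mem_powerset.1 h6, h7, rfl⟩
  · rintro ⟨s, T, hs, h1, h2, hT, hev, rfl⟩
    exact ⟨⟨s, T⟩, Finset.mem_sigma.2 ⟨Finset.mem_filter.2 ⟨mem_octFin.2 hs, h1, h2⟩,
      Finset.mem_filter.2 ⟨Finset.mem_powerset.2 hT, hev⟩⟩, rfl⟩

/-- the two descriptions of a sign set through a marked point -/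
theorem mark_iff {O : Finset GolayPt} {p q : GolayPt} (hpq : p ≠ q) (hp : p ∈ O)
    (T : Finset GolayPt) :
    (T ⊆ O ∧ Even T.card ∧ p ∈ T ∧ q ∉ T) ↔
      ∃ U, U ∈ ((O.erase p).erase q).powerset.filter (fun U => Odd U.card) ∧ T = insert p U := by
  classical
  constructor
  · rintro ⟨hT, hev, hpT, hqT⟩
    refine ⟨T.erase p, ?_, (Finset.insert_erase hpT).symm⟩
    rw [Finset.mem_filter, Finset.mem_powerset]
    constructor
    · intro i hi
      obtain ⟨h1, h2⟩ := Finset.mem_erase.1 hi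
      exact Finset.mem_erase.2 ⟨fun h => hqT (h ▸ h2), Finset.mem_erase.2 ⟨h1, hT h2⟩⟩
    · rw [Finset.card_erase_of_mem hpT]
      obtain ⟨k, hk⟩ := hev
      have : 0 < T.card := Finset.card_pos.2 ⟨p, hpT⟩
      exact ⟨k - 1, by omega⟩
  · rintro ⟨U, hU, rfl⟩
    rw [Finset.mem_filter, Finset.mem_powerset] at hU
    obtain ⟨hU1, hU2⟩ := hU
    have hU3 : ∀ i ∈ U, i ≠ q ∧ i ≠ p ∧ i ∈ O := by
      intro i hi
      have := hU1 hi
      rw [Finset.mem_erase, Finset.mem_erase] at this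
      exact this
    have hpU : p ∉ U := fun h => (hU3 p h).2.1 rfl
    refine ⟨?_, ?_, Finset.mem_insert_self _ _, ?_⟩
    · intro i hi
      rcases Finset.mem_insert.1 hi with h | h
      · rw [h]; exact hp
      · exact (hU3 i h).2.2
    · rw [Finset.card_insert_of_notMem hpU]
      obtain ⟨k, hk⟩ := hU2
      exact ⟨k + 1, by omega⟩
    · rw [Finset.mem_insert, not_or]
      exact ⟨hpq.symm, fun h => (hU3 q h).1 rfl⟩

theorem mem_T3a {x : GolayPt → ℤ} : x ∈ T3a ↔ ∃ s T : Finset GolayPt, s ∈ octads ∧ T ⊆ s ∧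
    Even T.card ∧ (none : GolayPt) ∈ T ∧ (some 0 : GolayPt) ∈ s ∧ (some 0 : GolayPt) ∉ T ∧
    x = sv 2 s T := by
  constructor
  · rintro ⟨⟨s, U⟩, hp, rfl⟩
    obtain ⟨h1, h2⟩ := Finset.mem_sigma.1 hp
    obtain ⟨h3, h4, h5⟩ := Finset.mem_filter.1 h1
    obtain ⟨g1, g2, g3, g4⟩ := (mark_iff hpq0 h4 (insert none U)).2 ⟨U, h2, rfl⟩
    exact ⟨s, insert none U, mem_octFin.1 h3, g1, g2, g3, h5, g4, rfl⟩
  · rintro ⟨s, T, hs, hT, hev, h1, h2, h3, rfl⟩
    obtain ⟨U, hU, rfl⟩ := (mark_iff hpq0 (hT h1) T).1 ⟨hT, hev, h1, h3⟩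
    exact ⟨⟨s, U⟩, Finset.mem_sigma.2 ⟨Finset.mem_filter.2 ⟨mem_octFin.2 hs, hT h1, h2⟩, hU⟩, rfl⟩

theorem erase_comm' (s : Finset GolayPt) (p q : GolayPt) :
    (s.erase p).erase q = (s.erase q).erase p := by
  ext i
  simp only [Finset.mem_erase]
  tauto

theorem mem_T3b {x : GolayPt → ℤ} : x ∈ T3b ↔ ∃ s T : Finset GolayPt, s ∈ octads ∧ T ⊆ s ∧
    Even T.card ∧ (some 0 : GolayPt) ∈ T ∧ (none : GolayPt) ∈ s ∧ (none : GolayPt) ∉ T ∧
    x = sv 2 s T := by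
  constructor
  · rintro ⟨⟨s, U⟩, hp, rfl⟩
    obtain ⟨h1, h2⟩ := Finset.mem_sigma.1 hp
    obtain ⟨h3, h4, h5⟩ := Finset.mem_filter.1 h1
    have h2' : U ∈ ((s.erase (some 0)).erase none).powerset.filter (fun U => Odd U.card) := by
      rw [erase_comm']; exact h2
    obtain ⟨g1, g2, g3, g4⟩ := (mark_iff hpq0.symm h5 (insert (some 0) U)).2 ⟨U, h2', rfl⟩
    exact ⟨s, insert (some 0) U, mem_octFin.1 h3, g1, g2, g3, h4, g4, rfl⟩
  · rintro ⟨s, T, hs, hT, hev, h1, h2, h3, rfl⟩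
    obtain ⟨U, hU, rfl⟩ := (mark_iff hpq0.symm (hT h1) T).1 ⟨hT, hev, h1, h3⟩
    rw [erase_comm'] at hU
    exact ⟨⟨s, U⟩, Finset.mem_sigma.2 ⟨Finset.mem_filter.2 ⟨mem_octFin.2 hs, h2, hT h1⟩, hU⟩, rfl⟩

theorem mem_T4a {x : GolayPt → ℤ} : x ∈ T4a ↔ ∃ (C : Finset GolayPt) (j : GolayPt),
    C ∈ supports (golayCode : Set (GolayPt → ZMod 2)) ∧ (none : GolayPt) ∈ C ∧
    (some 0 : GolayPt) ∉ C ∧ j ≠ none ∧ j ≠ some 0 ∧ x = ov C j := by
  constructor
  · rintro ⟨⟨C, j⟩, hp, rfl⟩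
    obtain ⟨h1, h2⟩ := Finset.mem_product.1 hp
    obtain ⟨h3, h4, h5⟩ := Finset.mem_filter.1 h1
    obtain ⟨h6, h7⟩ := mem_rest.1 h2
    exact ⟨C, j, Cfsg.Agent.S1573.mem_codeFin.1 h3, h4, h5, h7, h6, rfl⟩
  · rintro ⟨C, j, hC, h1, h2, h3, h4, rfl⟩
    exact ⟨⟨C, j⟩, Finset.mem_product.2 ⟨Finset.mem_filter.2
      ⟨Cfsg.Agent.S1573.mem_codeFin.2 hC, h1, h2⟩, mem_rest.2 ⟨h4, h3⟩⟩, rfl⟩

theorem mem_T4b {x : GolayPt → ℤ} : x ∈ T4b ↔ ∃ (C : Finset GolayPt) (j : GolayPt),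
    C ∈ supports (golayCode : Set (GolayPt → ZMod 2)) ∧ (none : GolayPt) ∉ C ∧
    (some 0 : GolayPt) ∈ C ∧ j ≠ none ∧ j ≠ some 0 ∧ x = ov C j := by
  constructor
  · rintro ⟨⟨C, j⟩, hp, rfl⟩
    obtain ⟨h1, h2⟩ := Finset.mem_product.1 hp
    obtain ⟨h3, h4, h5⟩ := Finset.mem_filter.1 h1
    obtain ⟨h6, h7⟩ := mem_rest.1 h2
    exact ⟨C, j, Cfsg.Agent.S1573.mem_codeFin.1 h3, h4, h5, h7, h6, rfl⟩
  · rintro ⟨C, j, hC, h1, h2, h3, h4, rfl⟩
    exact ⟨⟨C, j⟩, Finset.mem_product.2 ⟨Finset.mem_filter.2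
      ⟨Cfsg.Agent.S1573.mem_codeFin.2 hC, h1, h2⟩, mem_rest.2 ⟨h4, h3⟩⟩, rfl⟩

/-! ### cardinalities -/

theorem ncard_T1 : T1.ncard = 924 := by
  unfold T1
  rw [ncard_family]
  · rw [Finset.card_sigma, Finset.sum_congr rfl (g := fun _ => 4)]
    · rw [Finset.sum_const, smul_eq_mul, card_pairFin']
    · intro s hs
      rw [Finset.card_powerset, (mem_pairFin'.1 hs).1]
      rfl
  · rintro ⟨s, T⟩ hp ⟨s', T'⟩ hp' h
    have hp1 : T ⊆ s := Finset.mem_powerset.1 (Finset.mem_sigma.1 hp).2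
    have hp2 : T' ⊆ s' := Finset.mem_powerset.1 (Finset.mem_sigma.1 hp').2
    obtain ⟨h1, h2⟩ := sv_inj (by norm_num : (0 : ℤ) < 4) hp1 hp2 h
    subst h1; subst h2; rfl

theorem ncard_T2 : T2.ncard = 42240 := by
  unfold T2
  rw [ncard_family]
  · rw [Finset.card_sigma, Finset.sum_congr rfl (g := fun _ => 128)]
    · rw [Finset.sum_const, smul_eq_mul, card_oct_0]
    · intro s hs
      exact Cfsg.Agent.S0394.even_subsets_card s (mem_octFin.1 (Finset.mem_filter.1 hs).1).2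
  · rintro ⟨s, T⟩ hp ⟨s', T'⟩ hp' h
    have hp1 : T ⊆ s :=
      Finset.mem_powerset.1 (Finset.mem_filter.1 (Finset.mem_sigma.1 hp).2).1
    have hp2 : T' ⊆ s' :=
      Finset.mem_powerset.1 (Finset.mem_filter.1 (Finset.mem_sigma.1 hp').2).1
    obtain ⟨h1, h2⟩ := sv_inj (by norm_num : (0 : ℤ) < 2) hp1 hp2 h
    subst h1; subst h2; rfl

theorem card_odd_six {s : Finset GolayPt} (hs : s ∈ octads) {p q : GolayPt} (hpq : p ≠ q)
    (hp : p ∈ s) (hq : q ∈ s) :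
    (((s.erase p).erase q).powerset.filter (fun U => Odd U.card)).card = 32 := by
  have hc : ((s.erase p).erase q).card = 6 := by
    rw [Finset.card_erase_of_mem (Finset.mem_erase.2 ⟨hpq.symm, hq⟩),
      Finset.card_erase_of_mem hp, hs.2]
  have hne : ((s.erase p).erase q).Nonempty := by
    rw [← Finset.card_pos, hc]; norm_num
  rw [(even_odd_subsets_card _ hne).2, hc]
  norm_num

theorem ncard_T3a : T3a.ncard = 2464 := by
  classical
  unfold T3a
  rw [ncard_family]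
  · rw [Finset.card_sigma, Finset.sum_congr rfl (g := fun _ => 32)]
    · rw [Finset.sum_const, smul_eq_mul, card_octFin_mem2 hpq0]
    · intro s hs
      obtain ⟨h1, h2, h3⟩ := Finset.mem_filter.1 hs
      exact card_odd_six (mem_octFin.1 h1) hpq0 h2 h3
  · rintro ⟨s, U⟩ hp ⟨s', U'⟩ hp' h
    obtain ⟨h1, h2⟩ := Finset.mem_sigma.1 hp
    obtain ⟨h1', h2'⟩ := Finset.mem_sigma.1 hp'
    obtain ⟨h3, h4, h5⟩ := Finset.mem_filter.1 h1
    obtain ⟨h3', h4', h5'⟩ := Finset.mem_filter.1 h1'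
    obtain ⟨g1, g2, g3, g4⟩ := (mark_iff hpq0 h4 (insert none U)).2 ⟨U, h2, rfl⟩
    obtain ⟨g1', g2', g3', g4'⟩ := (mark_iff hpq0 h4' (insert none U')).2 ⟨U', h2', rfl⟩
    obtain ⟨e1, e2⟩ := sv_inj (by norm_num : (0 : ℤ) < 2) g1 g1' h
    subst e1
    have hU : (none : GolayPt) ∉ U := by
      intro hh
      have := (Finset.mem_powerset.1 (Finset.mem_filter.1 h2).1) hh
      rw [Finset.mem_erase, Finset.mem_erase] at this
      exact this.2.1 rfl
    have hU' : (none : GolayPt) ∉ U' := by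
      intro hh
      have := (Finset.mem_powerset.1 (Finset.mem_filter.1 h2').1) hh
      rw [Finset.mem_erase, Finset.mem_erase] at this
      exact this.2.1 rfl
    have : U = U' := by
      rw [← Finset.erase_insert hU, ← Finset.erase_insert hU', e2]
    subst this; rfl

theorem ncard_T3b : T3b.ncard = 2464 := by
  classical
  unfold T3b
  rw [ncard_family]
  · rw [Finset.card_sigma, Finset.sum_congr rfl (g := fun _ => 32)]
    · rw [Finset.sum_const, smul_eq_mul, card_octFin_mem2 hpq0]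
    · intro s hs
      obtain ⟨h1, h2, h3⟩ := Finset.mem_filter.1 hs
      exact card_odd_six (mem_octFin.1 h1) hpq0 h2 h3
  · rintro ⟨s, U⟩ hp ⟨s', U'⟩ hp' h
    obtain ⟨h1, h2⟩ := Finset.mem_sigma.1 hp
    obtain ⟨h1', h2'⟩ := Finset.mem_sigma.1 hp'
    obtain ⟨h3, h4, h5⟩ := Finset.mem_filter.1 h1
    obtain ⟨h3', h4', h5'⟩ := Finset.mem_filter.1 h1'
    have k2 : U ∈ ((s.erase (some 0)).erase none).powerset.filter (fun U => Odd U.card) := by
      rw [erase_comm']; exact h2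
    have k2' : U' ∈ ((s'.erase (some 0)).erase none).powerset.filter (fun U => Odd U.card) := by
      rw [erase_comm']; exact h2'
    obtain ⟨g1, g2, g3, g4⟩ := (mark_iff hpq0.symm h5 (insert (some 0) U)).2 ⟨U, k2, rfl⟩
    obtain ⟨g1', g2', g3', g4'⟩ := (mark_iff hpq0.symm h5' (insert (some 0) U')).2 ⟨U', k2', rfl⟩
    obtain ⟨e1, e2⟩ := sv_inj (by norm_num : (0 : ℤ) < 2) g1 g1' h
    subst e1
    have hU : (some 0 : GolayPt) ∉ U := by
      intro hh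
      have := (Finset.mem_powerset.1 (Finset.mem_filter.1 h2).1) hh
      rw [Finset.mem_erase, Finset.mem_erase] at this
      exact this.1 rfl
    have hU' : (some 0 : GolayPt) ∉ U' := by
      intro hh
      have := (Finset.mem_powerset.1 (Finset.mem_filter.1 h2').1) hh
      rw [Finset.mem_erase, Finset.mem_erase] at this
      exact this.1 rfl
    have : U = U' := by
      rw [← Finset.erase_insert hU, ← Finset.erase_insert hU', e2]
    subst this; rfl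

theorem ncard_T4a : T4a.ncard = 22528 := by
  unfold T4a
  rw [ncard_family]
  · rw [Finset.card_product, Cfsg.Agent.S1573.code_classes.1, card_rest]
  · rintro ⟨C, j⟩ _ ⟨C', j'⟩ _ h
    obtain ⟨h1, h2⟩ := ov_inj h
    subst h1; subst h2; rfl

theorem ncard_T4b : T4b.ncard = 22528 := by
  unfold T4b
  rw [ncard_family]
  · rw [Finset.card_product, Cfsg.Agent.S1573.code_classes.2, card_rest]
  · rintro ⟨C, j⟩ _ ⟨C', j'⟩ _ h
    obtain ⟨h1, h2⟩ := ov_inj h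
    subst h1; subst h2; rfl

theorem D44_ne_neg : D44 none (some 0) ≠ -D44 none (some 0) := by
  intro h
  have := congrFun h none
  unfold D44 at this
  simp at this

theorem ncard_T0 : T0.ncard = 2 := Set.ncard_pair D44_ne_neg

end Cfsg.Agent.Lib.Helper3.Mx
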