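import Mathlib
import Cfsg.Agent.Lib.Helper3.Mx1572D

/-!
Helper library (helper3) for S1572: the cross and the vectors of shape `(4,4,0,…)` determine each
other through divisibility of dot products; the cover of the vectors orthogonal to `xS`.
-/

set_option autoImplicit false

namespace Cfsg.Agent.Lib.Helper3.Mx

open Cfsg Cfsg.Agent.Lib.Helper21 Cfsg.Agent.Lib.Helper3
open scoped Pointwise

theorem dotInt_single (x : GolayPt → ℤ) (i : GolayPt) (s : ℤ) :
    dotInt x (Pi.single i s) = x i * s := by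
  unfold dotInt
  rw [Finset.sum_eq_single i]
  · rw [Pi.single_eq_same]
  · intro k _ hk; rw [Pi.single_eq_of_ne hk, mul_zero]
  · intro h; exact absurd (Finset.mem_univ i) h

theorem sqNorm_single (i : GolayPt) (s : ℤ) : sqNorm (Pi.single i s : GolayPt → ℤ) = s ^ 2 := by
  unfold sqNorm
  rw [Finset.sum_eq_single i]
  · rw [Pi.single_eq_same]
  · intro k _ hk; rw [Pi.single_eq_of_ne hk]; norm_num
  · intro h; exact absurd (Finset.mem_univ i) h

theorem sqNorm_cross {w : GolayPt → ℤ} (hw : w ∈ stdCross) : sqNorm w = 64 := by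
  obtain ⟨i, s, hs, rfl⟩ := hw
  rw [sqNorm_single]
  rcases hs with rfl | rfl <;> norm_num

theorem sqNorm_LA {y : GolayPt → ℤ} (hy : y ∈ LA) : sqNorm y = 32 := by
  obtain ⟨s, T, hs, hT, rfl⟩ := mem_LA.1 hy
  exact ((leech_minimal_iff _).2 (Or.inl ⟨s, T, hs, hT, rfl⟩)).2

theorem LA_dot_cross {y w : GolayPt → ℤ} (hy : y ∈ LA) (hw : w ∈ stdCross) :
    (32 : ℤ) ∣ dotInt y w := by
  obtain ⟨s, T, hs, hT, rfl⟩ := mem_LA.1 hy
  obtain ⟨i, c, hc, rfl⟩ := hw
  rw [dotInt_single]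
  rcases sv_vals 4 s T i with h | h | h <;> rcases hc with rfl | rfl <;> rw [h] <;> norm_num

theorem LA_of_dot_cross {y : GolayPt → ℤ} (hy : y ∈ leechLattice) (hn : sqNorm y = 32)
    (h : ∀ w ∈ stdCross, (32 : ℤ) ∣ dotInt y w) : y ∈ LA := by
  have h4 : ∀ i, (4 : ℤ) ∣ y i := by
    intro i
    have := h (Pi.single i 8) ⟨i, 8, Or.inl rfl, rfl⟩
    rw [dotInt_single] at this
    obtain ⟨k, hk⟩ := this
    exact ⟨k, by omega⟩
  rcases (leech_minimal_iff y).1 ⟨hy, hn⟩ with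
    ⟨s, T, hs, hT, rfl⟩ | ⟨s, T, hs, hT, hev, rfl⟩ | ⟨C, j, hC, rfl⟩
  · exact mem_LA.2 ⟨s, T, hs, hT, rfl⟩
  · exfalso
    obtain ⟨i, hi⟩ : s.Nonempty := by
      rw [← Finset.card_pos, hs.2]; norm_num
    have := h4 i
    rw [svA] at this
    by_cases h1 : i ∈ T
    · rw [if_pos h1] at this; norm_num at this
    · rw [if_neg h1, if_pos hi] at this; norm_num at this
  · exfalso
    obtain ⟨k, hk⟩ := h4 none
    have h2 := ov_odd C j none
    omega

theorem D44_eq_sv {a b : GolayPt} (hab : a ≠ b) : D44 a b = sv 4 {a, b} {b} := by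
  funext i
  unfold D44 sv
  by_cases h1 : i = a
  · subst h1
    simp [hab]
  · by_cases h2 : i = b
    · subst h2
      simp [h1]
    · simp [h1, h2]

theorem P44_mem_LA {a b : GolayPt} (hab : a ≠ b) : P44 a b ∈ LA :=
  mem_LA.2 ⟨{a, b}, ∅, Finset.card_pair hab, Finset.empty_subset _, P44_eq_sv⟩

theorem D44_mem_LA {a b : GolayPt} (hab : a ≠ b) : D44 a b ∈ LA :=
  mem_LA.2 ⟨{a, b}, {b}, Finset.card_pair hab, by simp, D44_eq_sv hab⟩

theorem cross_of_dot_LA {w : GolayPt → ℤ} (hn : sqNorm w = 64)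
    (h : ∀ y ∈ LA, (32 : ℤ) ∣ dotInt y w) : w ∈ stdCross := by
  classical
  have hP : ∀ i j, i ≠ j → (8 : ℤ) ∣ w i + w j := by
    intro i j hij
    have := h _ (P44_mem_LA hij)
    rw [dot_P44 hij] at this
    obtain ⟨k, hk⟩ := this
    exact ⟨k, by omega⟩
  have hD : ∀ i j, i ≠ j → (8 : ℤ) ∣ w i - w j := by
    intro i j hij
    have := h _ (D44_mem_LA hij)
    rw [dot_D44 hij] at this
    obtain ⟨k, hk⟩ := this
    exact ⟨k, by omega⟩
  have hmod : ∀ i, w i % 8 = w none % 8 := by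
    intro i
    by_cases hi : i = none
    · rw [hi]
    · have := hD i none hi
      omega
  have h04 : w none % 8 = 0 ∨ w none % 8 = 4 := by
    have h1 := hP none (some 0) hpq0
    have h2 := hD none (some 0) hpq0
    omega
  have h0 : ∀ i, w i % 8 = 0 := by
    rcases h04 with h' | h'
    · intro i; rw [hmod i, h']
    · exfalso
      have hge : ∀ i, 16 ≤ w i ^ 2 := by
        intro i
        have h1 := hmod i
        rw [h'] at h1
        have : w i ≤ -4 ∨ 4 ≤ w i := by omega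
        rcases this with h2 | h2 <;> nlinarith
      have : (384 : ℤ) ≤ sqNorm w := by
        unfold sqNorm
        calc (384 : ℤ) = ∑ _i : GolayPt, (16 : ℤ) := by
              rw [Finset.sum_const, Finset.card_univ, card_golayPt]; norm_num
          _ ≤ _ := Finset.sum_le_sum (fun i _ => hge i)
      omega
  obtain ⟨i, hi⟩ : ∃ i, w i ≠ 0 := by
    by_contra hcon
    push Not at hcon
    have : sqNorm w = 0 := by
      unfold sqNorm; simp [hcon]
    omega
  have hle : w i ^ 2 ≤ sqNorm w := by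
    unfold sqNorm
    exact Finset.single_le_sum (f := fun k => w k ^ 2) (fun k _ => sq_nonneg _) (Finset.mem_univ i)
  have hge : 64 ≤ w i ^ 2 := by
    have h1 := h0 i
    have : w i ≤ -8 ∨ 8 ≤ w i := by omega
    rcases this with h2 | h2 <;> nlinarith
  have hsq : w i ^ 2 = 8 ^ 2 := by
    rw [hn] at hle
    norm_num
    exact le_antisymm hle hge
  have hrest : ∑ k ∈ Finset.univ.erase i, w k ^ 2 = 0 := by
    have h1 := Finset.add_sum_erase Finset.univ (fun k => w k ^ 2) (Finset.mem_univ i)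
    unfold sqNorm at hn
    norm_num at hsq
    linarith
  have hz : ∀ k, k ≠ i → w k = 0 := by
    intro k hk
    have h1 := (Finset.sum_eq_zero_iff_of_nonneg (fun k _ => sq_nonneg (w k))).1 hrest k
      (Finset.mem_erase.2 ⟨hk, Finset.mem_univ _⟩)
    exact pow_eq_zero_iff (two_ne_zero) |>.1 h1
  refine ⟨i, w i, sq_eq_cases hsq, ?_⟩
  funext k
  by_cases hk : k = i
  · subst hk; rw [Pi.single_eq_same]
  · rw [Pi.single_eq_of_ne hk, hz k hk]

/-- the cross stabiliser preserves the vectors of shape `(4,4,0,…)` -/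
theorem NN_pres_LA {n : ↥Co0} (hn : n ∈ NN) {y : leechLattice} (hy : y ∈ lift LA) :
    n • y ∈ lift LA := by
  show (n • y).1 ∈ LA
  apply LA_of_dot_cross (n • y).2
  · show sqNorm (n.1 y).1 = 32
    rw [n.2.2]
    exact sqNorm_LA hy
  · intro w hw
    have hwL : w ∈ leechLattice := Cfsg.Agent.S0397.stdCross_sub w hw
    have h1 : (n⁻¹ • (⟨w, hwL⟩ : leechLattice)).1 ∈ stdCross :=
      (mem_NN _).1 (NN.inv_mem hn) ⟨w, hwL⟩ hw
    have h2 := co0_dot n.2 y (n⁻¹ • ⟨w, hwL⟩)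
    have h3 : n.1 (n⁻¹ • (⟨w, hwL⟩ : leechLattice)) = ⟨w, hwL⟩ := smul_inv_smul n _
    rw [h3] at h2
    show (32 : ℤ) ∣ dotInt (n.1 y).1 w
    rw [h2]
    exact LA_dot_cross hy h1

/-- an element whose inverse preserves the vectors of shape `(4,4,0,…)` preserves the cross -/
theorem mem_NN_of_pres {g : ↥Co0} (h : ∀ y ∈ lift LA, g⁻¹ • y ∈ lift LA) : g ∈ NN := by
  rw [mem_NN]
  intro v hv
  apply cross_of_dot_LA
  · show sqNorm (g.1 v).1 = 64
    rw [g.2.2]
    exact sqNorm_cross hv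
  · intro y hy
    have hy' := h ⟨y, LA_sub y hy⟩ hy
    have h2 := co0_dot g.2 (g⁻¹ • (⟨y, LA_sub y hy⟩ : leechLattice)) v
    have h3 : g.1 (g⁻¹ • (⟨y, LA_sub y hy⟩ : leechLattice)) = ⟨y, LA_sub y hy⟩ :=
      smul_inv_smul g _
    rw [h3] at h2
    show (32 : ℤ) ∣ dotInt y (g.1 v).1
    rw [h2]
    exact LA_dot_cross hy' hv

theorem xS_mem_LA : xS ∈ lift LA := P44_mem_LA hpq0

/-- the orbit of `xS` under the cross stabiliser -/
theorem orbit_NN_xS : MulAction.orbit NN xS = lift LA := by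
  apply Set.eq_of_subset_of_subset
  · intro y hy
    obtain ⟨n, hn, rfl⟩ := (mem_orbit_sub NN xS y).1 hy
    exact NN_pres_LA hn xS_mem_LA
  · intro y hy
    obtain ⟨m, hm, h⟩ := LA_trans xS xS_mem_LA y hy
    exact (mem_orbit_sub NN xS y).2 ⟨m, hm, h⟩

end Cfsg.Agent.Lib.Helper3.Mx
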