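import Mathlib
import Cfsg.Agent.Lib.Helper3.Lx0406B
import Cfsg.Agent.Lib.Helper3.Mx1572E

/-!
Helper library (helper3) for S0406: frames of 24 pairwise orthogonal vectors of norm 8 in one
class modulo 2, and the coordinates they define.
-/

set_option autoImplicit false

namespace Cfsg.Agent.Lib.Helper3.Lx

open Matrix Cfsg Cfsg.Agent.Lib.Helper3

variable (Λ : Lat)

/-- pairwise orthogonal nonzero vectors are at most 24 -/
theorem orth_card_le {ι : Type*} [Fintype ι] (v : ι → Fin 24 → ℤ) (hne : ∀ i, v i ≠ 0)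
    (horth : ∀ i j, i ≠ j → Λ.bf (v i) (v j) = 0) : Fintype.card ι ≤ 24 := by
  classical
  have hli : LinearIndependent ℤ v := by
    rw [linearIndependent_iff']
    intro s g hg i hi
    have h1 : Λ.bf (∑ j ∈ s, g j • v j) (v i) = 0 := by rw [hg, bf_zero_left]
    rw [bf_sum_left, Finset.sum_eq_single i] at h1
    · have h2 : Λ.bf (v i) (v i) ≠ 0 := by
        have := N_ge Λ (hne i)
        unfold Lat.N at this
        omega
      exact (mul_eq_zero.1 h1).resolve_right h2
    · intro j _ hji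
      rw [horth j i hji, mul_zero]
    · intro h; exact absurd hi h
  have := hli.fintype_card_le_finrank
  rwa [Module.finrank_fin_fun] at this

/-- a frame: 24 pairwise orthogonal vectors of norm 8, congruent modulo 2 -/
structure Frame (Λ : Lat) where
  f : GolayPt → Fin 24 → ℤ
  norm : ∀ p, Λ.N (f p) = 8
  orth : ∀ p q, p ≠ q → Λ.bf (f p) (f q) = 0
  cong : ∀ p q, red2 (f p) = red2 (f q)

theorem exists_frame (h4 : {x : Fin 24 → ℤ | Λ.N x = 4}.ncard = 196560)
    (h6 : {x : Fin 24 → ℤ | Λ.N x = 6}.ncard = 16773120)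
    (h8 : {x : Fin 24 → ℤ | Λ.N x = 8}.ncard = 398034000) : Nonempty (Frame Λ) := by
  classical
  obtain ⟨F, hF48, hF8, hFc⟩ := exists_big_fibre Λ h4 h6 h8
  have hpm : ∀ x ∈ F, ∀ y ∈ F, y = x ∨ y = -x ∨ Λ.bf x y = 0 := by
    intro x hx y hy
    by_cases h1 : x = y
    · exact Or.inl h1.symm
    · by_cases h2 : x = -y
      · right; left; rw [h2, neg_neg]
      · right; right
        exact (short_class Λ (by rw [hF8 x hx]) (by rw [hF8 y hy]) (hFc x hx y hy) h1 h2).2.2
  let p : (Fin 24 → ℤ) → Sym2 (Fin 24 → ℤ) := fun x => s(x, -x)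
  have hp : ∀ x y, p x = p y → y = x ∨ y = -x := by
    intro x y h
    rcases Sym2.eq_iff.1 h with ⟨h1, -⟩ | ⟨h1, -⟩
    · exact Or.inl h1.symm
    · right; rw [h1, neg_neg]
  have hcard : F.card ≤ 2 * (F.image p).card := by
    apply Finset.card_le_mul_card_image
    intro a ha
    obtain ⟨x0, hx0, rfl⟩ := Finset.mem_image.1 ha
    have hsub : F.filter (fun x => p x = p x0) ⊆ {x0, -x0} := by
      intro y hy
      obtain ⟨-, hy2⟩ := Finset.mem_filter.1 hy
      rw [Finset.mem_insert, Finset.mem_singleton]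
      exact hp x0 y hy2.symm
    exact (Finset.card_le_card hsub).trans Finset.card_le_two
  have hI : 24 ≤ (F.image p).card := by omega
  have hch : ∀ q : ↥(F.image p), ∃ x ∈ F, p x = q.1 := fun q => Finset.mem_image.1 q.2
  choose v hvF hvp using hch
  have hvne : ∀ q, v q ≠ 0 := by
    intro q h0
    have := hF8 _ (hvF q)
    rw [h0, N_zero] at this
    norm_num at this
  have hvorth : ∀ q q', q ≠ q' → Λ.bf (v q) (v q') = 0 := by
    intro q q' hqq
    rcases hpm _ (hvF q) _ (hvF q') with h | h | h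
    · exfalso; apply hqq; apply Subtype.ext; rw [← hvp q, ← hvp q', h]
    · exfalso; apply hqq; apply Subtype.ext; rw [← hvp q, ← hvp q', h]
      show s(v q, -v q) = s(-v q, - -v q)
      rw [neg_neg]; exact Sym2.eq_swap
    · exact h
  have hle := orth_card_le Λ v hvne hvorth
  rw [Fintype.card_coe] at hle
  have hc24 : Fintype.card GolayPt = Fintype.card ↥(F.image p) := by
    rw [Fintype.card_coe, card_golayPt]; omega
  let e : GolayPt ≃ ↥(F.image p) := Fintype.equivOfCardEq hc24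
  exact ⟨{ f := fun a => v (e a)
           norm := fun a => hF8 _ (hvF _)
           orth := fun a b hab => hvorth _ _ (fun h => hab (e.injective h))
           cong := fun a b => hFc _ (hvF _) _ (hvF _) }⟩

variable {Λ}

/-- expansion along a frame -/
theorem Frame.expand (Fr : Frame Λ) (x : Fin 24 → ℤ) :
    (8 : ℤ) • x = ∑ p, Λ.bf x (Fr.f p) • Fr.f p := by
  classical
  by_contra hne
  have hz : (8 : ℤ) • x - ∑ p, Λ.bf x (Fr.f p) • Fr.f p ≠ 0 := fun h => hne (sub_eq_zero.1 h)
  have horth : ∀ q, Λ.bf ((8 : ℤ) • x - ∑ p, Λ.bf x (Fr.f p) • Fr.f p) (Fr.f q) = 0 := by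
    intro q
    rw [bf_sub_left, bf_smul_left, bf_sum_left, Finset.sum_eq_single q]
    · have := Fr.norm q
      unfold Lat.N at this
      rw [this]; ring
    · intro p _ hpq
      rw [Fr.orth p q hpq, mul_zero]
    · intro h; exact absurd (Finset.mem_univ q) h
  let w : Option GolayPt → Fin 24 → ℤ := fun o =>
    match o with
    | none => (8 : ℤ) • x - ∑ p, Λ.bf x (Fr.f p) • Fr.f p
    | some p => Fr.f p
  have hw : ∀ o, w o ≠ 0 := by
    intro o
    cases o with
    | none => exact hz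
    | some p =>
      intro h0
      have := Fr.norm p
      have h0' : Fr.f p = 0 := h0
      rw [h0', N_zero] at this
      norm_num at this
  have hwo : ∀ o o', o ≠ o' → Λ.bf (w o) (w o') = 0 := by
    intro o o' hoo
    cases o with
    | none =>
      cases o' with
      | none => exact absurd rfl hoo
      | some q => exact horth q
    | some p =>
      cases o' with
      | none => rw [bf_comm]; exact horth p
      | some q => exact Fr.orth p q (fun h => hoo (by rw [h]))
  have := orth_card_le Λ w hw hwo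
  rw [Fintype.card_option, card_golayPt] at this
  omega

/-- the coordinates defined by a frame -/
noncomputable def Frame.phi (Fr : Frame Λ) : (Fin 24 → ℤ) →+ (GolayPt → ℤ) where
  toFun x := fun p => Λ.bf x (Fr.f p)
  map_zero' := by funext p; exact bf_zero_left Λ _
  map_add' x y := by funext p; exact bf_add_left Λ x y _

theorem Frame.phi_apply (Fr : Frame Λ) (x : Fin 24 → ℤ) (p : GolayPt) :
    Fr.phi x p = Λ.bf x (Fr.f p) := rfl

theorem Frame.phi_dot (Fr : Frame Λ) (x y : Fin 24 → ℤ) :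
    dotInt (Fr.phi x) (Fr.phi y) = 8 * Λ.bf x y := by
  have h1 : Λ.bf ((8 : ℤ) • x) y = ∑ p, Λ.bf x (Fr.f p) * Λ.bf (Fr.f p) y := by
    rw [Fr.expand x, bf_sum_left]
  rw [bf_smul_left] at h1
  rw [h1]
  unfold dotInt
  apply Finset.sum_congr rfl
  intro p _
  rw [Fr.phi_apply, Fr.phi_apply, bf_comm Λ y]

theorem Frame.phi_norm (Fr : Frame Λ) (x : Fin 24 → ℤ) : sqNorm (Fr.phi x) = 8 * Λ.N x := by
  rw [← dotInt_self, Fr.phi_dot]
  rfl

theorem Frame.phi_injective (Fr : Frame Λ) : Function.Injective Fr.phi := by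
  rw [injective_iff_map_eq_zero]
  intro x hx
  have := Fr.phi_norm x
  rw [hx] at this
  have h0 : sqNorm (0 : GolayPt → ℤ) = 0 := by unfold sqNorm; simp
  rw [h0] at this
  exact eq_zero_of_N Λ (by omega)

theorem Frame.phi_frame (Fr : Frame Λ) (p : GolayPt) : Fr.phi (Fr.f p) = Pi.single p 8 := by
  classical
  funext q
  rw [Fr.phi_apply]
  by_cases h : q = p
  · subst h
    rw [Pi.single_eq_same]
    exact Fr.norm q
  · rw [Pi.single_eq_of_ne h]
    exact Fr.orth p q (fun h' => h h'.symm)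

/-- the coordinate lattice of a frame -/
noncomputable def Frame.M (Fr : Frame Λ) : AddSubgroup (GolayPt → ℤ) := Fr.phi.range

theorem Frame.mem_M (Fr : Frame Λ) (y : GolayPt → ℤ) : y ∈ Fr.M ↔ ∃ x, Fr.phi x = y :=
  AddMonoidHom.mem_range

theorem Frame.dot_M (Fr : Frame Λ) {y y' : GolayPt → ℤ} (hy : y ∈ Fr.M) (hy' : y' ∈ Fr.M) :
    (8 : ℤ) ∣ dotInt y y' := by
  obtain ⟨x, rfl⟩ := (Fr.mem_M y).1 hy
  obtain ⟨x', rfl⟩ := (Fr.mem_M y').1 hy'
  rw [Fr.phi_dot]
  exact Dvd.intro _ rfl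

theorem Frame.norm_M (Fr : Frame Λ) {y : GolayPt → ℤ} (hy : y ∈ Fr.M) :
    (16 : ℤ) ∣ sqNorm y ∧ (y ≠ 0 → 32 ≤ sqNorm y) := by
  obtain ⟨x, rfl⟩ := (Fr.mem_M y).1 hy
  rw [Fr.phi_norm]
  constructor
  · obtain ⟨k, hk⟩ := N_even Λ x
    exact ⟨k, by rw [hk]; ring⟩
  · intro hne
    have hx : x ≠ 0 := by
      rintro rfl
      exact hne (map_zero _)
    have := N_ge Λ hx
    omega

theorem Frame.single_mem (Fr : Frame Λ) (p : GolayPt) : (Pi.single p 8 : GolayPt → ℤ) ∈ Fr.M :=
  (Fr.mem_M _).2 ⟨Fr.f p, Fr.phi_frame p⟩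

theorem Frame.D44_mem (Fr : Frame Λ) {p q : GolayPt} (hpq : p ≠ q) : D44 p q ∈ Fr.M := by
  classical
  obtain ⟨u, hu⟩ := (red2_eq_iff (Fr.f p) (Fr.f q)).1 (Fr.cong p q)
  refine (Fr.mem_M _).2 ⟨u, ?_⟩
  have h1 : Fr.phi ((2 : ℤ) • u) = Fr.phi (Fr.f p) - Fr.phi (Fr.f q) := by
    rw [← hu, map_sub]
  rw [map_zsmul, Fr.phi_frame, Fr.phi_frame] at h1
  funext r
  have h2 := congrFun h1 r
  simp only [Pi.smul_apply, Pi.sub_apply, smul_eq_mul] at h2
  unfold D44
  by_cases hr1 : r = p
  · subst hr1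
    rw [Pi.single_eq_same, Pi.single_eq_of_ne hpq] at h2
    rw [if_pos rfl]; omega
  · by_cases hr2 : r = q
    · subst hr2
      rw [Pi.single_eq_of_ne hr1, Pi.single_eq_same] at h2
      rw [if_neg hr1, if_pos rfl]; omega
    · rw [Pi.single_eq_of_ne hr1, Pi.single_eq_of_ne hr2] at h2
      rw [if_neg hr1, if_neg hr2]; omega

theorem Frame.P44_mem (Fr : Frame Λ) {p q : GolayPt} (hpq : p ≠ q) : P44 p q ∈ Fr.M := by
  classical
  have h1 := Fr.D44_mem hpq
  have h2 := Fr.single_mem q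
  have : P44 p q = D44 p q + Pi.single q 8 := by
    funext r
    unfold P44 D44
    simp only [Pi.add_apply]
    by_cases hr1 : r = p
    · subst hr1
      rw [Pi.single_eq_of_ne hpq]; simp
    · by_cases hr2 : r = q
      · subst hr2
        rw [Pi.single_eq_same]; simp [hr1]
      · rw [Pi.single_eq_of_ne hr2]; simp [hr1, hr2]
  rw [this]
  exact Fr.M.add_mem h1 h2

/-- all coordinates of a lattice vector have the same parity -/
theorem Frame.parity (Fr : Frame Λ) {y : GolayPt → ℤ} (hy : y ∈ Fr.M) (p q : GolayPt) :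
    y p % 2 = y q % 2 := by
  by_cases hpq : p = q
  · rw [hpq]
  · have := Fr.dot_M hy (Fr.P44_mem hpq)
    rw [dotInt_comm, dot_P44 hpq] at this
    omega

end Cfsg.Agent.Lib.Helper3.Lx
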