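import Mathlib
import Cfsg.Agent.Lib.Helper3.Lx0406C

/-!
Helper library (helper3) for S0406: the vectors `4t` of the coordinate lattice, and the binary code
of a frame.
-/

set_option autoImplicit false

namespace Cfsg.Agent.Lib.Helper3.Lx

open Matrix Cfsg Cfsg.Agent.Lib.Helper3

variable {Λ : Lat}

theorem hnp (p : GolayPt) (h : p ≠ none) : (none : GolayPt) ≠ p := fun h' => h h'.symm

/-- `4t` lies in the coordinate lattice when the sum of `t` is even -/
theorem Frame.four_mem (Fr : Frame Λ) (t : GolayPt → ℤ) (ht : (2 : ℤ) ∣ ∑ p, t p) :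
    (4 : ℤ) • t ∈ Fr.M := by
  classical
  obtain ⟨k, hk⟩ := ht
  have hg : ∀ p : GolayPt, (if p = none then (0 : GolayPt → ℤ) else D44 p none) ∈ Fr.M := by
    intro p
    by_cases hp : p = none
    · rw [if_pos hp]; exact Fr.M.zero_mem
    · rw [if_neg hp]; exact Fr.D44_mem hp
  have hsum : (∑ p, t p • (if p = none then (0 : GolayPt → ℤ) else D44 p none)) +
      k • (Pi.single none 8 : GolayPt → ℤ) ∈ Fr.M :=
    Fr.M.add_mem (Fr.M.sum_mem (fun p _ => Fr.M.zsmul_mem (hg p) _))
      (Fr.M.zsmul_mem (Fr.single_mem none) _)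
  have heq : (4 : ℤ) • t = (∑ p, t p • (if p = none then (0 : GolayPt → ℤ) else D44 p none)) +
      k • (Pi.single none 8 : GolayPt → ℤ) := by
    funext r
    simp only [Pi.smul_apply, Pi.add_apply, Finset.sum_apply, smul_eq_mul]
    by_cases hr : r = none
    · subst hr
      have e1 : ∀ p : GolayPt, t p * (if p = none then (0 : GolayPt → ℤ) else D44 p none) none =
          -4 * t p + (if p = none then 4 * t p else 0) := by
        intro p
        by_cases hp : p = none
        · rw [if_pos hp, if_pos hp]; simp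
        · rw [if_neg hp, if_neg hp]
          unfold D44
          rw [if_neg (hnp p hp), if_pos rfl]; ring
      rw [Finset.sum_congr rfl (fun p _ => e1 p), Finset.sum_add_distrib, ← Finset.mul_sum,
        Finset.sum_ite_eq' Finset.univ none, if_pos (Finset.mem_univ _), Pi.single_eq_same, hk]
      ring
    · have e1 : ∀ p : GolayPt, t p * (if p = none then (0 : GolayPt → ℤ) else D44 p none) r =
          (if p = r then 4 * t p else 0) := by
        intro p
        by_cases hp : p = none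
        · rw [if_pos hp, if_neg (by rw [hp]; exact fun h => hr h.symm)]; simp
        · rw [if_neg hp]
          unfold D44
          by_cases hpr : p = r
          · rw [if_pos hpr, if_pos hpr.symm]; ring
          · rw [if_neg hpr, if_neg (fun h => hpr h.symm), if_neg hr]; ring
      rw [Finset.sum_congr rfl (fun p _ => e1 p), Finset.sum_ite_eq' Finset.univ r,
        if_pos (Finset.mem_univ _), Pi.single_eq_of_ne hr]
      ring
  rw [heq]
  exact hsum

theorem sqNorm_single' (p : GolayPt) (s : ℤ) : sqNorm (Pi.single p s : GolayPt → ℤ) = s ^ 2 :=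
  Cfsg.Agent.Lib.Helper3.Mx.sqNorm_single p s

/-- conversely the sum of `t` is even when `4t` lies in the coordinate lattice -/
theorem Frame.four_mem_even (Fr : Frame Λ) (t : GolayPt → ℤ) (h : (4 : ℤ) • t ∈ Fr.M) :
    (2 : ℤ) ∣ ∑ p, t p := by
  classical
  by_contra hodd
  have h1 : (2 : ℤ) ∣ ∑ p, (t - (Pi.single none 1 : GolayPt → ℤ)) p := by
    simp only [Pi.sub_apply]
    rw [Finset.sum_sub_distrib, Finset.sum_pi_single' none (1 : ℤ) Finset.univ,
      if_pos (Finset.mem_univ _)]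
    omega
  have h2 := Fr.four_mem _ h1
  have h3 := Fr.M.sub_mem h h2
  have h4 : (4 : ℤ) • t - (4 : ℤ) • (t - (Pi.single none 1 : GolayPt → ℤ)) =
      (Pi.single none 4 : GolayPt → ℤ) := by
    funext r
    simp only [Pi.smul_apply, Pi.sub_apply, smul_eq_mul]
    by_cases hr : r = none
    · subst hr; rw [Pi.single_eq_same, Pi.single_eq_same]; ring
    · rw [Pi.single_eq_of_ne hr, Pi.single_eq_of_ne hr]; ring
  rw [h4] at h3
  have h5 := (Fr.norm_M h3).2 (by
    intro h0
    have := congrFun h0 none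
    rw [Pi.single_eq_same] at this
    norm_num at this)
  rw [sqNorm_single'] at h5
  norm_num at h5

/-! ### the code -/

/-- the vectors whose double lies in the coordinate lattice -/
noncomputable def Frame.halfM (Fr : Frame Λ) : AddSubgroup (GolayPt → ℤ) :=
  Fr.M.comap (zsmulAddGroupHom 2)

theorem Frame.mem_halfM (Fr : Frame Λ) (z : GolayPt → ℤ) : z ∈ Fr.halfM ↔ (2 : ℤ) • z ∈ Fr.M :=
  Iff.rfl

/-- the binary code of a frame -/
noncomputable def Frame.code (Fr : Frame Λ) : Submodule (ZMod 2) (GolayPt → ZMod 2) :=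
  AddSubgroup.toZModSubmodule 2 (Fr.halfM.map red2)

theorem Frame.mem_code (Fr : Frame Λ) (c : GolayPt → ZMod 2) :
    c ∈ Fr.code ↔ ∃ z : GolayPt → ℤ, (2 : ℤ) • z ∈ Fr.M ∧ red2 z = c := by
  unfold Frame.code
  rw [AddSubgroup.mem_toZModSubmodule, AddSubgroup.mem_map]
  constructor
  · rintro ⟨z, hz, rfl⟩; exact ⟨z, hz, rfl⟩
  · rintro ⟨z, hz, rfl⟩; exact ⟨z, hz, rfl⟩

/-- the odd coordinates of an integer vector -/
def oddSet (z : GolayPt → ℤ) : Finset GolayPt := Finset.univ.filter (fun p => z p % 2 = 1)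

theorem mem_oddSet (z : GolayPt → ℤ) (p : GolayPt) : p ∈ oddSet z ↔ z p % 2 = 1 := by
  unfold oddSet; simp

theorem red2_ne_zero (z : GolayPt → ℤ) (p : GolayPt) : red2 z p ≠ 0 ↔ z p % 2 = 1 := by
  rw [red2_apply, Ne, ZMod.intCast_zmod_eq_zero_iff_dvd]
  have : ((2 : ℕ) : ℤ) = 2 := by norm_num
  rw [this]
  omega

theorem hammingNorm_red2 (z : GolayPt → ℤ) : hammingNorm (red2 z) = (oddSet z).card := by
  unfold hammingNorm oddSet
  congr 1
  ext p
  simp only [Finset.mem_filter, Finset.mem_univ, true_and]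
  exact red2_ne_zero z p

theorem sum_sq_mod4 (z : GolayPt → ℤ) : ∃ T : ℤ, ∑ p, z p ^ 2 = (oddSet z).card + 4 * T := by
  classical
  have h : ∀ p, ∃ t : ℤ, z p ^ 2 = (if z p % 2 = 1 then 1 else 0) + 4 * t := by
    intro p
    by_cases hp : z p % 2 = 1
    · rw [if_pos hp]
      obtain ⟨k, hk⟩ : ∃ k, z p = 2 * k + 1 := ⟨z p / 2, by omega⟩
      exact ⟨k ^ 2 + k, by rw [hk]; ring⟩
    · rw [if_neg hp]
      obtain ⟨k, hk⟩ : ∃ k, z p = 2 * k := ⟨z p / 2, by omega⟩
      exact ⟨k ^ 2, by rw [hk]; ring⟩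
  choose t ht using h
  refine ⟨∑ p, t p, ?_⟩
  rw [Finset.sum_congr rfl (fun p _ => ht p), Finset.sum_add_distrib, ← Finset.mul_sum,
    Finset.sum_boole]
  rfl

theorem sqNorm_two_smul (z : GolayPt → ℤ) : sqNorm ((2 : ℤ) • z) = 4 * ∑ p, z p ^ 2 := by
  unfold sqNorm
  rw [Finset.mul_sum]
  apply Finset.sum_congr rfl
  intro p _
  simp only [Pi.smul_apply, smul_eq_mul]
  ring

/-- weights in the code are divisible by 4 -/
theorem Frame.weight_dvd (Fr : Frame Λ) {z : GolayPt → ℤ} (hz : (2 : ℤ) • z ∈ Fr.M) :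
    4 ∣ (oddSet z).card := by
  obtain ⟨k, hk⟩ := (Fr.norm_M hz).1
  rw [sqNorm_two_smul] at hk
  obtain ⟨T, hT⟩ := sum_sq_mod4 z
  rw [hT] at hk
  have : (4 : ℤ) ∣ ((oddSet z).card : ℤ) := ⟨k - T, by omega⟩
  exact_mod_cast this

/-- nonzero words of the code have weight at least 8 -/
theorem Frame.weight_ge (Fr : Frame Λ) {z : GolayPt → ℤ} (hz : (2 : ℤ) • z ∈ Fr.M)
    (hne : (oddSet z).Nonempty) : 8 ≤ (oddSet z).card := by
  classical
  obtain ⟨j, hj⟩ := hne
  obtain ⟨t, ht⟩ : ∃ t : GolayPt → ℤ, ∀ p, z p = 2 * t p + (if p ∈ oddSet z then 1 else 0) := by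
    refine ⟨fun p => z p / 2, fun p => ?_⟩
    show z p = 2 * (z p / 2) + (if p ∈ oddSet z then 1 else 0)
    by_cases hp : p ∈ oddSet z
    · rw [if_pos hp]; have := (mem_oddSet z p).1 hp; omega
    · rw [if_neg hp]; have : ¬ z p % 2 = 1 := fun h => hp ((mem_oddSet z p).2 h); omega
  -- choose `t'` with even sum
  obtain ⟨t', ht', hs'⟩ : ∃ t' : GolayPt → ℤ, (2 : ℤ) ∣ ∑ p, t' p ∧
      ∀ p, ((2 : ℤ) • z - (4 : ℤ) • t') p ^ 2 = if p ∈ oddSet z then 4 else 0 := by
    by_cases hev : (2 : ℤ) ∣ ∑ p, t p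
    · refine ⟨t, hev, fun p => ?_⟩
      simp only [Pi.sub_apply, Pi.smul_apply, smul_eq_mul]
      rw [ht p]
      by_cases hp : p ∈ oddSet z
      · simp only [if_pos hp]; ring
      · simp only [if_neg hp]; ring
    · refine ⟨t + (Pi.single j 1 : GolayPt → ℤ), ?_, fun p => ?_⟩
      · simp only [Pi.add_apply]
        rw [Finset.sum_add_distrib, Finset.sum_pi_single' j (1 : ℤ) Finset.univ,
          if_pos (Finset.mem_univ _)]
        omega
      · simp only [Pi.sub_apply, Pi.smul_apply, Pi.add_apply, smul_eq_mul]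
        rw [ht p]
        by_cases hp : p ∈ oddSet z
        · simp only [if_pos hp]
          by_cases hpj : p = j
          · subst hpj; rw [Pi.single_eq_same]; ring
          · rw [Pi.single_eq_of_ne hpj]; ring
        · simp only [if_neg hp]
          have hpj : p ≠ j := fun h => hp (h ▸ hj)
          rw [Pi.single_eq_of_ne hpj]; ring
  have hy : (2 : ℤ) • z - (4 : ℤ) • t' ∈ Fr.M := Fr.M.sub_mem hz (Fr.four_mem t' ht')
  have hn : sqNorm ((2 : ℤ) • z - (4 : ℤ) • t') = 4 * (oddSet z).card := by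
    unfold sqNorm
    rw [Finset.sum_congr rfl (fun p _ => hs' p), Finset.sum_ite_mem, Finset.univ_inter,
      Finset.sum_const, nsmul_eq_mul]
    ring
  have hne0 : (2 : ℤ) • z - (4 : ℤ) • t' ≠ 0 := by
    intro h0
    have := hs' j
    rw [h0, if_pos hj] at this
    norm_num at this
  have := (Fr.norm_M hy).2 hne0
  rw [hn] at this
  have : (8 : ℤ) ≤ ((oddSet z).card : ℤ) := by omega
  exact_mod_cast this

/-- the code is self-orthogonal -/
theorem Frame.code_orth (Fr : Frame Λ) {c c' : GolayPt → ZMod 2} (hc : c ∈ Fr.code)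
    (hc' : c' ∈ Fr.code) : ∑ p, c p * c' p = 0 := by
  obtain ⟨z, hz, rfl⟩ := (Fr.mem_code c).1 hc
  obtain ⟨z', hz', rfl⟩ := (Fr.mem_code c').1 hc'
  obtain ⟨k, hk⟩ := Fr.dot_M hz hz'
  have h1 : dotInt ((2 : ℤ) • z) ((2 : ℤ) • z') = 4 * ∑ p, z p * z' p := by
    unfold dotInt
    rw [Finset.mul_sum]
    apply Finset.sum_congr rfl
    intro p _
    simp only [Pi.smul_apply, smul_eq_mul]
    ring
  rw [h1] at hk
  have h2 : (∑ p, z p * z' p) = 2 * k := by omega
  have h3 : ∑ p, red2 z p * red2 z' p = ((∑ p, z p * z' p : ℤ) : ZMod 2) := by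
    rw [Int.cast_sum]
    apply Finset.sum_congr rfl
    intro p _
    rw [red2_apply, red2_apply, Int.cast_mul]
  rw [h3, h2]
  push_cast
  have : (2 : ZMod 2) = 0 := rfl
  rw [this, zero_mul]

/-- a self-orthogonal code of length 24 has dimension at most 12 -/
theorem Frame.code_finrank_le (Fr : Frame Λ) : Module.finrank (ZMod 2) Fr.code ≤ 12 := by
  classical
  let Bd : LinearMap.BilinForm (ZMod 2) (GolayPt → ZMod 2) :=
    Matrix.toBilin' (1 : Matrix GolayPt GolayPt (ZMod 2))
  have hBd : ∀ v w : GolayPt → ZMod 2, Bd v w = ∑ p, v p * w p := by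
    intro v w
    show Matrix.toBilin' (1 : Matrix GolayPt GolayPt (ZMod 2)) v w = _
    rw [Matrix.toBilin'_apply', Matrix.one_mulVec]
    rfl
  have hnd : Bd.Nondegenerate :=
    LinearMap.BilinForm.nondegenerate_toBilin'_of_det_ne_zero' _ (by rw [Matrix.det_one]; exact one_ne_zero)
  have hle : Fr.code ≤ Bd.orthogonal Fr.code := by
    intro v hv
    rw [LinearMap.BilinForm.mem_orthogonal_iff]
    intro w hw
    show Bd w v = 0
    rw [hBd]
    exact Fr.code_orth hw hv
  have h1 := Submodule.finrank_mono hle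
  have h2 := LinearMap.BilinForm.finrank_orthogonal hnd Fr.code
  have h3 : Module.finrank (ZMod 2) (GolayPt → ZMod 2) = 24 := by
    rw [Module.finrank_fintype_fun_eq_card, card_golayPt]
  rw [h3] at h2
  omega

end Cfsg.Agent.Lib.Helper3.Lx
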