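import Mathlib
import Cfsg.Agent.Lib.Helper3.Lx0406D

/-!
Helper library (helper3) for S0406: classification and count of the vectors of norm 32 of the
coordinate lattice; the code has 4096 words and the lattice has odd vectors.
-/

set_option autoImplicit false

namespace Cfsg.Agent.Lib.Helper3.Lx

open Matrix Cfsg Cfsg.Agent.Lib.Helper3 Cfsg.Agent.Lib.Helper3.Mx

variable {Λ : Lat}

theorem classify_even2' {x : GolayPt → ℤ} {C : Finset GolayPt}
    (hCdef : ∀ i, i ∈ C ↔ x i % 4 = 2) (h8 : 8 ≤ C.card) (hn : sqNorm x = 32) :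
    C.card = 8 ∧ ∃ T, T ⊆ C ∧ x = sv 2 C T := by
  classical
  have hf0 : ∀ i, 0 ≤ x i ^ 2 - (if i ∈ C then (4 : ℤ) else 0) := by
    intro i
    by_cases hi : i ∈ C
    · simp only [hi, if_true]
      have := (hCdef i).1 hi
      have : x i ≤ -2 ∨ 2 ≤ x i := by omega
      rcases this with h | h <;> nlinarith
    · simp only [hi, if_false]
      have := sq_nonneg (x i); linarith
  have hfs : ∑ i, (x i ^ 2 - (if i ∈ C then (4 : ℤ) else 0)) = 32 - 4 * C.card := by
    rw [Finset.sum_sub_distrib]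
    unfold sqNorm at hn
    rw [hn]
    simp only [Finset.sum_ite_mem, Finset.univ_inter, Finset.sum_const, nsmul_eq_mul]
    ring
  have hall := all_zero_of_sum_nonpos hf0 (by
    rw [hfs]; have : (8 : ℤ) ≤ C.card := by exact_mod_cast h8
    linarith)
  have hcard : C.card = 8 := by
    have : ∑ i, (x i ^ 2 - (if i ∈ C then (4 : ℤ) else 0)) = 0 :=
      Finset.sum_eq_zero (fun i _ => hall i)
    rw [hfs] at this
    omega
  have hx : ∀ i, (i ∈ C → x i = 2 ∨ x i = -2) ∧ (i ∉ C → x i = 0) := by
    intro i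
    have := hall i
    constructor
    · intro hi
      simp only [hi, if_true] at this
      have h4 : x i ^ 2 = 2 ^ 2 := by linarith
      exact sq_eq_cases h4
    · intro hi
      simp only [hi, if_false] at this
      have : x i ^ 2 = 0 := by linarith
      exact (pow_eq_zero_iff (two_ne_zero)).1 this
  have hTs : Finset.univ.filter (fun i => x i < 0) ⊆ C := by
    intro i hi
    simp only [Finset.mem_filter, Finset.mem_univ, true_and] at hi
    by_contra hiC
    have := (hx i).2 hiC
    omega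
  refine ⟨hcard, Finset.univ.filter (fun i => x i < 0), hTs, ?_⟩
  funext i
  unfold sv
  simp only [Finset.mem_filter, Finset.mem_univ, true_and]
  by_cases hi : i ∈ C
  · rcases (hx i).1 hi with h | h <;> simp [h, hi]
  · simp [(hx i).2 hi, hi]

open Classical in
/-- the supports of the words of weight 8 -/
noncomputable def Frame.oct (Fr : Frame Λ) : Finset (Finset GolayPt) :=
  Finset.univ.filter (fun O => O.card = 8 ∧ ∃ z : GolayPt → ℤ, (2 : ℤ) • z ∈ Fr.M ∧ oddSet z = O)

theorem Frame.mem_oct (Fr : Frame Λ) (O : Finset GolayPt) :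
    O ∈ Fr.oct ↔ O.card = 8 ∧ ∃ z : GolayPt → ℤ, (2 : ℤ) • z ∈ Fr.M ∧ oddSet z = O := by
  classical
  unfold Frame.oct
  constructor
  · intro h; exact (Finset.mem_filter.1 h).2
  · intro h; exact Finset.mem_filter.2 ⟨Finset.mem_univ _, h⟩

theorem oddSet_add (z z' : GolayPt → ℤ) :
    oddSet (z + z') = (oddSet z \ oddSet z') ∪ (oddSet z' \ oddSet z) := by
  classical
  ext p
  simp only [Finset.mem_union, Finset.mem_sdiff, mem_oddSet, Pi.add_apply]
  omega

theorem Frame.oct_inter (Fr : Frame Λ) {O O' : Finset GolayPt} (hO : O ∈ Fr.oct)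
    (hO' : O' ∈ Fr.oct) (hne : O ≠ O') : (O ∩ O').card ≤ 4 := by
  classical
  obtain ⟨h8, z, hz, rfl⟩ := (Fr.mem_oct O).1 hO
  obtain ⟨h8', z', hz', rfl⟩ := (Fr.mem_oct O').1 hO'
  have hzz : (2 : ℤ) • (z + z') ∈ Fr.M := by
    rw [smul_add]; exact Fr.M.add_mem hz hz'
  have hnon : (oddSet (z + z')).Nonempty := by
    rw [Finset.nonempty_iff_ne_empty]
    intro he
    apply hne
    rw [oddSet_add] at he
    ext p
    have : p ∉ (oddSet z \ oddSet z') ∪ (oddSet z' \ oddSet z) := by rw [he]; exact Finset.notMem_empty p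
    simp only [Finset.mem_union, Finset.mem_sdiff, mem_oddSet] at this
    rw [mem_oddSet, mem_oddSet]
    omega
  have h1 := Fr.weight_ge hzz hnon
  rw [oddSet_add] at h1
  have h2 := card_flip (oddSet z) (oddSet z')
  omega

theorem Frame.oct_card_le (Fr : Frame Λ) : Fr.oct.card ≤ 759 := by
  classical
  have h1 : (Fr.oct.sigma (fun O => Finset.powersetCard 5 O)).card ≤
      (Finset.powersetCard 5 (Finset.univ : Finset GolayPt)).card := by
    apply Finset.card_le_card_of_injOn (fun p => p.2)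
    · rintro ⟨O, T⟩ hp
      obtain ⟨-, h2⟩ := Finset.mem_sigma.1 (Finset.mem_coe.1 hp)
      have h2' : T ∈ Finset.powersetCard 5 O := h2
      show T ∈ ((Finset.powersetCard 5 (Finset.univ : Finset GolayPt) : Finset _) : Set _)
      rw [Finset.mem_coe, Finset.mem_powersetCard]
      exact ⟨Finset.subset_univ _, (Finset.mem_powersetCard.1 h2').2⟩
    · rintro ⟨O, T⟩ hp ⟨O', T'⟩ hp' h
      have hp1 := Finset.mem_sigma.1 (Finset.mem_coe.1 hp)
      have hp2 := Finset.mem_sigma.1 (Finset.mem_coe.1 hp')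
      have hO1 : O ∈ Fr.oct := hp1.1
      have hO2 : O' ∈ Fr.oct := hp2.1
      have hT1 : T ∈ Finset.powersetCard 5 O := hp1.2
      have hT2 : T' ∈ Finset.powersetCard 5 O' := hp2.2
      obtain ⟨hT, hT5⟩ := Finset.mem_powersetCard.1 hT1
      obtain ⟨hT', hT5'⟩ := Finset.mem_powersetCard.1 hT2
      have hTT : T = T' := h
      subst hTT
      have hOO : O = O' := by
        by_contra hne
        have h4 := Fr.oct_inter hO1 hO2 hne
        have h5 : T ⊆ O ∩ O' := Finset.subset_inter hT hT'
        have h6 := Finset.card_le_card h5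
        omega
      subst hOO
      rfl
  rw [Finset.card_sigma, Finset.card_powersetCard, Finset.card_univ, card_golayPt,
    Finset.sum_congr rfl (g := fun _ => 56)] at h1
  · rw [Finset.sum_const, smul_eq_mul] at h1
    have : Nat.choose 24 5 = 42504 := by decide
    rw [this] at h1
    omega
  · intro O hO
    rw [Finset.card_powersetCard, ((Fr.mem_oct O).1 hO).1]
    decide

open Classical in
/-- the sign sets over a fixed support -/
theorem Frame.signs_card_le (Fr : Frame Λ) {O : Finset GolayPt} (hO : O.card = 8) :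
    (O.powerset.filter (fun T => sv 2 O T ∈ Fr.M)).card ≤ 128 := by
  classical
  by_cases hemp : (O.powerset.filter (fun T => sv 2 O T ∈ Fr.M)) = ∅
  · rw [hemp]; simp
  obtain ⟨T0, hT0⟩ := Finset.nonempty_iff_ne_empty.2 hemp
  obtain ⟨hT0O, hT0M⟩ := Finset.mem_filter.1 hT0
  rw [Finset.mem_powerset] at hT0O
  rw [← Cfsg.Agent.S0394.even_subsets_card O hO]
  apply Finset.card_le_card_of_injOn (fun T => (T \ T0) ∪ (T0 \ T))
  · intro T hT
    obtain ⟨hTO, hTM⟩ := Finset.mem_filter.1 (Finset.mem_coe.1 hT)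
    rw [Finset.mem_powerset] at hTO
    rw [Finset.mem_coe, Finset.mem_filter, Finset.mem_powerset]
    refine ⟨flip_sub hTO hT0O, ?_⟩
    -- the difference is `4 t`
    have hd := Fr.M.sub_mem hTM hT0M
    have heq : sv 2 O T - sv 2 O T0 = (4 : ℤ) • (fun p => if p ∈ T0 \ T then (1 : ℤ) else
        if p ∈ T \ T0 then -1 else 0) := by
      funext p
      have a1 : p ∈ T → p ∈ O := fun h => hTO h
      have a2 : p ∈ T0 → p ∈ O := fun h => hT0O h
      simp only [Pi.sub_apply, Pi.smul_apply, smul_eq_mul, Finset.mem_sdiff]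
      unfold sv
      by_cases h1 : p ∈ T <;> by_cases h2 : p ∈ T0 <;> by_cases h3 : p ∈ O <;>
        first
        | (exfalso; tauto)
        | simp [h1, h2, h3]
    rw [heq] at hd
    obtain ⟨k, hk⟩ := Fr.four_mem_even _ hd
    have hsum : ∑ p, (if p ∈ T0 \ T then (1 : ℤ) else if p ∈ T \ T0 then -1 else 0) =
        ((T0 \ T).card : ℤ) - ((T \ T0).card : ℤ) := by
      have e : ∀ p, (if p ∈ T0 \ T then (1 : ℤ) else if p ∈ T \ T0 then -1 else 0) =
          (if p ∈ T0 \ T then (1 : ℤ) else 0) - (if p ∈ T \ T0 then (1 : ℤ) else 0) := by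
        intro p
        by_cases h1 : p ∈ T0 \ T
        · have h2 : p ∉ T \ T0 := by
            rw [Finset.mem_sdiff] at h1 ⊢; tauto
          rw [if_pos h1, if_pos h1, if_neg h2]; ring
        · rw [if_neg h1, if_neg h1]
          by_cases h2 : p ∈ T \ T0
          · rw [if_pos h2, if_pos h2]; ring
          · rw [if_neg h2, if_neg h2]; ring
      rw [Finset.sum_congr rfl (fun p _ => e p), Finset.sum_sub_distrib, Finset.sum_ite_mem,
        Finset.sum_ite_mem, Finset.univ_inter, Finset.univ_inter, Finset.sum_const,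
        Finset.sum_const]
      simp
    rw [hsum] at hk
    have hdis : Disjoint (T \ T0) (T0 \ T) := by
      rw [Finset.disjoint_left]
      intro p h1 h2
      exact (Finset.mem_sdiff.1 h1).2 (Finset.mem_sdiff.1 h2).1
    rw [Finset.card_union_of_disjoint hdis, Nat.even_iff]
    omega
  · intro T hT T' hT' h
    have h' : (T \ T0) ∪ (T0 \ T) = (T' \ T0) ∪ (T0 \ T') := h
    ext p
    have := congrArg (fun S => p ∈ S) h'
    simp only [Finset.mem_union, Finset.mem_sdiff, eq_iff_iff] at this
    tauto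

theorem four_mod (a b : ℤ) (ha : a % 2 = 1) (hb : b % 2 = 1) :
    ((a - b) / 2) % 2 = 1 ↔ ¬ (a % 4 = 1 ↔ b % 4 = 1) := by
  omega

/-- the coordinate lattice has odd vectors and the code has 4096 words -/
theorem Frame.count (Fr : Frame Λ) (h4 : {x : Fin 24 → ℤ | Λ.N x = 4}.ncard = 196560) :
    (∃ y0 ∈ Fr.M, ∀ p, y0 p % 2 = 1) ∧ Module.finrank (ZMod 2) Fr.code = 12 := by
  classical
  -- the vectors of norm 32
  have hS : {y : GolayPt → ℤ | y ∈ Fr.M ∧ sqNorm y = 32}.ncard = 196560 := by
    rw [← h4, ← Set.ncard_image_of_injective _ Fr.phi_injective]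
    congr 1
    ext y
    constructor
    · rintro ⟨hy, hn⟩
      obtain ⟨x, rfl⟩ := (Fr.mem_M y).1 hy
      rw [Fr.phi_norm] at hn
      exact ⟨x, by show Λ.N x = 4; omega, rfl⟩
    · rintro ⟨x, hx, rfl⟩
      have hx' : Λ.N x = 4 := hx
      exact ⟨(Fr.mem_M _).2 ⟨x, rfl⟩, by rw [Fr.phi_norm, hx']; norm_num⟩
  -- the images
  let SB : Finset (GolayPt → ℤ) :=
    (Fr.oct.sigma (fun O => O.powerset.filter (fun T => sv 2 O T ∈ Fr.M))).image
      (fun p => sv 2 p.1 p.2)
  have hSB : SB.card ≤ 97152 := by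
    refine Finset.card_image_le.trans ?_
    rw [Finset.card_sigma]
    have h1 : ∑ O ∈ Fr.oct, (O.powerset.filter (fun T => sv 2 O T ∈ Fr.M)).card ≤
        ∑ _O ∈ Fr.oct, 128 :=
      Finset.sum_le_sum (fun O hO => Fr.signs_card_le ((Fr.mem_oct O).1 hO).1)
    rw [Finset.sum_const, smul_eq_mul] at h1
    have := Fr.oct_card_le
    omega
  have hLAfin : LA.Finite := Set.finite_of_ncard_ne_zero (by rw [ncard_LA]; norm_num)
  -- the even vectors of norm 32
  have heven : ∀ y, y ∈ Fr.M → sqNorm y = 32 → (∀ p, y p % 2 = 0) → y ∈ LA ∨ y ∈ SB := by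
    intro y hy hn h2
    obtain ⟨z, hz⟩ : ∃ z : GolayPt → ℤ, y = (2 : ℤ) • z := by
      refine ⟨fun p => y p / 2, ?_⟩
      funext p
      have := h2 p
      show y p = 2 * (y p / 2)
      omega
    have hzM : (2 : ℤ) • z ∈ Fr.M := hz ▸ hy
    have hCdef : ∀ p, p ∈ oddSet z ↔ y p % 4 = 2 := by
      intro p
      rw [mem_oddSet, hz]
      simp only [Pi.smul_apply, smul_eq_mul]
      omega
    by_cases hne : (oddSet z).Nonempty
    · right
      obtain ⟨hc8, T, hT, hyT⟩ := classify_even2' hCdef (Fr.weight_ge hzM hne) hn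
      rw [Finset.mem_image]
      refine ⟨⟨oddSet z, T⟩, ?_, hyT.symm⟩
      rw [Finset.mem_sigma, Fr.mem_oct, Finset.mem_filter, Finset.mem_powerset]
      exact ⟨⟨hc8, z, hzM, rfl⟩, hT, hyT ▸ hy⟩
    · left
      rw [Finset.not_nonempty_iff_eq_empty] at hne
      have h4' : ∀ p, y p % 4 = 0 := by
        intro p
        have h1 : ¬ y p % 4 = 2 := by
          rw [← hCdef, hne]; exact Finset.notMem_empty p
        have := h2 p
        omega
      obtain ⟨s, T, hs, hT, hyT⟩ := classify_even0 h4' hn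
      exact mem_LA.2 ⟨s, T, hs, hT, hyT⟩
  have hcode : (Finset.univ.filter (fun c : GolayPt → ZMod 2 => c ∈ Fr.code)).card =
      2 ^ Module.finrank (ZMod 2) Fr.code := by
    have h1 := Module.natCard_eq_pow_finrank (K := ZMod 2) (V := Fr.code)
    rw [Nat.card_zmod, Nat.card_eq_fintype_card] at h1
    rw [← h1, Fintype.card_subtype]
  have hfr := Fr.code_finrank_le
  by_cases hodd : ∃ y0 ∈ Fr.M, ∀ p, y0 p % 2 = 1
  · refine ⟨hodd, ?_⟩
    obtain ⟨y0, hy0, hy0odd⟩ := hodd
    let D0 : Finset GolayPt := Finset.univ.filter (fun p => y0 p % 4 = 1)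
    let SC : Finset (GolayPt → ℤ) :=
      ((Finset.univ.filter (fun c : GolayPt → ZMod 2 => c ∈ Fr.code)) ×ˢ
        (Finset.univ : Finset GolayPt)).image
        (fun q => ov ((D0 \ Finset.univ.filter (fun p => q.1 p ≠ 0)) ∪
          (Finset.univ.filter (fun p => q.1 p ≠ 0) \ D0)) q.2)
    have hSC : SC.card ≤ (Finset.univ.filter (fun c : GolayPt → ZMod 2 => c ∈ Fr.code)).card * 24 := by
      refine Finset.card_image_le.trans ?_
      rw [Finset.card_product, Finset.card_univ, card_golayPt]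
    have hoddc : ∀ y, y ∈ Fr.M → sqNorm y = 32 → (∀ p, y p % 2 = 1) → y ∈ SC := by
      intro y hy hn h2
      obtain ⟨j, hj⟩ := classify_odd (C := Finset.univ.filter (fun p => y p % 4 = 1)) h2
        (fun i => by simp) hn
      obtain ⟨z, hz⟩ : ∃ z : GolayPt → ℤ, y - y0 = (2 : ℤ) • z := by
        refine ⟨fun p => (y p - y0 p) / 2, ?_⟩
        funext p
        have := h2 p
        have := hy0odd p
        show y p - y0 p = 2 * ((y p - y0 p) / 2)
        omega
      have hzM : (2 : ℤ) • z ∈ Fr.M := hz ▸ Fr.M.sub_mem hy hy0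
      have hzp : ∀ p, z p = (y p - y0 p) / 2 := by
        intro p
        have := congrFun hz p
        simp only [Pi.sub_apply, Pi.smul_apply, smul_eq_mul] at this
        omega
      rw [Finset.mem_image]
      refine ⟨⟨red2 z, j⟩, ?_, ?_⟩
      · rw [Finset.mem_product, Finset.mem_filter]
        exact ⟨⟨Finset.mem_univ _, (Fr.mem_code _).2 ⟨z, hzM, rfl⟩⟩, Finset.mem_univ _⟩
      · rw [hj]
        congr 1
        ext p
        simp only [Finset.mem_union, Finset.mem_sdiff, Finset.mem_filter, Finset.mem_univ,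
          true_and, D0, red2_ne_zero, hzp p]
        have := four_mod (y p) (y0 p) (h2 p) (hy0odd p)
        tauto
    -- the count
    have hsub : {y : GolayPt → ℤ | y ∈ Fr.M ∧ sqNorm y = 32} ⊆ LA ∪ ↑(SB ∪ SC) := by
      rintro y ⟨hy, hn⟩
      have hpar := Fr.parity hy
      rcases Int.emod_two_eq_zero_or_one (y none) with h0 | h1
      · rcases heven y hy hn (fun p => by rw [hpar p none]; exact h0) with h | h
        · exact Or.inl h
        · right; rw [Finset.coe_union]; exact Or.inl h
      · right; rw [Finset.coe_union]; right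
        exact hoddc y hy hn (fun p => by rw [hpar p none]; exact h1)
    have hfin : (LA ∪ ↑(SB ∪ SC) : Set (GolayPt → ℤ)).Finite :=
      hLAfin.union (Finset.finite_toSet _)
    have h1 := Set.ncard_le_ncard hsub hfin
    have h2 := Set.ncard_union_le LA (↑(SB ∪ SC) : Set (GolayPt → ℤ))
    rw [Set.ncard_coe_finset] at h2
    have h3 := Finset.card_union_le SB SC
    rw [hS] at h1
    rw [ncard_LA] at h2
    have h5 : 4096 ≤ (Finset.univ.filter (fun c : GolayPt → ZMod 2 => c ∈ Fr.code)).card := by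
      omega
    rw [hcode] at h5
    by_contra hne
    have h6 : Module.finrank (ZMod 2) Fr.code ≤ 11 := by omega
    have h7 := Nat.pow_le_pow_right (by norm_num : 0 < 2) h6
    norm_num at h7
    omega
  · exfalso
    have hsub : {y : GolayPt → ℤ | y ∈ Fr.M ∧ sqNorm y = 32} ⊆ LA ∪ ↑SB := by
      rintro y ⟨hy, hn⟩
      have hpar := Fr.parity hy
      rcases Int.emod_two_eq_zero_or_one (y none) with h0 | h1
      · rcases heven y hy hn (fun p => by rw [hpar p none]; exact h0) with h | h
        · exact Or.inl h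
        · exact Or.inr h
      · exfalso
        exact hodd ⟨y, hy, fun p => by rw [hpar p none]; exact h1⟩
    have hfin : (LA ∪ ↑SB : Set (GolayPt → ℤ)).Finite := hLAfin.union (Finset.finite_toSet _)
    have h1 := Set.ncard_le_ncard hsub hfin
    have h2 := Set.ncard_union_le LA (↑SB : Set (GolayPt → ℤ))
    rw [Set.ncard_coe_finset] at h2
    rw [hS] at h1
    rw [ncard_LA] at h2
    omega

end Cfsg.Agent.Lib.Helper3.Lx
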