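import Mathlib
import Cfsg.Agent.Lib.Helper3.Lx0406E
import Cfsg.Agent.S0375

/-!
Helper library (helper3) for S0406: signed permutations of a frame, identification of the coordinate
lattice with the Leech lattice once the code is the Golay code, and the final assembly.
-/

set_option autoImplicit false

namespace Cfsg.Agent.Lib.Helper3.Lx

open Matrix Cfsg Cfsg.Agent.Lib.Helper3 Cfsg.Agent.Lib.Helper3.Mx

variable {Λ : Lat}

/-- a signed permutation of a frame -/
noncomputable def Frame.twist (Fr : Frame Λ) (σ : Equiv.Perm GolayPt) (s : GolayPt → ℤ)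
    (hs : ∀ p, s p = 1 ∨ s p = -1) : Frame Λ where
  f p := s p • Fr.f (σ p)
  norm p := by
    rw [N_smul, Fr.norm]
    rcases hs p with h | h <;> rw [h] <;> norm_num
  orth p q hpq := by
    rw [bf_smul_left, bf_smul_right, Fr.orth _ _ (fun h => hpq (σ.injective h))]; ring
  cong p q := by
    have h : ∀ p, red2 (s p • Fr.f (σ p)) = red2 (Fr.f (σ p)) := by
      intro p
      rcases hs p with h | h <;> rw [h]
      · rw [one_smul]
      · rw [neg_one_smul, red2_neg]
    rw [h p, h q]; exact Fr.cong _ _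

theorem Frame.twist_phi (Fr : Frame Λ) (σ : Equiv.Perm GolayPt) (s : GolayPt → ℤ)
    (hs : ∀ p, s p = 1 ∨ s p = -1) (x : Fin 24 → ℤ) (p : GolayPt) :
    (Fr.twist σ s hs).phi x p = s p * Fr.phi x (σ p) := by
  rw [Frame.phi_apply, Frame.phi_apply]
  show Λ.bf x (s p • Fr.f (σ p)) = _
  rw [bf_smul_right]

theorem sq_one {a : ℤ} (h : a = 1 ∨ a = -1) : a * a = 1 := by
  rcases h with h | h <;> rw [h] <;> norm_num

theorem Frame.mem_twist_M (Fr : Frame Λ) (σ : Equiv.Perm GolayPt) (s : GolayPt → ℤ)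
    (hs : ∀ p, s p = 1 ∨ s p = -1) (y : GolayPt → ℤ) :
    y ∈ (Fr.twist σ s hs).M ↔ (fun p => s (σ.symm p) * y (σ.symm p)) ∈ Fr.M := by
  rw [Frame.mem_M, Frame.mem_M]
  constructor
  · rintro ⟨x, rfl⟩
    refine ⟨x, ?_⟩
    funext p
    rw [Fr.twist_phi, ← mul_assoc, Equiv.apply_symm_apply, sq_one (hs _), one_mul]
  · rintro ⟨x, hx⟩
    refine ⟨x, ?_⟩
    funext p
    rw [Fr.twist_phi, hx]
    show s p * (s (σ.symm (σ p)) * y (σ.symm (σ p))) = y p
    rw [Equiv.symm_apply_apply, ← mul_assoc, sq_one (hs _), one_mul]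

theorem cast_sign_mul {a : ℤ} (h : a = 1 ∨ a = -1) (b : ℤ) :
    ((a * b : ℤ) : ZMod 2) = ((b : ℤ) : ZMod 2) := by
  rcases h with h | h <;> rw [h]
  · rw [one_mul]
  · rw [neg_one_mul, Int.cast_neg, ZMod.neg_eq_self_mod_two]

theorem Frame.mem_twist_code (Fr : Frame Λ) (σ : Equiv.Perm GolayPt) (s : GolayPt → ℤ)
    (hs : ∀ p, s p = 1 ∨ s p = -1) (c : GolayPt → ZMod 2) :
    c ∈ (Fr.twist σ s hs).code ↔ (fun p => c (σ.symm p)) ∈ Fr.code := by
  rw [Frame.mem_code, Frame.mem_code]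
  constructor
  · rintro ⟨z, hz, rfl⟩
    refine ⟨fun p => s (σ.symm p) * z (σ.symm p), ?_, ?_⟩
    · have := (Fr.mem_twist_M σ s hs _).1 hz
      convert this using 1
      funext p
      simp only [Pi.smul_apply, smul_eq_mul]; ring
    · funext p
      rw [red2_apply, red2_apply]
      exact cast_sign_mul (hs _) _
  · rintro ⟨z0, hz0, hc⟩
    refine ⟨fun p => s p * z0 (σ p), ?_, ?_⟩
    · rw [Fr.mem_twist_M σ s hs]
      convert hz0 using 1
      funext p
      simp only [Pi.smul_apply, smul_eq_mul, Equiv.apply_symm_apply]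
      have := sq_one (hs (σ.symm p))
      linear_combination (2 * z0 p) * this
    · funext p
      rw [red2_apply, cast_sign_mul (hs _)]
      have := congrFun hc (σ p)
      rw [red2_apply] at this
      rw [this, Equiv.symm_apply_apply]

/-! ### identification with the Leech lattice -/

theorem support₂_red2 (z : GolayPt → ℤ) : support₂ (red2 z) = oddSet z := by
  unfold support₂ oddSet
  ext p
  simp only [Finset.mem_filter, Finset.mem_univ, true_and]
  exact red2_ne_zero z p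

section ident

variable (Fr : Frame Λ) (hcode : ∀ w : GolayPt → ZMod 2, w ∈ golayCode ↔ w ∈ Fr.code)
  {v0 : GolayPt → ℤ} (hv0 : v0 ∈ Fr.M) (hv1 : ∀ p, v0 p % 4 = 1)

include hv0 hv1 in
theorem Frame.even_sum {y : GolayPt → ℤ} (hy : y ∈ Fr.M) (h2 : ∀ p, y p % 2 = 0) :
    (∑ p, y p) % 8 = 0 := by
  obtain ⟨k, hk⟩ := Fr.dot_M hy hv0
  have h : ∀ p, ∃ t : ℤ, y p * v0 p = y p + 8 * t := by
    intro p
    obtain ⟨a, ha⟩ : ∃ a, y p = 2 * a := ⟨y p / 2, by have := h2 p; omega⟩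
    obtain ⟨b, hb⟩ : ∃ b, v0 p = 1 + 4 * b := ⟨v0 p / 4, by have := hv1 p; omega⟩
    exact ⟨a * b, by rw [ha, hb]; ring⟩
  choose t ht using h
  unfold dotInt at hk
  rw [Finset.sum_congr rfl (fun p _ => ht p), Finset.sum_add_distrib, ← Finset.mul_sum] at hk
  omega

include hcode in
theorem Frame.oddSet_mem_supports {z : GolayPt → ℤ} (hz : (2 : ℤ) • z ∈ Fr.M) :
    oddSet z ∈ supports (golayCode : Set (GolayPt → ZMod 2)) := by
  refine ⟨red2 z, (hcode _).2 ((Fr.mem_code _).2 ⟨z, hz, rfl⟩), support₂_red2 z⟩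

include hcode hv0 hv1 in
theorem Frame.M_le_leech {y : GolayPt → ℤ} (hy : y ∈ Fr.M) : y ∈ leechLattice := by
  classical
  have hpar := Fr.parity hy
  rcases Int.emod_two_eq_zero_or_one (y none) with h0 | h1
  · have h2 : ∀ p, y p % 2 = 0 := fun p => by rw [hpar p none]; exact h0
    obtain ⟨z, hz⟩ : ∃ z : GolayPt → ℤ, y = (2 : ℤ) • z := by
      refine ⟨fun p => y p / 2, ?_⟩
      funext p
      have := h2 p
      show y p = 2 * (y p / 2)
      omega
    have hzM : (2 : ℤ) • z ∈ Fr.M := hz ▸ hy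
    have hC : ∀ p, p ∈ oddSet z ↔ y p % 4 = 2 := by
      intro p
      rw [mem_oddSet, hz]
      simp only [Pi.smul_apply, smul_eq_mul]
      omega
    exact (even_mem_iff h2 hC).2 ⟨Fr.oddSet_mem_supports hcode hzM, Fr.even_sum hv0 hv1 hy h2⟩
  · have h2 : ∀ p, y p % 2 = 1 := fun p => by rw [hpar p none]; exact h1
    obtain ⟨z, hz⟩ : ∃ z : GolayPt → ℤ, y - v0 = (2 : ℤ) • z := by
      refine ⟨fun p => (y p - v0 p) / 2, ?_⟩
      funext p
      have := h2 p
      have := hv1 p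
      show y p - v0 p = 2 * ((y p - v0 p) / 2)
      omega
    have hzM : (2 : ℤ) • z ∈ Fr.M := hz ▸ Fr.M.sub_mem hy hv0
    have hC : ∀ p, p ∈ (oddSet z)ᶜ ↔ y p % 4 = 1 := by
      intro p
      rw [Finset.mem_compl, mem_oddSet]
      have := congrFun hz p
      simp only [Pi.sub_apply, Pi.smul_apply, smul_eq_mul] at this
      have := h2 p
      have := hv1 p
      omega
    have hCs := compl_mem_supports (Fr.oddSet_mem_supports hcode hzM)
    have h16 : sqNorm y % 16 = 0 := by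
      obtain ⟨k, hk⟩ := (Fr.norm_M hy).1
      omega
    exact (odd_mem_iff h2 hC).2 ⟨hCs, odd_sum_auto h2 hC (supports_card_dvd hCs) h16⟩

include hcode hv0 hv1 in
theorem Frame.even_leech_le {x : GolayPt → ℤ} (hx : x ∈ leechLattice) (h2 : ∀ p, x p % 2 = 0) :
    x ∈ Fr.M := by
  classical
  have hC : ∀ p, p ∈ Finset.univ.filter (fun p => x p % 4 = 2) ↔ x p % 4 = 2 := by
    intro p; simp
  obtain ⟨hCs, hsum⟩ := (even_mem_iff h2 hC).1 hx
  obtain ⟨w, hw, hwC⟩ := hCs
  obtain ⟨z, hzM, hzw⟩ := (Fr.mem_code w).1 ((hcode w).1 hw)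
  have hzC : ∀ p, z p % 2 = 1 ↔ x p % 4 = 2 := by
    intro p
    rw [← mem_oddSet, ← support₂_red2, hzw, hwC, hC]
  obtain ⟨t, ht⟩ : ∃ t : GolayPt → ℤ, x - (2 : ℤ) • z = (4 : ℤ) • t := by
    refine ⟨fun p => (x p - 2 * z p) / 4, ?_⟩
    funext p
    have := h2 p
    have := hzC p
    show x p - 2 * z p = 4 * ((x p - 2 * z p) / 4)
    omega
  have hs2 : (∑ p, ((2 : ℤ) • z) p) % 8 = 0 := Fr.even_sum hv0 hv1 hzM (fun p => by
    simp only [Pi.smul_apply, smul_eq_mul]; omega)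
  have hst : (2 : ℤ) ∣ ∑ p, t p := by
    have h1 : ∑ p, (x - (2 : ℤ) • z) p = ∑ p, ((4 : ℤ) • t) p := by rw [ht]
    simp only [Pi.sub_apply] at h1
    rw [Finset.sum_sub_distrib] at h1
    have h3 : ∑ p, ((4 : ℤ) • t) p = 4 * ∑ p, t p := by
      rw [Finset.mul_sum]
      apply Finset.sum_congr rfl
      intro p _
      simp only [Pi.smul_apply, smul_eq_mul]
    rw [h3] at h1
    omega
  have := Fr.M.add_mem hzM (Fr.four_mem t hst)
  rw [← ht] at this
  convert this using 1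
  abel

include hcode hv0 hv1 in
theorem Frame.eq_leech : Fr.M = leechLattice := by
  apply le_antisymm
  · intro y hy; exact Fr.M_le_leech hcode hv0 hv1 hy
  · intro x hx
    rcases parity_cases hx with h2 | h2
    · exact Fr.even_leech_le hcode hv0 hv1 hx h2
    · have hv0L := Fr.M_le_leech hcode hv0 hv1 hv0
      have h1 : x - v0 ∈ leechLattice := leechLattice.sub_mem hx hv0L
      have h3 : ∀ p, (x - v0) p % 2 = 0 := by
        intro p
        have := h2 p
        have := hv1 p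
        simp only [Pi.sub_apply]
        omega
      have := Fr.M.add_mem (Fr.even_leech_le hcode hv0 hv1 h1 h3) hv0
      convert this using 1
      abel

end ident

/-! ### the final assembly -/

theorem hammingNorm_comp {α β : Type*} [Fintype α] [Fintype β] (ε : α ≃ β) (c : β → ZMod 2) :
    hammingNorm (fun i => c (ε i)) = hammingNorm c := by
  classical
  unfold hammingNorm
  apply Finset.card_bij (fun i _ => ε i)
  · intro i hi
    simp only [Finset.mem_filter, Finset.mem_univ, true_and] at hi ⊢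
    exact hi
  · intro i _ j _ h; exact ε.injective h
  · intro p hp
    refine ⟨ε.symm p, ?_, ε.apply_symm_apply p⟩
    simp only [Finset.mem_filter, Finset.mem_univ, true_and] at hp ⊢
    rw [ε.apply_symm_apply]; exact hp

/-- a frame whose code is the Golay code -/
theorem exists_golay_frame (Fr : Frame Λ)
    (h4 : {x : Fin 24 → ℤ | Λ.N x = 4}.ncard = 196560) :
    ∃ Fr1 : Frame Λ, ∀ w : GolayPt → ZMod 2, w ∈ golayCode ↔ w ∈ Fr1.code := by
  classical
  obtain ⟨-, hdim⟩ := Fr.count h4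
  have hc24 : Fintype.card (Fin 24) = Fintype.card GolayPt := by
    rw [Fintype.card_fin, card_golayPt]
  let ε : Fin 24 ≃ GolayPt := Fintype.equivOfCardEq hc24
  let E : (GolayPt → ZMod 2) ≃ₗ[ZMod 2] (Fin 24 → ZMod 2) :=
    LinearEquiv.funCongrLeft (ZMod 2) (ZMod 2) ε
  have hE : ∀ (c : GolayPt → ZMod 2) (i : Fin 24), E c i = c (ε i) := fun c i => rfl
  let C' : Submodule (ZMod 2) (Fin 24 → ZMod 2) :=
    Fr.code.map (E : (GolayPt → ZMod 2) →ₗ[ZMod 2] (Fin 24 → ZMod 2))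
  have hmem : ∀ c' : Fin 24 → ZMod 2, c' ∈ C' ↔ ∃ c ∈ Fr.code, (fun i => c (ε i)) = c' := by
    intro c'
    constructor
    · intro h
      obtain ⟨c, hc, hcc⟩ := Submodule.mem_map.1 h
      exact ⟨c, hc, hcc⟩
    · rintro ⟨c, hc, hcc⟩
      exact Submodule.mem_map.2 ⟨c, hc, hcc⟩
  have hdim' : Module.finrank (ZMod 2) C' = 12 := by
    rw [← hdim]
    exact (E.submoduleMap Fr.code).finrank_eq.symm
  have hw : ∀ c ∈ Fr.code, 4 ∣ hammingNorm c ∧ hammingNorm c ≠ 4 := by
    intro c hc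
    obtain ⟨z, hz, rfl⟩ := (Fr.mem_code c).1 hc
    rw [hammingNorm_red2]
    refine ⟨Fr.weight_dvd hz, ?_⟩
    by_cases hne : (oddSet z).Nonempty
    · have := Fr.weight_ge hz hne; omega
    · rw [Finset.not_nonempty_iff_eq_empty] at hne
      rw [hne]; simp
  obtain ⟨e, he⟩ := Cfsg.Agent.S0375.result C' hdim'
    (by
      intro v hv w hw'
      obtain ⟨c, hc, rfl⟩ := (hmem v).1 hv
      obtain ⟨c', hc', rfl⟩ := (hmem w).1 hw'
      rw [Equiv.sum_comp ε (fun p => c p * c' p)]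
      exact Fr.code_orth hc hc')
    (by
      intro w hw'
      obtain ⟨c, hc, rfl⟩ := (hmem w).1 hw'
      rw [hammingNorm_comp]
      exact (hw c hc).1)
    (by
      intro w hw'
      obtain ⟨c, hc, rfl⟩ := (hmem w).1 hw'
      rw [hammingNorm_comp]
      exact (hw c hc).2)
  let τ : Equiv.Perm GolayPt := ε.symm.trans e
  have hτ : ∀ p, τ p = e (ε.symm p) := fun p => rfl
  have he' : ∀ w : GolayPt → ZMod 2, w ∈ golayCode ↔ (fun p => w (τ p)) ∈ Fr.code := by
    intro w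
    rw [he w, hmem]
    constructor
    · rintro ⟨c, hc, hcc⟩
      have : c = fun p => w (τ p) := by
        funext p
        have := congrFun hcc (ε.symm p)
        simp only [Equiv.apply_symm_apply] at this
        rw [this, hτ]
      rw [← this]; exact hc
    · intro h
      refine ⟨_, h, ?_⟩
      funext i
      show w (τ (ε i)) = w (e i)
      rw [hτ, Equiv.symm_apply_apply]
  refine ⟨Fr.twist τ.symm (fun _ => 1) (fun _ => Or.inl rfl), fun w => ?_⟩
  rw [Fr.mem_twist_code, he' w]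
  rfl

/-- the main theorem in terms of `Lat` -/
theorem leech_of_lat (Λ : Lat) (h4 : {x : Fin 24 → ℤ | Λ.N x = 4}.ncard = 196560)
    (h6 : {x : Fin 24 → ℤ | Λ.N x = 6}.ncard = 16773120)
    (h8 : {x : Fin 24 → ℤ | Λ.N x = 8}.ncard = 398034000) :
    ∃ f : (Fin 24 → ℤ) ≃+ leechLattice, ∀ x : Fin 24 → ℤ,
      sqNorm ((f x : leechLattice) : GolayPt → ℤ) = 8 * Λ.N x := by
  classical
  obtain ⟨Fr⟩ := exists_frame Λ h4 h6 h8
  obtain ⟨Fr1, hFr1⟩ := exists_golay_frame Fr h4
  obtain ⟨⟨y0, hy0, hodd⟩, -⟩ := Fr1.count h4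
  let s : GolayPt → ℤ := fun p => if y0 p % 4 = 1 then 1 else -1
  have hs : ∀ p, s p = 1 ∨ s p = -1 := by
    intro p
    show (if y0 p % 4 = 1 then (1 : ℤ) else -1) = 1 ∨ (if y0 p % 4 = 1 then (1 : ℤ) else -1) = -1
    by_cases h : y0 p % 4 = 1
    · rw [if_pos h]; exact Or.inl rfl
    · rw [if_neg h]; exact Or.inr rfl
  let Fr2 : Frame Λ := Fr1.twist 1 s hs
  have hFr2 : ∀ w : GolayPt → ZMod 2, w ∈ golayCode ↔ w ∈ Fr2.code := by
    intro w
    rw [hFr1 w]
    exact ((Fr1.mem_twist_code 1 s hs w)).symm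
  have hv0 : (fun p => s p * y0 p) ∈ Fr2.M := by
    rw [Fr1.mem_twist_M 1 s hs]
    convert hy0 using 1
    funext p
    show s p * (s p * y0 p) = y0 p
    rw [← mul_assoc, sq_one (hs p), one_mul]
  have hv1 : ∀ p, (fun p => s p * y0 p) p % 4 = 1 := by
    intro p
    show (if y0 p % 4 = 1 then (1 : ℤ) else -1) * y0 p % 4 = 1
    have := hodd p
    by_cases h : y0 p % 4 = 1
    · rw [if_pos h, one_mul]; exact h
    · rw [if_neg h]; omega
  have heq := Fr2.eq_leech hFr2 hv0 hv1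
  have hmemL : ∀ x, Fr2.phi x ∈ leechLattice := fun x => heq ▸ (Fr2.mem_M _).2 ⟨x, rfl⟩
  refine ⟨AddEquiv.ofBijective (Fr2.phi.codRestrict leechLattice hmemL) ⟨?_, ?_⟩, ?_⟩
  · intro x y h
    apply Fr2.phi_injective
    exact congrArg Subtype.val h
  · rintro ⟨y, hy⟩
    rw [← heq] at hy
    obtain ⟨x, hx⟩ := (Fr2.mem_M y).1 hy
    exact ⟨x, Subtype.ext hx⟩
  · intro x
    exact Fr2.phi_norm x

end Cfsg.Agent.Lib.Helper3.Lx
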