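import Mathlib

set_option autoImplicit false
open scoped Pointwise

namespace Cfsg.Agent.Lib.Helper3.Marg

universe u v
variable {G : Type u} {Ω : Type v} [Group G] [MulAction G Ω]

/-- `Δ` is a Jordan set: the pointwise stabilizer of the complement is transitive on `Δ`. -/
def JSet (G : Type u) {Ω : Type v} [Group G] [MulAction G Ω] (Δ : Set Ω) : Prop :=
  ∀ x ∈ Δ, ∀ y ∈ Δ, ∃ g : G, (∀ z, z ∉ Δ → g • z = z) ∧ g • x = y

def Tr2 (G : Type u) (Ω : Type v) [Group G] [MulAction G Ω] : Prop :=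
  ∀ a b c d : Ω, a ≠ b → c ≠ d → ∃ g : G, g • a = c ∧ g • b = d

def Tr3 (G : Type u) (Ω : Type v) [Group G] [MulAction G Ω] : Prop :=
  ∀ a b c d : Ω, a ≠ b → c ≠ a → c ≠ b → d ≠ a → d ≠ b →
    ∃ g : G, g • a = a ∧ g • b = b ∧ g • c = d

theorem fix_mem {Δ : Set Ω} {g : G} (hg : ∀ z, z ∉ Δ → g • z = z) {x : Ω} (hx : x ∈ Δ) :
    g • x ∈ Δ := by
  by_contra h
  have h1 : g • (g • x) = g • x := hg _ h
  have h2 : g • x = x := smul_left_cancel g h1
  rw [h2] at h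
  exact h hx

theorem fix_inv {Δ : Set Ω} {g : G} (hg : ∀ z, z ∉ Δ → g • z = z) :
    ∀ z, z ∉ Δ → g⁻¹ • z = z := by
  intro z hz
  rw [inv_smul_eq_iff, hg z hz]

theorem fix_mul {Δ : Set Ω} {g k : G} (hg : ∀ z, z ∉ Δ → g • z = z)
    (hk : ∀ z, z ∉ Δ → k • z = z) : ∀ z, z ∉ Δ → (g * k) • z = z := by
  intro z hz
  rw [mul_smul, hk z hz, hg z hz]

theorem fix_mono {Δ Δ' : Set Ω} (h : Δ ⊆ Δ') {g : G} (hg : ∀ z, z ∉ Δ → g • z = z) :
    ∀ z, z ∉ Δ' → g • z = z := fun z hz => hg z (fun h' => hz (h h'))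

theorem fix_smul_eq {Δ : Set Ω} {g : G} (hg : ∀ z, z ∉ Δ → g • z = z) : g • Δ = Δ := by
  apply Set.Subset.antisymm
  · rintro _ ⟨x, hx, rfl⟩
    exact fix_mem hg hx
  · intro x hx
    rw [Set.mem_smul_set_iff_inv_smul_mem]
    exact fix_mem (fix_inv hg) hx

theorem JSet.smul {Δ : Set Ω} (h : JSet G Δ) (k : G) : JSet G (k • Δ) := by
  intro x hx y hy
  rw [Set.mem_smul_set_iff_inv_smul_mem] at hx hy
  obtain ⟨g, hg, hgx⟩ := h _ hx _ hy
  refine ⟨k * g * k⁻¹, ?_, ?_⟩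
  · intro z hz
    have hz' : k⁻¹ • z ∉ Δ := by
      intro h'
      apply hz
      rw [Set.mem_smul_set_iff_inv_smul_mem]
      exact h'
    rw [mul_smul, mul_smul, hg _ hz', smul_inv_smul]
  · rw [mul_smul, mul_smul, hgx, smul_inv_smul]

theorem JSet.union {Δ₁ Δ₂ : Set Ω} (h₁ : JSet G Δ₁) (h₂ : JSet G Δ₂)
    (hne : (Δ₁ ∩ Δ₂).Nonempty) : JSet G (Δ₁ ∪ Δ₂) := by
  obtain ⟨w, hw1, hw2⟩ := hne
  have toW : ∀ x ∈ Δ₁ ∪ Δ₂, ∃ g : G, (∀ z, z ∉ Δ₁ ∪ Δ₂ → g • z = z) ∧ g • x = w := by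
    intro x hx
    rcases hx with hx | hx
    · obtain ⟨g, hg, hgx⟩ := h₁ x hx w hw1
      exact ⟨g, fix_mono Set.subset_union_left hg, hgx⟩
    · obtain ⟨g, hg, hgx⟩ := h₂ x hx w hw2
      exact ⟨g, fix_mono Set.subset_union_right hg, hgx⟩
  intro x hx y hy
  obtain ⟨g, hg, hgx⟩ := toW x hx
  obtain ⟨k, hk, hky⟩ := toW y hy
  refine ⟨k⁻¹ * g, fix_mul (fix_inv hk) hg, ?_⟩
  rw [mul_smul, hgx, inv_smul_eq_iff, hky]

/-- Data of a block `B` of the stabilizer of `ω`, in elementwise form. -/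
structure BlkData (G : Type u) {Ω : Type v} [Group G] [MulAction G Ω] (ω : Ω) (B : Set Ω) :
    Prop where
  notmem : ω ∉ B
  blk : ∀ g : G, g • ω = ω → ∀ x, x ∈ B → g • x ∈ B → ∀ y, y ∈ B → g • y ∈ B

/-- `x` and `y` lie in the same translated block at the point `z`. -/
def R (G : Type u) {Ω : Type v} [Group G] [MulAction G Ω] (ω : Ω) (B : Set Ω) (z x y : Ω) :
    Prop :=
  ∃ g : G, g • ω = z ∧ g⁻¹ • x ∈ B ∧ g⁻¹ • y ∈ B

section rel
variable {ω : Ω} {B : Set Ω}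

theorem R.ne_left (hd : BlkData G ω B) {z x y : Ω} (h : R G ω B z x y) : x ≠ z := by
  obtain ⟨g, hg, hx, _⟩ := h
  intro hxz
  apply hd.notmem
  rw [hxz, ← hg, inv_smul_smul] at hx
  exact hx

theorem R.symm {z x y : Ω} (h : R G ω B z x y) : R G ω B z y x := by
  obtain ⟨g, hg, hx, hy⟩ := h
  exact ⟨g, hg, hy, hx⟩

theorem R.ne_right (hd : BlkData G ω B) {z x y : Ω} (h : R G ω B z x y) : y ≠ z :=
  h.symm.ne_left hd

/-- If `R z x y` and `g` is any element with `g ω = z` and `g⁻¹ x ∈ B`, then `g⁻¹ y ∈ B`. -/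
theorem R.mem (hd : BlkData G ω B) {z x y : Ω} (h : R G ω B z x y) {g : G} (hg : g • ω = z)
    (hx : g⁻¹ • x ∈ B) : g⁻¹ • y ∈ B := by
  obtain ⟨g', hg', hx', hy'⟩ := h
  have hk : (g⁻¹ * g') • ω = ω := by
    rw [mul_smul, hg', ← hg, inv_smul_smul]
  have h1 : (g⁻¹ * g') • (g'⁻¹ • x) ∈ B := by
    rw [mul_smul, smul_inv_smul]; exact hx
  have h2 := hd.blk _ hk _ hx' h1 _ hy'
  rw [mul_smul, smul_inv_smul] at h2
  exact h2

theorem R.trans (hd : BlkData G ω B) {z x y w : Ω} (h1 : R G ω B z x y) (h2 : R G ω B z y w) :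
    R G ω B z x w := by
  obtain ⟨g, hg, hx, hy⟩ := h1
  exact ⟨g, hg, hx, h2.mem hd hg hy⟩

theorem R.smul {z x y : Ω} (h : R G ω B z x y) (k : G) : R G ω B (k • z) (k • x) (k • y) := by
  obtain ⟨g, hg, hx, hy⟩ := h
  refine ⟨k * g, by rw [mul_smul, hg], ?_, ?_⟩
  · rw [mul_inv_rev, mul_smul, inv_smul_smul]; exact hx
  · rw [mul_inv_rev, mul_smul, inv_smul_smul]; exact hy

theorem R.refl (h2 : Tr2 G Ω) (hne : B.Nonempty) (hd : BlkData G ω B) {z x : Ω} (hxz : x ≠ z) :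
    R G ω B z x x := by
  obtain ⟨b, hb⟩ := hne
  have hbω : ω ≠ b := fun h => hd.notmem (h ▸ hb)
  obtain ⟨g, hg1, hg2⟩ := h2 ω b z x hbω (Ne.symm hxz)
  refine ⟨g, hg1, ?_, ?_⟩ <;>
  · rw [← hg2, inv_smul_smul]; exact hb

/-- The class of `x` at `z`. -/
def cls (G : Type u) {Ω : Type v} [Group G] [MulAction G Ω] (ω : Ω) (B : Set Ω) (z x : Ω) :
    Set Ω := {y | R G ω B z x y}

theorem cls_eq (hd : BlkData G ω B) {z x : Ω} {g : G} (hg : g • ω = z) (hx : g⁻¹ • x ∈ B) :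
    cls G ω B z x = g • B := by
  ext y
  constructor
  · intro hy
    rw [Set.mem_smul_set_iff_inv_smul_mem]
    exact R.mem hd hy hg hx
  · intro hy
    rw [Set.mem_smul_set_iff_inv_smul_mem] at hy
    exact ⟨g, hg, hx, hy⟩

theorem cls_ncard (h2 : Tr2 G Ω) (hne : B.Nonempty) (hd : BlkData G ω B) {z x : Ω} (hxz : x ≠ z) :
    (cls G ω B z x).ncard = B.ncard := by
  obtain ⟨g, hg, hx, _⟩ := R.refl h2 hne hd hxz
  rw [cls_eq hd hg hx, Set.ncard_smul_set]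

theorem cls_subset_compl (hd : BlkData G ω B) (z x : Ω) : cls G ω B z x ⊆ {z}ᶜ := by
  intro y hy
  exact R.ne_right hd hy

/-- Dichotomy between Jordan sets and classes. -/
theorem dich (hd : BlkData G ω B) {Λ : Set Ω} (hJ : JSet G Λ) {z l : Ω} (hz : z ∉ Λ)
    (hl : l ∈ Λ) : Λ ⊆ cls G ω B z l ∨ cls G ω B z l ⊆ Λ := by
  by_cases h : cls G ω B z l ⊆ Λ
  · exact Or.inr h
  · left
    obtain ⟨c, hc, hcΛ⟩ := Set.not_subset.mp h
    intro l' hl'
    obtain ⟨k, hk, hkl⟩ := hJ l hl l' hl'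
    have h1 : R G ω B (k • z) (k • l) (k • c) := R.smul hc k
    rw [hk z hz, hkl, hk c hcΛ] at h1
    exact R.trans hd hc h1.symm

/-- There are at least two classes: `2 r + 1 ≤ n`. -/
theorem two_r_lt [Finite Ω] (h2 : Tr2 G Ω) (hne : B.Nonempty) (hd : BlkData G ω B)
    (hc : ∃ c, c ≠ ω ∧ c ∉ B) : 2 * B.ncard + 1 ≤ Nat.card Ω := by
  obtain ⟨c, hcω, hcB⟩ := hc
  obtain ⟨b, hb⟩ := hne
  have hbω : ω ≠ b := fun h => hd.notmem (h ▸ hb)
  obtain ⟨g, hg1, hg2⟩ := h2 ω b ω c hbω (Ne.symm hcω)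
  have hdisj : Disjoint B (g • B) := by
    rw [Set.disjoint_left]
    intro y hy hy'
    rw [Set.mem_smul_set_iff_inv_smul_mem] at hy'
    -- g⁻¹ y ∈ B and g (g⁻¹ y) = y ∈ B, so g b ∈ B
    have h3 : g • (g⁻¹ • y) ∈ B := by rw [smul_inv_smul]; exact hy
    have := hd.blk g hg1 _ hy' h3 b hb
    rw [hg2] at this
    exact hcB this
  have hω : ω ∉ B ∪ g • B := by
    rintro (h | h)
    · exact hd.notmem h
    · rw [Set.mem_smul_set_iff_inv_smul_mem] at h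
      have : g⁻¹ • ω = ω := by rw [inv_smul_eq_iff, hg1]
      rw [this] at h
      exact hd.notmem h
  have h4 : (insert ω (B ∪ g • B)).ncard = 2 * B.ncard + 1 := by
    rw [Set.ncard_insert_of_notMem hω (Set.toFinite _),
      Set.ncard_union_eq hdisj (Set.toFinite _) (Set.toFinite _), Set.ncard_smul_set]
    ring
  rw [← h4, ← Set.ncard_univ]
  exact Set.ncard_le_ncard (Set.subset_univ _) (Set.toFinite _)

/-- No Jordan set has size between `2` and `|B|`. -/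
theorem no_small [Finite Ω] (h2 : Tr2 G Ω) (hd : BlkData G ω B) (hB2 : 2 ≤ B.ncard)
    (hc : ∃ c, c ≠ ω ∧ c ∉ B) :
    ∀ k : ℕ, ∀ Λ : Set Ω, JSet G Λ → 2 ≤ Λ.ncard → Λ.ncard ≤ B.ncard →
      B.ncard - Λ.ncard = k → False := by
  have hne : B.Nonempty := by
    rw [← Set.ncard_pos (Set.toFinite B)]; omega
  have hn := two_r_lt h2 hne hd hc
  intro k
  induction k using Nat.strong_induction_on with
  | _ k ih =>
    intro Λ hJ h2Λ hΛr hk
    obtain ⟨a, b, ha, hb, hab⟩ := (Set.one_lt_ncard_iff (Set.toFinite Λ)).mp (by omega)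
    -- a point outside Λ
    have hout : ∃ c, c ∉ Λ := by
      by_contra hall
      push_neg at hall
      have : Λ = Set.univ := Set.eq_univ_of_forall hall
      rw [this, Set.ncard_univ] at hΛr
      omega
    obtain ⟨c, hcΛ⟩ := hout
    have hac : a ≠ c := fun h => hcΛ (h ▸ ha)
    obtain ⟨g, hga, hgb⟩ := h2 a b a c hab hac
    have ha' : a ∈ g • Λ := by
      rw [← hga]; exact Set.smul_mem_smul_set ha
    have hc' : c ∈ g • Λ := by
      rw [← hgb]; exact Set.smul_mem_smul_set hb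
    have hJ' : JSet G (Λ ∪ g • Λ) := hJ.union (hJ.smul g) ⟨a, ha, ha'⟩
    have hlt : Λ.ncard < (Λ ∪ g • Λ).ncard := by
      apply Set.ncard_lt_ncard _ (Set.toFinite _)
      refine ⟨Set.subset_union_left, fun h => hcΛ (h (Or.inr hc'))⟩
    have hle : (Λ ∪ g • Λ).ncard + 1 ≤ 2 * Λ.ncard := by
      have h3 := Set.ncard_union_add_ncard_inter Λ (g • Λ) (Set.toFinite _) (Set.toFinite _)
      rw [Set.ncard_smul_set] at h3
      have h4 : 0 < (Λ ∩ g • Λ).ncard := by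
        rw [Set.ncard_pos (Set.toFinite _)]; exact ⟨a, ha, ha'⟩
      omega
    -- a point outside the union
    have hout' : ∃ z, z ∉ Λ ∪ g • Λ := by
      by_contra hall
      push_neg at hall
      have : Λ ∪ g • Λ = Set.univ := Set.eq_univ_of_forall hall
      rw [this, Set.ncard_univ] at hle
      omega
    obtain ⟨z, hz⟩ := hout'
    have hzΛ : z ∉ Λ := fun h => hz (Or.inl h)
    have hzΛ' : z ∉ g • Λ := fun h => hz (Or.inr h)
    have haz : a ≠ z := fun h => hzΛ (h ▸ ha)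
    have hcls := cls_ncard h2 hne hd haz
    have sub1 : Λ ⊆ cls G ω B z a := by
      rcases dich hd hJ hzΛ ha with h | h
      · exact h
      · have := Set.eq_of_subset_of_ncard_le h (by rw [hcls]; exact hΛr) (Set.toFinite _)
        rw [this]
    have sub2 : g • Λ ⊆ cls G ω B z a := by
      rcases dich hd (hJ.smul g) hzΛ' ha' with h | h
      · exact h
      · have := Set.eq_of_subset_of_ncard_le h
          (by rw [hcls, Set.ncard_smul_set]; exact hΛr) (Set.toFinite _)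
        rw [this]
    have hle2 : (Λ ∪ g • Λ).ncard ≤ B.ncard := by
      rw [← hcls]
      exact Set.ncard_le_ncard (Set.union_subset sub1 sub2) (Set.toFinite _)
    exact ih (B.ncard - (Λ ∪ g • Λ).ncard) (by omega) _ hJ' (by omega) hle2 rfl

end rel

end Cfsg.Agent.Lib.Helper3.Marg
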