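import Cfsg.Agent.Lib.Helper3.MargA

set_option autoImplicit false
open scoped Pointwise

namespace Cfsg.Agent.Lib.Helper3.Marg

universe u v
variable {G : Type u} {Ω : Type v} [Group G] [MulAction G Ω]
variable {ω : Ω} {B : Set Ω}

/-- A Jordan set with less than half the points is smaller than the block. -/
theorem big_compl [Finite Ω] (h2 : Tr2 G Ω) (hd : BlkData G ω B) (hB2 : 2 ≤ B.ncard)
    {Δ₀ : Set Ω} (hJ : JSet G Δ₀) (hne0 : Δ₀.Nonempty) (hsmall : 2 * Δ₀.ncard < Nat.card Ω) :
    Δ₀.ncard < B.ncard := by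
  classical
  have hne : B.Nonempty := by
    rw [← Set.ncard_pos (Set.toFinite B)]; omega
  obtain ⟨δ, hδ⟩ := hne0
  have hcompl := Set.ncard_add_ncard_compl Δ₀ (Set.toFinite _) (Set.toFinite _)
  -- pigeonhole
  have pig : ∃ x y, x ∉ Δ₀ ∧ y ∉ Δ₀ ∧ x ≠ y ∧ R G ω B δ x y := by
    by_contra hno
    push_neg at hno
    have hp : ∀ x : Ω, ∃ p : Ω, x ∉ Δ₀ → (R G ω B δ x p ∧ p ≠ x) := by
      intro x
      by_cases hx : x ∉ Δ₀
      · have hxδ : x ≠ δ := fun h => hx (h ▸ hδ)
        have h1 : 1 < (cls G ω B δ x).ncard := by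
          rw [cls_ncard h2 hne hd hxδ]; omega
        obtain ⟨p, hp1, hp2⟩ := Set.exists_ne_of_one_lt_ncard h1 x
        exact ⟨p, fun _ => ⟨hp1, hp2⟩⟩
      · exact ⟨x, fun h => absurd h hx⟩
    choose p hp using hp
    have hmaps : ∀ a ∈ Δ₀ᶜ, p a ∈ Δ₀ \ {δ} := by
      intro a ha
      obtain ⟨h1, h3⟩ := hp a ha
      refine ⟨?_, ?_⟩
      · by_contra h4
        exact hno a (p a) ha h4 (Ne.symm h3) h1
      · intro h4
        exact R.ne_right hd h1 h4
    have hinj : Set.InjOn p Δ₀ᶜ := by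
      intro a ha b hb hab
      by_contra hne'
      obtain ⟨h1, _⟩ := hp a ha
      obtain ⟨h1', _⟩ := hp b hb
      rw [← hab] at h1'
      exact hno a b ha hb hne' (R.trans hd h1 h1'.symm)
    have h5 := Set.ncard_le_ncard_of_injOn p hmaps hinj (Set.toFinite _)
    have h6 : (Δ₀ \ {δ}).ncard = Δ₀.ncard - 1 := Set.ncard_diff_singleton_of_mem hδ
    have h7 : 0 < Δ₀.ncard := by
      rw [Set.ncard_pos (Set.toFinite _)]; exact ⟨δ, hδ⟩
    omega
  obtain ⟨x, y, hx, hy, hxy, hR⟩ := pig
  -- spread over Δ₀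
  have spread : ∀ δ' ∈ Δ₀, R G ω B δ' x y := by
    intro δ' hδ'
    obtain ⟨k, hk, hkδ⟩ := hJ δ hδ δ' hδ'
    have := R.smul hR k
    rw [hkδ, hk x hx, hk y hy] at this
    exact this
  haveI : Fintype Ω := Fintype.ofFinite Ω
  have hcardΩ : Nat.card Ω = Fintype.card Ω := Nat.card_eq_fintype_card
  -- lower bounds
  have lower : ∀ y' ∈ (Finset.univ : Finset Ω).erase x,
      Δ₀.ncard ≤ ((Finset.univ : Finset Ω).filter (fun z => R G ω B z x y')).card := by
    intro y' hy'
    have hxy' : x ≠ y' := Ne.symm (Finset.ne_of_mem_erase hy')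
    obtain ⟨g, hgx, hgy⟩ := h2 x y x y' hxy hxy'
    have hsub : g • Δ₀ ⊆ (((Finset.univ : Finset Ω).filter (fun z => R G ω B z x y') :
        Finset Ω) : Set Ω) := by
      rintro _ ⟨d, hd', rfl⟩
      have := R.smul (spread d hd') g
      rw [hgx, hgy] at this
      simpa using this
    have := Set.ncard_le_ncard hsub (Finset.finite_toSet _)
    rw [Set.ncard_smul_set, Set.ncard_coe_finset] at this
    exact this
  -- upper bounds
  have upper : ∀ z ∈ (Finset.univ : Finset Ω).erase x,
      (((Finset.univ : Finset Ω).erase x).filter (fun y' => R G ω B z x y')).card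
        ≤ B.ncard - 1 := by
    intro z hz
    have hxz : x ≠ z := Ne.symm (Finset.ne_of_mem_erase hz)
    have hsub : ((((Finset.univ : Finset Ω).erase x).filter (fun y' => R G ω B z x y') :
        Finset Ω) : Set Ω) ⊆ cls G ω B z x \ {x} := by
      intro y' hy'
      simp only [Finset.coe_filter, Finset.mem_erase, Finset.mem_univ, and_true,
        Set.mem_setOf_eq] at hy'
      exact ⟨hy'.2, hy'.1⟩
    have := Set.ncard_le_ncard hsub (Set.toFinite _)
    rw [Set.ncard_coe_finset, Set.ncard_diff_singleton_of_mem (show x ∈ cls G ω B z x from R.refl h2 hne hd hxz),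
      cls_ncard h2 hne hd hxz] at this
    exact this
  have zero : (((Finset.univ : Finset Ω).erase x).filter (fun y' => R G ω B x x y')).card = 0 := by
    rw [Finset.card_eq_zero, Finset.filter_eq_empty_iff]
    intro y' _ hR'
    exact R.ne_left hd hR' rfl
  have hcard_erase : ((Finset.univ : Finset Ω).erase x).card = Nat.card Ω - 1 := by
    rw [Finset.card_erase_of_mem (Finset.mem_univ x), Finset.card_univ, hcardΩ]
  have h1 : ((Finset.univ : Finset Ω).erase x).card • Δ₀.ncard ≤
      ∑ y' ∈ (Finset.univ : Finset Ω).erase x,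
        ((Finset.univ : Finset Ω).filter (fun z => R G ω B z x y')).card :=
    Finset.card_nsmul_le_sum _ _ _ lower
  have h2' : ∑ y' ∈ (Finset.univ : Finset Ω).erase x,
        ((Finset.univ : Finset Ω).filter (fun z => R G ω B z x y')).card
      = ∑ z : Ω, (((Finset.univ : Finset Ω).erase x).filter (fun y' => R G ω B z x y')).card := by
    simp only [Finset.card_filter]
    exact Finset.sum_comm
  have h3 : ∑ z : Ω, (((Finset.univ : Finset Ω).erase x).filter (fun y' => R G ω B z x y')).card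
      = ∑ z ∈ (Finset.univ : Finset Ω).erase x,
        (((Finset.univ : Finset Ω).erase x).filter (fun y' => R G ω B z x y')).card :=
    (Finset.sum_erase (Finset.univ : Finset Ω)
      (f := fun z => (((Finset.univ : Finset Ω).erase x).filter
        (fun y' => R G ω B z x y')).card) (a := x) zero).symm
  have h4 : ∑ z ∈ (Finset.univ : Finset Ω).erase x,
        (((Finset.univ : Finset Ω).erase x).filter (fun y' => R G ω B z x y')).card
      ≤ ((Finset.univ : Finset Ω).erase x).card • (B.ncard - 1) :=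
    Finset.sum_le_card_nsmul _ _ _ upper
  rw [h2', h3] at h1
  have h5 := le_trans h1 h4
  rw [hcard_erase, smul_eq_mul, smul_eq_mul] at h5
  have hpos : 0 < Nat.card Ω - 1 := by
    have : 0 < Δ₀.ncard := by
      rw [Set.ncard_pos (Set.toFinite _)]; exact ⟨δ, hδ⟩
    omega
  have h6 := Nat.le_of_mul_le_mul_left h5 hpos
  omega

/-- (A): a 2-transitive group with a Jordan set of less than half the points has primitive
point stabilizers (no nontrivial block). -/
theorem stab_no_block [Finite Ω] (h2 : Tr2 G Ω) {Δ₀ : Set Ω} (hJ : JSet G Δ₀)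
    (h2Δ : 2 ≤ Δ₀.ncard) (hsmall : 2 * Δ₀.ncard < Nat.card Ω) (hd : BlkData G ω B)
    (hB2 : 2 ≤ B.ncard) (hc : ∃ c, c ≠ ω ∧ c ∉ B) : False := by
  have hne0 : Δ₀.Nonempty := by
    rw [← Set.ncard_pos (Set.toFinite _)]; omega
  have h3 := big_compl h2 hd hB2 hJ hne0 hsmall
  exact no_small h2 hd hB2 hc _ Δ₀ hJ h2Δ (le_of_lt h3) rfl

end Cfsg.Agent.Lib.Helper3.Marg
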