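import Cfsg.Agent.Lib.Helper3.MargB

set_option autoImplicit false
open scoped Pointwise
open MulAction SubMulAction

namespace Cfsg.Agent.Lib.Helper3.Marg

universe u v
variable {G : Type u} {Ω : Type v} [Group G] [MulAction G Ω]

/-- Jordan: a primitive group with a Jordan set is 2-transitive (interface to Mathlib). -/
theorem tr2_of_prim [Finite Ω] (hprim : IsPreprimitive G Ω) {Δ : Set Ω} (hJ : JSet G Δ)
    (h2Δ : 2 ≤ Δ.ncard) (hlt : Δ.ncard < Nat.card Ω) : Tr2 G Ω := by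
  have hcompl := Set.ncard_add_ncard_compl Δ (Set.toFinite _) (Set.toFinite _)
  obtain ⟨k, hk⟩ : ∃ k, Δᶜ.ncard = k + 1 := ⟨Δᶜ.ncard - 1, by omega⟩
  have hk' : k + 2 < Nat.card Ω := by omega
  have htr : IsPretransitive (fixingSubgroup G Δᶜ) (ofFixingSubgroup G Δᶜ) := by
    constructor
    intro x y
    have hx : (x : Ω) ∈ Δ := Set.not_notMem.mp x.2
    have hy : (y : Ω) ∈ Δ := Set.not_notMem.mp y.2
    obtain ⟨g, hg, hgx⟩ := hJ _ hx _ hy
    refine ⟨⟨g, ?_⟩, Subtype.ext hgx⟩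
    rw [mem_fixingSubgroup_iff]
    intro z hz
    exact hg z hz
  have h2 := hprim.is_two_pretransitive hk hk' htr
  rw [is_two_pretransitive_iff] at h2
  intro a b c d hab hcd
  exact h2 hab hcd

/-- 3-transitivity at a point outside the Jordan set. -/
theorem tr3_at [Finite Ω] (h2 : Tr2 G Ω) {Δ : Set Ω} (hJ : JSet G Δ)
    (h2Δ : 2 ≤ Δ.ncard) (hsmall : 2 * Δ.ncard < Nat.card Ω) {a : Ω} (ha : a ∉ Δ) :
    ∀ b c d : Ω, a ≠ b → c ≠ a → c ≠ b → d ≠ a → d ≠ b →
      ∃ g : G, g • a = a ∧ g • b = b ∧ g • c = d := by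
  have hcompl := Set.ncard_add_ncard_compl Δ (Set.toFinite _) (Set.toFinite _)
  -- the stabilizer is pretransitive
  have htrans : IsPretransitive (stabilizer G a) (ofStabilizer G a) := by
    constructor
    intro x y
    have hx : a ≠ (x : Ω) := fun h => x.2 (Set.mem_singleton_iff.mpr h.symm)
    have hy : a ≠ (y : Ω) := fun h => y.2 (Set.mem_singleton_iff.mpr h.symm)
    obtain ⟨g, hga, hgx⟩ := h2 a x a y hx hy
    exact ⟨⟨g, hga⟩, Subtype.ext hgx⟩
  -- it is preprimitive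
  have hprim : IsPreprimitive (stabilizer G a) (ofStabilizer G a) := by
    refine { toIsPretransitive := htrans, isTrivialBlock_of_isBlock := ?_ }
    intro B hB
    by_contra hnt
    unfold IsTrivialBlock at hnt
    push_neg at hnt
    obtain ⟨hns, hne⟩ := hnt
    obtain ⟨x0, hx0, y0, hy0, hxy0⟩ := hns
    have hd : BlkData G a (Subtype.val '' B) := by
      refine ⟨notMem_val_image G B, ?_⟩
      rintro g hg _ ⟨x1, hx1, rfl⟩ ⟨x2, hx2, hx2'⟩ _ ⟨y1, hy1, rfl⟩
      have hmem : (⟨g, hg⟩ : stabilizer G a) • x1 ∈ B := by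
        have : (⟨g, hg⟩ : stabilizer G a) • x1 = x2 := Subtype.ext hx2'.symm
        rw [this]; exact hx2
      have hBeq : (⟨g, hg⟩ : stabilizer G a) • B = B :=
        (MulAction.isBlock_iff_smul_eq_of_mem.mp hB) hx1 hmem
      have hy' : (⟨g, hg⟩ : stabilizer G a) • y1 ∈ B := by
        rw [← hBeq]; exact Set.smul_mem_smul_set hy1
      exact ⟨_, hy', rfl⟩
    have hB2 : 2 ≤ (Subtype.val '' B).ncard := by
      have : 1 < (Subtype.val '' B).ncard := by
        rw [Set.one_lt_ncard_iff (Set.toFinite _)]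
        exact ⟨x0, y0, ⟨x0, hx0, rfl⟩, ⟨y0, hy0, rfl⟩,
          fun h => hxy0 (Subtype.ext h)⟩
      omega
    have hc : ∃ c, c ≠ a ∧ c ∉ Subtype.val '' B := by
      obtain ⟨c0, hc0⟩ : ∃ c0, c0 ∉ B := by
        by_contra hall
        push_neg at hall
        exact hne (Set.eq_univ_of_forall hall)
      refine ⟨c0, fun h => c0.2 (Set.mem_singleton_iff.mpr h), ?_⟩
      rintro ⟨c1, hc1, hc1'⟩
      have : c1 = c0 := Subtype.ext hc1'
      exact hc0 (this ▸ hc1)
    exact stab_no_block h2 hJ h2Δ hsmall hd hB2 hc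
  -- the Jordan set inside the stabilizer action
  let t : Set (ofStabilizer G a) := {x | (x : Ω) ∉ Δ}
  have himg : Subtype.val '' t = Δᶜ \ {a} := by
    ext z
    constructor
    · rintro ⟨x, hx, rfl⟩
      exact ⟨hx, x.2⟩
    · rintro ⟨hz1, hz2⟩
      exact ⟨⟨z, hz2⟩, hz1, rfl⟩
  have htcard : t.ncard = Δᶜ.ncard - 1 := by
    rw [← Set.ncard_image_of_injective t Subtype.val_injective, himg,
      Set.ncard_diff_singleton_of_mem (show a ∈ Δᶜ from ha)]
  obtain ⟨k, hk⟩ : ∃ k, t.ncard = k + 1 := ⟨t.ncard - 1, by omega⟩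
  have hcardS := nat_card_ofStabilizer_add_one_eq (G := G) a
  have hk' : k + 2 < Nat.card (ofStabilizer G a) := by omega
  have htr : IsPretransitive (fixingSubgroup (stabilizer G a) t)
      (ofFixingSubgroup (stabilizer G a) t) := by
    constructor
    intro x y
    have hx : ((x : ofStabilizer G a) : Ω) ∈ Δ := Set.not_notMem.mp x.2
    have hy : ((y : ofStabilizer G a) : Ω) ∈ Δ := Set.not_notMem.mp y.2
    obtain ⟨g, hg, hgx⟩ := hJ _ hx _ hy
    refine ⟨⟨⟨g, hg a ha⟩, ?_⟩, Subtype.ext (Subtype.ext hgx)⟩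
    rw [mem_fixingSubgroup_iff]
    intro z hz
    exact Subtype.ext (hg _ hz)
  have h2' := hprim.is_two_pretransitive hk hk' htr
  rw [is_two_pretransitive_iff] at h2'
  intro b c d hab hca hcb hda hdb
  have hb' : b ∈ ofStabilizer G a := fun h => hab (Set.mem_singleton_iff.mp h).symm
  have hc' : c ∈ ofStabilizer G a := fun h => hca (Set.mem_singleton_iff.mp h)
  have hd' : d ∈ ofStabilizer G a := fun h => hda (Set.mem_singleton_iff.mp h)
  obtain ⟨g, hg1, hg2⟩ := h2' (a := ⟨b, hb'⟩) (b := ⟨c, hc'⟩) (c := ⟨b, hb'⟩) (d := ⟨d, hd'⟩)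
    (fun h => hcb (congrArg Subtype.val h).symm) (fun h => hdb (congrArg Subtype.val h).symm)
  exact ⟨g.1, g.2, congrArg Subtype.val hg1, congrArg Subtype.val hg2⟩

/-- 3-transitivity. -/
theorem tr3 [Finite Ω] (h2 : Tr2 G Ω) {Δ : Set Ω} (hJ : JSet G Δ)
    (h2Δ : 2 ≤ Δ.ncard) (hsmall : 2 * Δ.ncard < Nat.card Ω) : Tr3 G Ω := by
  intro a b c d hab hca hcb hda hdb
  -- a translate of Δ avoiding a
  have hout : ∃ γ, γ ∉ Δ := by
    by_contra hall
    push_neg at hall
    have : Δ = Set.univ := Set.eq_univ_of_forall hall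
    rw [this, Set.ncard_univ] at hsmall
    omega
  obtain ⟨γ, hγ⟩ := hout
  obtain ⟨k, hk⟩ : ∃ k : G, k • γ = a := by
    by_cases h : γ = a
    · exact ⟨1, by rw [one_smul, h]⟩
    · obtain ⟨k, hk1, _⟩ := h2 γ a a γ h (Ne.symm h)
      exact ⟨k, hk1⟩
  have ha : a ∉ k • Δ := by
    rw [Set.mem_smul_set_iff_inv_smul_mem, ← hk, inv_smul_smul]
    exact hγ
  exact tr3_at h2 (hJ.smul k) (by rw [Set.ncard_smul_set]; exact h2Δ)
    (by rw [Set.ncard_smul_set]; exact hsmall) ha b c d hab hca hcb hda hdb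

end Cfsg.Agent.Lib.Helper3.Marg
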