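import Cfsg.Agent.Lib.Helper3.MargC

set_option autoImplicit false
open scoped Pointwise

namespace Cfsg.Agent.Lib.Helper3.Marg

universe u v
variable {G : Type u} {Ω : Type v} [Group G] [MulAction G Ω]

/-- `Δ'` is conjugate to `Δ` under the stabilizer of `a'` and `b'`. -/
def PC (G : Type u) {Ω : Type v} [Group G] [MulAction G Ω] (Δ : Set Ω) (a' b' : Ω)
    (Δ' : Set Ω) : Prop :=
  ∃ y : G, y • a' = a' ∧ y • b' = b' ∧ y • Δ' = Δ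

/-- cross pairs -/
def CP (G : Type u) {Ω : Type v} [Group G] [MulAction G Ω] (Δ : Set Ω) (a' b' : Ω)
    (Δ₁ Δ₂ : Set Ω) : Prop :=
  JSet G Δ₁ ∧ JSet G Δ₂ ∧ Δ₁.ncard = Δ.ncard ∧ Δ₂.ncard = Δ.ncard ∧
    a' ∉ Δ₁ ∧ b' ∉ Δ₁ ∧ a' ∉ Δ₂ ∧ b' ∉ Δ₂ ∧ PC G Δ a' b' Δ₁ ∧ ¬ PC G Δ a' b' Δ₂

theorem notMem_smul_of_fix {Δ' : Set Ω} {k : G} {p : Ω} (hk : k • p = p) (hp : p ∉ Δ') :
    p ∉ k • Δ' := by
  rw [Set.mem_smul_set_iff_inv_smul_mem]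
  have : k⁻¹ • p = p := by rw [inv_smul_eq_iff, hk]
  rw [this]; exact hp

theorem smul_subset_union {Δ₁ Δ₂ : Set Ω} {k : G} (hk : ∀ z, z ∉ Δ₂ → k • z = z) :
    k • Δ₁ ⊆ Δ₁ ∪ Δ₂ := by
  rintro _ ⟨x, hx, rfl⟩
  by_cases hx2 : x ∈ Δ₂
  · exact Or.inr (fix_mem hk hx2)
  · left
    show k • x ∈ Δ₁
    rw [hk x hx2]; exact hx

theorem cp_improve [Finite Ω] (h3 : Tr3 G Ω) {Δ : Set Ω} (hΔne : Δ.Nonempty) {a' b' : Ω}
    (hab' : a' ≠ b') {Δ₁ Δ₂ : Set Ω} (hcp : CP G Δ a' b' Δ₁ Δ₂) :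
    ∃ Δ₁' Δ₂', CP G Δ a' b' Δ₁' Δ₂' ∧ (Δ₁ ∩ Δ₂).ncard < (Δ₁' ∩ Δ₂').ncard := by
  obtain ⟨hJ1, hJ2, hc1, hc2, ha1, hb1, ha2, hb2, hP1, hP2⟩ := hcp
  have hmpos : 0 < Δ.ncard := by
    rw [Set.ncard_pos (Set.toFinite _)]; exact hΔne
  by_cases hint : (Δ₁ ∩ Δ₂).Nonempty
  · obtain ⟨z, hz1, hz2⟩ := hint
    have hne12 : Δ₁ ≠ Δ₂ := fun h => hP2 (h ▸ hP1)
    -- j1 ∈ Δ₂ \ Δ₁
    obtain ⟨j1, hj1, hj1'⟩ : ∃ j, j ∈ Δ₂ ∧ j ∉ Δ₁ := by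
      by_contra hno
      push_neg at hno
      have := Set.eq_of_subset_of_ncard_le (s := Δ₂) (t := Δ₁) hno (by omega) (Set.toFinite _)
      exact hne12 this.symm
    obtain ⟨j2, hj2, hj2'⟩ : ∃ j, j ∈ Δ₁ ∧ j ∉ Δ₂ := by
      by_contra hno
      push_neg at hno
      have := Set.eq_of_subset_of_ncard_le (s := Δ₁) (t := Δ₂) hno (by omega) (Set.toFinite _)
      exact hne12 this
    obtain ⟨k, hk, hkj⟩ := hJ2 j1 hj1 z hz2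
    obtain ⟨h, hh, hhj⟩ := hJ1 j2 hj2 z hz1
    have hz_k : z ∉ k • Δ₁ := by
      rw [← hkj, Set.smul_mem_smul_set_iff]; exact hj1'
    have hz_h : z ∉ h • Δ₂ := by
      rw [← hhj, Set.smul_mem_smul_set_iff]; exact hj2'
    have hsub : k • Δ₁ ∪ h • Δ₂ ⊆ Δ₁ ∪ Δ₂ := by
      apply Set.union_subset (smul_subset_union hk)
      have := smul_subset_union (Δ₁ := Δ₂) (Δ₂ := Δ₁) hh
      rwa [Set.union_comm] at this
    have hss : k • Δ₁ ∪ h • Δ₂ ⊂ Δ₁ ∪ Δ₂ := by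
      refine ⟨hsub, fun hrev => ?_⟩
      rcases hrev (Or.inl hz1) with h' | h'
      · exact hz_k h'
      · exact hz_h h'
    have hlt := Set.ncard_lt_ncard hss (Set.toFinite _)
    have ie1 := Set.ncard_union_add_ncard_inter Δ₁ Δ₂ (Set.toFinite _) (Set.toFinite _)
    have ie2 := Set.ncard_union_add_ncard_inter (k • Δ₁) (h • Δ₂) (Set.toFinite _)
      (Set.toFinite _)
    rw [Set.ncard_smul_set, Set.ncard_smul_set] at ie2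
    refine ⟨k • Δ₁, h • Δ₂, ⟨hJ1.smul k, hJ2.smul h, by rw [Set.ncard_smul_set, hc1],
      by rw [Set.ncard_smul_set, hc2], notMem_smul_of_fix (hk a' ha2) ha1,
      notMem_smul_of_fix (hk b' hb2) hb1, notMem_smul_of_fix (hh a' ha1) ha2,
      notMem_smul_of_fix (hh b' hb1) hb2, ?_, ?_⟩, by omega⟩
    · obtain ⟨y, hya, hyb, hyΔ⟩ := hP1
      refine ⟨y * k⁻¹, ?_, ?_, ?_⟩
      · rw [mul_smul, fix_inv hk a' ha2, hya]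
      · rw [mul_smul, fix_inv hk b' hb2, hyb]
      · rw [mul_smul, inv_smul_smul, hyΔ]
    · rintro ⟨y, hya, hyb, hyΔ⟩
      apply hP2
      refine ⟨y * h, ?_, ?_, ?_⟩
      · rw [mul_smul, hh a' ha1, hya]
      · rw [mul_smul, hh b' hb1, hyb]
      · rw [mul_smul, hyΔ]
  · rw [Set.not_nonempty_iff_eq_empty] at hint
    obtain ⟨d1, hd1⟩ : Δ₁.Nonempty := by
      rw [← Set.ncard_pos (Set.toFinite _)]; omega
    obtain ⟨d2, hd2⟩ : Δ₂.Nonempty := by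
      rw [← Set.ncard_pos (Set.toFinite _)]; omega
    obtain ⟨y, hya, hyb, hyd⟩ := h3 a' b' d2 d1 hab' (fun h => ha2 (h ▸ hd2))
      (fun h => hb2 (h ▸ hd2)) (fun h => ha1 (h ▸ hd1)) (fun h => hb1 (h ▸ hd1))
    have hd1' : d1 ∈ y • Δ₂ := by
      rw [← hyd]; exact Set.smul_mem_smul_set hd2
    refine ⟨Δ₁, y • Δ₂, ⟨hJ1, hJ2.smul y, hc1, by rw [Set.ncard_smul_set, hc2], ha1, hb1,
      notMem_smul_of_fix hya ha2, notMem_smul_of_fix hyb hb2, hP1, ?_⟩, ?_⟩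
    · rintro ⟨y2, hy2a, hy2b, hy2Δ⟩
      apply hP2
      refine ⟨y2 * y, ?_, ?_, ?_⟩
      · rw [mul_smul, hya, hy2a]
      · rw [mul_smul, hyb, hy2b]
      · rw [mul_smul, hy2Δ]
    · rw [hint, Set.ncard_empty, Set.ncard_pos (Set.toFinite _)]
      exact ⟨d1, hd1, hd1'⟩

theorem no_cp [Finite Ω] (h3 : Tr3 G Ω) {Δ : Set Ω} (hΔne : Δ.Nonempty) {a' b' : Ω}
    (hab' : a' ≠ b') : ∀ j : ℕ, ∀ Δ₁ Δ₂ : Set Ω, CP G Δ a' b' Δ₁ Δ₂ →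
      Δ.ncard - (Δ₁ ∩ Δ₂).ncard = j → False := by
  intro j
  induction j using Nat.strong_induction_on with
  | _ j ih =>
    intro Δ₁ Δ₂ hcp hj
    obtain ⟨Δ₁', Δ₂', hcp', hlt⟩ := cp_improve h3 hΔne hab' hcp
    have hle : (Δ₁' ∩ Δ₂').ncard ≤ Δ.ncard := by
      rw [← hcp'.2.2.1]
      exact Set.ncard_le_ncard Set.inter_subset_left (Set.toFinite _)
    exact ih (Δ.ncard - (Δ₁' ∩ Δ₂').ncard) (by omega) Δ₁' Δ₂' hcp' rfl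

/-- The setwise stabilizer of `Δ` (equivalently of its complement) is 2-transitive on the
complement. -/
theorem stab_two_trans [Finite Ω] (h2 : Tr2 G Ω) (h3 : Tr3 G Ω) {Δ : Set Ω} (hJ : JSet G Δ)
    (hΔne : Δ.Nonempty) :
    ∀ a b a' b' : Ω, a ∉ Δ → b ∉ Δ → a' ∉ Δ → b' ∉ Δ → a ≠ b → a' ≠ b' →
      ∃ x : G, x • Δ = Δ ∧ x • a = a' ∧ x • b = b' := by
  intro a b a' b' ha hb ha' hb' hab hab'
  obtain ⟨g, hga, hgb⟩ := h2 a b a' b' hab hab'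
  have ha2 : a' ∉ g • Δ := by
    rw [← hga, Set.smul_mem_smul_set_iff]; exact ha
  have hb2 : b' ∉ g • Δ := by
    rw [← hgb, Set.smul_mem_smul_set_iff]; exact hb
  by_cases hP : PC G Δ a' b' (g • Δ)
  · obtain ⟨y, hya, hyb, hyΔ⟩ := hP
    refine ⟨y * g, ?_, ?_, ?_⟩
    · rw [mul_smul, hyΔ]
    · rw [mul_smul, hga, hya]
    · rw [mul_smul, hgb, hyb]
  · exfalso
    have hcp : CP G Δ a' b' Δ (g • Δ) :=
      ⟨hJ, hJ.smul g, rfl, Set.ncard_smul_set g Δ, ha', hb', ha2, hb2,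
        ⟨1, one_smul _ _, one_smul _ _, one_smul _ _⟩, hP⟩
    exact no_cp h3 hΔne hab' _ _ _ hcp rfl

end Cfsg.Agent.Lib.Helper3.Marg
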