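import Cfsg.Agent.Lib.Helper3.MargD

set_option autoImplicit false
open scoped Pointwise

namespace Cfsg.Agent.Lib.Helper3.Marg

universe u v
variable {G : Type u} {Ω : Type v} [Group G] [MulAction G Ω]

/-- a translate of maximal overlap -/
theorem exists_max_overlap [Finite Ω] (h2 : Tr2 G Ω) {Δ : Set Ω} (h2Δ : 2 ≤ Δ.ncard)
    (hlt : Δ.ncard < Nat.card Ω) :
    ∃ g' : G, g' • Δ ≠ Δ ∧ (Δ ∩ g' • Δ).Nonempty ∧
      ∀ g : G, g • Δ ≠ Δ → (Δ ∩ g • Δ).ncard ≤ (Δ ∩ g' • Δ).ncard := by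
  obtain ⟨a, b, ha, hb, hab⟩ := (Set.one_lt_ncard_iff (Set.toFinite Δ)).mp (by omega)
  have hout : ∃ c, c ∉ Δ := by
    by_contra hall
    push_neg at hall
    have : Δ = Set.univ := Set.eq_univ_of_forall hall
    rw [this, Set.ncard_univ] at hlt
    omega
  obtain ⟨c, hc⟩ := hout
  have hac : a ≠ c := fun h => hc (h ▸ ha)
  obtain ⟨g0, hg0a, hg0b⟩ := h2 a b a c hab hac
  have hg0ne : g0 • Δ ≠ Δ := by
    intro h
    apply hc
    rw [← h, ← hg0b]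
    exact Set.smul_mem_smul_set hb
  have ha0 : a ∈ Δ ∩ g0 • Δ := ⟨ha, by rw [← hg0a]; exact Set.smul_mem_smul_set ha⟩
  let S : Set (Set Ω) := {Δ' | ∃ g : G, Δ' = g • Δ ∧ Δ' ≠ Δ}
  have hSne : S.Nonempty := ⟨g0 • Δ, g0, rfl, hg0ne⟩
  obtain ⟨Δ', ⟨g', hg', hne'⟩, hmax⟩ :=
    Set.exists_max_image S (fun Δ' => (Δ ∩ Δ').ncard) (Set.toFinite S) hSne
  subst hg'
  refine ⟨g', hne', ?_, ?_⟩
  · have h1 := hmax (g0 • Δ) ⟨g0, rfl, hg0ne⟩
    have h3 : 0 < (Δ ∩ g0 • Δ).ncard := by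
      rw [Set.ncard_pos (Set.toFinite _)]; exact ⟨a, ha0⟩
    rw [← Set.ncard_pos (Set.toFinite _)]
    exact lt_of_lt_of_le h3 h1
  · intro g hg
    exact hmax (g • Δ) ⟨g, rfl, hg⟩

/-- The block property of `Δ' \ Δ` for a translate `Δ'` of maximal overlap. -/
theorem overlap_block [Finite Ω] {Δ : Set Ω} {g' : G}
    (hmax : ∀ g : G, g • Δ ≠ Δ → (Δ ∩ g • Δ).ncard ≤ (Δ ∩ g' • Δ).ncard)
    {k : G} (hk : ∀ z, z ∉ g' • Δ → k • z = z)
    (hmeet : ∃ j, j ∈ g' • Δ ∧ j ∉ Δ ∧ k • j ∈ g' • Δ ∧ k • j ∉ Δ) : k • Δ = Δ := by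
  by_contra hne
  have h1 := hmax k hne
  have hsub : Δ ∪ k • Δ ⊆ Δ ∪ g' • Δ :=
    Set.union_subset Set.subset_union_left (smul_subset_union hk)
  have ie1 := Set.ncard_union_add_ncard_inter Δ (g' • Δ) (Set.toFinite _) (Set.toFinite _)
  have ie2 := Set.ncard_union_add_ncard_inter Δ (k • Δ) (Set.toFinite _) (Set.toFinite _)
  rw [Set.ncard_smul_set] at ie1 ie2
  have hle := Set.ncard_le_ncard hsub (Set.toFinite _)
  have heq : Δ ∪ k • Δ = Δ ∪ g' • Δ :=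
    Set.eq_of_subset_of_ncard_le hsub (by omega) (Set.toFinite _)
  obtain ⟨j, hj1, hj2, hj3, hj4⟩ := hmeet
  have : k • j ∈ Δ ∪ k • Δ := by rw [heq]; exact Or.inr hj3
  rcases this with h | h
  · exact hj4 h
  · rw [Set.smul_mem_smul_set_iff] at h
    exact hj2 h

theorem smul_compl_eq_of_smul_eq {Δ : Set Ω} {x : G} (h : x • Δᶜ = Δᶜ) : x • Δ = Δ := by
  have := Set.smul_set_compl (a := x) (s := Δᶜ)
  rw [compl_compl, h, compl_compl] at this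
  exact this

/-- Jordan sets for the setwise stabilizer acting on the complement. -/
theorem inner_jordan [Finite Ω] (h2 : Tr2 G Ω) (h3 : Tr3 G Ω) {Δ : Set Ω} (hJ : JSet G Δ)
    (h4 : 4 ≤ Δ.ncard) (hsmall : 2 * Δ.ncard < Nat.card Ω) :
    ∃ J : Set Ω, J ⊆ Δᶜ ∧ 2 ≤ J.ncard ∧ 2 * J.ncard ≤ Δ.ncard ∧
      ∀ x ∈ J, ∀ y ∈ J, ∃ k : G, k • Δ = Δ ∧ (∀ z, z ∉ Δ → z ∉ J → k • z = z) ∧ k • x = y := by
  have hcompl := Set.ncard_add_ncard_compl Δ (Set.toFinite _) (Set.toFinite _)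
  have hΔne : Δ.Nonempty := by
    rw [← Set.ncard_pos (Set.toFinite _)]; omega
  obtain ⟨g', hne', hmeet', hmax⟩ := exists_max_overlap h2 (by omega : 2 ≤ Δ.ncard) (by omega)
  have hJ' : JSet G (g' • Δ) := hJ.smul g'
  have hcard' : (g' • Δ).ncard = Δ.ncard := Set.ncard_smul_set g' Δ
  -- J = Δ' \ Δ
  have hJne : ∃ j, j ∈ g' • Δ ∧ j ∉ Δ := by
    by_contra hno
    push_neg at hno
    exact hne' (Set.eq_of_subset_of_ncard_le (s := g' • Δ) (t := Δ) hno (by omega)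
      (Set.toFinite _))
  obtain ⟨j0, hj0, hj0'⟩ := hJne
  obtain ⟨z0, hz0, hz0'⟩ := hmeet'
  -- the inner Jordan property
  have inner : ∀ x ∈ g' • Δ \ Δ, ∀ y ∈ g' • Δ \ Δ, ∃ k : G, k • Δ = Δ ∧
      (∀ z, z ∉ Δ → z ∉ g' • Δ \ Δ → k • z = z) ∧ k • x = y := by
    rintro x ⟨hx1, hx2⟩ y ⟨hy1, hy2⟩
    obtain ⟨k, hk, hkx⟩ := hJ' x hx1 y hy1
    refine ⟨k, overlap_block hmax hk ⟨x, hx1, hx2, by rw [hkx]; exact hy1,
      by rw [hkx]; exact hy2⟩, ?_, hkx⟩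
    intro z hz1 hz2
    apply hk
    intro hz3
    exact hz2 ⟨hz3, hz1⟩
  -- size bound
  have hsize : 2 * (g' • Δ \ Δ).ncard ≤ Δ.ncard := by
    obtain ⟨k, hk, hkj⟩ := hJ' j0 hj0 z0 hz0'
    have hdisj : Disjoint (k • (g' • Δ \ Δ)) (g' • Δ \ Δ) := by
      rw [Set.disjoint_left]
      rintro w ⟨j, ⟨hj1, hj2⟩, rfl⟩ ⟨hw1, hw2⟩
      have hkΔ : k • Δ = Δ := overlap_block hmax hk ⟨j, hj1, hj2, hw1, hw2⟩
      -- then k j0 = z0 ∈ Δ, so j0 ∈ Δ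
      have : k • j0 ∈ k • Δ := by rw [hkΔ, hkj]; exact hz0
      rw [Set.smul_mem_smul_set_iff] at this
      exact hj0' this
    have hsub : k • (g' • Δ \ Δ) ∪ (g' • Δ \ Δ) ⊆ g' • Δ := by
      apply Set.union_subset
      · rintro _ ⟨j, ⟨hj1, _⟩, rfl⟩
        exact fix_mem hk hj1
      · exact Set.diff_subset
    have h5 := Set.ncard_le_ncard hsub (Set.toFinite _)
    rw [Set.ncard_union_eq hdisj (Set.toFinite _) (Set.toFinite _), Set.ncard_smul_set,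
      hcard'] at h5
    omega
  by_cases hbig : 2 ≤ (g' • Δ \ Δ).ncard
  · exact ⟨g' • Δ \ Δ, fun x hx => hx.2, hbig, hsize, inner⟩
  · -- J = {j0}
    have hJ1 : ∀ w, w ∈ g' • Δ → w ∉ Δ → w = j0 := by
      intro w hw1 hw2
      by_contra hne
      apply hbig
      have : 1 < (g' • Δ \ Δ).ncard := by
        rw [Set.one_lt_ncard_iff (Set.toFinite _)]
        exact ⟨w, j0, ⟨hw1, hw2⟩, ⟨hj0, hj0'⟩, hne⟩
      omega
    -- another point γ1 of the complement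
    obtain ⟨γ1, hγ1, hγ1'⟩ : ∃ γ1, γ1 ∉ Δ ∧ γ1 ≠ j0 := by
      have : 1 < Δᶜ.ncard := by omega
      obtain ⟨b, hb, hb'⟩ := Set.exists_ne_of_one_lt_ncard this j0
      exact ⟨b, hb, hb'⟩
    obtain ⟨ν, hνΔ, hν0, hν1⟩ := stab_two_trans h2 h3 hJ hΔne j0 γ1 γ1 j0 hj0' hγ1 hγ1 hj0'
      (Ne.symm hγ1') hγ1'
    have hνinv : ν⁻¹ • Δ = Δ := by
      rw [inv_smul_eq_iff, hνΔ]
    have hνmem : ∀ z, z ∉ Δ → ν⁻¹ • z ∉ Δ := by
      intro z hz h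
      apply hz
      have : ν • (ν⁻¹ • z) ∈ ν • Δ := Set.smul_mem_smul_set h
      rwa [smul_inv_smul, hνΔ] at this
    -- h' : j0 ↦ z0
    obtain ⟨h', hh', hh'j⟩ := hJ' j0 hj0 z0 hz0'
    -- h' fixes the complement of Δ except j0
    have hh'fix : ∀ z, z ∉ Δ → z ≠ j0 → h' • z = z := by
      intro z hz hzj
      apply hh'
      intro hz'
      exact hzj (hJ1 z hz' hz)
    -- h'' = ν h' ν⁻¹
    have hh''fix : ∀ z, z ∉ Δ → z ≠ γ1 → (ν * h' * ν⁻¹) • z = z := by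
      intro z hz hzγ
      have h1 : ν⁻¹ • z ≠ j0 := by
        intro h
        apply hzγ
        rw [← hν0, ← h, smul_inv_smul]
      rw [mul_smul, mul_smul, hh'fix _ (hνmem z hz) h1, smul_inv_smul]
    have hh''γ : (ν * h' * ν⁻¹) • γ1 = ν • z0 := by
      rw [mul_smul, mul_smul, ← hν0, inv_smul_smul, hh'j]
    have hδ2 : ν • z0 ∈ Δ := by
      rw [← hνΔ]; exact Set.smul_mem_smul_set hz0
    obtain ⟨h, hh, hhz⟩ := hJ z0 hz0 (ν • z0) hδ2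
    -- λ = h''⁻¹ γ1
    set l : Ω := (ν * h' * ν⁻¹)⁻¹ • γ1 with hl
    have hlΔ : l ∈ Δ := by
      by_contra hlΔ
      have h5 : (ν * h' * ν⁻¹) • l = γ1 := by rw [hl, smul_inv_smul]
      have hlγ : l = γ1 := by
        by_contra hne
        have h6 := hh''fix l hlΔ hne
        rw [h5] at h6
        exact hne h6.symm
      rw [hlγ, hh''γ] at h5
      exact hγ1 (h5 ▸ hδ2)
    obtain ⟨hb, hhb, hhbl⟩ := hJ l hlΔ z0 hz0
    -- the swapping element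
    set x : G := h'⁻¹ * hb * ((ν * h' * ν⁻¹)⁻¹ * h * h') with hx
    have hh'invfix : ∀ z, z ∉ Δ → z ≠ j0 → h'⁻¹ • z = z := by
      intro z hz hzj
      rw [inv_smul_eq_iff, hh'fix z hz hzj]
    have hh''invfix : ∀ z, z ∉ Δ → z ≠ γ1 → (ν * h' * ν⁻¹)⁻¹ • z = z := by
      intro z hz hzγ
      rw [inv_smul_eq_iff, hh''fix z hz hzγ]
    have hx0 : x • j0 = γ1 := by
      rw [hx, mul_smul, mul_smul, mul_smul, mul_smul, hh'j, hhz, ← hh''γ, inv_smul_smul,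
        hhb γ1 hγ1, hh'invfix γ1 hγ1 hγ1']
    have hx1 : x • γ1 = j0 := by
      rw [hx, mul_smul, mul_smul, mul_smul, mul_smul, hh'fix γ1 hγ1 hγ1', hh γ1 hγ1, ← hl,
        hhbl, ← hh'j, inv_smul_smul]
    have hxfix : ∀ z, z ∉ Δ → z ≠ j0 → z ≠ γ1 → x • z = z := by
      intro z hz hz0' hz1
      rw [hx, mul_smul, mul_smul, mul_smul, mul_smul, hh'fix z hz hz0', hh z hz,
        hh''invfix z hz hz1, hhb z hz, hh'invfix z hz hz0']
    have hxΔ : x • Δ = Δ := by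
      apply smul_compl_eq_of_smul_eq
      apply Set.eq_of_subset_of_ncard_le _ (by rw [Set.ncard_smul_set]) (Set.toFinite _)
      rintro _ ⟨z, hz, rfl⟩
      show x • z ∈ Δᶜ
      by_cases hz0 : z = j0
      · rw [hz0, hx0]; exact hγ1
      · by_cases hz1 : z = γ1
        · rw [hz1, hx1]; exact hj0'
        · rw [hxfix z hz hz0 hz1]; exact hz
    refine ⟨{j0, γ1}, ?_, ?_, ?_, ?_⟩
    · rintro z (rfl | rfl)
      · exact hj0'
      · exact hγ1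
    · rw [Set.ncard_pair (Ne.symm hγ1')]
    · rw [Set.ncard_pair (Ne.symm hγ1')]; omega
    · have h1fix : ∀ z, z ∉ Δ → z ∉ ({j0, γ1} : Set Ω) → (1 : G) • z = z :=
        fun z _ _ => one_smul _ _
      have hxfix' : ∀ z, z ∉ Δ → z ∉ ({j0, γ1} : Set Ω) → x • z = z := by
        intro z hz hz'
        apply hxfix z hz
        · intro h; exact hz' (Or.inl h)
        · intro h; exact hz' (Or.inr h)
      rintro a (rfl | rfl) b (rfl | rfl)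
      · exact ⟨1, one_smul _ _, h1fix, one_smul _ _⟩
      · exact ⟨x, hxΔ, hxfix', hx0⟩
      · exact ⟨x, hxΔ, hxfix', hx1⟩
      · exact ⟨1, one_smul _ _, h1fix, one_smul _ _⟩

end Cfsg.Agent.Lib.Helper3.Marg
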