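import Cfsg.Agent.Lib.Helper3.MargE

set_option autoImplicit false
open scoped Pointwise
open MulAction

namespace Cfsg.Agent.Lib.Helper3.Marg

universe u v

/-- There is an element acting as a transposition or as a 3-cycle. -/
def Small (G : Type u) (Ω : Type v) [Group G] [MulAction G Ω] : Prop :=
  ∃ g : G, (∃ a b : Ω, a ≠ b ∧ g • a = b ∧ g • b = a ∧ ∀ z, z ≠ a → z ≠ b → g • z = z) ∨
    (∃ a b c : Ω, a ≠ b ∧ b ≠ c ∧ a ≠ c ∧ g • a = b ∧ g • b = c ∧ g • c = a ∧
      ∀ z, z ≠ a → z ≠ b → z ≠ c → g • z = z)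

theorem alt_normal_dich {N : Type*} [Group N] {α : Type*} [Fintype α] [DecidableEq α]
    (h5 : 5 ≤ Nat.card α) (φ : N →* Equiv.Perm α) (hA : alternatingGroup α ≤ φ.range)
    (D : Subgroup N) [hD : D.Normal] :
    alternatingGroup α ≤ D.map φ ∨ Disjoint (D.map φ) (alternatingGroup α) := by
  have hnorm : ((D.map φ).subgroupOf (alternatingGroup α)).Normal := by
    constructor
    intro k hk a
    rw [Subgroup.mem_subgroupOf] at hk ⊢
    obtain ⟨n, hn⟩ := hA a.2
    obtain ⟨d, hd, hdk⟩ := hk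
    refine ⟨n * d * n⁻¹, hD.conj_mem d hd n, ?_⟩
    simp [hn, hdk]
  rcases alternatingGroup.normal_subgroup_eq_bot_or_eq_top h5
    (N := (D.map φ).subgroupOf (alternatingGroup α)) with h | h
  · right; exact Subgroup.subgroupOf_eq_bot.mp h
  · left; exact Subgroup.subgroupOf_eq_top.mp h

theorem alt_le_range {N : Type*} [Group N] {α : Type*} [MulAction N α] [Fintype α]
    [DecidableEq α] (hprim : IsPreprimitive N α) (hs : Small N α) :
    alternatingGroup α ≤ (MulAction.toPermHom N α).range := by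
  have hR : IsPreprimitive (MulAction.toPermHom N α).range α := by
    let φ' (g : N) : (MulAction.toPermHom N α).range := ⟨MulAction.toPermHom N α g, g, rfl⟩
    let f : α →ₑ[φ'] α := { toFun := id, map_smul' := fun _ _ => rfl }
    exact IsPreprimitive.of_surjective (f := f) Function.surjective_id
  obtain ⟨g, hg | hg⟩ := hs
  · obtain ⟨a, b, hab, hga, hgb, hfix⟩ := hg
    have heq : MulAction.toPermHom N α g = Equiv.swap a b := by
      ext z
      rw [MulAction.toPermHom_apply, MulAction.toPerm_apply]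
      by_cases hza : z = a
      · rw [hza, hga, Equiv.swap_apply_left]
      · by_cases hzb : z = b
        · rw [hzb, hgb, Equiv.swap_apply_right]
        · rw [hfix z hza hzb, Equiv.swap_apply_of_ne_of_ne hza hzb]
    have htop := Equiv.Perm.subgroup_eq_top_of_isPreprimitive_of_isSwap_mem hR (Equiv.swap a b)
      ⟨a, b, hab, rfl⟩ ⟨g, heq⟩
    rw [htop]
    exact le_top
  · obtain ⟨a, b, c, hab, hbc, hac, hga, hgb, hgc, hfix⟩ := hg
    have heq : MulAction.toPermHom N α g = Equiv.swap a c * Equiv.swap a b := by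
      ext z
      rw [MulAction.toPermHom_apply, MulAction.toPerm_apply, Equiv.Perm.mul_apply]
      by_cases hza : z = a
      · rw [hza, hga, Equiv.swap_apply_left, Equiv.swap_apply_of_ne_of_ne hab.symm hbc]
      · by_cases hzb : z = b
        · rw [hzb, hgb, Equiv.swap_apply_right, Equiv.swap_apply_left]
        · by_cases hzc : z = c
          · rw [hzc, hgc, Equiv.swap_apply_of_ne_of_ne hac.symm hbc.symm,
              Equiv.swap_apply_right]
          · rw [hfix z hza hzb hzc, Equiv.swap_apply_of_ne_of_ne hza hzb,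
              Equiv.swap_apply_of_ne_of_ne hza hzc]
    exact Equiv.Perm.alternatingGroup_le_of_isPreprimitive_of_isThreeCycle_mem hR
      (Equiv.Perm.isThreeCycle_swap_mul_swap_same hac hab hbc.symm) ⟨g, heq⟩

variable {G : Type u} {Ω : Type v} [Group G] [MulAction G Ω]

theorem stab_mem {Δ : Set Ω} (n : stabilizer G Δᶜ) {z : Ω} (hz : z ∈ Δ) : (n : G) • z ∈ Δ := by
  by_contra h
  have h1 : (n : G) • z ∈ (n : G) • Δᶜ := by
    rw [mem_stabilizer_iff.mp n.2]; exact h
  rw [Set.smul_mem_smul_set_iff] at h1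
  exact h1 hz

/-- The kernel argument: if the setwise stabilizer of `Δ` induces at least the alternating
group on the (larger) complement of `Δ`, some element of `G` is a 3-cycle. -/
theorem kernel_arg [Finite Ω] {Δ : Set Ω} (h2Δ : 2 ≤ Δ.ncard)
    (hsmall : 2 * Δ.ncard < Nat.card Ω) (h5 : 5 ≤ Δᶜ.ncard)
    [Fintype ↥(Δᶜ)] [DecidableEq ↥(Δᶜ)]
    (hA : alternatingGroup ↥(Δᶜ) ≤ (MulAction.toPermHom (stabilizer G Δᶜ) ↥(Δᶜ)).range) :
    Small G Ω := by
  classical
  have hcompl := Set.ncard_add_ncard_compl Δ (Set.toFinite _) (Set.toFinite _)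
  let D : Subgroup (stabilizer G Δᶜ) :=
    { carrier := {x | ∀ z ∈ Δ, (x : G) • z = z}
      one_mem' := fun z _ => one_smul _ _
      mul_mem' := by
        intro a b ha hb z hz
        show ((a * b : stabilizer G Δᶜ) : G) • z = z
        rw [Subgroup.coe_mul, mul_smul, hb z hz, ha z hz]
      inv_mem' := by
        intro a ha z hz
        show ((a⁻¹ : stabilizer G Δᶜ) : G) • z = z
        rw [Subgroup.coe_inv, inv_smul_eq_iff, ha z hz] }
  have hDn : D.Normal := by
    constructor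
    intro x hx n z hz
    show ((n * x * n⁻¹ : stabilizer G Δᶜ) : G) • z = z
    rw [Subgroup.coe_mul, Subgroup.coe_mul, mul_smul, mul_smul]
    have h1 : ((n⁻¹ : stabilizer G Δᶜ) : G) • z ∈ Δ := stab_mem n⁻¹ hz
    rw [hx _ h1, Subgroup.coe_inv, smul_inv_smul]
  have hcard : Nat.card ↥(Δᶜ) = Δᶜ.ncard := Nat.card_coe_set_eq _
  have hval : ∀ (d : stabilizer G Δᶜ) (w : ↥(Δᶜ)),
      ((MulAction.toPermHom (stabilizer G Δᶜ) ↥(Δᶜ) d w : ↥(Δᶜ)) : Ω) = (d : G) • (w : Ω) :=
    fun _ _ => rfl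
  rcases alt_normal_dich (by rw [hcard]; exact h5)
    (MulAction.toPermHom (stabilizer G Δᶜ) ↥(Δᶜ)) hA D with h | h
  · -- a 3-cycle fixing Δ pointwise
    have h3 : 2 < Fintype.card ↥(Δᶜ) := by
      rw [← Nat.card_eq_fintype_card, hcard]; omega
    obtain ⟨a, b, c, hab, hac, hbc⟩ := Fintype.two_lt_card_iff.mp h3
    have hσ : Equiv.swap a b * Equiv.swap a c ∈ alternatingGroup ↥(Δᶜ) :=
      (Equiv.Perm.isThreeCycle_swap_mul_swap_same hab hac hbc).mem_alternatingGroup
    obtain ⟨d, hd, hdσ⟩ := h hσ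
    have hpt : ∀ w : ↥(Δᶜ), (d : G) • (w : Ω) = ((Equiv.swap a b * Equiv.swap a c) w : ↥(Δᶜ)) := by
      intro w
      rw [← hval d w, hdσ]
    refine ⟨(d : G), Or.inr ⟨a, c, b, ?_, ?_, ?_, ?_, ?_, ?_, ?_⟩⟩
    · exact fun h => hac (Subtype.ext h)
    · exact fun h => hbc (Subtype.ext h).symm
    · exact fun h => hab (Subtype.ext h)
    · rw [hpt a, Equiv.Perm.mul_apply, Equiv.swap_apply_left,
        Equiv.swap_apply_of_ne_of_ne hac.symm hbc.symm]
    · rw [hpt c, Equiv.Perm.mul_apply, Equiv.swap_apply_right, Equiv.swap_apply_left]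
    · rw [hpt b, Equiv.Perm.mul_apply, Equiv.swap_apply_of_ne_of_ne hab.symm hbc,
        Equiv.swap_apply_right]
    · intro z hza hzc hzb
      by_cases hz : z ∈ Δ
      · exact hd z hz
      · have hza' : (⟨z, hz⟩ : ↥(Δᶜ)) ≠ a := fun h => hza (congrArg Subtype.val h)
        have hzb' : (⟨z, hz⟩ : ↥(Δᶜ)) ≠ b := fun h => hzb (congrArg Subtype.val h)
        have hzc' : (⟨z, hz⟩ : ↥(Δᶜ)) ≠ c := fun h => hzc (congrArg Subtype.val h)
        have := hpt ⟨z, hz⟩
        rw [Equiv.Perm.mul_apply, Equiv.swap_apply_of_ne_of_ne hza' hzc',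
          Equiv.swap_apply_of_ne_of_ne hza' hzb'] at this
        exact this
  · -- counting contradiction
    exfalso
    have hx : ∀ σ : alternatingGroup ↥(Δᶜ), ∃ x : stabilizer G Δᶜ,
        MulAction.toPermHom (stabilizer G Δᶜ) ↥(Δᶜ) x = (σ : Equiv.Perm ↥(Δᶜ)) :=
      fun σ => hA σ.2
    choose x hx using hx
    have hmem2 : ∀ n : stabilizer G Δᶜ, (n : G) ∈ stabilizer G Δ := by
      have h : ∀ g : G, g ∈ stabilizer G Δᶜ → g ∈ stabilizer G Δ := by
        intro g hg
        rwa [stabilizer_compl] at hg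
      exact fun n => h _ n.2
    let f : alternatingGroup ↥(Δᶜ) → Equiv.Perm ↥Δ :=
      fun σ => MulAction.toPerm (⟨(x σ : G), hmem2 (x σ)⟩ : stabilizer G Δ)
    have hf : Function.Injective f := by
      intro σ τ hστ
      have hpt : ∀ z ∈ Δ, ((x σ : G)) • z = ((x τ : G)) • z := by
        intro z hz
        have := congrArg (fun p : Equiv.Perm ↥Δ => ((p ⟨z, hz⟩ : ↥Δ) : Ω)) hστ
        exact this
      have hdD : (x τ)⁻¹ * x σ ∈ D := by
        intro z hz
        show (((x τ)⁻¹ * x σ : stabilizer G Δᶜ) : G) • z = z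
        rw [Subgroup.coe_mul, mul_smul, hpt z hz, Subgroup.coe_inv, inv_smul_smul]
      have h1 : MulAction.toPermHom (stabilizer G Δᶜ) ↥(Δᶜ) ((x τ)⁻¹ * x σ) ∈
          Subgroup.map (MulAction.toPermHom (stabilizer G Δᶜ) ↥(Δᶜ)) D :=
        ⟨_, hdD, rfl⟩
      have h2 : MulAction.toPermHom (stabilizer G Δᶜ) ↥(Δᶜ) ((x τ)⁻¹ * x σ) ∈
          alternatingGroup ↥(Δᶜ) := by
        rw [map_mul, map_inv, hx, hx]
        exact (alternatingGroup ↥(Δᶜ)).mul_mem ((alternatingGroup ↥(Δᶜ)).inv_mem τ.2) σ.2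
      have h3 := Subgroup.disjoint_def.mp h h1 h2
      rw [map_mul, map_inv, hx, hx, inv_mul_eq_one] at h3
      exact Subtype.ext h3.symm
    have hle := Nat.card_le_card_of_injective f hf
    have hnt : Nontrivial ↥(Δᶜ) := by
      rw [← Finite.one_lt_card_iff_nontrivial, hcard]; omega
    have h2alt := two_mul_nat_card_alternatingGroup (α := ↥(Δᶜ))
    rw [Nat.card_perm, hcard] at h2alt
    rw [Nat.card_perm, Nat.card_coe_set_eq] at hle
    have hfac : (Δ.ncard + 1).factorial ≤ (Δᶜ.ncard).factorial :=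
      Nat.factorial_le (by omega)
    rw [Nat.factorial_succ] at hfac
    have hpos : 0 < (Δ.ncard).factorial := Nat.factorial_pos _
    have h3m : 3 * (Δ.ncard).factorial ≤ (Δ.ncard + 1) * (Δ.ncard).factorial :=
      Nat.mul_le_mul_right _ (by omega)
    omega

end Cfsg.Agent.Lib.Helper3.Marg
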