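import Cfsg.Agent.Lib.Helper3.MargF

set_option autoImplicit false
open scoped Pointwise
open MulAction

namespace Cfsg.Agent.Lib.Helper3.Marg

universe u v

theorem small_of_le_three {G : Type u} {Ω : Type v} [Group G] [MulAction G Ω] {Δ : Set Ω}
    (hJ : JSet G Δ) (h2Δ : 2 ≤ Δ.ncard) (hm : Δ.ncard ≤ 3) : Small G Ω := by
  have hinj : ∀ (g : G) {p q : Ω}, g • p = g • q → p = q := fun g _ _ h => smul_left_cancel g h
  rcases (by omega : Δ.ncard = 2 ∨ Δ.ncard = 3) with h | h
  · obtain ⟨x, y, hxy, hΔ⟩ := Set.ncard_eq_two.mp h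
    have hx : x ∈ Δ := by rw [hΔ]; exact Or.inl rfl
    have hy : y ∈ Δ := by rw [hΔ]; exact Or.inr rfl
    obtain ⟨g, hg, hgx⟩ := hJ x hx y hy
    have hgy : g • y = x := by
      have h1 : g • y ∈ Δ := fix_mem hg hy
      rw [hΔ] at h1
      rcases h1 with h1 | h1
      · exact h1
      · exfalso
        have h2 : g • y = g • x := by rw [hgx]; exact h1
        exact hxy (hinj g h2).symm
    refine ⟨g, Or.inl ⟨x, y, hxy, hgx, hgy, ?_⟩⟩
    intro z hzx hzy
    apply hg
    rw [hΔ]
    rintro (h1 | h1)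
    · exact hzx h1
    · exact hzy h1
  · obtain ⟨x, y, z, hxy, hxz, hyz, hΔ⟩ := Set.ncard_eq_three.mp h
    have hx : x ∈ Δ := by rw [hΔ]; exact Or.inl rfl
    have hy : y ∈ Δ := by rw [hΔ]; exact Or.inr (Or.inl rfl)
    have hz : z ∈ Δ := by rw [hΔ]; exact Or.inr (Or.inr rfl)
    obtain ⟨g, hg, hgx⟩ := hJ x hx y hy
    have hout : ∀ w, w ≠ x → w ≠ y → w ≠ z → g • w = w := by
      intro w h1 h2 h3
      apply hg
      rw [hΔ]
      rintro (h' | h' | h')
      · exact h1 h'
      · exact h2 h'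
      · exact h3 h'
    have h1 : g • y ∈ Δ := fix_mem hg hy
    have h2 : g • z ∈ Δ := fix_mem hg hz
    rw [hΔ] at h1 h2
    have hgy_ne : g • y ≠ y := by
      intro h'
      have : g • y = g • x := by rw [hgx]; exact h'
      exact hxy (hinj g this).symm
    have hgz_ne : g • z ≠ y := by
      intro h'
      have : g • z = g • x := by rw [hgx]; exact h'
      exact hxz (hinj g this).symm
    rcases h1 with h1 | h1 | h1
    · -- g y = x : swap
      have hgz : g • z = z := by
        rcases h2 with h2 | h2 | h2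
        · exfalso
          have : g • z = g • y := by rw [h1]; exact h2
          exact hyz (hinj g this).symm
        · exact absurd h2 hgz_ne
        · exact h2
      refine ⟨g, Or.inl ⟨x, y, hxy, hgx, h1, ?_⟩⟩
      intro w hwx hwy
      by_cases hwz : w = z
      · rw [hwz]; exact hgz
      · exact hout w hwx hwy hwz
    · exact absurd h1 hgy_ne
    · -- g y = z : 3-cycle
      have hgz : g • z = x := by
        rcases h2 with h2 | h2 | h2
        · exact h2
        · exact absurd h2 hgz_ne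
        · exfalso
          have : g • z = g • y := by rw [h1]; exact h2
          exact hyz (hinj g this).symm
      exact ⟨g, Or.inr ⟨x, y, z, hxy, hyz, hxz, hgx, h1, hgz, hout⟩⟩

/-- Marggraf's theorem, element form: a primitive group with a Jordan set of size `m`,
`1 < m < n/2`, contains a transposition or a 3-cycle. -/
theorem marggraf_small : ∀ n : ℕ, ∀ (G : Type u) (Ω : Type v) [Group G] [MulAction G Ω]
    [Finite Ω], Nat.card Ω = n → IsPreprimitive G Ω → ∀ Δ : Set Ω, JSet G Δ → 2 ≤ Δ.ncard →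
    2 * Δ.ncard < Nat.card Ω → Small G Ω := by
  intro n
  induction n using Nat.strong_induction_on with
  | _ n ih =>
    intro G Ω _ _ _ hn hprim Δ hJ h2Δ hsmall
    by_cases hm : Δ.ncard ≤ 3
    · exact small_of_le_three hJ h2Δ hm
    · push_neg at hm
      have h4 : 4 ≤ Δ.ncard := hm
      have h2 : Tr2 G Ω := tr2_of_prim hprim hJ h2Δ (by omega)
      have h3 : Tr3 G Ω := tr3 h2 hJ h2Δ hsmall
      have hcompl := Set.ncard_add_ncard_compl Δ (Set.toFinite _) (Set.toFinite _)
      have hΔne : Δ.Nonempty := by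
        rw [← Set.ncard_pos (Set.toFinite _)]; omega
      obtain ⟨J, hJsub, hJ2, hJm, hJJ⟩ := inner_jordan h2 h3 hJ h4 hsmall
      haveI : Fintype ↥(Δᶜ) := Fintype.ofFinite _
      haveI : DecidableEq ↥(Δᶜ) := Classical.decEq _
      have hstab : ∀ x : G, x • Δ = Δ → x ∈ stabilizer G Δᶜ := by
        intro x hx
        rw [mem_stabilizer_iff, Set.smul_set_compl, hx]
      have hNprim : IsPreprimitive (stabilizer G Δᶜ) ↥(Δᶜ) := by
        apply isPreprimitive_of_is_two_pretransitive
        rw [is_two_pretransitive_iff]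
        intro a b c d hab hcd
        obtain ⟨x, hxΔ, hxa, hxb⟩ := stab_two_trans h2 h3 hJ hΔne a b c d a.2 b.2 c.2 d.2
          (fun h => hab (Subtype.ext h)) (fun h => hcd (Subtype.ext h))
        exact ⟨⟨x, hstab x hxΔ⟩, Subtype.ext hxa, Subtype.ext hxb⟩
      let J' : Set ↥(Δᶜ) := {w | (w : Ω) ∈ J}
      have hJ'J : JSet (stabilizer G Δᶜ) J' := by
        intro w hw w' hw'
        obtain ⟨k, hkΔ, hkfix, hkw⟩ := hJJ _ hw _ hw'
        refine ⟨⟨k, hstab k hkΔ⟩, ?_, Subtype.ext hkw⟩
        intro z hz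
        exact Subtype.ext (hkfix z z.2 hz)
      have hJ'card : J'.ncard = J.ncard := by
        rw [← Set.ncard_image_of_injective J' Subtype.val_injective]
        congr 1
        ext z
        constructor
        · rintro ⟨w, hw, rfl⟩; exact hw
        · intro hz; exact ⟨⟨z, hJsub hz⟩, hz, rfl⟩
      have hΓcard : Nat.card ↥(Δᶜ) = Δᶜ.ncard := Nat.card_coe_set_eq _
      have hsm : Small (stabilizer G Δᶜ) ↥(Δᶜ) :=
        ih (Nat.card ↥(Δᶜ)) (by omega) (stabilizer G Δᶜ) ↥(Δᶜ) rfl hNprim J' hJ'J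
          (by omega) (by omega)
      have hA := alt_le_range hNprim hsm
      exact kernel_arg h2Δ hsmall (by omega) hA

end Cfsg.Agent.Lib.Helper3.Marg
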