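import Cfsg.Agent.Lib.Helper3.MargG

set_option autoImplicit false
open scoped Pointwise
open MulAction

namespace Cfsg.Agent.Lib.Helper3.Marg

universe u v w

theorem ncard_preimage_const {α : Type*} {β : Type*} [Finite α] [Finite β] (f : α → β) (b : ℕ)
    (hb : ∀ y : β, (f ⁻¹' {y}).ncard = b) (T : Set β) : (f ⁻¹' T).ncard = b * T.ncard := by
  refine Set.Finite.induction_on (motive := fun T _ => (f ⁻¹' T).ncard = b * T.ncard) T
    (Set.toFinite T) ?_ ?_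
  · simp
  · intro a s ha hs ih
    rw [Set.ncard_insert_of_notMem ha hs, Set.insert_eq, Set.preimage_union,
      Set.ncard_union_eq ?_ (Set.toFinite _) (Set.toFinite _), hb a, ih]
    · ring
    · rw [Set.disjoint_left]
      intro z hz1 hz2
      have h1 : f z = a := hz1
      have h2 : f z ∈ s := hz2
      rw [h1] at h2
      exact ha h2

section
variable {G : Type u} {Ω : Type v} {X : Type w} [Group G] [MulAction G Ω] [MulAction G X]

theorem fiber_smul (π : Ω → X) (hπ : ∀ (g : G) ω, π (g • ω) = g • π ω) (g : G) (x : X) :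
    π ⁻¹' {g • x} = g • (π ⁻¹' {x}) := by
  ext ω
  rw [Set.mem_smul_set_iff_inv_smul_mem]
  show π ω = g • x ↔ π (g⁻¹ • ω) = x
  rw [hπ, inv_smul_eq_iff]

theorem fiber_card [Finite Ω] [IsPretransitive G X] (π : Ω → X)
    (hπ : ∀ (g : G) ω, π (g • ω) = g • π ω) (x y : X) :
    (π ⁻¹' {y}).ncard = (π ⁻¹' {x}).ncard := by
  obtain ⟨g, rfl⟩ := MulAction.exists_smul_eq G x y
  rw [fiber_smul π hπ, Set.ncard_smul_set]

theorem faithful_quot [FaithfulSMul G Ω] [Nontrivial X]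
    (hqp : ∀ N : Subgroup G, N.Normal → N ≠ ⊥ → MulAction.IsPretransitive ↥N Ω)
    (π : Ω → X) (hπ : ∀ (g : G) ω, π (g • ω) = g • π ω) (hsurj : Function.Surjective π)
    (g : G) (hg : ∀ x : X, g • x = x) : g = 1 := by
  by_contra hne
  have hK : (MulAction.toPermHom G X).ker ≠ ⊥ := by
    intro hbot
    apply hne
    have : g ∈ (MulAction.toPermHom G X).ker := by
      rw [MonoidHom.mem_ker]
      ext x
      exact hg x
    rw [hbot] at this
    exact Subgroup.mem_bot.mp this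
  have htr := hqp _ (MonoidHom.normal_ker _) hK
  obtain ⟨x, y, hxy⟩ := exists_pair_ne X
  obtain ⟨ω, rfl⟩ := hsurj x
  obtain ⟨ω', rfl⟩ := hsurj y
  obtain ⟨k, hk⟩ := MulAction.exists_smul_eq ↥(MulAction.toPermHom G X).ker ω ω'
  apply hxy
  have hk2 : (k : G) • ω = ω' := hk
  have hk3 : MulAction.toPermHom G X (k : G) = 1 := MonoidHom.mem_ker.mp k.2
  have hk4 : (k : G) • π ω = π ω := congrArg (fun p : Equiv.Perm X => p (π ω)) hk3
  rw [← hk2, hπ, hk4]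

/-- The fibres of `π` contained in `Δ`. -/
def quotSet (π : Ω → X) (Δ : Set Ω) : Set X := {x | ∀ ω, π ω = x → ω ∈ Δ}

theorem quot_fix (π : Ω → X) (hπ : ∀ (g : G) ω, π (g • ω) = g • π ω) {Δ : Set Ω} {g : G}
    (hg : ∀ z, z ∉ Δ → g • z = z) : ∀ x, x ∉ quotSet π Δ → g • x = x := by
  intro x hx
  unfold quotSet at hx
  rw [Set.mem_setOf_eq] at hx
  push_neg at hx
  obtain ⟨ω, rfl, hω⟩ := hx
  rw [← hπ, hg ω hω]

theorem quot_nonempty [FaithfulSMul G Ω] [Nontrivial X] [Finite Ω]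
    (hqp : ∀ N : Subgroup G, N.Normal → N ≠ ⊥ → MulAction.IsPretransitive ↥N Ω)
    (π : Ω → X) (hπ : ∀ (g : G) ω, π (g • ω) = g • π ω) (hsurj : Function.Surjective π)
    {Δ : Set Ω} (hJ : JSet G Δ) (h2Δ : 2 ≤ Δ.ncard) : (quotSet π Δ).Nonempty := by
  by_contra hne
  rw [Set.not_nonempty_iff_eq_empty] at hne
  obtain ⟨δ₁, δ₂, h1, h2, h12⟩ := (Set.one_lt_ncard_iff (Set.toFinite Δ)).mp h2Δ
  obtain ⟨g, hg, hgδ⟩ := hJ δ₁ h1 δ₂ h2
  have hg1 : g = 1 := by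
    apply faithful_quot hqp π hπ hsurj
    intro x
    apply quot_fix π hπ hg
    rw [hne]
    exact Set.notMem_empty x
  rw [hg1, one_smul] at hgδ
  exact h12 hgδ

theorem quot_preimage [FaithfulSMul G Ω] [Nontrivial X] [Finite Ω]
    (hqp : ∀ N : Subgroup G, N.Normal → N ≠ ⊥ → MulAction.IsPretransitive ↥N Ω)
    (π : Ω → X) (hπ : ∀ (g : G) ω, π (g • ω) = g • π ω) (hsurj : Function.Surjective π)
    {Δ : Set Ω} (hJ : JSet G Δ) (h2Δ : 2 ≤ Δ.ncard) : π ⁻¹' (quotSet π Δ) = Δ := by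
  apply Set.Subset.antisymm
  · intro ω hω
    exact hω ω rfl
  · intro δ hδ
    obtain ⟨x1, hx1⟩ := quot_nonempty hqp π hπ hsurj hJ h2Δ
    obtain ⟨δ1, rfl⟩ := hsurj x1
    have hδ1 : δ1 ∈ Δ := hx1 δ1 rfl
    obtain ⟨g, hg, hgδ⟩ := hJ δ1 hδ1 δ hδ
    intro ω' hω'
    have h1 : π (g⁻¹ • ω') = π δ1 := by
      rw [hπ, hω', ← hπ, ← hgδ, inv_smul_smul]
    have h2 : g⁻¹ • ω' ∈ Δ := hx1 _ h1
    have h3 := fix_mem hg h2
    rwa [smul_inv_smul] at h3

theorem quot_jset (π : Ω → X) (hπ : ∀ (g : G) ω, π (g • ω) = g • π ω)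
    (hsurj : Function.Surjective π) {Δ : Set Ω} (hJ : JSet G Δ) : JSet G (quotSet π Δ) := by
  intro x hx y hy
  obtain ⟨δx, rfl⟩ := hsurj x
  obtain ⟨δy, rfl⟩ := hsurj y
  obtain ⟨g, hg, hgδ⟩ := hJ δx (hx δx rfl) δy (hy δy rfl)
  exact ⟨g, quot_fix π hπ hg, by rw [← hπ, hgδ]⟩

end

end Cfsg.Agent.Lib.Helper3.Marg
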