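import Cfsg.Agent.Lib.Helper3.MargH

set_option autoImplicit false
open scoped Pointwise
open MulAction

namespace Cfsg.Agent.Lib.Helper3.Marg

universe u v w

theorem fiber_contra {G : Type u} {Ω : Type v} {X : Type w} [Group G] [MulAction G Ω]
    [MulAction G X] [Fintype X] [DecidableEq X]
    (hqp : ∀ N : Subgroup G, N.Normal → N ≠ ⊥ → MulAction.IsPretransitive ↥N Ω)
    (π : Ω → X) (hπ : ∀ (g : G) ω, π (g • ω) = g • π ω)
    (hfaith : ∀ g : G, (∀ x : X, g • x = x) → g = 1)
    (hA : alternatingGroup X ≤ (MulAction.toPermHom G X).range)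
    (h6 : 6 ≤ Nat.card X) (x0 : X) (ω0 ω1 : Ω) (h0 : π ω0 = x0) (h1 : π ω1 = x0)
    (hne : ω0 ≠ ω1) (u : G) (hu1 : u ≠ 1) (hufix : ∀ ω, π ω = x0 → u • ω = ω)
    (hus : Equiv.Perm.sign (MulAction.toPermHom G X u) = 1) : False := by
  classical
  have hux0 : u • x0 = x0 := by rw [← h0, ← hπ, hufix ω0 h0]
  have hstabY : ∀ g : G, g • x0 = x0 → g ∈ stabilizer G ({x0}ᶜ : Set X) := by
    intro g hg
    rw [mem_stabilizer_iff, Set.smul_set_compl, Set.smul_set_singleton, hg]
  have hstabY' : ∀ n : stabilizer G ({x0}ᶜ : Set X), (n : G) • x0 = x0 := by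
    intro n
    have := n.2
    rw [mem_stabilizer_iff, Set.smul_set_compl, Set.smul_set_singleton, compl_inj_iff] at this
    exact Set.singleton_injective this
  have hx0Y : x0 ∉ ({x0}ᶜ : Set X) := fun h => h rfl
  have hA' : alternatingGroup ↥({x0}ᶜ : Set X) ≤
      (MulAction.toPermHom (stabilizer G ({x0}ᶜ : Set X)) ↥({x0}ᶜ : Set X)).range := by
    intro σ hσ
    have hτ : Equiv.Perm.ofSubtype σ ∈ alternatingGroup X := by
      rw [Equiv.Perm.mem_alternatingGroup, Equiv.Perm.sign_ofSubtype]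
      exact Equiv.Perm.mem_alternatingGroup.mp hσ
    obtain ⟨g, hg⟩ := hA hτ
    have hgx0 : g • x0 = x0 := by
      have h := congrArg (fun p : Equiv.Perm X => p x0) hg
      simp only [MulAction.toPermHom_apply, MulAction.toPerm_apply] at h
      rw [h]
      exact Equiv.Perm.ofSubtype_apply_of_not_mem σ hx0Y
    refine ⟨⟨g, hstabY g hgx0⟩, ?_⟩
    ext w
    have h := congrArg (fun p : Equiv.Perm X => p (w : X)) hg
    simp only [MulAction.toPermHom_apply, MulAction.toPerm_apply] at h
    rw [Equiv.Perm.ofSubtype_apply_coe] at h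
    exact h
  have hsignN : ∀ n : stabilizer G ({x0}ᶜ : Set X),
      Equiv.Perm.sign (MulAction.toPermHom (stabilizer G ({x0}ᶜ : Set X)) ↥({x0}ᶜ : Set X) n) =
      Equiv.Perm.sign (MulAction.toPermHom G X (n : G)) := by
    intro n
    rw [← Equiv.Perm.sign_ofSubtype]
    congr 1
    ext x
    by_cases hx : x ∈ ({x0}ᶜ : Set X)
    · rw [Equiv.Perm.ofSubtype_apply_of_mem _ hx]; rfl
    · rw [Equiv.Perm.ofSubtype_apply_of_not_mem _ hx]
      have hx0 : x = x0 := by
        by_contra h
        exact hx h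
      rw [hx0]
      exact (hstabY' n).symm
  let D : Subgroup (stabilizer G ({x0}ᶜ : Set X)) :=
    { carrier := {n | ∀ ω, π ω = x0 → (n : G) • ω = ω}
      one_mem' := fun ω _ => one_smul _ _
      mul_mem' := by
        intro a b ha hb ω hω
        show ((a * b : stabilizer G ({x0}ᶜ : Set X)) : G) • ω = ω
        rw [Subgroup.coe_mul, mul_smul, hb ω hω, ha ω hω]
      inv_mem' := by
        intro a ha ω hω
        show ((a⁻¹ : stabilizer G ({x0}ᶜ : Set X)) : G) • ω = ω
        rw [Subgroup.coe_inv, inv_smul_eq_iff, ha ω hω] }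
  have hDn : D.Normal := by
    constructor
    intro x hx n ω hω
    show ((n * x * n⁻¹ : stabilizer G ({x0}ᶜ : Set X)) : G) • ω = ω
    rw [Subgroup.coe_mul, Subgroup.coe_mul, mul_smul, mul_smul]
    have h1' : π (((n⁻¹ : stabilizer G ({x0}ᶜ : Set X)) : G) • ω) = x0 := by
      rw [hπ, hω]
      exact hstabY' n⁻¹
    rw [hx _ h1', Subgroup.coe_inv, smul_inv_smul]
  have hcardY : Nat.card ↥({x0}ᶜ : Set X) = Nat.card X - 1 := by
    rw [Nat.card_coe_set_eq]
    have := Set.ncard_add_ncard_compl ({x0} : Set X) (Set.toFinite _) (Set.toFinite _)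
    rw [Set.ncard_singleton] at this
    omega
  have hall : ∀ g k : G, g • x0 = x0 → k • x0 = x0 →
      (∀ w : ↥({x0}ᶜ : Set X), g • (w : X) = k • (w : X)) → g = k := by
    intro g k hg hk hw
    have : k⁻¹ * g = 1 := by
      apply hfaith
      intro x
      rw [mul_smul, inv_smul_eq_iff]
      by_cases hx : x = x0
      · rw [hx, hg, hk]
      · exact hw ⟨x, hx⟩
    rw [inv_mul_eq_one] at this
    exact this.symm
  rcases alt_normal_dich (by rw [hcardY]; omega)
    (MulAction.toPermHom (stabilizer G ({x0}ᶜ : Set X)) ↥({x0}ᶜ : Set X)) hA' D with h | h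
  · -- the preimage of the alternating group is transitive
    have hAn : ((alternatingGroup X).comap (MulAction.toPermHom G X)).Normal :=
      Subgroup.Normal.comap inferInstance _
    have hAne : (alternatingGroup X).comap (MulAction.toPermHom G X) ≠ ⊥ := by
      intro hbot
      apply hu1
      have : u ∈ (alternatingGroup X).comap (MulAction.toPermHom G X) := by
        rw [Subgroup.mem_comap, Equiv.Perm.mem_alternatingGroup]
        exact hus
      rw [hbot] at this
      exact Subgroup.mem_bot.mp this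
    have htr := hqp _ hAn hAne
    obtain ⟨a, ha⟩ := MulAction.exists_smul_eq
      ↥((alternatingGroup X).comap (MulAction.toPermHom G X)) ω0 ω1
    have ha' : (a : G) • ω0 = ω1 := ha
    have hax0 : (a : G) • x0 = x0 := by rw [← h0, ← hπ, ha', h1, h0]
    have hasign : Equiv.Perm.sign (MulAction.toPermHom G X (a : G)) = 1 := by
      have := a.2
      rw [Subgroup.mem_comap, Equiv.Perm.mem_alternatingGroup] at this
      exact this
    have hmem : MulAction.toPermHom (stabilizer G ({x0}ᶜ : Set X)) ↥({x0}ᶜ : Set X)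
        ⟨(a : G), hstabY _ hax0⟩ ∈ alternatingGroup ↥({x0}ᶜ : Set X) := by
      rw [Equiv.Perm.mem_alternatingGroup, hsignN]
      exact hasign
    obtain ⟨d, hd, hdeq⟩ := h hmem
    have hda : (d : G) = (a : G) := by
      apply hall _ _ (hstabY' d) hax0
      intro w
      have := congrArg (fun p : Equiv.Perm ↥({x0}ᶜ : Set X) => ((p w : ↥({x0}ᶜ : Set X)) : X)) hdeq
      exact this
    have : (a : G) • ω0 = ω0 := by
      rw [← hda]
      exact hd ω0 h0
    rw [ha'] at this
    exact hne this.symm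
  · -- u maps to a nontrivial even element of D
    have huD : (⟨u, hstabY u hux0⟩ : stabilizer G ({x0}ᶜ : Set X)) ∈ D := hufix
    have h1' : MulAction.toPermHom (stabilizer G ({x0}ᶜ : Set X)) ↥({x0}ᶜ : Set X)
        ⟨u, hstabY u hux0⟩ ∈ Subgroup.map (MulAction.toPermHom (stabilizer G ({x0}ᶜ : Set X))
          ↥({x0}ᶜ : Set X)) D := ⟨_, huD, rfl⟩
    have h2' : MulAction.toPermHom (stabilizer G ({x0}ᶜ : Set X)) ↥({x0}ᶜ : Set X)
        ⟨u, hstabY u hux0⟩ ∈ alternatingGroup ↥({x0}ᶜ : Set X) := by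
      rw [Equiv.Perm.mem_alternatingGroup, hsignN]
      exact hus
    have h3 := Subgroup.disjoint_def.mp h h1' h2'
    apply hu1
    apply hall u 1 hux0 (one_smul _ _)
    intro w
    have := congrArg (fun p : Equiv.Perm ↥({x0}ᶜ : Set X) => ((p w : ↥({x0}ᶜ : Set X)) : X)) h3
    rw [one_smul]
    exact this

end Cfsg.Agent.Lib.Helper3.Marg
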