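import Cfsg.Agent.Lib.Helper3.MargI

set_option autoImplicit false
open scoped Pointwise
open MulAction

namespace Cfsg.Agent.Lib.Helper3.Marg

universe u v w

theorem quot_inj {G : Type u} {Ω : Type v} {X : Type w} [Group G] [MulAction G Ω]
    [MulAction G X] [FaithfulSMul G Ω] [Finite Ω] [Finite X] [Nontrivial X]
    (hqp : ∀ N : Subgroup G, N.Normal → N ≠ ⊥ → MulAction.IsPretransitive ↥N Ω)
    (hprimX : IsPreprimitive G X)
    (π : Ω → X) (hπ : ∀ (g : G) ω, π (g • ω) = g • π ω) (hsurj : Function.Surjective π)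
    {Δ : Set Ω} (hJ : JSet G Δ) (h2Δ : 2 ≤ Δ.ncard) (hsmall : 2 * Δ.ncard < Nat.card Ω) :
    Function.Injective π := by
  classical
  by_contra hinj
  rw [Function.Injective] at hinj
  push_neg at hinj
  obtain ⟨ωa, ωb, hπab, hneab⟩ := hinj
  haveI : IsPretransitive G X := hprimX.toIsPretransitive
  obtain ⟨b, hbdef⟩ : ∃ b : ℕ, b = (π ⁻¹' {π ωa}).ncard := ⟨_, rfl⟩
  have hfib : ∀ y : X, (π ⁻¹' {y}).ncard = b := by
    intro y
    rw [hbdef]
    exact fiber_card π hπ (π ωa) y
  have hb2 : 2 ≤ b := by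
    have : 1 < (π ⁻¹' {π ωa}).ncard := by
      rw [Set.one_lt_ncard_iff (Set.toFinite _)]
      exact ⟨ωa, ωb, rfl, hπab.symm, hneab⟩
    omega
  obtain ⟨ΔX, hΔXdef⟩ : ∃ S : Set X, S = quotSet π Δ := ⟨_, rfl⟩
  have hpre : π ⁻¹' ΔX = Δ := by
    rw [hΔXdef]; exact quot_preimage hqp π hπ hsurj hJ h2Δ
  have hJX : JSet G ΔX := by
    rw [hΔXdef]; exact quot_jset π hπ hsurj hJ
  have hqfix : ∀ {g : G}, (∀ z, z ∉ Δ → g • z = z) → ∀ x, x ∉ ΔX → g • x = x := by
    intro g hg
    rw [hΔXdef]; exact quot_fix π hπ hg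
  have hm : Δ.ncard = b * ΔX.ncard := by
    rw [← hpre]; exact ncard_preimage_const π b hfib ΔX
  have hn : Nat.card Ω = b * Nat.card X := by
    have := ncard_preimage_const π b hfib Set.univ
    rw [Set.preimage_univ, Set.ncard_univ, Set.ncard_univ] at this
    exact this
  have hfaith : ∀ g : G, (∀ x : X, g • x = x) → g = 1 := faithful_quot hqp π hπ hsurj
  -- at least two fibres
  have hk2 : 2 ≤ ΔX.ncard := by
    by_contra hlt
    push_neg at hlt
    obtain ⟨δ₁, δ₂, h1, h2, h12⟩ := (Set.one_lt_ncard_iff (Set.toFinite Δ)).mp h2Δ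
    obtain ⟨g, hg, hgδ⟩ := hJ δ₁ h1 δ₂ h2
    have hg1 : g = 1 := by
      apply hfaith
      intro x
      by_cases hx : x ∈ ΔX
      · have hgx : g • x ∈ ΔX := fix_mem (hqfix hg) hx
        have hsub : ΔX.Subsingleton := by
          rw [← Set.ncard_le_one_iff_subsingleton]
          omega
        exact hsub hgx hx
      · exact hqfix hg x hx
    rw [hg1, one_smul] at hgδ
    exact h12 hgδ
  have hkX : 2 * ΔX.ncard < Nat.card X := by
    rw [hm, hn] at hsmall
    by_contra hge
    push_neg at hge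
    have h1 : b * Nat.card X ≤ b * (2 * ΔX.ncard) := Nat.mul_le_mul_left b hge
    have h2 : 2 * (b * ΔX.ncard) = b * (2 * ΔX.ncard) := by ring
    omega
  have hsm : Small G X := marggraf_small (Nat.card X) G X rfl hprimX ΔX hJX hk2 hkX
  haveI : Fintype X := Fintype.ofFinite X
  have hA : alternatingGroup X ≤ (MulAction.toPermHom G X).range := alt_le_range hprimX hsm
  -- three distinct points of Δ
  have hm3 : 2 < Δ.ncard := by
    rw [hm]
    have : 2 * 2 ≤ b * ΔX.ncard := Nat.mul_le_mul hb2 hk2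
    omega
  obtain ⟨δ, δ', δ'', hd, hd', hd'', hdd', hdd'', hd'd''⟩ :=
    (Set.two_lt_ncard_iff (Set.toFinite Δ)).mp hm3
  obtain ⟨h1, hh1, h1δ⟩ := hJ δ hd δ' hd'
  obtain ⟨h2, hh2, h2δ⟩ := hJ δ hd δ'' hd''
  obtain ⟨u, hu, hu1, hus⟩ : ∃ u : G, (∀ z, z ∉ Δ → u • z = z) ∧ u ≠ 1 ∧
      Equiv.Perm.sign (MulAction.toPermHom G X u) = 1 := by
    have h1ne : h1 ≠ 1 := by
      intro h
      rw [h, one_smul] at h1δ
      exact hdd' h1δ
    have h2ne : h2 ≠ 1 := by
      intro h
      rw [h, one_smul] at h2δ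
      exact hdd'' h2δ
    rcases Int.units_eq_one_or (Equiv.Perm.sign (MulAction.toPermHom G X h1)) with s1 | s1
    · exact ⟨h1, hh1, h1ne, s1⟩
    rcases Int.units_eq_one_or (Equiv.Perm.sign (MulAction.toPermHom G X h2)) with s2 | s2
    · exact ⟨h2, hh2, h2ne, s2⟩
    refine ⟨h1⁻¹ * h2, fix_mul (fix_inv hh1) hh2, ?_, ?_⟩
    · intro h
      rw [inv_mul_eq_one] at h
      apply hd'd''
      rw [← h1δ, ← h2δ, h]
    · rw [map_mul, map_mul, map_inv, map_inv, s1, s2]
      decide
  have hux := hqfix hu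
  -- exclude two fibres
  have hk3 : 3 ≤ ΔX.ncard := by
    by_contra hlt
    have hk : ΔX.ncard = 2 := by omega
    obtain ⟨x1, x2, hx12, hΔX2⟩ := Set.ncard_eq_two.mp hk
    have hx1 : x1 ∈ ΔX := by rw [hΔX2]; exact Or.inl rfl
    have hx2 : x2 ∈ ΔX := by rw [hΔX2]; exact Or.inr rfl
    have hu1' : u • x1 ∈ ΔX := fix_mem hux hx1
    have hu2' : u • x2 ∈ ΔX := fix_mem hux hx2
    have hout : ∀ z, z ≠ x1 → z ≠ x2 → u • z = z := by
      intro z hz1 hz2
      apply hux
      rw [hΔX2]
      rintro (h | h)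
      · exact hz1 h
      · exact hz2 h
    rw [hΔX2] at hu1' hu2'
    by_cases hfix : u • x1 = x1
    · have hfix2 : u • x2 = x2 := by
        rcases hu2' with h | h
        · exfalso
          have : u • x2 = u • x1 := by rw [hfix]; exact h
          exact hx12 (smul_left_cancel u this).symm
        · exact h
      apply hu1
      apply hfaith
      intro x
      by_cases hxa : x = x1
      · rw [hxa]; exact hfix
      · by_cases hxb : x = x2
        · rw [hxb]; exact hfix2
        · exact hout x hxa hxb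
    · have h12 : u • x1 = x2 := by
        rcases hu1' with h | h
        · exact absurd h hfix
        · exact h
      have h21 : u • x2 = x1 := by
        rcases hu2' with h | h
        · exact h
        · exfalso
          have : u • x2 = u • x1 := by rw [h12]; exact h
          exact hx12 (smul_left_cancel u this).symm
      have heq : MulAction.toPermHom G X u = Equiv.swap x1 x2 := by
        ext z
        rw [MulAction.toPermHom_apply, MulAction.toPerm_apply]
        by_cases hz1 : z = x1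
        · rw [hz1, h12, Equiv.swap_apply_left]
        · by_cases hz2 : z = x2
          · rw [hz2, h21, Equiv.swap_apply_right]
          · rw [Equiv.swap_apply_of_ne_of_ne hz1 hz2]
            exact hout z hz1 hz2
      rw [heq, Equiv.Perm.sign_swap hx12] at hus
      exact absurd hus (by decide)
  -- a point outside the Jordan set of the quotient
  obtain ⟨x0, hx0⟩ : ∃ x0 : X, x0 ∉ ΔX := by
    by_contra hall
    push_neg at hall
    have : ΔX = Set.univ := Set.eq_univ_of_forall hall
    rw [this, Set.ncard_univ] at hkX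
    omega
  have hfib0 : 1 < (π ⁻¹' {x0}).ncard := by rw [hfib x0]; omega
  obtain ⟨ω0, ω1, h0, h1', hne01⟩ := (Set.one_lt_ncard_iff (Set.toFinite _)).mp hfib0
  have hufix : ∀ ω, π ω = x0 → u • ω = ω := by
    intro ω hω
    apply hu
    intro hωΔ
    rw [← hpre] at hωΔ
    apply hx0
    rw [← hω]
    exact hωΔ
  exact fiber_contra hqp π hπ hfaith hA (by omega) x0 ω0 ω1 h0 h1' hne01 u hu1 hufix hus

end Cfsg.Agent.Lib.Helper3.Marg
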