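import Cfsg.Agent.Lib.Helper3.MargJ

set_option autoImplicit false
open scoped Pointwise
open MulAction

namespace Cfsg.Agent.Lib.Helper3.Marg

universe u v

/-- A finite faithful quasiprimitive group with a Jordan set of size `m`, `1 < m < n/2`, is
primitive. -/
theorem prim_of_qp {G : Type u} {Ω : Type v} [Group G] [Finite G] [MulAction G Ω]
    [FaithfulSMul G Ω] [Finite Ω]
    (hqp : ∀ N : Subgroup G, N.Normal → N ≠ ⊥ → MulAction.IsPretransitive ↥N Ω)
    {Δ : Set Ω} (hJ : JSet G Δ) (h2Δ : 2 ≤ Δ.ncard) (hsmall : 2 * Δ.ncard < Nat.card Ω) :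
    IsPreprimitive G Ω := by
  classical
  obtain ⟨δ₁, δ₂, h1, h2, h12⟩ := (Set.one_lt_ncard_iff (Set.toFinite Δ)).mp h2Δ
  obtain ⟨g0, hg0, hg0δ⟩ := hJ δ₁ h1 δ₂ h2
  have hg0ne : g0 ≠ 1 := by
    intro h
    rw [h, one_smul] at hg0δ
    exact h12 hg0δ
  have hGne : (⊤ : Subgroup G) ≠ ⊥ := by
    intro hbot
    apply hg0ne
    have : g0 ∈ (⊤ : Subgroup G) := Subgroup.mem_top g0
    rw [hbot] at this
    exact Subgroup.mem_bot.mp this
  have htop := hqp ⊤ inferInstance hGne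
  haveI hGtrans : MulAction.IsPretransitive G Ω := by
    constructor
    intro x y
    obtain ⟨g, hg⟩ := MulAction.exists_smul_eq (⊤ : Subgroup G) x y
    exact ⟨g.1, hg⟩
  haveI : Nontrivial Ω := ⟨⟨δ₁, δ₂, h12⟩⟩
  by_contra hnp
  have hnc : ¬ IsCoatom (stabilizer G δ₁) := fun hc =>
    hnp ((isCoatom_stabilizer_iff_preprimitive G δ₁).mp hc)
  have hnetop : stabilizer G δ₁ ≠ ⊤ := by
    intro htop'
    have : g0 ∈ stabilizer G δ₁ := by rw [htop']; exact Subgroup.mem_top _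
    rw [mem_stabilizer_iff, hg0δ] at this
    exact h12 this.symm
  rcases eq_top_or_exists_le_coatom (stabilizer G δ₁) with h | ⟨S, hS, hle⟩
  · exact hnetop h
  have hneS : stabilizer G δ₁ ≠ S := by
    intro h
    rw [h] at hnc
    exact hnc hS
  obtain ⟨s0, hs0S, hs0⟩ := SetLike.exists_of_lt (lt_of_le_of_ne hle hneS)
  obtain ⟨g1, -, hg1⟩ := SetLike.exists_of_lt hS.lt_top
  haveI : Nontrivial (G ⧸ S) := by
    refine ⟨⟨(g1 : G ⧸ S), ((1 : G) : G ⧸ S), ?_⟩⟩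
    intro h
    rw [QuotientGroup.eq, mul_one] at h
    exact hg1 (by simpa using S.inv_mem h)
  have hprimX : IsPreprimitive G (G ⧸ S) := by
    apply (isCoatom_stabilizer_iff_preprimitive G (((1 : G) : G ⧸ S))).mp
    rw [MulAction.stabilizer_quotient]
    exact hS
  have hrep : ∀ ω : Ω, ∃ g : G, g • δ₁ = ω := fun ω => MulAction.exists_smul_eq G δ₁ ω
  choose rep hrep using hrep
  let π : Ω → G ⧸ S := fun ω => ((rep ω : G) : G ⧸ S)
  have hπ' : ∀ (g : G) (ω : Ω), g • δ₁ = ω → π ω = (g : G ⧸ S) := by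
    intro g ω h
    show ((rep ω : G) : G ⧸ S) = (g : G ⧸ S)
    rw [QuotientGroup.eq]
    apply hle
    rw [mem_stabilizer_iff, mul_smul, h, inv_smul_eq_iff, hrep ω]
  have hπ : ∀ (g : G) (ω : Ω), π (g • ω) = g • π ω := by
    intro g ω
    rw [hπ' (g * rep ω) (g • ω) (by rw [mul_smul, hrep])]
    rfl
  have hsurj : Function.Surjective π := by
    intro x
    obtain ⟨g, rfl⟩ := QuotientGroup.mk_surjective x
    exact ⟨g • δ₁, hπ' g _ rfl⟩
  have hinj := quot_inj hqp hprimX π hπ hsurj hJ h2Δ hsmall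
  apply hs0
  rw [mem_stabilizer_iff]
  apply hinj
  rw [hπ' s0 _ rfl, hπ' 1 δ₁ (one_smul _ _), QuotientGroup.eq, mul_one]
  exact S.inv_mem hs0S

end Cfsg.Agent.Lib.Helper3.Marg
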