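import Mathlib
import Cfsg.Agent.Lib.Helper3.McL275A
import Cfsg.Agent.Lib.Helper3.Co2G
import Cfsg.Agent.S1605

/-!
Helper library (helper3): in the standard McLaughlin configuration the joint stabiliser of the
three standard vectors is transitive on the `112` vectors of the `275`-set having inner product `8`
with the third one (two frames and a counting argument).
-/

set_option autoImplicit false

namespace Cfsg.Agent.Lib.Helper3

open Cfsg Cfsg.Agent.Lib.Helper21 Cfsg.Agent.S1578 Cfsg.Agent.S1580 MulAction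
open scoped Pointwise

/-- the standard configuration -/
noncomputable def U0 : leechLattice := -vS
noncomputable def v0 : leechLattice := -xS
noncomputable def x0 : leechLattice := ⟨x0f, leechLattice.neg_mem (P44_mem h01')⟩
noncomputable def x3 : leechLattice := ⟨ov O0 none, ov_mem O0_spec.1.1 none⟩

theorem U0_val : U0.1 = V0 := by
  funext i
  show -(p5 none i) = V0 i
  unfold p5 V0
  split_ifs <;> norm_num

theorem v0_val : v0.1 = -P44 none (some 0) := rfl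

theorem x0_val : x0.1 = x0f := rfl

theorem mem_Xstd_iff (y : leechLattice) :
    y.1 ∈ Xstd ↔ sqNorm y.1 = 32 ∧ dotInt U0.1 y.1 = 24 ∧ dotInt v0.1 y.1 = 16 := by
  rw [U0_val, v0_val]
  constructor
  · rintro ⟨-, h⟩
    exact h
  · intro h
    exact ⟨y.2, h⟩

theorem smul_mem_Xstd {g : ↥Co0} (gU : g • U0 = U0) (gv : g • v0 = v0) {y : leechLattice}
    (hy : y.1 ∈ Xstd) : (g • y : leechLattice).1 ∈ Xstd := by
  rw [mem_Xstd_iff] at hy ⊢
  obtain ⟨h1, h2, h3⟩ := hy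
  have gU' : g.1 U0 = U0 := gU
  have gv' : g.1 v0 = v0 := gv
  have e1 := co0_dot g.2 U0 y
  have e2 := co0_dot g.2 v0 y
  rw [gU'] at e1
  rw [gv'] at e2
  refine ⟨?_, ?_, ?_⟩
  · show sqNorm (g.1 y).1 = 32
    rw [g.2.2]; exact h1
  · exact e1.trans h2
  · exact e2.trans h3

theorem perm_fix_U0v0 (σ : ↥M24) (hn : σ.1 none = none) (h0 : σ.1 (some 0) = some 0) :
    permHom σ • U0 = U0 ∧ permHom σ • v0 = v0 := by
  obtain ⟨e1, -, e3⟩ := permHom_fix σ hn h0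
  constructor
  · unfold U0; rw [co0_neg, e1]
  · unfold v0; rw [co0_neg, e3]

theorem perm_fix_x0 (σ : ↥M24) (hn : σ.1 none = none) (h1 : σ.1 (some 1) = some 1) :
    permHom σ • x0 = x0 := by
  apply Subtype.ext; funext i
  rw [permHom_apply]
  show x0f (σ.1⁻¹ i) = x0f i
  unfold x0f P44
  have e1 : σ.1⁻¹ i = none ↔ i = none := by rw [Equiv.Perm.inv_eq_iff_eq, hn]
  have e2 : σ.1⁻¹ i = some 1 ↔ i = some 1 := by rw [Equiv.Perm.inv_eq_iff_eq, h1]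
  simp only [Pi.neg_apply, e1, e2]

theorem perm_fix_x3 (σ : ↥M24) (hn : σ.1 none = none) (hO : σ.1 • O0 = O0) :
    permHom σ • x3 = x3 := by
  apply Subtype.ext
  rw [permHom_val]
  show (fun i => ov O0 none (σ.1⁻¹ i)) = ov O0 none
  rw [ov_perm, hO, hn]

/-- the relation of being conjugate under the stabiliser of the three standard vectors -/
def R0 (y y' : leechLattice) : Prop :=
  ∃ h : ↥Co0, h • U0 = U0 ∧ h • v0 = v0 ∧ h • x0 = x0 ∧ h • y = y'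

theorem R0_symm {y y' : leechLattice} (h : R0 y y') : R0 y' y := by
  obtain ⟨g, g1, g2, g3, g4⟩ := h
  refine ⟨g⁻¹, ?_, ?_, ?_, ?_⟩
  · rw [inv_smul_eq_iff, g1]
  · rw [inv_smul_eq_iff, g2]
  · rw [inv_smul_eq_iff, g3]
  · rw [inv_smul_eq_iff, g4]

theorem R0_trans {y y' y'' : leechLattice} (h : R0 y y') (h' : R0 y' y'') : R0 y y'' := by
  obtain ⟨g, g1, g2, g3, g4⟩ := h
  obtain ⟨k, k1, k2, k3, k4⟩ := h'
  refine ⟨k * g, ?_, ?_, ?_, ?_⟩
  · rw [mul_smul, g1, k1]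
  · rw [mul_smul, g2, k2]
  · rw [mul_smul, g3, k3]
  · rw [mul_smul, g4, k4]

/-- the two families of the first frame -/
theorem R0_E2 {y y' : leechLattice} (hy : y.1 ∈ E2) (hy' : y'.1 ∈ E2) : R0 y y' := by
  obtain ⟨O, hO, eO⟩ := hy
  obtain ⟨O', hO', eO'⟩ := hy'
  obtain ⟨a1, ⟨a2, a3⟩, a4⟩ := Finset.mem_filter.1 hO
  obtain ⟨b1, ⟨b2, b3⟩, b4⟩ := Finset.mem_filter.1 hO'
  obtain ⟨σ, hσ, s0, s1, s2, s3⟩ := flag_in_two_out (mem_octFin.1 a1) (mem_octFin.1 b1) a2 a3 hpq0 a4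
    b2 b3 hpq0 b4
  obtain ⟨f1, f2⟩ := perm_fix_U0v0 ⟨σ, hσ⟩ s1 s2
  refine ⟨permHom ⟨σ, hσ⟩, f1, f2, perm_fix_x0 ⟨σ, hσ⟩ s1 s3, ?_⟩
  apply Subtype.ext
  rw [permHom_val, eO, eO']
  show (fun i => sv 2 O O (σ⁻¹ i)) = sv 2 O' O'
  rw [sv_perm, s0]

theorem R0_E3 {y y' : leechLattice} (hy : y.1 ∈ E3) (hy' : y'.1 ∈ E3) : R0 y y' := by
  obtain ⟨O, hO, eO⟩ := hy
  obtain ⟨O', hO', eO'⟩ := hy'
  obtain ⟨a1, ⟨a2, a3⟩, a4⟩ := Finset.mem_filter.1 hO
  obtain ⟨b1, ⟨b2, b3⟩, b4⟩ := Finset.mem_filter.1 hO'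
  obtain ⟨σ, hσ, s0, s1, s2, s3⟩ := flag_in_two_out (mem_octFin.1 a1) (mem_octFin.1 b1) a2 a3 h01' a4
    b2 b3 h01' b4
  obtain ⟨f1, f2⟩ := perm_fix_U0v0 ⟨σ, hσ⟩ s1 s3
  refine ⟨permHom ⟨σ, hσ⟩, f1, f2, perm_fix_x0 ⟨σ, hσ⟩ s1 s2, ?_⟩
  apply Subtype.ext
  rw [permHom_val, eO, eO']
  show (fun i => ov O none (σ⁻¹ i)) = ov O' none
  rw [ov_perm, s0, s1]

/-! ### the second frame -/

/-- the `70` vectors of the second frame -/
def W70 : Set (GolayPt → ℤ) :=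
  {x | ∃ O ∈ octFin.filter (fun O => ((none : GolayPt) ∈ O ∧ (some 0 : GolayPt) ∉ O) ∧
    (O0 ∩ O).card = 2), x = ov O none}

theorem ncard_W70 : W70.ncard = 70 := by
  classical
  unfold W70
  rw [ncard_family]
  · have h := ((Cfsg.Agent.S1605.result none (some 0) hpq0).2.2 O0 O0_spec).1
    rw [← h, ← Set.ncard_coe_finset]
    congr 1
    ext O
    simp only [Finset.coe_filter, Set.mem_setOf_eq, mem_octFin]
    tauto
  · intro O hO O' hO' h
    exact (ov_inj h).1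

theorem W70_sub {x : GolayPt → ℤ} (h : x ∈ W70) : x ∈ Xstd := by
  obtain ⟨O, hO, rfl⟩ := h
  obtain ⟨h1, ⟨h2, h3⟩, h4⟩ := Finset.mem_filter.1 hO
  rw [Xstd_eq]
  exact Or.inr ⟨O, Finset.mem_filter.2 ⟨h1, h2, h3⟩, rfl⟩

theorem W70_dot {x : GolayPt → ℤ} (h : x ∈ W70) : dotInt x3.1 x = 8 := by
  classical
  obtain ⟨O, hO, rfl⟩ := h
  obtain ⟨h1, ⟨h2, h3⟩, h4⟩ := Finset.mem_filter.1 hO
  show dotInt (ov O0 none) (ov O none) = 8
  rw [dot_ov_same O0_spec.2.1 h2]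
  have hcf := card_flip O0 O
  rw [O0_spec.1.2, (mem_octFin.1 h1).2, h4] at hcf
  have : ((O0 \ O) ∪ (O \ O0)).card = 12 := by omega
  rw [this]; norm_num

theorem x3_mem : x3.1 ∈ Xstd := by
  rw [Xstd_eq]
  exact Or.inr ⟨O0, Finset.mem_filter.2 ⟨mem_octFin.2 O0_spec.1, O0_spec.2.1, O0_spec.2.2⟩, rfl⟩

/-- transitivity of the monomial stabiliser of the second frame on the `70` vectors -/
theorem W70_trans {w w' : leechLattice} (hw : w.1 ∈ W70) (hw' : w'.1 ∈ W70) :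
    ∃ m : ↥Co0, m • U0 = U0 ∧ m • v0 = v0 ∧ m • x3 = x3 ∧ m • w = w' := by
  obtain ⟨O, hO, eO⟩ := hw
  obtain ⟨O', hO', eO'⟩ := hw'
  obtain ⟨a1, ⟨a2, a3⟩, a4⟩ := Finset.mem_filter.1 hO
  obtain ⟨b1, ⟨b2, b3⟩, b4⟩ := Finset.mem_filter.1 hO'
  obtain ⟨σ, hσ, s1, s2, s3, s4⟩ := ((Cfsg.Agent.S1605.result none (some 0) hpq0).2.2 O0
    O0_spec).2.2 O O' ⟨mem_octFin.1 a1, a2, a3⟩ ⟨mem_octFin.1 b1, b2, b3⟩ (by rw [a4, b4])
  obtain ⟨f1, f2⟩ := perm_fix_U0v0 ⟨σ, hσ⟩ s1 s2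
  refine ⟨permHom ⟨σ, hσ⟩, f1, f2, perm_fix_x3 ⟨σ, hσ⟩ s1 s3, ?_⟩
  apply Subtype.ext
  rw [permHom_val, eO, eO']
  show (fun i => ov O none (σ⁻¹ i)) = ov O' none
  rw [ov_perm, s4, s1]

theorem U0_norm : sqNorm U0.1 = 48 := by
  show sqNorm (-vS.1) = 48
  rw [sqNorm_neg]; exact sqNorm_p5 none

theorem v0_norm : sqNorm v0.1 = 32 := by
  show sqNorm (-xS.1) = 32
  rw [sqNorm_neg]; exact xS_norm

theorem U0_v0 : dotInt U0.1 v0.1 = 24 := by
  show dotInt (-vS.1) (-xS.1) = 24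
  rw [dotInt_neg_left, dotInt_neg_right, neg_neg, dotInt_comm, xS_vS]

/-- membership in the `275`-set in the form of the statements -/
theorem mem_stmt_iff (y : leechLattice) :
    (sqNorm y.1 = 32 ∧ sqNorm ((U0 - y : leechLattice) : GolayPt → ℤ) = 32 ∧
      dotInt v0.1 y.1 = 16) ↔ y.1 ∈ Xstd := by
  rw [mem_Xstd_iff]
  have e : ((U0 - y : leechLattice) : GolayPt → ℤ) = U0.1 - y.1 := rfl
  rw [e]
  constructor
  · rintro ⟨h1, h2, h3⟩
    rw [sqNorm_sub, U0_norm, h1] at h2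
    exact ⟨h1, by linarith, h3⟩
  · rintro ⟨h1, h2, h3⟩
    refine ⟨h1, ?_, h3⟩
    rw [sqNorm_sub, U0_norm, h1, h2]; norm_num

/-- an element of the McLaughlin group moving the first frame to the second -/
theorem exists_frame_change : ∃ g : ↥Co0, g • U0 = U0 ∧ g • v0 = v0 ∧ g • x0 = x3 := by
  have hv : sqNorm v0.1 = 32 ∧ sqNorm ((U0 - v0 : leechLattice) : GolayPt → ℤ) = 32 := by
    refine ⟨v0_norm, ?_⟩
    show sqNorm (U0.1 - v0.1) = 32
    rw [sqNorm_sub, U0_norm, v0_norm, U0_v0]; norm_num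
  exact (Cfsg.Agent.S1580.result U0 v0 U0_norm hv).2 x0 ((mem_stmt_iff x0).2 x0f_mem) x3
    ((mem_stmt_iff x3).2 x3_mem)

/-- the suborbit of length `112` -/
theorem Zstd_trans {y y' : leechLattice} (hy : y.1 ∈ Xstd) (hd : dotInt x0.1 y.1 = 8)
    (hy' : y'.1 ∈ Xstd) (hd' : dotInt x0.1 y'.1 = 8) : R0 y y' := by
  classical
  obtain ⟨g, gU, gv, gx⟩ := exists_frame_change
  have giU : g⁻¹ • U0 = U0 := by rw [inv_smul_eq_iff, gU]
  have giv : g⁻¹ • v0 = v0 := by rw [inv_smul_eq_iff, gv]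
  -- the image of the `70` vectors
  let f : (GolayPt → ℤ) → (GolayPt → ℤ) := fun w =>
    if h : w ∈ leechLattice then (g⁻¹ • (⟨w, h⟩ : leechLattice) : leechLattice).1 else 0
  have hf : ∀ w : leechLattice, f w.1 = (g⁻¹ • w : leechLattice).1 := by
    intro w
    show (if h : w.1 ∈ leechLattice then (g⁻¹ • (⟨w.1, h⟩ : leechLattice) : leechLattice).1 else 0) = _
    rw [dif_pos w.2]
  have hWm : ∀ w ∈ W70, w ∈ leechLattice := fun w hw => (W70_sub hw).1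
  have hfZ : ∀ w ∈ W70, f w ∈ E2 ∪ E3 := by
    intro w hw
    have h1 := hf ⟨w, hWm w hw⟩
    rw [← Zstd_eq]
    have h2 : f w = (g⁻¹ • (⟨w, hWm w hw⟩ : leechLattice) : leechLattice).1 := h1
    rw [h2]
    refine ⟨smul_mem_Xstd giU giv (W70_sub hw), ?_⟩
    have e1 := co0_dot g.2 x0 (g⁻¹ • (⟨w, hWm w hw⟩ : leechLattice))
    have gx' : g.1 x0 = x3 := gx
    have e2 : g.1 (g⁻¹ • (⟨w, hWm w hw⟩ : leechLattice)) = ⟨w, hWm w hw⟩ := smul_inv_smul g _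
    rw [gx', e2] at e1
    rw [x0_val] at hd
    show dotInt x0f _ = 8
    rw [← x0_val, ← e1]
    exact W70_dot hw
  have hinj : Set.InjOn f W70 := by
    intro w hw w' hw' h
    have h1 := hf ⟨w, hWm w hw⟩
    have h2 := hf ⟨w', hWm w' hw'⟩
    have h3 : f w = f w' := h
    have h4 : (g⁻¹ • (⟨w, hWm w hw⟩ : leechLattice) : leechLattice) =
        g⁻¹ • (⟨w', hWm w' hw'⟩ : leechLattice) := by
      apply Subtype.ext
      rw [← h1, ← h2]; exact h3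
    have h5 := smul_left_cancel _ h4
    exact congrArg Subtype.val h5
  have fE2 : E2.Finite := Set.finite_of_ncard_ne_zero (by rw [ncard_E2]; norm_num)
  have fE3 : E3.Finite := Set.finite_of_ncard_ne_zero (by rw [ncard_E3]; norm_num)
  -- some vector lands in each family
  have ex3 : ∃ w ∈ W70, f w ∈ E3 := by
    by_contra hcon
    push Not at hcon
    have hsub : ∀ w ∈ W70, f w ∈ E2 := by
      intro w hw
      rcases hfZ w hw with h | h
      · exact h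
      · exact absurd h (hcon w hw)
    have := Set.ncard_le_ncard_of_injOn f hsub hinj fE2
    rw [ncard_W70, ncard_E2] at this
    omega
  have ex2 : ∃ w ∈ W70, f w ∈ E2 := by
    by_contra hcon
    push Not at hcon
    have hsub : ∀ w ∈ W70, f w ∈ E3 := by
      intro w hw
      rcases hfZ w hw with h | h
      · exact absurd h (hcon w hw)
      · exact h
    have := Set.ncard_le_ncard_of_injOn f hsub hinj fE3
    rw [ncard_W70, ncard_E3] at this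
    omega
  obtain ⟨w2, hw2, hw2E⟩ := ex2
  obtain ⟨w3, hw3, hw3E⟩ := ex3
  let W2 : leechLattice := ⟨w2, hWm w2 hw2⟩
  let W3 : leechLattice := ⟨w3, hWm w3 hw3⟩
  have hW2E : (g⁻¹ • W2 : leechLattice).1 ∈ E2 := by rw [← hf W2]; exact hw2E
  have hW3E : (g⁻¹ • W3 : leechLattice).1 ∈ E3 := by rw [← hf W3]; exact hw3E
  -- the two images are conjugate
  have hR23 : R0 (g⁻¹ • W2) (g⁻¹ • W3) := by
    obtain ⟨m, mU, mv, mx, mw⟩ := W70_trans (w := W2) (w' := W3) hw2 hw3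
    refine ⟨g⁻¹ * m * g, ?_, ?_, ?_, ?_⟩
    · rw [mul_smul, mul_smul, gU, mU, inv_smul_eq_iff, gU]
    · rw [mul_smul, mul_smul, gv, mv, inv_smul_eq_iff, gv]
    · rw [mul_smul, mul_smul, gx, mx, inv_smul_eq_iff, gx]
    · rw [mul_smul, mul_smul, smul_inv_smul, mw]
  -- every vector is conjugate to one of them
  have key : ∀ z : leechLattice, z.1 ∈ Xstd → dotInt x0.1 z.1 = 8 → R0 z (g⁻¹ • W2) := by
    intro z hz hdz
    have hzZ : z.1 ∈ E2 ∪ E3 := by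
      rw [← Zstd_eq]; exact ⟨hz, hdz⟩
    rcases hzZ with h | h
    · exact R0_E2 h hW2E
    · exact R0_trans (R0_E3 h hW3E) (R0_symm hR23)
  exact R0_trans (key y hy hd) (R0_symm (key y' hy' hd'))

end Cfsg.Agent.Lib.Helper3
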