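import Mathlib
import Cfsg.Agent.Lib.Helper3.McL275B
import Cfsg.Agent.S1579

/-!
Helper library (helper3): the suborbit of length `162` of the McLaughlin group on its `275`
points, for a general configuration; normalisation of a configuration to the standard frame.
-/

set_option autoImplicit false

namespace Cfsg.Agent.Lib.Helper3

open Cfsg Cfsg.Agent.Lib.Helper21 MulAction

/-- the suborbit of length `162` in the frame `(vS, xS)` -/
theorem trans_162_std {x y y' : leechLattice}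
    (hx : sqNorm x.1 = 32 ∧ dotInt vS.1 x.1 = 24 ∧ dotInt xS.1 x.1 = 16)
    (hy : sqNorm y.1 = 32 ∧ dotInt vS.1 y.1 = 24 ∧ dotInt xS.1 y.1 = 16)
    (hy' : sqNorm y'.1 = 32 ∧ dotInt vS.1 y'.1 = 24 ∧ dotInt xS.1 y'.1 = 16)
    (h1 : dotInt x.1 y.1 = 16) (h2 : dotInt x.1 y'.1 = 16) :
    ∃ g : ↥Co0, g • vS = vS ∧ g • xS = xS ∧ g • x = x ∧ g • y = y' := by
  have hvn : sqNorm vS.1 = 48 := sqNorm_p5 none
  have key : ∀ z : leechLattice, (sqNorm z.1 = 32 ∧ dotInt vS.1 z.1 = 24 ∧ dotInt xS.1 z.1 = 16) →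
      z - vS ∈ cl2 wS (-16) := by
    rintro z ⟨z1, z2, z3⟩
    refine ⟨⟨?_, ?_⟩, ?_⟩
    · show sqNorm (z.1 - vS.1) = 32
      rw [sqNorm_sub, z1, hvn, dotInt_comm, z2]; norm_num
    · show dotInt xS.1 (z.1 - vS.1) = -8
      rw [dotInt_sub_right, z3, xS_vS]; norm_num
    · show dotInt (vS.1 - xS.1) (z.1 - vS.1) = -16
      rw [dotInt_sub_left, dotInt_sub_right, dotInt_sub_right, z2, z3, dotInt_self, hvn, xS_vS]
      norm_num
  have hd : ∀ z z' : leechLattice, dotInt vS.1 z.1 = 24 → dotInt vS.1 z'.1 = 24 →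
      dotInt (z - vS : leechLattice).1 (z' - vS : leechLattice).1 = dotInt z.1 z'.1 := by
    intro z z' a b
    show dotInt (z.1 - vS.1) (z'.1 - vS.1) = _
    rw [dotInt_sub_left, dotInt_sub_right, dotInt_sub_right, b, dotInt_comm z.1 vS.1, a,
      dotInt_self, hvn]
    ring
  obtain ⟨g, gx, gw, g1, g2⟩ := trans_162 (key x hx) (key y hy) (key y' hy')
    (by rw [hd x y hx.2.1 hy.2.1]; exact h1) (by rw [hd x y' hx.2.1 hy'.2.1]; exact h2)
  have gv : g • vS = vS := by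
    rw [vS_eq, co0_add, gw, gx]
  refine ⟨g, gv, gx, ?_, ?_⟩
  · rw [co0_sub, gv] at g1
    exact sub_left_injective g1
  · rw [co0_sub, gv] at g2
    exact sub_left_injective g2

/-- the suborbit of length `162`, general configuration -/
theorem trans_162_gen {u v x y y' : leechLattice} (hu : sqNorm u.1 = 48) (hv : sqNorm v.1 = 32)
    (huv : dotInt u.1 v.1 = 24)
    (hx : sqNorm x.1 = 32 ∧ dotInt u.1 x.1 = 24 ∧ dotInt v.1 x.1 = 16)
    (hy : sqNorm y.1 = 32 ∧ dotInt u.1 y.1 = 24 ∧ dotInt v.1 y.1 = 16)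
    (hy' : sqNorm y'.1 = 32 ∧ dotInt u.1 y'.1 = 24 ∧ dotInt v.1 y'.1 = 16)
    (h1 : dotInt x.1 y.1 = 16) (h2 : dotInt x.1 y'.1 = 16) :
    ∃ g : ↥Co0, g • u = u ∧ g • v = v ∧ g • x = x ∧ g • y = y' := by
  have ha : sqNorm (u - v : leechLattice).1 = 32 := by
    show sqNorm (u.1 - v.1) = 32
    rw [sqNorm_sub, hu, hv, huv]; norm_num
  have hva : dotInt v.1 (u - v : leechLattice).1 = -8 := by
    show dotInt v.1 (u.1 - v.1) = -8
    rw [dotInt_sub_right, dotInt_comm, huv, dotInt_self, hv]; norm_num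
  obtain ⟨k, kv, ka⟩ := to_std_pair v (u - v) hv ha hva
  have ku : k • u = vS := by
    have e : u = (u - v) + v := by abel
    rw [e, co0_add, kv, ka, vS_eq]
  have tr : ∀ z : leechLattice, (sqNorm z.1 = 32 ∧ dotInt u.1 z.1 = 24 ∧ dotInt v.1 z.1 = 16) →
      (sqNorm (k • z : leechLattice).1 = 32 ∧ dotInt vS.1 (k • z : leechLattice).1 = 24 ∧
        dotInt xS.1 (k • z : leechLattice).1 = 16) := by
    rintro z ⟨z1, z2, z3⟩
    have e1 := co0_dot k.2 u z
    have e2 := co0_dot k.2 v z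
    have ku' : k.1 u = vS := ku
    have kv' : k.1 v = xS := kv
    rw [ku'] at e1
    rw [kv'] at e2
    refine ⟨?_, e1.trans z2, e2.trans z3⟩
    show sqNorm (k.1 z).1 = 32
    rw [k.2.2]; exact z1
  have d1 : dotInt (k • x : leechLattice).1 (k • y : leechLattice).1 = 16 :=
    (co0_dot k.2 x y).trans h1
  have d2 : dotInt (k • x : leechLattice).1 (k • y' : leechLattice).1 = 16 :=
    (co0_dot k.2 x y').trans h2
  obtain ⟨g, g1, g2, g3, g4⟩ := trans_162_std (tr x hx) (tr y hy) (tr y' hy') d1 d2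
  refine ⟨k⁻¹ * g * k, ?_, ?_, ?_, ?_⟩
  · rw [mul_smul, mul_smul, ku, g1, inv_smul_eq_iff, ku]
  · rw [mul_smul, mul_smul, kv, g2, inv_smul_eq_iff, kv]
  · rw [mul_smul, mul_smul, g3, inv_smul_smul]
  · rw [mul_smul, mul_smul, g4, inv_smul_smul]

/-- normalisation of a configuration to the standard frame -/
theorem to_std_275 {u v x : leechLattice} (hu : sqNorm u.1 = 48)
    (hv : sqNorm v.1 = 32 ∧ sqNorm ((u - v : leechLattice) : GolayPt → ℤ) = 32)
    (hx : sqNorm x.1 = 32 ∧ sqNorm ((u - x : leechLattice) : GolayPt → ℤ) = 32 ∧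
      dotInt v.1 x.1 = 16) :
    ∃ G : ↥Co0, G • u = U0 ∧ G • v = v0 ∧ G • x = x0 := by
  have hV : sqNorm v0.1 = 32 ∧ sqNorm ((U0 - v0 : leechLattice) : GolayPt → ℤ) = 32 := by
    refine ⟨v0_norm, ?_⟩
    show sqNorm (U0.1 - v0.1) = 32
    rw [sqNorm_sub, U0_norm, v0_norm, U0_v0]; norm_num
  obtain ⟨g1, e1⟩ := Cfsg.Agent.S0401.result u U0 hu U0_norm
  have tr : ∀ (g : ↥Co0) (a b : leechLattice),
      sqNorm ((g • a - g • b : leechLattice) : GolayPt → ℤ) =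
        sqNorm ((a - b : leechLattice) : GolayPt → ℤ) := by
    intro g a b
    rw [← co0_sub]
    exact g.2.2 (a - b)
  have hv1 : sqNorm (g1 • v : leechLattice).1 = 32 ∧
      sqNorm ((U0 - g1 • v : leechLattice) : GolayPt → ℤ) = 32 := by
    refine ⟨by show sqNorm (g1.1 v).1 = 32; rw [g1.2.2]; exact hv.1, ?_⟩
    rw [← e1, tr]; exact hv.2
  obtain ⟨g2, e2, e3⟩ := Cfsg.Agent.S1579.result U0 (g1 • v) v0 U0_norm hv1 hV
  have hx2 : sqNorm (g2 • g1 • x : leechLattice).1 = 32 ∧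
      sqNorm ((U0 - g2 • g1 • x : leechLattice) : GolayPt → ℤ) = 32 ∧
      dotInt v0.1 (g2 • g1 • x : leechLattice).1 = 16 := by
    refine ⟨?_, ?_, ?_⟩
    · show sqNorm (g2.1 (g1.1 x)).1 = 32
      rw [g2.2.2, g1.2.2]; exact hx.1
    · have : U0 = g2 • g1 • u := by rw [e1, e2]
      rw [this, tr, tr]; exact hx.2.1
    · have : v0 = g2 • g1 • v := by rw [e3]
      rw [this]
      have a1 := co0_dot g2.2 (g1 • v) (g1 • x)
      have a2 := co0_dot g1.2 v x
      exact (a1.trans a2).trans hx.2.2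
  obtain ⟨g3, e4, e5, e6⟩ := (Cfsg.Agent.S1580.result U0 v0 U0_norm hV).2 (g2 • g1 • x) hx2 x0
    ((mem_stmt_iff x0).2 x0f_mem)
  refine ⟨g3 * g2 * g1, ?_, ?_, ?_⟩
  · rw [mul_smul, mul_smul, e1, e2, e4]
  · rw [mul_smul, mul_smul, e3, e5]
  · rw [mul_smul, mul_smul, e6]

end Cfsg.Agent.Lib.Helper3
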