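import Mathlib
import Cfsg.Prelude.Def_Transfer
import Cfsg.Agent.Lib.Helper2.CoprimeSylow
import Cfsg.Agent.Lib.Helper2.PGroupFrattini
import Cfsg.Agent.Lib.Helper12.Generation
import Cfsg.Agent.Lib.Helper15.IrredCyclic
import Cfsg.Agent.Lib.Helper24.OmegaAll
import Cfsg.Agent.Lib.Helper3.CentralComm

set_option autoImplicit false

namespace Cfsg.Agent.Lib.Helper3

variable {G : Type*} [Group G]

/-- If `A ⊔ B = ⊤` and both `A` and `B` conjugate `H` into itself then `H` is normal. -/
theorem normal_of_sup_eq_top [Finite G] (A B H : Subgroup G) (hAB : A ⊔ B = ⊤)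
    (hA : ∀ g ∈ A, ∀ z ∈ H, g * z * g⁻¹ ∈ H) (hB : ∀ g ∈ B, ∀ z ∈ H, g * z * g⁻¹ ∈ H) :
    H.Normal := by
  rw [← Subgroup.normalizer_eq_top_iff, eq_top_iff, ← hAB]
  apply sup_le
  · intro g hg
    exact Cfsg.Agent.Lib.Helper24.mem_normalizer_of_conj_mem H (hA g hg)
  · intro g hg
    exact Cfsg.Agent.Lib.Helper24.mem_normalizer_of_conj_mem H (hB g hg)

/-- A minimal normal subgroup that is a `q`-group is elementary abelian. -/
theorem minNormal_qgroup_elemAb [Finite G] {q : ℕ} [hq : Fact q.Prime] (K : Subgroup G)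
    [hKn : K.Normal] (hKq : IsPGroup q K) (hKne : K ≠ ⊥)
    (hmin : ∀ B : Subgroup G, B.Normal → B ≤ K → B = ⊥ ∨ B = K) :
    (∀ a ∈ K, ∀ b ∈ K, a * b = b * a) ∧ ∀ a ∈ K, a ^ q = 1 := by
  have hnt : Nontrivial K := (Subgroup.nontrivial_iff_ne_bot K).mpr hKne
  have hcomm : ∀ a ∈ K, ∀ b ∈ K, a * b = b * a := by
    have hZn : ((Subgroup.center K).map K.subtype).Normal := inferInstance
    have hZne : (Subgroup.center K).map K.subtype ≠ ⊥ := by
      have hcn := hKq.center_nontrivial
      intro h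
      rw [Subgroup.map_eq_bot_iff_of_injective _ K.subtype_injective] at h
      exact (Subgroup.nontrivial_iff_ne_bot _).mp hcn h
    rcases hmin _ hZn (Subgroup.map_subtype_le _) with h | h
    · exact absurd h hZne
    · intro a ha b hb
      have ha2 : a ∈ (Subgroup.center K).map K.subtype := by rw [h]; exact ha
      obtain ⟨a', ha', rfl⟩ := ha2
      have h1 := Subgroup.mem_center_iff.mp ha' ⟨b, hb⟩
      have h2 := congrArg Subtype.val h1
      simpa using h2.symm
  refine ⟨hcomm, ?_⟩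
  let Ω : Subgroup G :=
    { carrier := {a | a ∈ K ∧ a ^ q = 1}
      one_mem' := ⟨K.one_mem, one_pow _⟩
      mul_mem' := by
        rintro a b ⟨ha, ha'⟩ ⟨hb, hb'⟩
        refine ⟨K.mul_mem ha hb, ?_⟩
        rw [(show Commute a b from hcomm a ha b hb).mul_pow, ha', hb', one_mul]
      inv_mem' := by
        rintro a ⟨ha, ha'⟩
        exact ⟨K.inv_mem ha, by rw [inv_pow, ha', inv_one]⟩ }
  have hΩn : Ω.Normal := by
    constructor
    rintro a ⟨ha, ha'⟩ g
    refine ⟨hKn.conj_mem a ha g, ?_⟩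
    rw [conj_pow, ha']; simp
  have hΩle : Ω ≤ K := fun a ha => ha.1
  have hΩne : Ω ≠ ⊥ := by
    have hdvd : q ∣ Nat.card K := by
      obtain ⟨n, hn⟩ := IsPGroup.iff_card.mp hKq
      have hn0 : n ≠ 0 := by
        rintro rfl
        rw [pow_zero] at hn
        have := Finite.one_lt_card (α := K)
        omega
      rw [hn]; exact dvd_pow_self q hn0
    obtain ⟨x, hx⟩ := exists_prime_orderOf_dvd_card' q hdvd
    intro h
    have hxΩ : (x : G) ∈ Ω := by
      refine ⟨x.2, ?_⟩
      have : x ^ q = 1 := by rw [← hx]; exact pow_orderOf_eq_one x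
      have := congrArg Subtype.val this
      simpa using this
    rw [h, Subgroup.mem_bot] at hxΩ
    have hx1 : x = 1 := Subtype.ext hxΩ
    rw [hx1, orderOf_one] at hx
    exact hq.out.one_lt.ne hx
  rcases hmin Ω hΩn hΩle with h | h
  · exact absurd h hΩne
  · intro a ha
    have : a ∈ Ω := by rw [h]; exact ha
    exact this.2

/-- Common core of the structure theorems for non-simple minimal non-closed groups:
`G = K ⋊ P` with `K` a minimal normal `p'`-subgroup, `P` a `p`-group, such that proper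
subgroups `Q P'` (`Q ≤ K`, `P' ≤ P`) are direct products, `P` acts nontrivially and contains
no nontrivial normal subgroup of `G`. -/
theorem minNonClosed_core [Finite G] {p : ℕ} [hp : Fact p.Prime]
    (K P : Subgroup G) [hKn : K.Normal] (hP : IsPGroup p P) (hKcop : (Nat.card K).Coprime p)
    (hKP : K ⊔ P = ⊤)
    (hmin : ∀ B : Subgroup G, B.Normal → B ≤ K → B = ⊥ ∨ B = K)
    (hKne : K ≠ ⊥)
    (hcent : ∀ (P' Q : Subgroup G), P' ≤ P → Q ≤ K → (∀ x ∈ P', ∀ y ∈ Q, x * y * x⁻¹ ∈ Q) →
        Q ⊔ P' ≠ ⊤ → ∀ x ∈ P', ∀ y ∈ Q, x * y = y * x)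
    (hnc : ∃ x ∈ P, ∃ y ∈ K, x * y ≠ y * x)
    (hcore : ∀ P₀ : Subgroup G, P₀ ≤ P → P₀.Normal → P₀ = ⊥) :
    ∃ q : ℕ, q.Prime ∧ q ≠ p ∧ Nat.card G = p * q ^ orderOf (q : ZMod p) ∧
      Nat.card K = q ^ orderOf (q : ZMod p) ∧ Cfsg.IsElementaryAbelian q K := by
  classical
  have hcopKP : (Nat.card K).Coprime (Nat.card P) := by
    obtain ⟨n, hn⟩ := IsPGroup.iff_card.mp hP
    rw [hn]; exact Nat.Coprime.pow_right n hKcop
  have hKPbot : K ⊓ P = ⊥ := Subgroup.inf_eq_bot_of_coprime hcopKP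
  have hdisj : ∀ a ∈ K, a ∈ P → a = 1 := fun a ha ha' => by
    have : a ∈ K ⊓ P := ⟨ha, ha'⟩
    rwa [hKPbot, Subgroup.mem_bot] at this
  have hPK : P ≤ Subgroup.normalizer (K : Set G) := by
    rw [Subgroup.normalizer_eq_top_iff.mpr hKn]; exact le_top
  have hPsolv : Group.IsSolvable P := by
    haveI := hP.isNilpotent
    infer_instance
  -- Step A: K is a q-group
  have hA : ∃ q : ℕ, q.Prime ∧ IsPGroup q K := by
    by_contra hcon
    push_neg at hcon
    obtain ⟨x, hx, y, hy, hxy⟩ := hnc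
    apply hxy
    have hN : ((Subgroup.centralizer (P : Set G)) ⊓ K).subgroupOf K = ⊤ := by
      apply Cfsg.Agent.Lib.Helper12.eq_top_of_forall_exists_sylow_le
      intro q hq
      obtain ⟨Q, hQ⟩ := Cfsg.Agent.Lib.Helper2.exists_invariant_sylow P K hPK hcopKP.symm
        (Or.inl hPsolv) q
      refine ⟨Q, ?_⟩
      have hQle : (Q : Subgroup K).map K.subtype ≤ K := Subgroup.map_subtype_le _
      have hinv : ∀ x ∈ P, ∀ y ∈ (Q : Subgroup K).map K.subtype,
          x * y * x⁻¹ ∈ (Q : Subgroup K).map K.subtype := by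
        intro x hx y hy
        exact ((Subgroup.mem_normalizer_iff.mp (hQ hx)) y).mp hy
      have hne : (Q : Subgroup K).map K.subtype ⊔ P ≠ ⊤ := by
        intro htop
        apply hcon q hq.out
        have hKQ : K ≤ (Q : Subgroup K).map K.subtype := by
          intro k hk
          have hk' : k ∈ (Q : Subgroup K).map K.subtype ⊔ P := by rw [htop]; trivial
          obtain ⟨a, ha, b, hb, hab⟩ := mem_sup_of_normalizes _ _ hinv hk'
          have hbK : b ∈ K := by
            have : b = a⁻¹ * k := by rw [← hab]; group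
            rw [this]; exact K.mul_mem (K.inv_mem (hQle ha)) hk
          have hb1 := hdisj b hbK hb
          rw [hb1, mul_one] at hab
          rw [← hab]; exact ha
        have hQp : IsPGroup q ((Q : Subgroup K).map K.subtype) := Q.isPGroup'.map _
        exact hQp.to_le hKQ
      have hc := hcent P _ le_rfl hQle hinv hne
      intro z hz
      rw [Subgroup.mem_subgroupOf]
      have hz' : (z : G) ∈ (Q : Subgroup K).map K.subtype := ⟨z, hz, rfl⟩
      refine Subgroup.mem_inf.mpr ⟨?_, z.2⟩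
      rw [Subgroup.mem_centralizer_iff]
      intro x hx
      exact hc x hx z hz'
    have hyN : (⟨y, hy⟩ : K) ∈ ((Subgroup.centralizer (P : Set G)) ⊓ K).subgroupOf K := by
      rw [hN]; trivial
    rw [Subgroup.mem_subgroupOf] at hyN
    exact (Subgroup.mem_centralizer_iff.mp (Subgroup.mem_inf.mp hyN).1) x hx
  obtain ⟨q, hqp, hKq⟩ := hA
  haveI : Fact q.Prime := ⟨hqp⟩
  obtain ⟨hcomm, hexp⟩ := minNormal_qgroup_elemAb K hKq hKne hmin
  have hqne : q ≠ p := by
    rintro rfl
    have hnt : Nontrivial K := (Subgroup.nontrivial_iff_ne_bot K).mpr hKne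
    obtain ⟨n, hn⟩ := IsPGroup.iff_card.mp hKq
    have hn0 : n ≠ 0 := by
      rintro rfl
      rw [pow_zero] at hn
      have := Finite.one_lt_card (α := K)
      omega
    have hdvd : q ∣ Nat.card K := by rw [hn]; exact dvd_pow_self q hn0
    have := Nat.Coprime.eq_one_of_dvd hKcop.symm hdvd
    exact hqp.one_lt.ne' this
  -- Step C: |P| = p
  have hPne : P ≠ ⊥ := by
    rintro rfl
    obtain ⟨x, hx, y, hy, hxy⟩ := hnc
    rw [Subgroup.mem_bot] at hx
    subst hx
    simp at hxy
  have hPcard : Nat.card P = p := by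
    have hnt : Nontrivial P := (Subgroup.nontrivial_iff_ne_bot P).mpr hPne
    obtain ⟨M, hM⟩ : ∃ M : Subgroup P, IsCoatom M := by
      rcases eq_top_or_exists_le_coatom (⊥ : Subgroup P) with h | ⟨M, hM, -⟩
      · exact absurd h bot_ne_top
      · exact ⟨M, hM⟩
    have hPp : IsPGroup p P := hP
    have hMn : M.Normal := Cfsg.Agent.Lib.Helper2.normal_of_isCoatom_of_isPGroup hPp hM
    have hMi : M.index = p := Cfsg.Agent.Lib.Helper2.index_of_isCoatom_of_isPGroup hPp hM
    have hP₀le : M.map P.subtype ≤ P := Subgroup.map_subtype_le _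
    have hP₀ne : K ⊔ M.map P.subtype ≠ ⊤ := by
      intro htop
      apply hM.1
      rw [eq_top_iff]
      intro x _
      have hx' : (x : G) ∈ K ⊔ M.map P.subtype := by rw [htop]; trivial
      obtain ⟨a, ha, b, hb, hab⟩ := mem_sup_of_normalizes K (M.map P.subtype)
        (fun c _ b hb => hKn.conj_mem b hb c) hx'
      have haP : a ∈ P := by
        have : a = x * b⁻¹ := by rw [← hab]; group
        rw [this]; exact P.mul_mem x.2 (P.inv_mem (hP₀le hb))
      have ha1 := hdisj a ha haP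
      rw [ha1, one_mul] at hab
      obtain ⟨m, hm, hmb⟩ := hb
      have : m = x := Subtype.ext (by rw [← hab, ← hmb]; rfl)
      rwa [← this]
    have hc := hcent (M.map P.subtype) K hP₀le le_rfl (fun x _ y hy => hKn.conj_mem y hy x) hP₀ne
    have hP₀n : (M.map P.subtype).Normal := by
      apply normal_of_sup_eq_top K P _ hKP
      · intro k hk z hz
        have h1 := hc z hz k hk
        have : k * z * k⁻¹ = z := by rw [← h1]; group
        rwa [this]
      · rintro x hx _ ⟨m, hm, rfl⟩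
        exact ⟨⟨x, hx⟩ * m * ⟨x, hx⟩⁻¹, hMn.conj_mem m hm ⟨x, hx⟩, rfl⟩
    have hP₀bot := hcore _ hP₀le hP₀n
    have hMbot : M = ⊥ :=
      (Subgroup.map_eq_bot_iff_of_injective _ P.subtype_injective).mp hP₀bot
    rw [hMbot, Subgroup.index_bot] at hMi
    exact hMi
  -- Step D
  obtain ⟨x, hx, y, hy, hxy⟩ := hnc
  have hxp : x ^ p = 1 := by
    have h1 : (⟨x, hx⟩ : P) ^ Nat.card P = 1 := pow_card_eq_one'
    rw [hPcard] at h1
    have := congrArg Subtype.val h1
    simpa using this
  have hx1 : x ≠ 1 := by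
    rintro rfl
    simp at hxy
  have hPz : P = Subgroup.zpowers x := by
    symm
    apply Subgroup.eq_of_le_of_card_ge (Subgroup.zpowers_le.mpr hx)
    rw [hPcard, Nat.card_zpowers]
    have hdvd : orderOf x ∣ p := orderOf_dvd_of_pow_eq_one hxp
    rcases (Nat.dvd_prime hp.out).mp hdvd with h | h
    · exact absurd (orderOf_eq_one_iff.mp h) hx1
    · exact h.ge
  have hirr : ∀ B : Subgroup G, B ≤ K → (∀ b ∈ B, x * b * x⁻¹ ∈ B) → B = ⊥ ∨ B = K := by
    intro B hBK hBx
    apply hmin B _ hBK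
    apply normal_of_sup_eq_top K P B hKP
    · intro k hk z hz
      have h1 := hcomm k hk z (hBK hz)
      have : k * z * k⁻¹ = z := by rw [h1]; group
      rwa [this]
    · intro g hg
      have hxN : x ∈ Subgroup.normalizer (B : Set G) :=
        Cfsg.Agent.Lib.Helper24.mem_normalizer_of_conj_mem B hBx
      have hgN : g ∈ Subgroup.normalizer (B : Set G) := by
        rw [hPz] at hg
        exact (Subgroup.zpowers_le.mpr hxN) hg
      intro z hz
      exact ((Subgroup.mem_normalizer_iff.mp hgN) z).mp hz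
  have hcardK := Cfsg.Agent.Lib.Helper15.card_eq_pow_orderOf_of_conj (p := p) (q := q) hqne K
    hcomm hexp x hxp ⟨y, hy, hxy⟩ hirr
  refine ⟨q, hqp, hqne, ?_, hcardK, ?_⟩
  · have hcompl : Subgroup.IsComplement' K P := by
      apply Subgroup.isComplement'_of_disjoint_and_mul_eq_univ
      · exact disjoint_iff.mpr hKPbot
      · rw [← Subgroup.normal_mul, hKP]; rfl
    have := hcompl.card_mul_card
    rw [← this, hcardK, hPcard, mul_comm]
  · refine ⟨⟨⟨?_⟩⟩, hexp⟩
    intro a b
    exact Subtype.ext (hcomm a a.2 b b.2)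

end Cfsg.Agent.Lib.Helper3
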