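import Mathlib
import Cfsg.Agent.Lib.Helper3.PSolvable

set_option autoImplicit false

/-!
Helper library (helper3): tools for `Cfsg.IsMinimalOver` arguments.

* `isCoatom_map_mk'` / `isCoatom_comap_mk'` : coatoms of `G ⧸ N` ↔ coatoms of `G` above `N`
* `index_mul_card_inf_of_sup_eq_top`        : `M ⊔ K = ⊤`, `K ⊴ G` ⇒ `|G:M| · |K ∩ M| = |K|`
* `exists_conj_le_of_not_dvd_index`         : `p ∤ |G:M|` ⇒ a Sylow `p`-subgroup lies in a conjugate of `M`
-/

namespace Cfsg.Agent.Lib.Helper3

open Subgroup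

variable {G : Type*} [Group G]

theorem comap_map_mk' (N : Subgroup G) [N.Normal] (J : Subgroup G) (hJ : N ≤ J) :
    (J.map (QuotientGroup.mk' N)).comap (QuotientGroup.mk' N) = J := by
  rw [Subgroup.comap_map_eq, QuotientGroup.ker_mk', sup_eq_left.mpr hJ]

theorem map_comap_mk' (N : Subgroup G) [N.Normal] (J : Subgroup (G ⧸ N)) :
    (J.comap (QuotientGroup.mk' N)).map (QuotientGroup.mk' N) = J :=
  Subgroup.map_comap_eq_self_of_surjective (QuotientGroup.mk'_surjective N) J

theorem le_comap_mk' (N : Subgroup G) [N.Normal] (J : Subgroup (G ⧸ N)) :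
    N ≤ J.comap (QuotientGroup.mk' N) :=
  (QuotientGroup.ker_mk' N).ge.trans ((QuotientGroup.mk' N).ker_le_comap J)

theorem isCoatom_map_mk' (N : Subgroup G) [N.Normal] (J : Subgroup G) (hNJ : N ≤ J)
    (hJ : IsCoatom J) : IsCoatom (J.map (QuotientGroup.mk' N)) := by
  have hsurj : Function.Surjective (QuotientGroup.mk' N) := QuotientGroup.mk'_surjective N
  constructor
  · intro h
    have h2 := congrArg (Subgroup.comap (QuotientGroup.mk' N)) h
    rw [comap_map_mk' N J hNJ, Subgroup.comap_top] at h2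
    exact hJ.1 h2
  · intro Kb hlt
    have h2 : J ≤ Kb.comap (QuotientGroup.mk' N) := by
      rw [← comap_map_mk' N J hNJ]; exact Subgroup.comap_mono hlt.le
    have h3 : J ≠ Kb.comap (QuotientGroup.mk' N) := by
      intro h
      apply hlt.ne
      rw [h, map_comap_mk']
    have h4 := hJ.2 _ (lt_of_le_of_ne h2 h3)
    rw [← map_comap_mk' N Kb, h4, Subgroup.map_top_of_surjective _ hsurj]

theorem isCoatom_comap_mk' (N : Subgroup G) [N.Normal] (Kb : Subgroup (G ⧸ N))
    (hKb : IsCoatom Kb) : IsCoatom (Kb.comap (QuotientGroup.mk' N)) := by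
  have hsurj : Function.Surjective (QuotientGroup.mk' N) := QuotientGroup.mk'_surjective N
  constructor
  · intro h
    apply hKb.1
    rw [← map_comap_mk' N Kb, h, Subgroup.map_top_of_surjective _ hsurj]
  · intro J hlt
    have hNJ : N ≤ J := (le_comap_mk' N Kb).trans hlt.le
    have h2 : Kb ≤ J.map (QuotientGroup.mk' N) := by
      rw [← map_comap_mk' N Kb]; exact Subgroup.map_mono hlt.le
    have h3 : Kb ≠ J.map (QuotientGroup.mk' N) := by
      intro h
      apply hlt.ne
      rw [h, comap_map_mk' N J hNJ]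
    have h4 := hKb.2 _ (lt_of_le_of_ne h2 h3)
    rw [← comap_map_mk' N J hNJ, h4, Subgroup.comap_top]

theorem index_mul_card_inf_of_sup_eq_top [Finite G] (K M : Subgroup G) [K.Normal]
    (h : M ⊔ K = ⊤) : M.index * Nat.card ↥(K ⊓ M) = Nat.card K := by
  have h1 : K.relIndex (M ⊔ K) = K.relIndex M := relIndex_sup_right M K
  rw [h, relIndex_top_right] at h1
  have h2 : (K ⊓ M).relIndex M = K.relIndex M := inf_relIndex_right K M
  have h3 := relIndex_mul_relIndex ⊥ (K ⊓ M) M bot_le inf_le_right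
  rw [relIndex_bot_left, relIndex_bot_left, h2, ← h1] at h3
  -- h3 : card (K ⊓ M) * K.index = card M
  have h4 := K.card_mul_index
  have h5 := M.card_mul_index
  have hpos : 0 < K.index := Nat.pos_of_ne_zero (Subgroup.index_ne_zero_of_finite)
  have h6 : (M.index * Nat.card ↥(K ⊓ M)) * K.index = Nat.card K * K.index := by
    calc (M.index * Nat.card ↥(K ⊓ M)) * K.index
        = M.index * (Nat.card ↥(K ⊓ M) * K.index) := by ring
      _ = M.index * Nat.card M := by rw [h3]
      _ = Nat.card G := by rw [mul_comm]; exact h5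
      _ = Nat.card K * K.index := h4.symm
  exact Nat.eq_of_mul_eq_mul_right hpos h6

theorem exists_conj_le_of_not_dvd_index [Finite G] {p : ℕ} [Fact p.Prime] (P : Sylow p G)
    (M : Subgroup G) (h : ¬ p ∣ M.index) :
    ∃ g : G, (P : Subgroup G) ≤ M.map (MulAut.conj g).toMonoidHom := by
  obtain ⟨S⟩ : Nonempty (Sylow p ↥M) := inferInstance
  have hSp : IsPGroup p ↥((S : Subgroup ↥M).map M.subtype) := S.isPGroup'.map _
  obtain ⟨P', hSP'⟩ := hSp.exists_le_sylow
  have hcard : Nat.card ↥((S : Subgroup ↥M).map M.subtype) = Nat.card (P' : Subgroup G) := by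
    rw [Subgroup.card_map_of_injective (Subgroup.subtype_injective _), S.card_eq_multiplicity,
      P'.card_eq_multiplicity]
    congr 1
    exact (factorization_of_mul_of_not_dvd M.card_mul_index Nat.card_pos.ne' h).symm
  have heq : (S : Subgroup ↥M).map M.subtype = (P' : Subgroup G) :=
    Subgroup.eq_of_le_of_card_ge hSP' hcard.ge
  obtain ⟨g, hg⟩ := MulAction.exists_smul_eq G P' P
  refine ⟨g, ?_⟩
  intro x hx
  have hx' : x ∈ ((g • P' : Sylow p G) : Subgroup G) := by rw [hg]; exact hx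
  rw [Sylow.coe_subgroup_smul, ← heq] at hx'
  obtain ⟨y, hy, rfl⟩ := hx'
  obtain ⟨s, _, rfl⟩ := hy
  exact ⟨(s : G), s.2, rfl⟩

end Cfsg.Agent.Lib.Helper3
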