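import Mathlib
import Cfsg.Prelude.Def_Spor_Conway
import Cfsg.Agent.Lib.Helper3.Co0Pair

/-!
Helper library (helper3): reduction modulo 13 of the matrices of `Co0` with respect to the
vectors `8 e_i`; this is a faithful representation `Co0 → Matrix GolayPt GolayPt (ZMod 13)`
by orthogonal matrices.
-/

set_option autoImplicit false

namespace Cfsg.Agent.Lib.Helper3.Mod13

open Cfsg Cfsg.Agent.Lib.Helper3 Matrix

instance fact13 : Fact (Nat.Prime 13) := ⟨by norm_num⟩

/-- integer matrix of `g` with respect to the vectors `8 e_i` -/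
def Bm (g : Equiv.Perm leechLattice) : Matrix GolayPt GolayPt ℤ := fun k i => (g (e8 i)).1 k

theorem Bm_one : Bm 1 = (8 : ℤ) • (1 : Matrix GolayPt GolayPt ℤ) := by
  ext k i
  simp only [Bm, Equiv.Perm.coe_one, id, Matrix.smul_apply, Matrix.one_apply, e8_apply, smul_eq_mul]
  split_ifs <;> simp

/-- `B_g v = 8 g(v)` -/
theorem Bm_mulVec {g : Equiv.Perm leechLattice} (hg : g ∈ Co0) (v : leechLattice) (k : GolayPt) :
    (Bm g *ᵥ v.1) k = 8 * (g v).1 k := by
  have h1 : (8 : ℤ) • (g v) = ∑ j, (v.1 j) • g (e8 j) := by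
    have h2 := congrArg (co0Hom g hg) (eight_smul_eq_sum v)
    rw [map_zsmul, map_sum] at h2
    simp only [map_zsmul, co0Hom_apply] at h2
    exact h2
  have h3 := congrArg (coordHom k) h1
  rw [map_zsmul, map_sum] at h3
  simp only [map_zsmul, coordHom_apply, smul_eq_mul] at h3
  rw [h3]
  simp only [Matrix.mulVec, dotProduct, Bm]
  exact Finset.sum_congr rfl (fun j _ => mul_comm _ _)

theorem Bm_mul {g h : Equiv.Perm leechLattice} (hg : g ∈ Co0) (hh : h ∈ Co0) :
    Bm g * Bm h = (8 : ℤ) • Bm (g * h) := by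
  ext k i
  have := Bm_mulVec hg (h (e8 i)) k
  simp only [Matrix.mulVec, dotProduct] at this
  simp only [Matrix.mul_apply, Matrix.smul_apply, smul_eq_mul]
  exact this

theorem Bm_transpose_mul {g : Equiv.Perm leechLattice} (hg : g ∈ Co0) :
    (Bm g)ᵀ * Bm g = (64 : ℤ) • (1 : Matrix GolayPt GolayPt ℤ) := by
  ext i j
  have h := co0_dot hg (e8 i) (e8 j)
  simp only [Matrix.mul_apply, Matrix.transpose_apply, Matrix.smul_apply, Matrix.one_apply,
    smul_eq_mul, Bm]
  unfold dotInt at h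
  rw [h]
  simp only [e8_apply]
  by_cases hij : i = j
  · subst hij
    rw [if_pos rfl, Finset.sum_eq_single i]
    · simp
    · intro b _ hb; simp [hb]
    · intro h; exact absurd (Finset.mem_univ i) h
  · rw [if_neg hij]
    simp only [mul_zero]
    apply Finset.sum_eq_zero
    intro b _
    by_cases h1 : b = i
    · subst h1; simp [hij]
    · simp [h1]

/-- the reduction of `B_g / 8` modulo 13 (`5 = 8⁻¹`) -/
def Am (g : Equiv.Perm leechLattice) : Matrix GolayPt GolayPt (ZMod 13) :=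
  (5 : ZMod 13) • (Int.castRingHom (ZMod 13)).mapMatrix (Bm g)

theorem Am_apply (g : Equiv.Perm leechLattice) (k i : GolayPt) :
    Am g k i = 5 * (((g (e8 i)).1 k : ℤ) : ZMod 13) := rfl

theorem Am_one : Am 1 = 1 := by
  unfold Am
  rw [Bm_one, map_zsmul, map_one, ← Int.cast_smul_eq_zsmul (ZMod 13), smul_smul]
  have : (5 : ZMod 13) * ((8 : ℤ) : ZMod 13) = 1 := by decide
  rw [this, one_smul]

theorem Am_mul {g h : Equiv.Perm leechLattice} (hg : g ∈ Co0) (hh : h ∈ Co0) :
    Am (g * h) = Am g * Am h := by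
  unfold Am
  rw [Matrix.smul_mul, Matrix.mul_smul, ← map_mul, Bm_mul hg hh, map_zsmul,
    ← Int.cast_smul_eq_zsmul (ZMod 13), smul_smul, smul_smul]
  have : (5 : ZMod 13) * 5 * ((8 : ℤ) : ZMod 13) = 5 := by decide
  rw [this]

theorem Am_transpose_mul {g : Equiv.Perm leechLattice} (hg : g ∈ Co0) :
    (Am g)ᵀ * Am g = 1 := by
  unfold Am
  rw [Matrix.transpose_smul, Matrix.smul_mul, Matrix.mul_smul, smul_smul]
  have h1 : ((Int.castRingHom (ZMod 13)).mapMatrix (Bm g))ᵀ =
      (Int.castRingHom (ZMod 13)).mapMatrix (Bm g)ᵀ := by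
    ext i j; rfl
  rw [h1, ← map_mul, Bm_transpose_mul hg, map_zsmul, map_one,
    ← Int.cast_smul_eq_zsmul (ZMod 13), smul_smul]
  have : (5 : ZMod 13) * 5 * ((64 : ℤ) : ZMod 13) = 1 := by decide
  rw [this, one_smul]

/-- the representation -/
def rho : ↥Co0 →* Matrix GolayPt GolayPt (ZMod 13) where
  toFun g := Am g.1
  map_one' := Am_one
  map_mul' g h := Am_mul g.2 h.2

theorem rho_apply (g : ↥Co0) : rho g = Am g.1 := rfl

/-- reduction of a lattice vector -/
def red (v : GolayPt → ℤ) : GolayPt → ZMod 13 := fun p => ((v p : ℤ) : ZMod 13)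

theorem Am_mulVec {g : Equiv.Perm leechLattice} (hg : g ∈ Co0) (v : leechLattice) :
    Am g *ᵥ red v.1 = red (g v).1 := by
  funext k
  have h := Bm_mulVec hg v k
  have h2 := congrArg (Int.cast : ℤ → ZMod 13) h
  simp only [Matrix.mulVec, dotProduct, Int.cast_sum, Int.cast_mul] at h2
  simp only [Matrix.mulVec, dotProduct, Am_apply, red]
  have h3 : ∑ x, 5 * (((g (e8 x)).1 k : ℤ) : ZMod 13) * ((v.1 x : ℤ) : ZMod 13) =
      5 * ∑ x, ((Bm g k x : ℤ) : ZMod 13) * ((v.1 x : ℤ) : ZMod 13) := by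
    rw [Finset.mul_sum]
    apply Finset.sum_congr rfl
    intro x _
    simp only [Bm]; ring
  rw [h3, h2]
  have : (5 : ZMod 13) * (((8 : ℤ) : ZMod 13) * (((g v).1 k : ℤ) : ZMod 13)) =
      (5 * ((8 : ℤ) : ZMod 13)) * (((g v).1 k : ℤ) : ZMod 13) := by ring
  rw [this]
  have h5 : (5 : ZMod 13) * ((8 : ℤ) : ZMod 13) = 1 := by decide
  rw [h5, one_mul]

/-- the representation is faithful -/
theorem eq_one_of_Am {g : Equiv.Perm leechLattice} (hg : g ∈ Co0) (h : Am g = 1) : g = 1 := by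
  classical
  -- the coordinates of `g (8 e_i)` modulo 13
  have hc : ∀ i k, (13 : ℤ) ∣ (if k = i then (8 : ℤ) else 0) - (g (e8 i)).1 k := by
    intro i k
    have h1 : Am g k i = (1 : Matrix GolayPt GolayPt (ZMod 13)) k i := by rw [h]
    rw [Am_apply, Matrix.one_apply] at h1
    have h2 : (((g (e8 i)).1 k : ℤ) : ZMod 13) = (((if k = i then (8 : ℤ) else 0) : ℤ) : ZMod 13) := by
      have h8 : (8 : ZMod 13) * (5 * (((g (e8 i)).1 k : ℤ) : ZMod 13)) =
          (((g (e8 i)).1 k : ℤ) : ZMod 13) := by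
        have : (8 : ZMod 13) * 5 = 1 := by decide
        rw [← mul_assoc, this, one_mul]
      rw [← h8, h1]
      split_ifs <;> simp
    exact (ZMod.intCast_eq_intCast_iff_dvd_sub _ _ 13).1 h2
  have hn : ∀ i, sqNorm (g (e8 i)).1 = 64 := by
    intro i
    rw [hg.2]
    unfold sqNorm
    simp only [e8_apply]
    rw [Finset.sum_eq_single i]
    · simp
    · intro b _ hb; simp [hb]
    · intro h; exact absurd (Finset.mem_univ i) h
  have hle : ∀ i k, ((g (e8 i)).1 k) ^ 2 ≤ 64 := by
    intro i k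
    rw [← hn i]
    unfold sqNorm
    exact Finset.single_le_sum (f := fun k => ((g (e8 i)).1 k) ^ 2)
      (fun j _ => sq_nonneg _) (Finset.mem_univ k)
  have hoff : ∀ i k, k ≠ i → (g (e8 i)).1 k = 0 := by
    intro i k hki
    have h1 := hc i k
    rw [if_neg hki] at h1
    have h2 := hle i k
    obtain ⟨m, hm⟩ := h1
    have hb1 : (g (e8 i)).1 k ≤ 8 := by nlinarith
    have hb2 : -8 ≤ (g (e8 i)).1 k := by nlinarith
    omega
  have hdiag : ∀ i, (g (e8 i)).1 i = 8 := by
    intro i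
    have h1 := hc i i
    rw [if_pos rfl] at h1
    have h2 := hle i i
    obtain ⟨m, hm⟩ := h1
    have hb1 : (g (e8 i)).1 i ≤ 8 := by nlinarith
    have hb2 : -8 ≤ (g (e8 i)).1 i := by nlinarith
    have h3 : (g (e8 i)).1 i = 8 ∨ (g (e8 i)).1 i = -5 := by omega
    rcases h3 with h3 | h3
    · exact h3
    · exfalso
      have h4 := hn i
      unfold sqNorm at h4
      rw [Finset.sum_eq_single i] at h4
      · rw [h3] at h4; norm_num at h4
      · intro b _ hb; rw [hoff i b hb]; norm_num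
      · intro h; exact absurd (Finset.mem_univ i) h
  have he : ∀ i, g (e8 i) = e8 i := by
    intro i
    apply Subtype.ext; funext k
    rw [e8_apply]
    by_cases hki : k = i
    · subst hki; rw [if_pos rfl]; exact hdiag k
    · rw [if_neg hki]; exact hoff i k hki
  ext v : 1
  apply Subtype.ext; funext k
  have h1 : (8 : ℤ) • (g v) = ∑ j, (v.1 j) • g (e8 j) := by
    have h2 := congrArg (co0Hom g hg) (eight_smul_eq_sum v)
    rw [map_zsmul, map_sum] at h2
    simp only [map_zsmul, co0Hom_apply] at h2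
    exact h2
  simp only [he] at h1
  rw [← eight_smul_eq_sum v] at h1
  have h3 := congrArg (coordHom k) h1
  rw [map_zsmul, map_zsmul] at h3
  simp only [coordHom_apply, smul_eq_mul] at h3
  show (g v).1 k = v.1 k
  omega

end Cfsg.Agent.Lib.Helper3.Mod13
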