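import Mathlib
import Cfsg.Agent.Lib.Helper3.Mx1572E

/-!
Helper library (helper3) for S1572: the minimal vectors orthogonal to `xS`: invariants of the
families, disjointness and the cover.
-/

set_option autoImplicit false

namespace Cfsg.Agent.Lib.Helper3.Mx

open Cfsg Cfsg.Agent.Lib.Helper21 Cfsg.Agent.Lib.Helper3
open scoped Pointwise

theorem hqp0 : (some 0 : GolayPt) ≠ none := fun h => hpq0 h.symm

theorem T1_LA : T1 ⊆ LA := by
  intro x hx
  obtain ⟨s, T, hs, h1, h2, hT, rfl⟩ := mem_T1.1 hx
  exact mem_LA.2 ⟨s, T, hs, hT, rfl⟩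

theorem T2_LB : T2 ⊆ LB := by
  intro x hx
  obtain ⟨s, T, hs, h1, h2, hT, hev, rfl⟩ := mem_T2.1 hx
  exact mem_LB.2 ⟨s, T, hs, hT, hev, rfl⟩

theorem T3a_LB : T3a ⊆ LB := by
  intro x hx
  obtain ⟨s, T, hs, hT, hev, h1, h2, h3, rfl⟩ := mem_T3a.1 hx
  exact mem_LB.2 ⟨s, T, hs, hT, hev, rfl⟩

theorem T3b_LB : T3b ⊆ LB := by
  intro x hx
  obtain ⟨s, T, hs, hT, hev, h1, h2, h3, rfl⟩ := mem_T3b.1 hx
  exact mem_LB.2 ⟨s, T, hs, hT, hev, rfl⟩

theorem T4a_LC : T4a ⊆ LC := by
  intro x hx
  obtain ⟨C, j, hC, h1, h2, h3, h4, rfl⟩ := mem_T4a.1 hx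
  exact mem_LC.2 ⟨C, j, hC, rfl⟩

theorem T4b_LC : T4b ⊆ LC := by
  intro x hx
  obtain ⟨C, j, hC, h1, h2, h3, h4, rfl⟩ := mem_T4b.1 hx
  exact mem_LC.2 ⟨C, j, hC, rfl⟩

theorem T0_sub : ∀ x ∈ T0, x ∈ leechLattice := by
  intro x hx
  rcases hx with rfl | rfl
  · exact D44_mem'
  · exact leechLattice.neg_mem D44_mem'

/-! ### the coordinate at `none` -/

theorem T0_none {x : GolayPt → ℤ} (h : x ∈ T0) : x none = 4 ∨ x none = -4 := by
  rcases h with rfl | rfl
  · left; unfold D44; simp
  · right; show -(D44 none (some 0) none) = -4; unfold D44; simp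

theorem T1_none {x : GolayPt → ℤ} (h : x ∈ T1) : x none = 0 := by
  obtain ⟨s, T, hs, h1, h2, hT, rfl⟩ := mem_T1.1 h
  rw [svA, if_neg (fun h => h1 (hT h)), if_neg h1]

theorem T2_none {x : GolayPt → ℤ} (h : x ∈ T2) : x none = 0 := by
  obtain ⟨s, T, hs, h1, h2, hT, hev, rfl⟩ := mem_T2.1 h
  rw [svA, if_neg (fun h => h1 (hT h)), if_neg h1]

theorem T3a_none {x : GolayPt → ℤ} (h : x ∈ T3a) : x none = -2 := by
  obtain ⟨s, T, hs, hT, hev, h1, h2, h3, rfl⟩ := mem_T3a.1 h
  rw [svA, if_pos h1]

theorem T3b_none {x : GolayPt → ℤ} (h : x ∈ T3b) : x none = 2 := by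
  obtain ⟨s, T, hs, hT, hev, h1, h2, h3, rfl⟩ := mem_T3b.1 h
  rw [svA, if_neg h3, if_pos h2]

theorem T4a_none {x : GolayPt → ℤ} (h : x ∈ T4a) : x none = 1 := by
  obtain ⟨C, j, hC, h1, h2, h3, h4, rfl⟩ := mem_T4a.1 h
  rw [ovA, if_neg (fun h => h3 h.symm), if_pos h1]

theorem T4b_none {x : GolayPt → ℤ} (h : x ∈ T4b) : x none = -1 := by
  obtain ⟨C, j, hC, h1, h2, h3, h4, rfl⟩ := mem_T4b.1 h
  rw [ovA, if_neg (fun h => h3 h.symm), if_neg h1]

/-! ### disjointness -/

theorem dj0 : Disjoint T0 (T1 ∪ (T2 ∪ (T3a ∪ (T3b ∪ (T4a ∪ T4b))))) := by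
  rw [Set.disjoint_left]
  intro x h0 h
  have a0 := T0_none h0
  rcases h with h | h | h | h | h | h
  · have := T1_none h; omega
  · have := T2_none h; omega
  · have := T3a_none h; omega
  · have := T3b_none h; omega
  · have := T4a_none h; omega
  · have := T4b_none h; omega

theorem dj1 : Disjoint T1 (T2 ∪ (T3a ∪ (T3b ∪ (T4a ∪ T4b)))) := by
  rw [Set.disjoint_left]
  intro x h0 h
  have a0 := T1_none h0
  rcases h with h | h | h | h | h
  · exact (Set.disjoint_left.1 LA_LB) (T1_LA h0) (T2_LB h)
  · have := T3a_none h; omega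
  · have := T3b_none h; omega
  · have := T4a_none h; omega
  · have := T4b_none h; omega

theorem dj2 : Disjoint T2 (T3a ∪ (T3b ∪ (T4a ∪ T4b))) := by
  rw [Set.disjoint_left]
  intro x h0 h
  have a0 := T2_none h0
  rcases h with h | h | h | h
  · have := T3a_none h; omega
  · have := T3b_none h; omega
  · have := T4a_none h; omega
  · have := T4b_none h; omega

theorem dj3 : Disjoint T3a (T3b ∪ (T4a ∪ T4b)) := by
  rw [Set.disjoint_left]
  intro x h0 h
  have a0 := T3a_none h0
  rcases h with h | h | h
  · have := T3b_none h; omega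
  · have := T4a_none h; omega
  · have := T4b_none h; omega

theorem dj4 : Disjoint T3b (T4a ∪ T4b) := by
  rw [Set.disjoint_left]
  intro x h0 h
  have a0 := T3b_none h0
  rcases h with h | h
  · have := T4a_none h; omega
  · have := T4b_none h; omega

theorem dj5 : Disjoint T4a T4b := by
  rw [Set.disjoint_left]
  intro x h0 h
  have a0 := T4a_none h0
  have := T4b_none h; omega

/-! ### the cover -/

theorem sv_eq_negD44 : sv 4 {none, some 0} {none} = -D44 none (some 0) := by
  funext i
  rw [svA]
  show _ = -(D44 none (some 0) i)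
  unfold D44
  by_cases h1 : i = none
  · subst h1
    simp
  · by_cases h2 : i = some 0
    · subst h2
      simp [hqp0]
    · simp [h1, h2]

theorem TT_cover {x : GolayPt → ℤ} (hx : x ∈ leechLattice) (hn : sqNorm x = 32)
    (h0 : x none + x (some 0) = 0) :
    x ∈ T0 ∪ (T1 ∪ (T2 ∪ (T3a ∪ (T3b ∪ (T4a ∪ T4b))))) := by
  classical
  rcases (leech_minimal_iff x).1 ⟨hx, hn⟩ with
    ⟨s, T, hs, hT, rfl⟩ | ⟨s, T, hs, hT, hev, rfl⟩ | ⟨C, j, hC, rfl⟩
  · rw [svA, svA] at h0
    by_cases h1 : (none : GolayPt) ∈ s <;> by_cases h2 : (some 0 : GolayPt) ∈ s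
    · left
      have hs' : {none, some 0} = s := by
        apply Finset.eq_of_subset_of_card_le
        · intro i hi
          rw [Finset.mem_insert, Finset.mem_singleton] at hi
          rcases hi with rfl | rfl
          · exact h1
          · exact h2
        · rw [hs, Finset.card_pair hpq0]
      subst hs'
      have hT' : ∀ i ∈ T, i = none ∨ i = some 0 := by
        intro i hi
        have := hT hi
        rw [Finset.mem_insert, Finset.mem_singleton] at this
        exact this
      by_cases h3 : (none : GolayPt) ∈ T <;> by_cases h4 : (some 0 : GolayPt) ∈ T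
      · exfalso
        rw [if_pos h3, if_pos h4] at h0
        omega
      · right
        have : T = {none} := by
          apply Finset.Subset.antisymm
          · intro i hi
            rcases hT' i hi with rfl | rfl
            · exact Finset.mem_singleton_self _
            · exact absurd hi h4
          · exact Finset.singleton_subset_iff.2 h3
        rw [this]
        exact sv_eq_negD44
      · left
        have : T = {some 0} := by
          apply Finset.Subset.antisymm
          · intro i hi
            rcases hT' i hi with rfl | rfl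
            · exact absurd hi h3
            · exact Finset.mem_singleton_self _
          · exact Finset.singleton_subset_iff.2 h4
        rw [this]
        exact sv_eq_D44
      · exfalso
        rw [if_neg h3, if_neg h4, if_pos h1, if_pos h2] at h0
        omega
    · exfalso
      have h4 : (some 0 : GolayPt) ∉ T := fun h => h2 (hT h)
      rw [if_neg h4, if_neg h2] at h0
      by_cases h3 : (none : GolayPt) ∈ T
      · rw [if_pos h3] at h0; omega
      · rw [if_neg h3, if_pos h1] at h0; omega
    · exfalso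
      have h3 : (none : GolayPt) ∉ T := fun h => h1 (hT h)
      rw [if_neg h3, if_neg h1] at h0
      by_cases h4 : (some 0 : GolayPt) ∈ T
      · rw [if_pos h4] at h0; omega
      · rw [if_neg h4, if_pos h2] at h0; omega
    · right; left
      exact mem_T1.2 ⟨s, T, hs, h1, h2, hT, rfl⟩
  · rw [svA, svA] at h0
    by_cases h1 : (none : GolayPt) ∈ s <;> by_cases h2 : (some 0 : GolayPt) ∈ s
    · by_cases h3 : (none : GolayPt) ∈ T <;> by_cases h4 : (some 0 : GolayPt) ∈ T
      · exfalso
        rw [if_pos h3, if_pos h4] at h0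
        omega
      · right; right; right; left
        exact mem_T3a.2 ⟨s, T, hs, hT, hev, h3, h2, h4, rfl⟩
      · right; right; right; right; left
        exact mem_T3b.2 ⟨s, T, hs, hT, hev, h4, h1, h3, rfl⟩
      · exfalso
        rw [if_neg h3, if_neg h4, if_pos h1, if_pos h2] at h0
        omega
    · exfalso
      have h4 : (some 0 : GolayPt) ∉ T := fun h => h2 (hT h)
      rw [if_neg h4, if_neg h2] at h0
      by_cases h3 : (none : GolayPt) ∈ T
      · rw [if_pos h3] at h0; omega
      · rw [if_neg h3, if_pos h1] at h0; omega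
    · exfalso
      have h3 : (none : GolayPt) ∉ T := fun h => h1 (hT h)
      rw [if_neg h3, if_neg h1] at h0
      by_cases h4 : (some 0 : GolayPt) ∈ T
      · rw [if_pos h4] at h0; omega
      · rw [if_neg h4, if_pos h2] at h0; omega
    · right; right; left
      exact mem_T2.2 ⟨s, T, hs, h1, h2, hT, hev, rfl⟩
  · rw [ovA, ovA] at h0
    by_cases hj1 : (none : GolayPt) = j
    · exfalso
      subst hj1
      rw [if_pos rfl, if_neg hqp0] at h0
      by_cases h1 : (none : GolayPt) ∈ C <;> by_cases h2 : (some 0 : GolayPt) ∈ C <;>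
        simp only [h1, h2, if_true, if_false] at h0 <;> omega
    · by_cases hj2 : (some 0 : GolayPt) = j
      · exfalso
        subst hj2
        rw [if_neg hpq0, if_pos rfl] at h0
        by_cases h1 : (none : GolayPt) ∈ C <;> by_cases h2 : (some 0 : GolayPt) ∈ C <;>
          simp only [h1, h2, if_true, if_false] at h0 <;> omega
      · rw [if_neg hj1, if_neg hj2] at h0
        by_cases h1 : (none : GolayPt) ∈ C <;> by_cases h2 : (some 0 : GolayPt) ∈ C
        · exfalso
          rw [if_pos h1, if_pos h2] at h0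
          omega
        · right; right; right; right; right; left
          exact mem_T4a.2 ⟨C, j, hC, h1, h2, fun h => hj1 h.symm, fun h => hj2 h.symm, rfl⟩
        · right; right; right; right; right; right
          exact mem_T4b.2 ⟨C, j, hC, h1, h2, fun h => hj1 h.symm, fun h => hj2 h.symm, rfl⟩
        · exfalso
          rw [if_neg h1, if_neg h2] at h0
          omega

end Cfsg.Agent.Lib.Helper3.Mx
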