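import Mathlib
import Cfsg.Agent.Lib.Helper3.Mx1572F

/-!
Helper library (helper3) for S1572: transitivity of the monomial stabiliser `N1` of `xS` on each of
the families of minimal vectors orthogonal to `xS`.
-/

set_option autoImplicit false

namespace Cfsg.Agent.Lib.Helper3.Mx

open Cfsg Cfsg.Agent.Lib.Helper21 Cfsg.Agent.Lib.Helper3
open scoped Pointwise

theorem fix_mem_smul {σ : Equiv.Perm GolayPt} {p : GolayPt} (hp : σ p = p) (S : Finset GolayPt) :
    p ∈ σ • S ↔ p ∈ S := by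
  conv_lhs => rw [← hp]
  exact apply_mem_smul_iff σ p S

theorem T1_trans : ∀ y ∈ lift T1, ∀ y' ∈ lift T1, ∃ m ∈ N1, m • y = y' := by
  classical
  intro y hy y' hy'
  obtain ⟨s, T, hs, n1, n2, hT, hy⟩ := mem_T1.1 hy
  obtain ⟨s', T', hs', n1', n2', hT', hy'⟩ := mem_T1.1 hy'
  obtain ⟨i, j, hij, rfl⟩ := Finset.card_eq_two.1 hs
  obtain ⟨i', j', hij', rfl⟩ := Finset.card_eq_two.1 hs'
  rw [Finset.mem_insert, Finset.mem_singleton, not_or] at n1 n2 n1' n2'
  obtain ⟨σ, hσ, e0, e1, e2, e3⟩ := M24_four_trans (a := (none : GolayPt)) (b := some 0) (c := i)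
    (d := j) (a' := (none : GolayPt)) (b' := some 0) (c' := i') (d' := j')
    (by simp [hpq0, n1.1, n1.2, n2.1, n2.2, hij]) (by simp [hpq0, n1'.1, n1'.2, n2'.1, n2'.2, hij'])
  have hσs : σ • ({i, j} : Finset GolayPt) = {i', j'} := by rw [smul_pair, e2, e3]
  have hσT : σ • T ⊆ {i', j'} := by
    rw [← hσs]; exact Finset.smul_finset_subset_smul_finset hT
  obtain ⟨C, hC, hCs, hCA⟩ := exists_code_two hij' {none, some 0}
    (by rw [Finset.card_pair hpq0])
    (by rw [Finset.mem_insert, Finset.mem_singleton, not_or]; exact ⟨fun h => n1'.1 h.symm,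
      fun h => n2'.1 h.symm⟩)
    (by rw [Finset.mem_insert, Finset.mem_singleton, not_or]; exact ⟨fun h => n1'.2 h.symm,
      fun h => n2'.2 h.symm⟩) (flip_sub hσT hT')
  have hCn : (none : GolayPt) ∉ C := hCA none (by simp)
  have hC0 : (some 0 : GolayPt) ∉ C := hCA (some 0) (by simp)
  refine ⟨sgnE C hC * permHom ⟨σ, hσ⟩,
    N1.mul_mem (sgnE_mem_N1 C hC hCn hC0) (permHom_mem_N1 _ e0 e1), ?_⟩
  apply Subtype.ext
  rw [mul_smul, sgnE_val, permHom_val, hy, hy', sv_perm, hσs]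
  exact sgnVec_sv 4 hσT hT' hCs

theorem T2_trans : ∀ y ∈ lift T2, ∀ y' ∈ lift T2, ∃ m ∈ N1, m • y = y' := by
  classical
  intro y hy y' hy'
  obtain ⟨O, T, hO, n1, n2, hT, hev, hy⟩ := mem_T2.1 hy
  obtain ⟨O', T', hO', n1', n2', hT', hev', hy'⟩ := mem_T2.1 hy'
  obtain ⟨σ, hσ, e0, e1, hσO⟩ := octad_avoid_trans hpq0 hO hO' n1 n2 n1' n2'
  have hσT : σ • T ⊆ O' := by
    rw [← hσO]; exact Finset.smul_finset_subset_smul_finset hT
  have hevσ : Even (σ • T).card := by rw [Finset.card_smul_finset]; exact hev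
  obtain ⟨C, hC, hCO, hCn, hC0⟩ := exists_code_flip hO' n1' n2' hσT hT' hevσ hev'
  refine ⟨sgnE C hC * permHom ⟨σ, hσ⟩,
    N1.mul_mem (sgnE_mem_N1 C hC hCn hC0) (permHom_mem_N1 _ e0 e1), ?_⟩
  apply Subtype.ext
  rw [mul_smul, sgnE_val, permHom_val, hy, hy', sv_perm, hσO]
  exact sgnVec_sv 2 hσT hT' hCO

/-- a sign change inside an octad through both marked points, keeping the marks -/
theorem in_octad_step {O' T1' T' : Finset GolayPt} (hO' : O' ∈ octads)
    (hT1 : T1' ⊆ O') (hT' : T' ⊆ O') (hev1 : Even T1'.card) (hev' : Even T'.card)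
    (hn : (none : GolayPt) ∈ O') (h0 : (some 0 : GolayPt) ∈ O')
    (hnn : ((none : GolayPt) ∈ T1' ↔ (none : GolayPt) ∈ T'))
    (h00 : ((some 0 : GolayPt) ∈ T1' ↔ (some 0 : GolayPt) ∈ T')) :
    ∃ C ∈ supports (golayCode : Set (GolayPt → ZMod 2)),
      C ∩ O' = (T1' \ T') ∪ (T' \ T1') ∧ (none : GolayPt) ∉ C ∧ (some 0 : GolayPt) ∉ C := by
  classical
  obtain ⟨a, ha⟩ := exists_outside hO'
  obtain ⟨C, hC, hCO, -, -⟩ := exists_code_flip hO' ha ha hT1 hT' hev1 hev'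
  refine ⟨C, hC, hCO, ?_, ?_⟩
  · intro h
    have : (none : GolayPt) ∈ C ∩ O' := Finset.mem_inter.2 ⟨h, hn⟩
    rw [hCO, Finset.mem_union, Finset.mem_sdiff, Finset.mem_sdiff] at this
    tauto
  · intro h
    have : (some 0 : GolayPt) ∈ C ∩ O' := Finset.mem_inter.2 ⟨h, h0⟩
    rw [hCO, Finset.mem_union, Finset.mem_sdiff, Finset.mem_sdiff] at this
    tauto

theorem T3a_trans : ∀ y ∈ lift T3a, ∀ y' ∈ lift T3a, ∃ m ∈ N1, m • y = y' := by
  classical
  intro y hy y' hy'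
  obtain ⟨O, T, hO, hT, hev, h1, h2, h3, hy⟩ := mem_T3a.1 hy
  obtain ⟨O', T', hO', hT', hev', h1', h2', h3', hy'⟩ := mem_T3a.1 hy'
  obtain ⟨σ, hσ, hσO, e0, e1⟩ := flag_in_two hO hO' (hT h1) h2 hpq0 (hT' h1') h2' hpq0
  have hσT : σ • T ⊆ O' := by
    rw [← hσO]; exact Finset.smul_finset_subset_smul_finset hT
  have hevσ : Even (σ • T).card := by rw [Finset.card_smul_finset]; exact hev
  obtain ⟨C, hC, hCO, hCn, hC0⟩ := in_octad_step hO' hσT hT' hevσ hev' (hT' h1') h2'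
    (by rw [fix_mem_smul e0]; exact ⟨fun _ => h1', fun _ => h1⟩)
    (by rw [fix_mem_smul e1]; exact ⟨fun h => absurd h h3, fun h => absurd h h3'⟩)
  refine ⟨sgnE C hC * permHom ⟨σ, hσ⟩,
    N1.mul_mem (sgnE_mem_N1 C hC hCn hC0) (permHom_mem_N1 _ e0 e1), ?_⟩
  apply Subtype.ext
  rw [mul_smul, sgnE_val, permHom_val, hy, hy', sv_perm, hσO]
  exact sgnVec_sv 2 hσT hT' hCO

theorem T3b_trans : ∀ y ∈ lift T3b, ∀ y' ∈ lift T3b, ∃ m ∈ N1, m • y = y' := by
  classical
  intro y hy y' hy'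
  obtain ⟨O, T, hO, hT, hev, h1, h2, h3, hy⟩ := mem_T3b.1 hy
  obtain ⟨O', T', hO', hT', hev', h1', h2', h3', hy'⟩ := mem_T3b.1 hy'
  obtain ⟨σ, hσ, hσO, e0, e1⟩ := flag_in_two hO hO' h2 (hT h1) hpq0 h2' (hT' h1') hpq0
  have hσT : σ • T ⊆ O' := by
    rw [← hσO]; exact Finset.smul_finset_subset_smul_finset hT
  have hevσ : Even (σ • T).card := by rw [Finset.card_smul_finset]; exact hev
  obtain ⟨C, hC, hCO, hCn, hC0⟩ := in_octad_step hO' hσT hT' hevσ hev' h2' (hT' h1')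
    (by rw [fix_mem_smul e0]; exact ⟨fun h => absurd h h3, fun h => absurd h h3'⟩)
    (by rw [fix_mem_smul e1]; exact ⟨fun _ => h1', fun _ => h1⟩)
  refine ⟨sgnE C hC * permHom ⟨σ, hσ⟩,
    N1.mul_mem (sgnE_mem_N1 C hC hCn hC0) (permHom_mem_N1 _ e0 e1), ?_⟩
  apply Subtype.ext
  rw [mul_smul, sgnE_val, permHom_val, hy, hy', sv_perm, hσO]
  exact sgnVec_sv 2 hσT hT' hCO

theorem T4a_trans : ∀ y ∈ lift T4a, ∀ y' ∈ lift T4a, ∃ m ∈ N1, m • y = y' := by
  classical
  intro y hy y' hy'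
  obtain ⟨C, j, hC, h1, h2, h3, h4, hy⟩ := mem_T4a.1 hy
  obtain ⟨C', j', hC', h1', h2', h3', h4', hy'⟩ := mem_T4a.1 hy'
  obtain ⟨σ, hσ, e0, e1, e2⟩ := M24_three_trans hpq0 (Ne.symm h3) (Ne.symm h4) hpq0
    (Ne.symm h3') (Ne.symm h4')
  have hD := supports_symmDiff (smul_mem_supports hσ hC) hC'
  have hn : (none : GolayPt) ∉ (σ • C \ C') ∪ (C' \ σ • C) := by
    rw [Finset.mem_union, Finset.mem_sdiff, Finset.mem_sdiff, fix_mem_smul e0]
    tauto
  have h0 : (some 0 : GolayPt) ∉ (σ • C \ C') ∪ (C' \ σ • C) := by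
    rw [Finset.mem_union, Finset.mem_sdiff, Finset.mem_sdiff, fix_mem_smul e1]
    tauto
  refine ⟨sgnE _ hD * permHom ⟨σ, hσ⟩,
    N1.mul_mem (sgnE_mem_N1 _ hD hn h0) (permHom_mem_N1 _ e0 e1), ?_⟩
  apply Subtype.ext
  rw [mul_smul, sgnE_val, permHom_val, hy, hy', ov_perm, e2, sgnVec_ov, symm_symm]

theorem T4b_trans : ∀ y ∈ lift T4b, ∀ y' ∈ lift T4b, ∃ m ∈ N1, m • y = y' := by
  classical
  intro y hy y' hy'
  obtain ⟨C, j, hC, h1, h2, h3, h4, hy⟩ := mem_T4b.1 hy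
  obtain ⟨C', j', hC', h1', h2', h3', h4', hy'⟩ := mem_T4b.1 hy'
  obtain ⟨σ, hσ, e0, e1, e2⟩ := M24_three_trans hpq0 (Ne.symm h3) (Ne.symm h4) hpq0
    (Ne.symm h3') (Ne.symm h4')
  have hD := supports_symmDiff (smul_mem_supports hσ hC) hC'
  have hn : (none : GolayPt) ∉ (σ • C \ C') ∪ (C' \ σ • C) := by
    rw [Finset.mem_union, Finset.mem_sdiff, Finset.mem_sdiff, fix_mem_smul e0]
    tauto
  have h0 : (some 0 : GolayPt) ∉ (σ • C \ C') ∪ (C' \ σ • C) := by
    rw [Finset.mem_union, Finset.mem_sdiff, Finset.mem_sdiff, fix_mem_smul e1]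
    tauto
  refine ⟨sgnE _ hD * permHom ⟨σ, hσ⟩,
    N1.mul_mem (sgnE_mem_N1 _ hD hn h0) (permHom_mem_N1 _ e0 e1), ?_⟩
  apply Subtype.ext
  rw [mul_smul, sgnE_val, permHom_val, hy, hy', ov_perm, e2, sgnVec_ov, symm_symm]

/-! ### the pair `±mS` -/

theorem exists_swap : ∃ m ∈ N1, (∀ y : leechLattice, y.1 = D44 none (some 0) →
    (m • y).1 = -D44 none (some 0)) ∧ (∀ y : leechLattice, y.1 = -D44 none (some 0) →
    (m • y).1 = D44 none (some 0)) := by
  obtain ⟨σ, hσ, e1, e2⟩ := M24_two_trans (i := (none : GolayPt)) (j := some 0)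
    (i' := some 0) (j' := (none : GolayPt)) hqp0 hpq0
  have a1 : ∀ i, σ⁻¹ i = none ↔ i = some 0 := by
    intro i; rw [Equiv.Perm.inv_eq_iff_eq, e2]
  have a2 : ∀ i, σ⁻¹ i = some 0 ↔ i = none := by
    intro i; rw [Equiv.Perm.inv_eq_iff_eq, e1]
  have hsw : ∀ i, D44 none (some 0) (σ⁻¹ i) = -D44 none (some 0) i := by
    intro i
    unfold D44
    simp only [a1, a2]
    by_cases h1 : i = none
    · subst h1; simp [hpq0]
    · by_cases h2 : i = some 0
      · subst h2; simp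
      · simp [h1, h2]
  refine ⟨permHom ⟨σ, hσ⟩, Subgroup.mem_inf.2 ⟨permHom_mem _, ?_⟩, ?_, ?_⟩
  · rw [MulAction.mem_stabilizer_iff]
    apply Subtype.ext
    funext i
    rw [permHom_apply]
    show P44 none (some 0) (σ⁻¹ i) = P44 none (some 0) i
    unfold P44
    simp only [a1, a2]
    by_cases h1 : i = none
    · subst h1; simp
    · by_cases h2 : i = some 0
      · subst h2; simp
      · simp [h1, h2]
  · intro y hy
    funext i
    rw [permHom_apply, hy]
    exact hsw i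
  · intro y hy
    funext i
    rw [permHom_apply, hy]
    show -D44 none (some 0) (σ⁻¹ i) = D44 none (some 0) i
    rw [hsw i, neg_neg]

theorem T0_trans : ∀ y ∈ lift T0, ∀ y' ∈ lift T0, ∃ m ∈ N1, m • y = y' := by
  intro y hy y' hy'
  obtain ⟨m, hm, s1, s2⟩ := exists_swap
  rcases hy with hy | hy <;> rcases hy' with hy' | hy'
  · exact ⟨1, N1.one_mem, by rw [one_smul]; exact Subtype.ext (hy.trans hy'.symm)⟩
  · exact ⟨m, hm, Subtype.ext ((s1 y hy).trans hy'.symm)⟩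
  · exact ⟨m, hm, Subtype.ext ((s2 y hy).trans hy'.symm)⟩
  · exact ⟨1, N1.one_mem, by rw [one_smul]; exact Subtype.ext (hy.trans hy'.symm)⟩

theorem mS_mem_T0 : mS ∈ lift T0 := Or.inl rfl

/-- the orbit of `mS` under `N1` -/
theorem orbit_N1_mS : MulAction.orbit N1 mS = lift T0 := by
  apply Set.eq_of_subset_of_subset
  · intro y hy
    obtain ⟨n, hn, rfl⟩ := (mem_orbit_sub N1 mS y).1 hy
    obtain ⟨hn1, hn2⟩ := Subgroup.mem_inf.1 hn
    rw [MulAction.mem_stabilizer_iff] at hn2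
    -- `n • (mS + xS)` lies in the cross
    have h1 : (n • (e8 none)).1 ∈ stdCross :=
      (mem_NN n).1 hn1 (e8 none) (Cfsg.Agent.S1571.e8_cross none)
    rw [← mS_add_xS, co0_add, hn2] at h1
    obtain ⟨j, s, hs, hjs⟩ := h1
    have h2 := co0_dot n.2 xS mS
    have h3 : n.1 xS = xS := hn2
    rw [h3] at h2
    have h4 : dotInt xS.1 mS.1 = 0 := by
      rw [dot_xS]
      show 4 * (D44 none (some 0) none + D44 none (some 0) (some 0)) = 0
      unfold D44
      simp [hqp0]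
    rw [h4, dot_xS] at h2
    -- the coordinates of `n • mS`
    have h5 : ∀ i, (n.1 mS).1 i = (Pi.single j s : GolayPt → ℤ) i - P44 none (some 0) i := by
      intro i
      have := congrFun hjs i
      have e : ((n • mS + xS : leechLattice) : GolayPt → ℤ) i = (n.1 mS).1 i + P44 none (some 0) i :=
        rfl
      rw [e] at this
      omega
    have h6 := h5 none
    have h7 := h5 (some 0)
    have p1 : P44 none (some 0) none = 4 := by unfold P44; simp
    have p2 : P44 none (some 0) (some 0) = 4 := by unfold P44; simp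
    rw [p1] at h6
    rw [p2] at h7
    show (n.1 mS).1 ∈ T0
    by_cases hj1 : j = none
    · subst hj1
      rw [Pi.single_eq_same] at h6
      rw [Pi.single_eq_of_ne hqp0] at h7
      have hs8 : s = 8 := by omega
      left
      funext i
      rw [h5 i, hs8]
      unfold D44 P44
      by_cases h1 : i = none
      · subst h1; simp
      · by_cases h2 : i = some 0
        · subst h2; simp [hqp0]
        · simp [h1, h2]
    · by_cases hj2 : j = some 0
      · subst hj2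
        rw [Pi.single_eq_of_ne hpq0] at h6
        rw [Pi.single_eq_same] at h7
        have hs8 : s = 8 := by omega
        right
        funext i
        rw [h5 i, hs8]
        show _ = -(D44 none (some 0) i)
        unfold D44 P44
        by_cases h1 : i = none
        · subst h1; simp [hpq0]
        · by_cases h2 : i = some 0
          · subst h2; simp [hqp0]
          · simp [h1, h2]
      · exfalso
        rw [Pi.single_eq_of_ne (Ne.symm hj1)] at h6
        rw [Pi.single_eq_of_ne (Ne.symm hj2)] at h7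
        omega
  · intro y hy
    obtain ⟨m, hm, h⟩ := T0_trans mS mS_mem_T0 y hy
    exact (mem_orbit_sub N1 mS y).2 ⟨m, hm, h⟩

end Cfsg.Agent.Lib.Helper3.Mx
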