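import Mathlib
import Cfsg.Agent.Lib.Helper3.Mx1572G

/-!
Helper library (helper3) for S1572: the index arithmetic.
-/

set_option autoImplicit false

namespace Cfsg.Agent.Lib.Helper3.Mx

open Cfsg Cfsg.Agent.Lib.Helper21 Cfsg.Agent.Lib.Helper3
open scoped Pointwise

theorem split_lift (S : Set leechLattice) (F R : Set (GolayPt → ℤ)) (hfin : S.Finite)
    (hd : Disjoint F R) :
    (S ∩ lift (F ∪ R)).ncard = (S ∩ lift F).ncard + (S ∩ lift R).ncard := by
  have h1 : S ∩ lift (F ∪ R) = (S ∩ lift F) ∪ (S ∩ lift R) := by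
    rw [lift_union, Set.inter_union_distrib_left]
  have h2 : Disjoint (S ∩ lift F) (S ∩ lift R) :=
    Set.disjoint_of_subset Set.inter_subset_right Set.inter_subset_right (lift_disjoint hd)
  rw [h1]
  exact Set.ncard_union_eq h2 (hfin.subset Set.inter_subset_left) (hfin.subset Set.inter_subset_left)

theorem arith_main (oK o2 b c b1 b2 b3 b3' b4 b4' : ℕ)
    (hb : b = 0 ∨ b = 97152) (hc : c = 0 ∨ c = 98304)
    (h1 : b1 = 0 ∨ b1 = 924) (h2 : b2 = 0 ∨ b2 = 42240)
    (h3 : b3 = 0 ∨ b3 = 2464) (h3' : b3' = 0 ∨ b3' = 2464)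
    (h4 : b4 = 0 ∨ b4 = 22528) (h4' : b4' = 0 ∨ b4' = 22528)
    (hoK : oK = 1104 + (b + c))
    (ho2 : o2 = 2 + (b1 + (b2 + (b3 + (b3' + (b4 + b4'))))))
    (d1 : oK * (o2 * 454164480) ∣ 8315553613086720000)
    (d2 : 4096 * 244823040 ∣ oK * (o2 * 454164480)) :
    oK = 1104 ∨ oK * (o2 * 454164480) = 8315553613086720000 := by
  rcases hb with rfl | rfl <;> rcases hc with rfl | rfl
  · left; omega
  · exfalso
    have e : oK = 19 * 5232 := by omega
    have : 19 ∣ 8315553613086720000 :=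
      Dvd.dvd.trans ⟨5232 * (o2 * 454164480), by rw [e]; ring⟩ d1
    norm_num at this
  · exfalso
    have e : oK = 89 * 1104 := by omega
    have : 89 ∣ 8315553613086720000 :=
      Dvd.dvd.trans ⟨1104 * (o2 * 454164480), by rw [e]; ring⟩ d1
    norm_num at this
  · right
    have e : oK = 196560 := by omega
    subst e
    rcases h1 with rfl | rfl <;> rcases h2 with rfl | rfl <;> rcases h3 with rfl | rfl <;>
      rcases h3' with rfl | rfl <;> rcases h4 with rfl | rfl <;> rcases h4' with rfl | rfl <;>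
      subst ho2 <;> first | (norm_num at d1; done) | (norm_num at d2; done) | norm_num

end Cfsg.Agent.Lib.Helper3.Mx
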