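import Mathlib

set_option autoImplicit false

/-!
Helper library (helper3): a finite simple group with a proper subgroup of index `n` embeds in
`Equiv.Perm (Fin n)`; consequences for its order; a simple group of order 60 is `A₅`-like
(embeds in `Perm (Fin 5)` with image the alternating group).

* `exists_injective_toPerm`       : `K ≠ ⊤`, `K.index = n` ⇒ `∃ ψ : G →* Perm (Fin n)`, injective
* `card_dvd_factorial_of_index`   : then `Nat.card G ∣ n !`
* `nonempty_mulEquiv_alternatingGroup_of_index` : if moreover `2 * Nat.card G = n !` then `G ≃* A_n`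
-/

namespace Cfsg.Agent.Lib.Helper3

open Subgroup

variable {G : Type*} [Group G] [Finite G] [IsSimpleGroup G]

theorem exists_injective_toPerm (K : Subgroup G) (hK : K ≠ ⊤) {n : ℕ} (hn : K.index = n) :
    ∃ ψ : G →* Equiv.Perm (Fin n), Function.Injective ψ := by
  let φ : G →* Equiv.Perm (G ⧸ K) := MulAction.toPermHom G (G ⧸ K)
  have hker : φ.ker = ⊥ := by
    rcases (MonoidHom.normal_ker φ).eq_bot_or_eq_top with h | h
    · exact h
    · exfalso
      apply hK
      rw [eq_top_iff, ← h, ← Subgroup.normalCore_eq_ker K]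
      exact K.normalCore_le
  have hinj : Function.Injective φ := (MonoidHom.ker_eq_bot_iff φ).mp hker
  have hcard : Nat.card (G ⧸ K) = n := by rw [← Subgroup.index_eq_card]; exact hn
  have e : (G ⧸ K) ≃ Fin n := Finite.equivFinOfCardEq hcard
  exact ⟨(e.permCongrHom.toMonoidHom).comp φ, e.permCongrHom.injective.comp hinj⟩

theorem card_dvd_factorial_of_index (K : Subgroup G) (hK : K ≠ ⊤) {n : ℕ} (hn : K.index = n) :
    Nat.card G ∣ n.factorial := by
  obtain ⟨ψ, hψ⟩ := exists_injective_toPerm K hK hn
  have := Subgroup.card_dvd_of_injective ψ hψ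
  rwa [Nat.card_perm, Nat.card_fin] at this

theorem nonempty_mulEquiv_alternatingGroup_of_index (K : Subgroup G) (hK : K ≠ ⊤) {n : ℕ}
    (hn : K.index = n) (hcard : 2 * Nat.card G = n.factorial) :
    Nonempty (G ≃* alternatingGroup (Fin n)) := by
  obtain ⟨ψ, hψ⟩ := exists_injective_toPerm K hK hn
  have e : G ≃* ψ.range := MonoidHom.ofInjective hψ
  have hcr : Nat.card ψ.range = Nat.card G := (Nat.card_congr e.toEquiv).symm
  have hidx : ψ.range.index = 2 := by
    have h1 := ψ.range.card_mul_index
    rw [Nat.card_perm, Nat.card_fin, hcr, ← hcard] at h1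
    have hpos : 0 < Nat.card G := Nat.card_pos
    have : Nat.card G * ψ.range.index = Nat.card G * 2 := by rw [h1, mul_comm]
    exact Nat.eq_of_mul_eq_mul_left hpos this
  have := Equiv.Perm.eq_alternatingGroup_of_index_eq_two hidx
  rw [this] at e
  exact ⟨e⟩

end Cfsg.Agent.Lib.Helper3
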