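import Cfsg.Agent.Lib.Helper3.MargK
import Cfsg.Agent.Lib.Helper20.Quasisimple
import Cfsg.Agent.Lib.Helper20.FactorialBound
import Cfsg.Agent.S4337

set_option autoImplicit false
open scoped Pointwise commutatorElement
open MulAction

namespace Cfsg.Agent.Lib.Helper3.Syl3

universe u v

theorem perfect_derivedSeries {X : Type*} [Group X] (hX : Group.IsPerfect X) (k : ℕ) :
    derivedSeries X k = ⊤ := by
  induction k with
  | zero => rfl
  | succ k ih =>
    rw [derivedSeries_succ, ih]
    exact hX.commutator_eq_top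

theorem perfect_hom_solvable_trivial {X Y : Type*} [Group X] [Group Y] (hX : Group.IsPerfect X)
    [hY : Group.IsSolvable Y] (f : X →* Y) (x : X) : f x = 1 := by
  obtain ⟨k, hk⟩ := hY.solvable
  have h1 : f x ∈ (derivedSeries X k).map f := by
    rw [perfect_derivedSeries hX k]
    exact ⟨x, Subgroup.mem_top x, rfl⟩
  have h2 := map_derivedSeries_le_derivedSeries f k h1
  rw [hk] at h2
  exact Subgroup.mem_bot.mp h2

/-- Three subgroups trick: if all commutators `[e, l]` (`e ∈ E`, `l ∈ C`) centralize the perfect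
subgroup `E`, then `C` centralizes `E`. -/
theorem comm_trick {L : Type*} [Group L] (E C : Subgroup L) (hperf : ⁅E, E⁆ = E)
    (h : ∀ e ∈ E, ∀ l ∈ C, ∀ a ∈ E, ⁅e, l⁆ * a = a * ⁅e, l⁆) :
    ∀ e ∈ E, ∀ l ∈ C, e * l = l * e := by
  have h1 : ⁅⁅E, C⁆, E⁆ = ⊥ := by
    rw [Subgroup.commutator_eq_bot_iff_le_centralizer, Subgroup.commutator_le]
    intro e he l hl
    rw [Subgroup.mem_centralizer_iff]
    intro a ha
    exact (h e he l hl a ha).symm
  have h2 : ⁅⁅C, E⁆, E⁆ = ⊥ := by
    rw [Subgroup.commutator_comm C E]; exact h1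
  have h3 := Subgroup.commutator_commutator_eq_bot_of_rotate h1 h2
  rw [hperf, Subgroup.commutator_eq_bot_iff_le_centralizer] at h3
  intro e he l hl
  have := h3 he
  rw [Subgroup.mem_centralizer_iff] at this
  exact (this l hl).symm

/-- `g` acts as a 3-cycle. -/
def Is3 {L : Type u} {Ω : Type v} [Group L] [MulAction L Ω] (g : L) : Prop :=
  ∃ a b c : Ω, a ≠ b ∧ b ≠ c ∧ a ≠ c ∧ g • a = b ∧ g • b = c ∧ g • c = a ∧
    ∀ z, z ≠ a → z ≠ b → z ≠ c → g • z = z

theorem Is3.conj {L : Type u} {Ω : Type v} [Group L] [MulAction L Ω] {g : L} (h : Is3 (Ω := Ω) g)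
    (l : L) : Is3 (Ω := Ω) (l * g * l⁻¹) := by
  obtain ⟨a, b, c, hab, hbc, hac, hga, hgb, hgc, hfix⟩ := h
  refine ⟨l • a, l • b, l • c, fun h => hab (smul_left_cancel l h),
    fun h => hbc (smul_left_cancel l h), fun h => hac (smul_left_cancel l h), ?_, ?_, ?_, ?_⟩
  · rw [mul_smul, mul_smul, inv_smul_smul, hga]
  · rw [mul_smul, mul_smul, inv_smul_smul, hgb]
  · rw [mul_smul, mul_smul, inv_smul_smul, hgc]
  · intro z hza hzb hzc
    rw [mul_smul, mul_smul, hfix (l⁻¹ • z), smul_inv_smul]
    · intro h; apply hza; rw [← h, smul_inv_smul]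
    · intro h; apply hzb; rw [← h, smul_inv_smul]
    · intro h; apply hzc; rw [← h, smul_inv_smul]

theorem Is3.pair {L : Type u} {Ω : Type v} [Group L] [MulAction L Ω] {g : L} (h : Is3 (Ω := Ω) g)
    (x x' : Ω) (hx : g • x ≠ x) (hx' : g • x' ≠ x') (hne : x ≠ x') : g • x = x' ∨ g • x' = x := by
  obtain ⟨a, b, c, hab, hbc, hac, hga, hgb, hgc, hfix⟩ := h
  have hmem : ∀ z, g • z ≠ z → z = a ∨ z = b ∨ z = c := by
    intro z hz
    by_contra hcon
    push_neg at hcon
    exact hz (hfix z hcon.1 hcon.2.1 hcon.2.2)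
  rcases hmem x hx with rfl | rfl | rfl <;> rcases hmem x' hx' with rfl | rfl | rfl
  · exact absurd rfl hne
  · left; exact hga
  · right; exact hgc
  · right; exact hga
  · exact absurd rfl hne
  · left; exact hgb
  · left; exact hgc
  · right; exact hgb
  · exact absurd rfl hne

/-- A transitive group generated by elements acting as 3-cycles is primitive. -/
theorem prim_of_gen3 {N : Type u} {α : Type v} [Group N] [MulAction N α] [IsPretransitive N α]
    (S : Set N) (hS : Subgroup.closure S = ⊤)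
    (h3 : ∀ s ∈ S, ∀ x x' : α, s • x ≠ x → s • x' ≠ x' → x ≠ x' → s • x = x' ∨ s • x' = x) :
    IsPreprimitive N α := by
  refine { toIsPretransitive := inferInstance, isTrivialBlock_of_isBlock := ?_ }
  intro B hB
  by_contra hnt
  unfold IsTrivialBlock at hnt
  push_neg at hnt
  obtain ⟨hns, hne⟩ := hnt
  obtain ⟨x, hx, x', hx', hxx'⟩ := hns
  by_cases hall : ∀ s ∈ S, s • B = B
  · apply hne
    have hstab : stabilizer N B = ⊤ := by
      rw [eq_top_iff, ← hS, Subgroup.closure_le]
      intro s hs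
      exact mem_stabilizer_iff.mpr (hall s hs)
    ext y
    simp only [Set.mem_univ, iff_true]
    obtain ⟨n, rfl⟩ := MulAction.exists_smul_eq N x y
    have hn : n ∈ stabilizer N B := by rw [hstab]; exact Subgroup.mem_top n
    rw [mem_stabilizer_iff] at hn
    rw [← hn]
    exact Set.smul_mem_smul_set hx
  · push_neg at hall
    obtain ⟨s, hs, hsB⟩ := hall
    have hdisj : Disjoint (s • B) B := by
      rcases hB.smul_eq_or_disjoint s with h | h
      · exact absurd h hsB
      · exact h
    have hmv : ∀ y ∈ B, s • y ∉ B := by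
      intro y hy hsy
      exact (Set.disjoint_left.mp hdisj) (Set.smul_mem_smul_set hy) hsy
    have h1 : s • x ≠ x := fun h => hmv x hx (by rw [h]; exact hx)
    have h2 : s • x' ≠ x' := fun h => hmv x' hx' (by rw [h]; exact hx')
    rcases h3 s hs x x' h1 h2 hxx' with h | h
    · exact hmv x hx (by rw [h]; exact hx')
    · exact hmv x' hx' (by rw [h]; exact hx)

theorem three_dvd_prod (m : ℕ) : 3 ∣ (m + 1) * (m + 2) * (m + 3) := by
  have h : m % 3 = 0 ∨ m % 3 = 1 ∨ m % 3 = 2 := by omega
  rcases h with h | h | h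
  · exact Dvd.dvd.mul_left (by omega) _
  · exact Dvd.dvd.mul_right (Dvd.dvd.mul_left (by omega) _) _
  · exact Dvd.dvd.mul_right (Dvd.dvd.mul_right (by omega) _) _

theorem factorial_arith (n m : ℕ) (hmn : m ≤ n)
    (h : 3 ^ (n.factorial.factorization 3) ∣ m.factorial) : n ≤ m + 2 := by
  by_contra hlt
  push_neg at hlt
  have h3 : (m + 3).factorial ∣ n.factorial := Nat.factorial_dvd_factorial (by omega)
  have h4 : 3 * m.factorial ∣ (m + 3).factorial := by
    have : (m + 3).factorial = (m + 3) * ((m + 2) * ((m + 1) * m.factorial)) := by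
      rw [Nat.factorial_succ, Nat.factorial_succ, Nat.factorial_succ]
    rw [this]
    obtain ⟨k, hk⟩ := three_dvd_prod m
    refine ⟨k, ?_⟩
    calc (m + 3) * ((m + 2) * ((m + 1) * m.factorial))
        = ((m + 1) * (m + 2) * (m + 3)) * m.factorial := by ring
      _ = 3 * m.factorial * k := by rw [hk]; ring
  have h5 : 3 * m.factorial ∣ n.factorial := h4.trans h3
  have hm0 : m.factorial ≠ 0 := Nat.factorial_ne_zero m
  have hn0 : n.factorial ≠ 0 := Nat.factorial_ne_zero n
  have h6 : (3 * m.factorial).factorization 3 ≤ n.factorial.factorization 3 :=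
    (Nat.factorization_le_iff_dvd (by positivity) hn0).mpr h5 3
  rw [Nat.factorization_mul (by norm_num) hm0] at h6
  have h7 : (Nat.factorization 3) 3 = 1 := Nat.Prime.factorization_self Nat.prime_three
  have h8 : n.factorial.factorization 3 ≤ m.factorial.factorization 3 :=
    (Nat.Prime.pow_dvd_iff_le_factorization Nat.prime_three hm0).mp h
  simp only [Finsupp.coe_add, Pi.add_apply] at h6
  omega

end Cfsg.Agent.Lib.Helper3.Syl3
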