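import Cfsg.Agent.Lib.Helper3.SylThreeA
import Cfsg.Agent.Lib.Helper20.Components

set_option autoImplicit false
set_option maxHeartbeats 1000000
open scoped Pointwise commutatorElement
open MulAction

namespace Cfsg.Agent.Lib.Helper3.Syl3

universe u v

variable {L : Type u} {Ω : Type v} [Group L] [MulAction L Ω]

/-- A perfect subgroup cannot contain a central element acting as a 3-cycle. -/
theorem not_centralize [Finite Ω] (E : Subgroup L) (hperf : Group.IsPerfect ↥E)
    (c : L) (hcE : c ∈ E) (hc : Is3 (Ω := Ω) c) (hcomm : ∀ e ∈ E, c * e = e * c) : False := by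
  classical
  obtain ⟨a, b, c3, hab, hbc, hac, hca, hcb, hcc, hfix⟩ := hc
  let p : SubMulAction ↥E Ω :=
    { carrier := {z | c • z ≠ z}
      smul_mem' := by
        intro e z hz
        show c • ((e : L) • z) ≠ (e : L) • z
        rw [← mul_smul, hcomm e e.2, mul_smul]
        intro h
        exact hz (smul_left_cancel (e : L) h) }
  have hsub : (p : Set Ω) ⊆ {a, b, c3} := by
    intro z hz
    by_contra hcon
    simp only [Set.mem_insert_iff, Set.mem_singleton_iff, not_or] at hcon
    exact hz (hfix z hcon.1 hcon.2.1 hcon.2.2)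
  haveI : Fintype ↥p := Fintype.ofFinite _
  have hcard : Fintype.card ↥p ≤ 4 := by
    rw [← Nat.card_eq_fintype_card]
    have h1 : Nat.card ↥p = (p : Set Ω).ncard := Nat.card_coe_set_eq (p : Set Ω)
    have h2 : (p : Set Ω).ncard ≤ ({a, b, c3} : Set Ω).ncard :=
      Set.ncard_le_ncard hsub (Set.toFinite _)
    have h3 : ({a, b, c3} : Set Ω).ncard ≤ 3 := by
      calc ({a, b, c3} : Set Ω).ncard ≤ ({b, c3} : Set Ω).ncard + 1 := Set.ncard_insert_le _ _
        _ ≤ (({c3} : Set Ω).ncard + 1) + 1 := Nat.add_le_add_right (Set.ncard_insert_le _ _) 1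
        _ = 3 := by rw [Set.ncard_singleton]
    omega
  haveI : Group.IsSolvable (Equiv.Perm ↥p) := Cfsg.Agent.S4337.perm_solvable_of_card_le _ hcard
  have h1 := perfect_hom_solvable_trivial hperf (MulAction.toPermHom ↥E ↥p) ⟨c, hcE⟩
  have ha : a ∈ p := by
    show c • a ≠ a
    rw [hca]; exact hab.symm
  have h2 := congrArg (fun σ : Equiv.Perm ↥p => ((σ ⟨a, ha⟩ : ↥p) : Ω)) h1
  have h3 : c • a = a := h2
  rw [hca] at h3
  exact hab h3.symm

theorem main_abstract [Finite L] [FaithfulSMul L Ω] [Finite Ω]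
    (hq : Cfsg.IsQuasisimple ↥(Cfsg.generalizedFittingSubgroup L)) (c : L)
    (hc : Is3 (Ω := Ω) c) :
    ∃ O : Set Ω, (∀ l : L, ∀ x ∈ O, l • x ∈ O) ∧ (∀ l : L, (∀ x ∈ O, l • x = x) → l = 1) ∧
      Nonempty (↥(Cfsg.generalizedFittingSubgroup L) ≃* alternatingGroup (Fin O.ncard)) := by
  classical
  obtain ⟨E, hEdef⟩ : ∃ E : Subgroup L, E = Cfsg.generalizedFittingSubgroup L := ⟨_, rfl⟩
  rw [← hEdef] at hq ⊢
  haveI hEn : E.Normal := by rw [hEdef]; exact Cfsg.Agent.Lib.Helper20.genFitting_normal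
  have hB : Subgroup.centralizer (E : Set L) ≤ E := by
    rw [hEdef]; exact Cfsg.Agent.Lib.Helper20.centralizer_genFitting_le
  have hperf : Group.IsPerfect ↥E := hq.1
  have hperf' : ⁅E, E⁆ = E := Subgroup.isPerfect_iff.mp hperf
  haveI hnt : Nontrivial ↥E := Cfsg.Agent.Lib.Helper20.isQuasisimple_nontrivial hq
  have hB1 : ¬ ∀ e ∈ E, c * e = e * c := by
    intro hcomm
    have hcE : c ∈ E := by
      apply hB
      rw [Subgroup.mem_centralizer_iff]
      intro e he
      exact (hcomm e he).symm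
    exact not_centralize E hperf c hcE hc hcomm
  -- the normal closure of c
  obtain ⟨M, hMdef⟩ : ∃ M : Subgroup L, M = Subgroup.normalClosure ({c} : Set L) := ⟨_, rfl⟩
  haveI hMn : M.Normal := by rw [hMdef]; exact Subgroup.normalClosure_normal
  have hcM : c ∈ M := by
    rw [hMdef]; exact Subgroup.subset_normalClosure (Set.mem_singleton c)
  have hcommE : ∀ e ∈ E, ∀ l : L, ⁅e, l⁆ ∈ E := by
    intro e he l
    rw [commutatorElement_def]
    have : e * l * e⁻¹ * l⁻¹ = e * (l * e⁻¹ * l⁻¹) := by group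
    rw [this]
    exact E.mul_mem he (hEn.conj_mem _ (E.inv_mem he) l)
  have hEM : E ≤ M := by
    have hKn : ((E ⊓ M).subgroupOf E).Normal := inferInstance
    rcases Cfsg.Agent.Lib.Helper20.quasisimple_normal_top_or_le_center hq _ hKn with h | h
    · rw [Subgroup.subgroupOf_eq_top] at h
      exact h.trans inf_le_right
    · exfalso
      apply hB1
      have key := comm_trick E M hperf' (by
        intro e he m hm a' ha'
        have hmem : ⁅e, m⁆ ∈ E ⊓ M := by
          refine ⟨hcommE e he m, ?_⟩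
          rw [commutatorElement_def]
          exact M.mul_mem (hMn.conj_mem m hm e) (M.inv_mem hm)
        have hcen : (⟨⁅e, m⁆, hmem.1⟩ : ↥E) ∈ Subgroup.center ↥E := by
          apply h
          rw [Subgroup.mem_subgroupOf]
          exact hmem
        rw [Subgroup.mem_center_iff] at hcen
        have := hcen ⟨a', ha'⟩
        exact (congrArg Subtype.val this).symm)
      intro e he
      exact (key e he c hcM).symm
  -- the orbit
  obtain ⟨a, b, c3, hab, hbc, hac, hca, hcb, hcc, hfix⟩ := id hc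
  obtain ⟨O, hOdef⟩ : ∃ O : Set Ω, O = MulAction.orbit ↥M a := ⟨_, rfl⟩
  have hOmem : ∀ m ∈ M, ∀ x, x ∈ O → m • x ∈ O := by
    intro m hm x hx
    rw [hOdef] at hx ⊢
    obtain ⟨m', rfl⟩ := hx
    exact ⟨⟨m, hm⟩ * m', mul_smul _ _ _⟩
  have hOmem'' : ∀ m ∈ M, ∀ x, x ∉ O → m • x ∉ O := by
    intro m hm x hx hmx
    apply hx
    have := hOmem m⁻¹ (M.inv_mem hm) _ hmx
    rwa [inv_smul_smul] at this
  have haO : a ∈ O := by rw [hOdef]; exact MulAction.mem_orbit_self a
  have hbO : b ∈ O := by rw [← hca]; exact hOmem c hcM a haO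
  have hc3O : c3 ∈ O := by rw [← hcb]; exact hOmem c hcM b hbO
  have hcsupp : ∀ x, x ∉ O → c • x = x := by
    intro x hx
    apply hfix
    · rintro rfl; exact hx haO
    · rintro rfl; exact hx hbO
    · rintro rfl; exact hx hc3O
  subst hOdef
  -- primitivity on the orbit
  let S : Set ↥M := {s | (s : L) ∈ Group.conjugatesOfSet ({c} : Set L)}
  have hS : Subgroup.closure S = ⊤ := by
    subst hMdef
    exact Subgroup.closure_closure_coe_preimage
  have h3S : ∀ s ∈ S, Is3 (Ω := Ω) (s : L) := by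
    intro s hs
    obtain ⟨c', hc', hconj⟩ := Group.mem_conjugatesOfSet_iff.mp hs
    rw [Set.mem_singleton_iff] at hc'
    subst hc'
    obtain ⟨l, hl⟩ := isConj_iff.mp hconj
    rw [← hl]
    exact hc.conj l
  have hprim : IsPreprimitive ↥M ↥(MulAction.orbit ↥M a) := by
    apply prim_of_gen3 S hS
    intro s hs x x' h1 h2 hne
    have h1' : (s : L) • (x : Ω) ≠ (x : Ω) := fun h => h1 (Subtype.ext h)
    have h2' : (s : L) • (x' : Ω) ≠ (x' : Ω) := fun h => h2 (Subtype.ext h)
    have hne' : (x : Ω) ≠ (x' : Ω) := fun h => hne (Subtype.ext h)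
    rcases (h3S s hs).pair (x : Ω) (x' : Ω) h1' h2' hne' with h | h
    · left; exact Subtype.ext h
    · right; exact Subtype.ext h
  haveI : Fintype ↥(MulAction.orbit ↥M a) := Fintype.ofFinite _
  have hsmall : Marg.Small ↥M ↥(MulAction.orbit ↥M a) := by
    refine ⟨⟨c, hcM⟩, Or.inr ⟨⟨a, haO⟩, ⟨b, hbO⟩, ⟨c3, hc3O⟩, ?_, ?_, ?_, ?_, ?_, ?_, ?_⟩⟩
    · exact fun h => hab (congrArg Subtype.val h)
    · exact fun h => hbc (congrArg Subtype.val h)
    · exact fun h => hac (congrArg Subtype.val h)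
    · exact Subtype.ext hca
    · exact Subtype.ext hcb
    · exact Subtype.ext hcc
    · intro z hza hzb hzc
      exact Subtype.ext (hfix z.1 (fun h => hza (Subtype.ext h)) (fun h => hzb (Subtype.ext h))
        (fun h => hzc (Subtype.ext h)))
  have hA := Marg.alt_le_range hprim hsmall
  -- elements of E supported on the orbit
  have hEpres : ∀ e ∈ E, ∀ x, x ∉ MulAction.orbit ↥M a → e • x ∉ MulAction.orbit ↥M a :=
    fun e he => hOmem'' e (hEM he)
  let EO : Subgroup ↥E :=
    { carrier := {e | ∀ x, x ∉ MulAction.orbit ↥M a → (e : L) • x = x}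
      one_mem' := fun x _ => one_smul _ _
      mul_mem' := by
        intro e1 e2 h1 h2 x hx
        show ((e1 * e2 : ↥E) : L) • x = x
        rw [Subgroup.coe_mul, mul_smul, h2 x hx, h1 x hx]
      inv_mem' := by
        intro e h1 x hx
        show ((e⁻¹ : ↥E) : L) • x = x
        rw [Subgroup.coe_inv, inv_smul_eq_iff, h1 x hx] }
  have hEOn : EO.Normal := by
    constructor
    intro e he n x hx
    show ((n * e * n⁻¹ : ↥E) : L) • x = x
    rw [Subgroup.coe_mul, Subgroup.coe_mul, Subgroup.coe_inv, mul_smul, mul_smul]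
    have h1 : ((n : L))⁻¹ • x ∉ MulAction.orbit ↥M a := hEpres _ (E.inv_mem n.2) x hx
    rw [he _ h1, smul_inv_smul]
  rcases Cfsg.Agent.Lib.Helper20.quasisimple_normal_top_or_le_center hq EO hEOn with hEO | hEO
  swap
  · exfalso
    apply hB1
    let FixO : Subgroup L :=
      { carrier := {l | ∀ x, x ∉ MulAction.orbit ↥M a → l • x = x}
        one_mem' := fun x _ => one_smul _ _
        mul_mem' := by
          intro l1 l2 h1 h2 x hx
          show (l1 * l2) • x = x
          rw [mul_smul, h2 x hx, h1 x hx]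
        inv_mem' := by
          intro l h1 x hx
          show l⁻¹ • x = x
          rw [inv_smul_eq_iff, h1 x hx] }
    have hzp : Subgroup.zpowers c ≤ FixO := by
      rw [Subgroup.zpowers_le]
      exact hcsupp
    have key := comm_trick E (Subgroup.zpowers c) hperf' (by
      intro e he l hl a' ha'
      have hlfix : ∀ x, x ∉ MulAction.orbit ↥M a → l • x = x := hzp hl
      have hlinv : ∀ x, x ∉ MulAction.orbit ↥M a → l⁻¹ • x = x := FixO.inv_mem (hzp hl)
      have hmemEO : (⟨⁅e, l⁆, hcommE e he l⟩ : ↥E) ∈ EO := by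
        intro x hx
        show ⁅e, l⁆ • x = x
        rw [commutatorElement_def, mul_smul, mul_smul, mul_smul, hlinv x hx]
        have h1 : e⁻¹ • x ∉ MulAction.orbit ↥M a := hEpres _ (E.inv_mem he) x hx
        rw [hlfix _ h1, smul_inv_smul]
      have hcen := hEO hmemEO
      rw [Subgroup.mem_center_iff] at hcen
      have := hcen ⟨a', ha'⟩
      exact (congrArg Subtype.val this).symm)
    intro e he
    exact (key e he c (Subgroup.mem_zpowers c)).symm
  -- now all of E is supported on the orbit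
  have hsupp : ∀ e ∈ E, ∀ x, x ∉ MulAction.orbit ↥M a → e • x = x := by
    intro e he x hx
    have : (⟨e, he⟩ : ↥E) ∈ EO := by rw [hEO]; trivial
    exact this x hx
  let ρ := MulAction.toPermHom ↥M ↥(MulAction.orbit ↥M a)
  let ρE : ↥E →* Equiv.Perm ↥(MulAction.orbit ↥M a) := ρ.comp (Subgroup.inclusion hEM)
  have hρE : ∀ (e : ↥E) (z : ↥(MulAction.orbit ↥M a)), ((ρE e z : ↥(MulAction.orbit ↥M a)) : Ω) =
      (e : L) • (z : Ω) := fun _ _ => rfl
  have hinj : ∀ e : ↥E, ρE e = 1 → e = 1 := by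
    intro e he
    apply Subtype.ext
    show (e : L) = 1
    apply FaithfulSMul.eq_of_smul_eq_smul (α := Ω)
    intro x
    rw [one_smul]
    by_cases hx : x ∈ MulAction.orbit ↥M a
    · have := congrArg (fun σ : Equiv.Perm ↥(MulAction.orbit ↥M a) =>
        ((σ ⟨x, hx⟩ : ↥(MulAction.orbit ↥M a)) : Ω)) he
      exact this
    · exact hsupp e e.2 x hx
  have htriv : (∀ e : ↥E, ρE e = 1) → False := by
    intro h
    obtain ⟨e1, e2, hne⟩ := exists_pair_ne ↥E
    exact hne ((hinj e1 (h e1)).trans (hinj e2 (h e2)).symm)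
  by_cases h5 : 5 ≤ Nat.card ↥(MulAction.orbit ↥M a)
  swap
  · exfalso
    haveI : Group.IsSolvable (Equiv.Perm ↥(MulAction.orbit ↥M a)) := by
      apply Cfsg.Agent.S4337.perm_solvable_of_card_le
      rw [← Nat.card_eq_fintype_card]
      omega
    exact htriv (fun e => perfect_hom_solvable_trivial hperf ρE e)
  have hsign : ∀ e : ↥E, Equiv.Perm.sign (ρE e) = 1 := fun e =>
    perfect_hom_solvable_trivial hperf (Equiv.Perm.sign.comp ρE) e
  have hDmap : ∀ σ, σ ∈ (E.subgroupOf M).map ρ ↔ ∃ e : ↥E, ρE e = σ := by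
    intro σ
    constructor
    · rintro ⟨m, hm, rfl⟩
      rw [SetLike.mem_coe, Subgroup.mem_subgroupOf] at hm
      exact ⟨⟨(m : L), hm⟩, rfl⟩
    · rintro ⟨e, rfl⟩
      refine ⟨Subgroup.inclusion hEM e, ?_, rfl⟩
      rw [SetLike.mem_coe, Subgroup.mem_subgroupOf]
      exact e.2
  rcases Marg.alt_normal_dich h5 ρ hA (E.subgroupOf M) with h | h
  swap
  · exfalso
    apply htriv
    intro e
    exact Subgroup.disjoint_def.mp h ((hDmap _).mpr ⟨e, rfl⟩)
      (Equiv.Perm.mem_alternatingGroup.mpr (hsign e))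
  -- the isomorphism
  let f : ↥E →* alternatingGroup ↥(MulAction.orbit ↥M a) :=
    ρE.codRestrict _ (fun e => Equiv.Perm.mem_alternatingGroup.mpr (hsign e))
  have hfinj : Function.Injective f := by
    rw [injective_iff_map_eq_one]
    intro e he
    apply hinj
    exact congrArg Subtype.val he
  have hfsurj : Function.Surjective f := by
    intro σ
    obtain ⟨e, he⟩ := (hDmap _).mp (h σ.2)
    exact ⟨e, Subtype.ext he⟩
  have eO : ↥(MulAction.orbit ↥M a) ≃ Fin (MulAction.orbit ↥M a).ncard :=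
    Fintype.equivFinOfCardEq (by rw [← Nat.card_eq_fintype_card, Nat.card_coe_set_eq])
  have iso : ↥E ≃* alternatingGroup (Fin (MulAction.orbit ↥M a).ncard) :=
    (MulEquiv.ofBijective f ⟨hfinj, hfsurj⟩).trans (Equiv.altCongrHom eO)
  -- every point of the orbit is moved by E
  have hmove : ∀ x ∈ MulAction.orbit ↥M a, ∃ e ∈ E, e • x ≠ x := by
    intro x hx
    by_contra hcon
    push_neg at hcon
    apply htriv
    intro e
    ext z
    obtain ⟨m, hm⟩ := MulAction.exists_smul_eq ↥M (⟨x, hx⟩ : ↥(MulAction.orbit ↥M a)) z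
    have hz : (z : Ω) = (m : L) • x := (congrArg Subtype.val hm).symm
    rw [Equiv.Perm.one_apply, hρE, hz]
    have h1 := hcon ((m : L)⁻¹ * (e : L) * ((m : L)⁻¹)⁻¹) (hEn.conj_mem _ e.2 _)
    rw [inv_inv, mul_smul, mul_smul, inv_smul_eq_iff] at h1
    exact h1
  have hinv : ∀ l : L, ∀ x ∈ MulAction.orbit ↥M a, l • x ∈ MulAction.orbit ↥M a := by
    intro l x hx
    obtain ⟨e, he, hex⟩ := hmove x hx
    by_contra hlx
    have := hsupp (l * e * l⁻¹) (hEn.conj_mem e he l) (l • x) hlx
    rw [mul_smul, mul_smul, inv_smul_smul] at this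
    exact hex (smul_left_cancel l this)
  have hfaith : ∀ l : L, (∀ x ∈ MulAction.orbit ↥M a, l • x = x) → l = 1 := by
    intro l hl
    have hlout : ∀ x, x ∉ MulAction.orbit ↥M a → l • x ∉ MulAction.orbit ↥M a := by
      intro x hx hlx
      apply hx
      have := hinv l⁻¹ _ hlx
      rwa [inv_smul_smul] at this
    have hlE : l ∈ E := by
      apply hB
      rw [Subgroup.mem_centralizer_iff]
      intro e he
      apply FaithfulSMul.eq_of_smul_eq_smul (α := Ω)
      intro x
      rw [mul_smul, mul_smul]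
      by_cases hx : x ∈ MulAction.orbit ↥M a
      · rw [hl x hx, hl _ (hOmem e (hEM he) x hx)]
      · rw [hsupp e he _ (hlout x hx), hsupp e he x hx]
    apply FaithfulSMul.eq_of_smul_eq_smul (α := Ω)
    intro x
    rw [one_smul]
    by_cases hx : x ∈ MulAction.orbit ↥M a
    · exact hl x hx
    · exact hsupp l hlE x hx
  exact ⟨MulAction.orbit ↥M a, hinv, hfaith, ⟨iso⟩⟩

end Cfsg.Agent.Lib.Helper3.Syl3
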